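import Groth.Agent.DualInvLib.Basic
import Groth.Agent.ExtShLib.Local
import Groth.Agent.DefExtLib.HomIso
import Groth.Agent.RefOne.Stalk
import Groth.Agent.InvExt.Main
import Groth.Agent.AmpleLib.Tensor
import Groth.Prelude.Def_RelCanon

/-!
# Duals and reflexive powers under restriction and inverse images
-/

set_option autoImplicit false
set_option linter.style.haveILetI false
set_option linter.unusedSectionVars false
set_option backward.isDefEq.respectTransparency false
set_option maxHeartbeats 1000000

universe u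

open CategoryTheory CategoryTheory.Limits AlgebraicGeometry
open Groth.Agent.StalkHomLib

noncomputable section

namespace Groth.Agent.FibreDualLib

variable {X X' : Scheme.{u}}

/-- The dual as an internal Hom. -/
theorem nonempty_dual_iso_hF (F : X.Modules) [ModSite.HasSheafHom (O := X.sheaf) F] [Coh.IsQCoh F] :
    Nonempty ((hF F).obj (Coh.structureModule X) ≅ RefHull.dual F) := by
  haveI := DefExtLib.isIso_toHomSh F (Coh.structureModule X)
  exact ⟨asIso (DefExtLib.toHomSh F (Coh.structureModule X))⟩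

/-- Duals of isomorphic modules. -/
theorem nonempty_dual_congr {F G : X.Modules} [Coh.IsQCoh F] [Coh.IsQCoh G] (e : F ≅ G) :
    Nonempty (RefHull.dual F ≅ RefHull.dual G) := by
  haveI := ModTensor.hasSheafHom (O := X.sheaf) F
  haveI := ModTensor.hasSheafHom (O := X.sheaf) G
  obtain ⟨a⟩ := nonempty_dual_iso_hF F
  obtain ⟨b⟩ := nonempty_dual_iso_hF G
  let w := (ModSite.sheafHomAdj (O := X.sheaf) F).rightAdjointUniq
    ((ModSite.sheafHomAdj (O := X.sheaf) G).ofNatIsoLeft ((ModSite.tensorBi X.sheaf).flip.mapIso e.symm))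
  exact ⟨a.symm ≪≫ w.app _ ≪≫ b⟩

/-- Duals commute with restriction to open subschemes. -/
theorem nonempty_dual_restrict (U : X.Opens) (F : X.Modules) [Coh.IsQCoh F] :
    Nonempty ((RefHull.dual F).restrict U.ι ≅ RefHull.dual (F.restrict U.ι)) := by
  haveI := ModTensor.hasSheafHom (O := X.sheaf) F
  haveI : ModSite.HasSheafHom (O := (U : Scheme.{u}).sheaf) ((Scheme.Modules.restrictFunctor U.ι).obj F) :=
    ModTensor.hasSheafHom (O := (U : Scheme.{u}).sheaf) _
  haveI : Coh.IsQCoh ((Scheme.Modules.restrictFunctor U.ι).obj F) := inferInstance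
  obtain ⟨a⟩ := nonempty_dual_iso_hF F
  obtain ⟨b⟩ := nonempty_dual_iso_hF ((Scheme.Modules.restrictFunctor U.ι).obj F)
  exact ⟨((Scheme.Modules.restrictFunctor U.ι).mapIso a).symm ≪≫ (ExtShLib.restrictHFIso U F).app _ ≪≫
    (hF _).mapIso (Scheme.Modules.restrictUnitIso U.ι) ≪≫ b⟩

/-- The dual of an invertible module is invertible. -/
theorem isInvertible_dual {L : X.Modules} (hL : PicF.IsInvertible L) : PicF.IsInvertible (RefHull.dual L) := by
  obtain ⟨N, hN, ⟨θ⟩⟩ := AmpleEmb.exists_isInverseOf hL
  obtain ⟨a⟩ := DualInvLib.nonempty_iso_dual hL θ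
  exact ParaFLib.isInvertible_of_iso a hN

/-- An invertible module is reflexive. -/
theorem nonempty_ddual_iso {L : X.Modules} (hL : PicF.IsInvertible L) : Nonempty (L ≅ RefHull.ddual L) := by
  obtain ⟨N, hN, ⟨θ⟩⟩ := AmpleEmb.exists_isInverseOf hL
  obtain ⟨a⟩ := DualInvLib.nonempty_iso_dual hL θ
  obtain ⟨b⟩ := DualInvLib.nonempty_iso_dual (ParaFLib.isInvertible_of_iso a hN)
    (((DCoh.tensorBi (X := X)).mapIso a.symm).app L ≪≫
      ((Groth.Agent.ModTensor.tensorSymm X.sheaf L).app N) ≪≫ θ)
  exact ⟨b⟩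

theorem isInvertible_refPowZ {L : X.Modules} (hL : PicF.IsInvertible L) :
    ∀ m : ℤ, PicF.IsInvertible (RelCanon.refPowZ L m)
  | Int.ofNat m => isInvertible_dual (isInvertible_dual (AmpleLib.isInvertible_tensorPow hL m))
  | Int.negSucc n => isInvertible_dual (isInvertible_dual (AmpleLib.isInvertible_tensorPow (isInvertible_dual hL) (n + 1)))

/-- Reflexive powers of invertible modules only depend on the class. -/
theorem nonempty_refPowZ_congr {L M : X.Modules} (hL : PicF.IsInvertible L) (hM : PicF.IsInvertible M) (e : L ≅ M) :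
    ∀ m : ℤ, Nonempty (RelCanon.refPowZ L m ≅ RelCanon.refPowZ M m) := by
  have key : ∀ {L M : X.Modules}, PicF.IsInvertible L → PicF.IsInvertible M → (L ≅ M) → ∀ n : ℕ,
      Nonempty (RefHull.ddual (CohB1.tensorPow L n) ≅ RefHull.ddual (CohB1.tensorPow M n)) := by
    intro L M hL hM e n
    let t : CohB1.tensorPow L n ≅ CohB1.tensorPow M n := AmpleLib.powCongr e n
    haveI := InvExt.isQCoh_of_isInvertible (AmpleLib.isInvertible_tensorPow hL n)
    haveI := InvExt.isQCoh_of_isInvertible (AmpleLib.isInvertible_tensorPow hM n)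
    obtain ⟨a⟩ := nonempty_dual_congr t
    haveI := InvExt.isQCoh_of_isInvertible (isInvertible_dual (AmpleLib.isInvertible_tensorPow hL n))
    haveI := InvExt.isQCoh_of_isInvertible (isInvertible_dual (AmpleLib.isInvertible_tensorPow hM n))
    exact nonempty_dual_congr a
  intro m
  cases m with
  | ofNat n => exact key hL hM e n
  | negSucc n =>
    haveI := InvExt.isQCoh_of_isInvertible hL
    haveI := InvExt.isQCoh_of_isInvertible hM
    obtain ⟨d⟩ := nonempty_dual_congr e
    exact key (isInvertible_dual hL) (isInvertible_dual hM) d (n + 1)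

/-- Reflexive powers of invertible modules commute with inverse images. -/
theorem nonempty_pullback_refPowZ (q : X' ⟶ X) {L : X.Modules} (hL : PicF.IsInvertible L) :
    ∀ m : ℤ, Nonempty ((Scheme.Modules.pullback q).obj (RelCanon.refPowZ L m) ≅
      RelCanon.refPowZ ((Scheme.Modules.pullback q).obj L) m) := by
  have key : ∀ {L : X.Modules}, PicF.IsInvertible L → ∀ n : ℕ,
      Nonempty ((Scheme.Modules.pullback q).obj (RefHull.ddual (CohB1.tensorPow L n)) ≅
        RefHull.ddual (CohB1.tensorPow ((Scheme.Modules.pullback q).obj L) n)) := by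
    intro L hL n
    have hP := AmpleLib.isInvertible_tensorPow hL n
    obtain ⟨a⟩ := DualInvLib.nonempty_dual_pullback q (isInvertible_dual hP)
    obtain ⟨b⟩ := DualInvLib.nonempty_dual_pullback q hP
    have hP' := AmpleLib.isInvertible_pullback q hP
    haveI := InvExt.isQCoh_of_isInvertible (AmpleLib.isInvertible_pullback q (isInvertible_dual hP))
    haveI := InvExt.isQCoh_of_isInvertible (isInvertible_dual hP')
    obtain ⟨c⟩ := nonempty_dual_congr b.symm
    haveI := InvExt.isQCoh_of_isInvertible hP'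
    haveI := InvExt.isQCoh_of_isInvertible (AmpleLib.isInvertible_tensorPow (AmpleLib.isInvertible_pullback q hL) n)
    obtain ⟨d⟩ := nonempty_dual_congr (AmpleLib.pullPow q L n)
    haveI := InvExt.isQCoh_of_isInvertible (isInvertible_dual (AmpleLib.isInvertible_tensorPow (AmpleLib.isInvertible_pullback q hL) n))
    obtain ⟨d'⟩ := nonempty_dual_congr d
    exact ⟨a.symm ≪≫ c ≪≫ d'⟩
  intro m
  cases m with
  | ofNat n => exact key hL n
  | negSucc n =>
    obtain ⟨a⟩ := key (isInvertible_dual hL) (n + 1)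
    obtain ⟨b⟩ := DualInvLib.nonempty_dual_pullback q hL
    obtain ⟨c⟩ := nonempty_refPowZ_congr (AmpleLib.isInvertible_pullback q (isInvertible_dual hL))
      (isInvertible_dual (AmpleLib.isInvertible_pullback q hL)) b.symm ((n + 1 : ℕ) : ℤ)
    exact ⟨a ≪≫ c⟩

end Groth.Agent.FibreDualLib
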