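import Groth.Agent.FibDepthLib.DoubleDual
import Groth.Agent.FibreDepth.Local
import Groth.Agent.InfNbhdLib.Flat
import Groth.Agent.S18706
import Groth.Agent.S18708
import Groth.Agent.S18709
import Groth.Agent.EtAlgEasy.FibFlatConstr

/-!
# Infinitesimal criterion for flatness of a reflexive module with deep fibre
-/

set_option autoImplicit false
set_option backward.isDefEq.respectTransparency false
set_option backward.isDefEq.respectTransparency.types false
set_option linter.style.haveILetI false
set_option linter.unusedSectionVars false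
set_option maxHeartbeats 1000000

universe u

open IsLocalRing TensorProduct

namespace Groth.Agent.FibreDualLib

open Groth.Agent.FibDepthLib

/-- Depth along an ideal of a module over a quotient ring. -/
theorem idealDepth_map_of_surjective {O R : Type u} [CommRing O] [CommRing R] [Algebra O R] {X : Type u}
    [AddCommGroup X] [Module O X] [Module R X] [IsScalarTower O R X]
    (hf : Function.Surjective (algebraMap O R)) (I : Ideal O) :
    LocCoh.idealDepth (I.map (algebraMap O R)) X = LocCoh.idealDepth I X := by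
  classical
  have h1 : ∀ x : X, x ∈ (I.map (algebraMap O R) • ⊤ : Submodule R X) ↔ x ∈ (I • ⊤ : Submodule O X) := fun x => by
    have h := Submodule.restrictScalars_map_smul_eq (R := R) I (⊤ : Submodule R X)
    rw [Submodule.restrictScalars_top] at h
    rw [← h, Submodule.restrictScalars_mem]
  have h2 : I.map (algebraMap O R) • (⊤ : Submodule R X) = ⊤ ↔ I • (⊤ : Submodule O X) = ⊤ := by
    simp only [Submodule.eq_top_iff', h1]
  unfold LocCoh.idealDepth
  simp only [h2]
  split_ifs with h
  · rfl
  refine le_antisymm (iSup₂_le fun rs hrs => ?_) (iSup₂_le fun rs hrs => ?_)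
  · have : ∀ r : R, ∃ a : O, algebraMap O R a = r ∧ (r ∈ I.map (algebraMap O R) → a ∈ I) := fun r => by
      by_cases hr : r ∈ I.map (algebraMap O R)
      · obtain ⟨a, ha, rfl⟩ := (Ideal.mem_map_iff_of_surjective _ hf).1 hr
        exact ⟨a, rfl, fun _ => ha⟩
      · obtain ⟨a, rfl⟩ := hf r
        exact ⟨a, rfl, fun h => absurd h hr⟩
    choose g hg hgI using this
    have hmap : (rs.map g).map (algebraMap O R) = rs := by
      rw [List.map_map]
      conv_rhs => rw [← List.map_id rs]
      exact List.map_congr_left fun r _ => hg r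
    refine le_iSup₂_of_le (rs.map g) ⟨?_, ?_⟩ (by rw [List.length_map])
    · refine (RingTheory.Sequence.isWeaklyRegular_map_algebraMap_iff (S := R) (M := X) (rs.map g)).1 ?_
      rw [hmap]; exact hrs.1
    · intro a ha
      obtain ⟨r, hr, rfl⟩ := List.mem_map.1 ha
      exact hgI r (hrs.2 r hr)
  · refine le_iSup₂_of_le (rs.map (algebraMap O R))
      ⟨(RingTheory.Sequence.isWeaklyRegular_map_algebraMap_iff (S := R) (M := X) rs).2 hrs.1, ?_⟩
      (by rw [List.length_map])
    intro r hr
    obtain ⟨a, ha, rfl⟩ := List.mem_map.1 hr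
    exact Ideal.mem_map_of_mem _ (hrs.2 a ha)

section Reg

variable {B : Type u} [CommRing B] {J : Ideal B} {F E0 E1 : Type u} [AddCommGroup F] [Module B F] [AddCommGroup E0]
  [Module B E0] [AddCommGroup E1] [Module B E1]

/-- A map that is regular up to a unit off `V(J)`: its kernel and cokernel are direct summands there. -/
def RegOff (J : Ideal B) (h : E0 →ₗ[B] E1) : Prop :=
  ∀ q : PrimeSpectrum B, ¬ J ≤ q.asIdeal → ∃ t, t ∉ q.asIdeal ∧ ∃ σ : E1 →ₗ[B] E0, h ∘ₗ σ ∘ₗ h = t • h

/-- A map with locally free cokernel off `V(J)` is regular there. -/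
theorem regOff_of_free [IsNoetherianRing B] {n : ℕ} (h : E0 →ₗ[B] (Fin n → B))
    (hG : ∀ q : PrimeSpectrum B, ¬ J ≤ q.asIdeal →
      Module.Free (Localization.AtPrime q.asIdeal)
        (LocalizedModule q.asIdeal.primeCompl ((Fin n → B) ⧸ LinearMap.range h))) : RegOff J h := by
  intro q hq
  let G := (Fin n → B) ⧸ LinearMap.range h
  haveI := hG q hq
  haveI : Module.FinitePresentation B G := Module.finitePresentation_of_finite B G
  let v : (Fin n → B) →ₗ[B] G := (LinearMap.range h).mkQ
  let fE := LocalizedModule.mkLinearMap q.asIdeal.primeCompl (Fin n → B)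
  let fG := LocalizedModule.mkLinearMap q.asIdeal.primeCompl G
  let vq : LocalizedModule q.asIdeal.primeCompl (Fin n → B) →ₗ[Localization.AtPrime q.asIdeal]
      LocalizedModule q.asIdeal.primeCompl G :=
    IsLocalizedModule.mapExtendScalars q.asIdeal.primeCompl fE fG (Localization.AtPrime q.asIdeal) v
  have hvq : Function.Surjective vq :=
    IsLocalizedModule.map_surjective q.asIdeal.primeCompl fE fG v (Submodule.mkQ_surjective _)
  obtain ⟨sec, hsec⟩ := Module.projective_lifting_property vq LinearMap.id hvq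
  obtain ⟨s, a, hs⟩ := Module.FinitePresentation.exists_lift_of_isLocalizedModule q.asIdeal.primeCompl fE
    ((sec.restrictScalars B) ∘ₗ fG)
  have h1 : fG ∘ₗ (v ∘ₗ s) = fG ∘ₗ ((a : B) • LinearMap.id) := LinearMap.ext fun x => by
    have e1 : vq (fE (s x)) = fG (v (s x)) := IsLocalizedModule.map_apply q.asIdeal.primeCompl fE fG v (s x)
    have e2 : fE (s x) = (a : B) • sec (fG x) := LinearMap.congr_fun hs x
    have e3 : vq (sec (fG x)) = fG x := LinearMap.congr_fun hsec (fG x)
    show fG (v (s x)) = fG ((a : B) • x)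
    rw [← e1, e2, LinearMap.map_smul_of_tower, e3, map_smul]
  obtain ⟨b, hb⟩ := Module.Finite.exists_smul_of_comp_eq_of_isLocalizedModule q.asIdeal.primeCompl fG
    (v ∘ₗ s) ((a : B) • LinearMap.id) h1
  let t : B := (b : B) * (a : B)
  let π : (Fin n → B) →ₗ[B] (Fin n → B) := t • LinearMap.id - ((b : B) • s) ∘ₗ v
  have hπ : ∀ x, π x ∈ LinearMap.range h := fun x => by
    rw [← Submodule.Quotient.mk_eq_zero]
    show v (t • x - (b : B) • s (v x)) = 0
    have e : (b : B) • v (s (v x)) = (b : B) • ((a : B) • v x) := LinearMap.congr_fun hb (v x)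
    rw [map_sub, map_smul, map_smul, e, smul_smul, sub_self]
  choose pre hpre using hπ
  let σ : (Fin n → B) →ₗ[B] E0 := (Pi.basisFun B (Fin n)).constr B fun i => pre (Pi.basisFun B (Fin n) i)
  have hσ : h ∘ₗ σ = π := (Pi.basisFun B (Fin n)).ext fun i => by
    rw [LinearMap.comp_apply, Module.Basis.constr_basis, hpre]
  refine ⟨t, fun hm => (q.isPrime.mem_or_mem hm).elim b.2 a.2, σ, ?_⟩
  rw [← LinearMap.comp_assoc, hσ]
  refine LinearMap.ext fun x => ?_
  show t • h x - (b : B) • s (v (h x)) = t • h x
  rw [show v (h x) = 0 from (Submodule.Quotient.mk_eq_zero _).2 ⟨x, rfl⟩, map_zero, smul_zero, sub_zero]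

end Reg

section Core

variable {R B : Type u} [CommRing R] [CommRing B] [IsNoetherianRing R] [IsNoetherianRing B] [IsLocalRing R]
  [IsLocalRing B] [Algebra R B] [IsLocalHom (algebraMap R B)] [Module.Flat R B]

/-- The infinitesimal criterion for a reflexive module that is free off `V(J)`: it is flat with fibre of depth
at least two along `J` as soon as the reflexive hulls of its restrictions to all infinitesimal neighbourhoods of
the closed fibre have this depth on the closed fibre. -/
theorem flat_and_depth_of_artinian (J : Ideal B) (hB0 : 2 ≤ LocCoh.idealDepth J (EGA4.FibMod R B B))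
    (F : Type u) [AddCommGroup F] [Module B F] [Module R F] [IsScalarTower R B F] [Module.Finite B F]
    [Module.IsReflexive B F]
    (hFU : ∀ q : PrimeSpectrum B, ¬ J ≤ q.asIdeal →
      Module.Free (Localization.AtPrime q.asIdeal) (LocalizedModule q.asIdeal.primeCompl F))
    (hk : ∀ (k : ℕ) (C : Type u) [CommRing C] [Algebra B C], Function.Surjective (algebraMap B C) →
      RingHom.ker (algebraMap B C) = (maximalIdeal R ^ (k + 1)).map (algebraMap R B) →
      2 ≤ LocCoh.idealDepth (J.map (algebraMap B C))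
        (Module.Dual C (Module.Dual C (C ⊗[B] F)) ⧸
          ((EGA4.mB R B).map (algebraMap B C) • ⊤ : Submodule C (Module.Dual C (Module.Dual C (C ⊗[B] F)))))) :
    Module.Flat R F ∧ 2 ≤ LocCoh.idealDepth J (EGA4.FibMod R B F) := by
  obtain ⟨n, m, g, h, hg, hgh, hGU⟩ := S18709.result B J F hFU
  let G := (Fin m → B) ⧸ LinearMap.range h
  let v : (Fin m → B) →ₗ[B] G := (LinearMap.range h).mkQ
  have hhv : Function.Exact h v := fun z => Submodule.Quotient.mk_eq_zero _
  have hv : Function.Surjective v := Submodule.mkQ_surjective _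
  haveI : ∀ l : ℕ, Module.Flat R (Fin l → B) := fun l => Module.Flat.trans R B _
  have hreg := regOff_of_free (J := J) h hGU
  have hBflat : ∀ q : PrimeSpectrum B, ¬ J ≤ q.asIdeal → FlatCA.FlatAt R q.asIdeal B := fun q _ =>
    flatAt_of_flatAt_self q (flatAt_self_of_free q (Module.Free.of_equiv (CAlgBasics.selfLocEquiv q.asIdeal.primeCompl).symm))
  have hfree : ∀ l : ℕ, 2 ≤ LocCoh.idealDepth J (EGA4.FibMod R B (Fin l → B)) := by
    intro l
    let K := EGA4.mB R B
    let e : ((Fin l → B) ⧸ (K • ⊤ : Submodule B (Fin l → B))) ≃ₗ[B] (Fin l → B ⧸ K) :=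
      (TensorProduct.quotTensorEquivQuotSMul (Fin l → B) K).symm.trans
        ((TensorProduct.piScalarRight B B (B ⧸ K) (Fin l)).restrictScalars B)
    rw [CAlgBasics.idealDepth_congr e, ← idealDepth_map_of_surjective (R := B ⧸ K) Ideal.Quotient.mk_surjective]
    refine le_idealDepth_of_flat (R := B ⧸ K) 2 ?_
    rw [idealDepth_map_of_surjective (R := B ⧸ K) Ideal.Quotient.mk_surjective,
      ← CAlgBasics.idealDepth_congr (Submodule.quotEquivOfEq _ _ (show (K • ⊤ : Submodule B B) = K by
        rw [smul_eq_mul, Ideal.mul_top]))]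
    exact hB0
  suffices hG : Module.Flat R G by
    have h8 := S18708.result R B J F (Fin n → B) (Fin m → B) G g h v hg hgh hhv hv
      (fun q hq => flatAt_of_flatAt_self q (flatAt_self_of_free q (hGU q hq))) (hfree n) (le_trans one_le_two (hfree m))
    exact ⟨h8.2.2 hG, h8.1.2 hG⟩
  refine InfNbhdLib.flat_of_flat_quotient_pow (S := B) (maximalIdeal R) le_rfl fun N => ?_
  cases N with
  | zero =>
    haveI : Subsingleton (R ⧸ maximalIdeal R ^ 0) := Ideal.Quotient.subsingleton_iff.2 (by rw [pow_zero, Ideal.one_eq_top])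
    haveI : Subsingleton ((R ⧸ maximalIdeal R ^ 0) ⊗[R] G) := Module.subsingleton (R ⧸ maximalIdeal R ^ 0) _
    exact inferInstance
  | succ k =>
    let A := R ⧸ maximalIdeal R ^ (k + 1)
    have hAsurj : Function.Surjective (algebraMap R A) := Ideal.Quotient.mk_surjective
    haveI : Nontrivial A := Ideal.Quotient.nontrivial_iff.2 fun h => (maximalIdeal.isMaximal R).ne_top
      (top_le_iff.1 (h ▸ Ideal.pow_le_self (Nat.succ_ne_zero k)))
    haveI : IsLocalRing A := IsLocalRing.of_surjective' (algebraMap R A) hAsurj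
    let I : Ideal B := (maximalIdeal R ^ (k + 1)).map (algebraMap R B)
    suffices H : ∀ (C : Type u) [CommRing C] [Algebra B C], Function.Surjective (algebraMap B C) →
        RingHom.ker (algebraMap B C) = I → ∀ [Algebra A C] [Algebra R C] [IsScalarTower R B C] [IsScalarTower R A C]
          [Algebra.IsPushout R A B C], Module.Flat A (A ⊗[R] G) by
      letI : Algebra A (B ⧸ I) := Ideal.Quotient.algebraQuotientOfLEComap Ideal.le_comap_map
      haveI : IsScalarTower R A (B ⧸ I) := .of_algebraMap_eq fun r => rfl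
      haveI : Algebra.IsPushout R A B (B ⧸ I) := EtAlgEasy.FibFlat.isPushout_quot (maximalIdeal R ^ (k + 1))
      exact H (B ⧸ I) Ideal.Quotient.mk_surjective Ideal.mk_ker
    intro C _ _ hCsurj hker _ _ _ _ _
    have hIm : I ≤ maximalIdeal B :=
      (Ideal.map_mono (Ideal.pow_le_self (Nat.succ_ne_zero k))).trans (IsLocalRing.map_maximalIdeal_le _)
    haveI : Nontrivial C := ⟨⟨0, 1, fun h => (maximalIdeal.isMaximal B).ne_top ((Ideal.eq_top_iff_one _).2
      (hIm (hker ▸ (RingHom.mem_ker.2 (by rw [map_one, ← h]) : (1 : B) ∈ RingHom.ker (algebraMap B C)))))⟩⟩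
    haveI : IsLocalRing C := IsLocalRing.of_surjective' (algebraMap B C) hCsurj
    haveI : IsNoetherianRing C := isNoetherianRing_of_surjective B C (algebraMap B C) hCsurj
    haveI : IsLocalHom (algebraMap B C) := hCsurj.isLocalHom _
    haveI : IsLocalHom (algebraMap A C) := ⟨fun a ha => by
      obtain ⟨r, rfl⟩ := hAsurj a
      rw [← IsScalarTower.algebraMap_apply R A C, IsScalarTower.algebraMap_apply R B C] at ha
      exact (isUnit_of_map_unit (algebraMap R B) r (isUnit_of_map_unit (algebraMap B C) _ ha)).map _⟩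
    haveI : Algebra.IsPushout R B A C := Algebra.IsPushout.symm inferInstance
    haveI : Module.Flat A C := Module.Flat.isBaseChange R A B C (Algebra.IsPushout.out (R := R) (S := A) (R' := B) (S' := C))
    let JC := J.map (algebraMap B C)
    -- the ring has depth two
    have hC2 : 2 ≤ LocCoh.idealDepth JC C := by
      rw [idealDepth_map_of_surjective hCsurj]
      have h6 := S18706.result R B J B hBflat hB0 k
      exact h6.trans_eq (CAlgBasics.idealDepth_congr ((Submodule.quotEquivOfEq _ _ (show
        ((EGA4.mB R B) ^ (k + 1) • ⊤ : Submodule B B) = LinearMap.ker (Algebra.linearMap B C) by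
          rw [smul_eq_mul, Ideal.mul_top, show LinearMap.ker (Algebra.linearMap B C) = RingHom.ker (algebraMap B C) from rfl,
            hker]
          exact (Ideal.map_pow (algebraMap R B) (maximalIdeal R) (k + 1)).symm)).trans
        ((Algebra.linearMap B C).quotKerEquivOfSurjective hCsurj)))
    have hCfree : ∀ (X : Type u) [AddCommGroup X] [Module C X] [Module.Finite C X] [Module.Flat C X],
        2 ≤ LocCoh.idealDepth JC X := fun X _ _ _ _ => le_idealDepth_of_flat 2 hC2
    let g' : C ⊗[B] F →ₗ[C] C ⊗[B] (Fin n → B) := g.baseChange C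
    let h' : C ⊗[B] (Fin n → B) →ₗ[C] C ⊗[B] (Fin m → B) := h.baseChange C
    let v' : C ⊗[B] (Fin m → B) →ₗ[C] C ⊗[B] G := v.baseChange C
    let K' := LinearMap.ker h'
    let ξ : C ⊗[B] F →ₗ[C] K' := g'.codRestrict K' fun z => by
      show (h.baseChange C ∘ₗ g.baseChange C) z = 0
      rw [← LinearMap.baseChange_comp, show h ∘ₗ g = 0 from LinearMap.ext hgh.apply_apply_eq_zero,
        LinearMap.baseChange_zero, LinearMap.zero_apply]
    -- splittings off the closed set
    have hsplit : ∀ q : PrimeSpectrum C, ¬ JC ≤ q.asIdeal → ∃ t, t ∉ q.asIdeal ∧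
        ∃ (χ : C ⊗[B] (Fin n → B) →ₗ[C] C ⊗[B] F) (σ : C ⊗[B] (Fin m → B) →ₗ[C] C ⊗[B] (Fin n → B)),
          h' ∘ₗ σ ∘ₗ h' = t • h' ∧ g' ∘ₗ χ = t • LinearMap.id - σ ∘ₗ h' ∧ χ ∘ₗ g' = t • LinearMap.id := by
      intro q hq
      obtain ⟨t, ht, σ, hσ⟩ := hreg (PrimeSpectrum.comap (algebraMap B C) q) fun hJ =>
        hq (Ideal.map_le_iff_le_comap.mpr hJ)
      have hmem : ∀ x, (t • (LinearMap.id : (Fin n → B) →ₗ[B] (Fin n → B)) - σ ∘ₗ h) x ∈ LinearMap.range g := fun x => by
        refine (hgh _).1 ?_
        show h (t • x - σ (h x)) = 0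
        rw [map_sub, map_smul, show h (σ (h x)) = t • h x from LinearMap.congr_fun hσ x, sub_self]
      let χ : (Fin n → B) →ₗ[B] F :=
        (LinearEquiv.ofInjective g hg).symm.toLinearMap ∘ₗ
          (t • (LinearMap.id : (Fin n → B) →ₗ[B] (Fin n → B)) - σ ∘ₗ h).codRestrict (LinearMap.range g) hmem
      have hgχ : g ∘ₗ χ = t • LinearMap.id - σ ∘ₗ h := LinearMap.ext fun x =>
        LinearEquiv.ofInjective_symm_apply (h := hg) (x := ⟨_, hmem x⟩)
      have hχg : χ ∘ₗ g = t • LinearMap.id := LinearMap.ext fun x => hg <| by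
        refine (LinearMap.congr_fun hgχ (g x)).trans ?_
        show t • g x - σ (h (g x)) = g (t • x)
        rw [hgh.apply_apply_eq_zero, map_zero, sub_zero, map_smul]
      refine ⟨algebraMap B C t, ht, χ.baseChange C, σ.baseChange C, ?_, ?_, ?_⟩
      · show h.baseChange C ∘ₗ σ.baseChange C ∘ₗ h.baseChange C = _
        rw [← LinearMap.baseChange_comp, ← LinearMap.baseChange_comp, hσ, LinearMap.baseChange_smul, algebraMap_smul]
      · show g.baseChange C ∘ₗ χ.baseChange C = _ - σ.baseChange C ∘ₗ h.baseChange C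
        rw [← LinearMap.baseChange_comp, hgχ, LinearMap.baseChange_sub, LinearMap.baseChange_smul,
          LinearMap.baseChange_id, algebraMap_smul, LinearMap.baseChange_comp]
      · show χ.baseChange C ∘ₗ g.baseChange C = _
        rw [← LinearMap.baseChange_comp, hχg, LinearMap.baseChange_smul, LinearMap.baseChange_id, algebraMap_smul]
    have hξ : IsoOff (X := C ⊗[B] F) (Y := K') JC ξ := fun q hq => by
      obtain ⟨t, ht, χ, σ, -, h1, h2⟩ := hsplit q hq
      let χ' : K' →ₗ[C] C ⊗[B] F := χ.domRestrict K'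
      refine ⟨t, ht, χ', LinearMap.ext fun x => ?_, LinearMap.ext fun x => ?_⟩
      · refine Subtype.ext ?_
        refine (LinearMap.congr_fun h1 (x : C ⊗[B] (Fin n → B))).trans ?_
        show t • (x : C ⊗[B] (Fin n → B)) - σ (h' x) = t • (x : C ⊗[B] (Fin n → B))
        rw [show h' x = 0 from x.2, map_zero, sub_zero]
      · show χ (g' x) = t • x
        exact LinearMap.congr_fun h2 x
    have hev : IsoOff (X := K') (Y := Module.Dual C (Module.Dual C K')) JC (Module.Dual.eval C K') := fun q hq => by
      obtain ⟨t, ht, χ, σ, h0, h1, -⟩ := hsplit q hq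
      let ρ : C ⊗[B] (Fin n → B) →ₗ[C] K' := (t • LinearMap.id - σ ∘ₗ h').codRestrict K' fun x => by
        show h' (t • x - σ (h' x)) = 0
        rw [map_sub, map_smul, show h' (σ (h' x)) = t • h' x from LinearMap.congr_fun h0 x, sub_self]
      have hρ : ρ ∘ₗ K'.subtype = t • LinearMap.id := LinearMap.ext fun x => Subtype.ext <| by
        show t • (x : C ⊗[B] (Fin n → B)) - σ (h' x) = t • (x : C ⊗[B] (Fin n → B))
        rw [show h' x = 0 from x.2, map_zero, sub_zero]
      let ev := Module.evalEquiv C (C ⊗[B] (Fin n → B))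
      refine ⟨t, ht, ρ ∘ₗ ev.symm.toLinearMap ∘ₗ K'.subtype.dualMap.dualMap, ?_, ?_⟩
      · refine LinearMap.ext fun w => LinearMap.ext fun φ => ?_
        obtain ⟨z, hz⟩ : ∃ z, ev.symm (K'.subtype.dualMap.dualMap w) = z := ⟨_, rfl⟩
        show φ (ρ (ev.symm (K'.subtype.dualMap.dualMap w))) = t • w φ
        rw [hz]
        have : ev z = K'.subtype.dualMap.dualMap w := by rw [← hz, LinearEquiv.apply_symm_apply]
        have h3 := LinearMap.congr_fun this (φ ∘ₗ ρ)
        refine (show φ (ρ z) = ev z (φ ∘ₗ ρ) from rfl).trans (h3.trans ?_)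
        show w ((φ ∘ₗ ρ) ∘ₗ K'.subtype) = t • w φ
        rw [LinearMap.comp_assoc, hρ, LinearMap.comp_smul, LinearMap.comp_id, map_smul]
      · refine LinearMap.ext fun x => ?_
        show ρ (ev.symm (K'.subtype.dualMap.dualMap (Module.Dual.eval C K' x))) = t • x
        rw [show K'.subtype.dualMap.dualMap (Module.Dual.eval C K' x) = ev (K'.subtype x) from rfl,
          LinearEquiv.symm_apply_apply]
        exact LinearMap.congr_fun hρ x
    haveI : Module.Finite C K' := Module.Finite.iff_fg.2 (IsNoetherian.noetherian K')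
    have hK2 : 2 ≤ LocCoh.idealDepth JC K' :=
      two_le_idealDepth_left K'.subtype h' (LinearMap.exact_subtype_ker_map h') Subtype.val_injective
        (hCfree _) (le_trans one_le_two (hCfree _))
    have hdual : ∀ (X : Type u) [AddCommGroup X] [Module C X] [Module.Finite C X],
        2 ≤ LocCoh.idealDepth JC (Module.Dual C X) := fun X _ _ _ => two_le_idealDepth_dual hC2 X
    have hfinD : ∀ (X : Type u) [AddCommGroup X] [Module C X] [Module.Finite C X],
        Module.Finite C (Module.Dual C X) := fun X _ _ _ => by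
      haveI : Module.FinitePresentation C X := Module.finitePresentation_of_finite C X
      infer_instance
    haveI : Module.Finite C (Module.Dual C K') := hfinD K'
    haveI : Module.Finite C (Module.Dual C (Module.Dual C K')) := hfinD (Module.Dual C K')
    haveI : Module.Finite C (Module.Dual C (C ⊗[B] F)) := hfinD (C ⊗[B] F)
    let E1 := LinearEquiv.ofBijective _ (bijective_of_isoOff hev hK2 (le_trans one_le_two (hdual (Module.Dual C K'))))
    let E2 := LinearEquiv.ofBijective _
      (bijective_of_isoOff hξ.dualMap (hdual K') (le_trans one_le_two (hdual (C ⊗[B] F))))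
    let E : Module.Dual C (Module.Dual C (C ⊗[B] F)) ≃ₗ[C] K' := E2.dualMap.trans E1.symm
    have hKdepth : 2 ≤ LocCoh.idealDepth JC (EGA4.FibMod A C K') := by
      have hm : EGA4.mB A C = (EGA4.mB R B).map (algebraMap B C) := by
        show (maximalIdeal A).map (algebraMap A C) = ((maximalIdeal R).map (algebraMap R B)).map (algebraMap B C)
        rw [← IsLocalRing.map_maximalIdeal_of_surjective (algebraMap R A) hAsurj, Ideal.map_map, Ideal.map_map,
          ← IsScalarTower.algebraMap_eq, ← IsScalarTower.algebraMap_eq]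
      refine (hk k C hCsurj hker).trans_eq (CAlgBasics.idealDepth_congr ((Submodule.Quotient.equiv _ _ E ?_).trans
        (Submodule.quotEquivOfEq _ _ (by rw [hm]))))
      rw [Submodule.map_smul'', Submodule.map_top, LinearEquiv.range]
    have hGU' : ∀ q : PrimeSpectrum C, ¬ JC ≤ q.asIdeal → FlatCA.FlatAt A q.asIdeal (C ⊗[B] G) := fun q hq => by
      refine flatAt_of_flatAt_self q (flatAt_self_of_free q ?_)
      have hq' : ¬ J ≤ (PrimeSpectrum.comap (algebraMap B C) q).asIdeal := fun hJ =>
        hq (Ideal.map_le_iff_le_comap.mpr hJ)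
      exact Module.comap_freeLocus_le (R := B) (M := G) (A := C)
        (show q ∈ PrimeSpectrum.comap (algebraMap B C) ⁻¹' Module.freeLocus B G from hGU _ hq')
    haveI : ∀ l : ℕ, Module.Flat A (C ⊗[B] (Fin l → B)) := fun l => Module.Flat.trans A C _
    have hC0 : ∀ l : ℕ, 2 ≤ LocCoh.idealDepth JC (EGA4.FibMod A C (C ⊗[B] (Fin l → B))) := by
      intro l
      have hm : EGA4.mB A C = (EGA4.mB R B).map (algebraMap B C) := by
        show (maximalIdeal A).map (algebraMap A C) = ((maximalIdeal R).map (algebraMap R B)).map (algebraMap B C)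
        rw [← IsLocalRing.map_maximalIdeal_of_surjective (algebraMap R A) hAsurj, Ideal.map_map, Ideal.map_map,
          ← IsScalarTower.algebraMap_eq, ← IsScalarTower.algebraMap_eq]
      let mk : (Fin l → B) →ₗ[B] C ⊗[B] (Fin l → B) := TensorProduct.mk B C (Fin l → B) 1
      have hmk : Function.Surjective mk := TensorProduct.mk_surjective B (Fin l → B) C hCsurj
      have hk0 : ∀ x, mk x ∈ ((EGA4.mB A C) • ⊤ : Submodule C (C ⊗[B] (Fin l → B))) ↔
          x ∈ (EGA4.mB R B • ⊤ : Submodule B (Fin l → B)) := by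
        intro x
        rw [hm, ← Submodule.restrictScalars_mem B, Submodule.restrictScalars_map_smul_eq, Submodule.restrictScalars_top,
          ← LinearMap.range_eq_top.2 hmk, ← Submodule.map_top, ← Submodule.map_smul'']
        refine ⟨?_, fun hx => Submodule.mem_map_of_mem hx⟩
        rintro ⟨y, hy, hyx⟩
        have hd : x - y ∈ LinearMap.ker mk := by rw [LinearMap.mem_ker, map_sub, hyx, sub_self]
        have hle : LinearMap.ker mk ≤ (EGA4.mB R B • ⊤ : Submodule B (Fin l → B)) := fun z hz => by
          rw [pi_eq_sum_univ' z]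
          refine Submodule.sum_mem _ fun i _ => Submodule.smul_mem_smul ?_ Submodule.mem_top
          have hz' : z i • (1 : C) = 0 := by
            have h := congrArg (fun w => TensorProduct.piScalarRight B C C (Fin l) w i) (LinearMap.mem_ker.1 hz)
            simpa [mk] using h
          refine Ideal.map_mono (Ideal.pow_le_self (Nat.succ_ne_zero k)) (hker.le ?_)
          rw [RingHom.mem_ker, Algebra.algebraMap_eq_smul_one]
          exact hz'
        simpa using add_mem (hle hd) hy
      let e : EGA4.FibMod R B (Fin l → B) ≃ₗ[B] EGA4.FibMod A C (C ⊗[B] (Fin l → B)) := by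
        refine LinearEquiv.ofBijective ((EGA4.mB R B • ⊤ : Submodule B (Fin l → B)).liftQ
          ((((EGA4.mB A C) • ⊤ : Submodule C (C ⊗[B] (Fin l → B))).mkQ.restrictScalars B) ∘ₗ mk)
          fun x hx => ?_) ⟨?_, ?_⟩
        · exact (Submodule.Quotient.mk_eq_zero _).2 ((hk0 x).2 hx)
        · rw [injective_iff_map_eq_zero]
          intro z hz
          obtain ⟨x, rfl⟩ := Submodule.Quotient.mk_surjective _ z
          exact (Submodule.Quotient.mk_eq_zero _).2 ((hk0 x).1 ((Submodule.Quotient.mk_eq_zero _).1 hz))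
        · intro z
          obtain ⟨w, rfl⟩ := Submodule.Quotient.mk_surjective _ z
          obtain ⟨x, rfl⟩ := hmk w
          exact ⟨Submodule.Quotient.mk x, rfl⟩
      rw [idealDepth_map_of_surjective hCsurj, ← CAlgBasics.idealDepth_congr e]
      exact hfree l
    have h8 := S18708.result A C JC K' (C ⊗[B] (Fin n → B)) (C ⊗[B] (Fin m → B)) (C ⊗[B] G) K'.subtype h' v'
      Subtype.val_injective (LinearMap.exact_subtype_ker_map h') (lTensor_exact C hhv hv)
      (LinearMap.lTensor_surjective C hv) hGU' (hC0 n) (le_trans one_le_two (hC0 m))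
    haveI := h8.1.1 hKdepth
    exact Module.Flat.of_linearEquiv (Algebra.IsPushout.cancelBaseChange R A B C G).symm

end Core

end Groth.Agent.FibreDualLib
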