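import Groth.Agent.FibreDualLib.S2End
import Groth.Agent.RelDualCMLib.S2Depth
import Groth.Agent.GorOpenLib.Main
import Groth.Agent.RefOne.Extend
import Groth.Agent.S1691

/-!
# Reflexivity of the relative canonical sheaf of a proper `(S₂)`-morphism
-/

set_option autoImplicit false
set_option linter.style.haveILetI false
set_option linter.unusedSectionVars false
set_option backward.isDefEq.respectTransparency false
set_option maxHeartbeats 1600000

universe u

open CategoryTheory CategoryTheory.Limits AlgebraicGeometry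
open Groth.Agent.DCohLib Groth.Agent.DCohMore Groth.Agent.TwistShriek Groth.Agent.CohBase
open Groth.Agent.DimFormulaLib Groth.Agent.ShriekBridge

attribute [local instance] HasDerivedCategory.standard

noncomputable section

namespace Groth.Agent.FibreDualLib

/-- A semilinear identification with a localized module is semilinear over the local ring. -/
theorem exists_semilinear_localization {B T : Type u} [CommRing B] [CommRing T] (χ : B →+* T)
    (q : Ideal B) [q.IsPrime] (hT : letI := χ.toAlgebra; IsLocalization.AtPrime T q) {M N : Type u}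
    [AddCommGroup M] [Module B M] [AddCommGroup N] [Module T N]
    (E : N ≃+ LocalizedModule q.primeCompl M) (hE : ∀ (b : B) y, E (χ b • y) = b • E y) :
    ∃ σ : T ≃+* Localization.AtPrime q, ∀ t y, E (t • y) = σ t • E y := by
  letI := χ.toAlgebra
  haveI : IsLocalization q.primeCompl T := hT
  let φ : T ≃ₐ[B] Localization.AtPrime q := IsLocalization.algEquiv q.primeCompl _ _
  refine ⟨φ.toRingEquiv, fun z y => ?_⟩
  obtain ⟨b, ⟨s, hs⟩, rfl⟩ := IsLocalization.exists_mk'_eq q.primeCompl z
  have hu : IsUnit (algebraMap B (Localization.AtPrime q) s) :=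
    IsLocalization.map_units _ (⟨s, hs⟩ : q.primeCompl)
  refine hu.smul_left_cancel.1 ?_
  show algebraMap B _ s • E (IsLocalization.mk' T b ⟨s, hs⟩ • y) =
    algebraMap B _ s • (φ (IsLocalization.mk' T b ⟨s, hs⟩) • E y)
  rw [algebraMap_smul, ← hE, smul_smul]
  show E ((algebraMap B T s * _) • y) = _
  rw [IsLocalization.mk'_spec'_mk, smul_smul, ← φ.commutes s,
    ← map_mul, IsLocalization.mk'_spec'_mk, φ.commutes, algebraMap_smul (Localization.AtPrime q) b]
  exact hE b y

/-- A complex invertible near a point, with a nonzero cohomology sheaf there in the given degree, has that sheaf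
invertible at the point. -/
theorem invertibleAt_of_invertibleD {Y : Scheme.{u}}
    [∀ (U V : Scheme.{u}) (j : U ⟶ V) [IsOpenImmersion j], PreservesFiniteLimits (Scheme.Modules.restrictFunctor j)]
    (M : DCoh.D Y) (d : ℕ) (ω : Y.Modules) (e : DCoh.HD M (-(d : ℤ)) ≅ ω) (y : Y)
    (hnt : ¬ Subsingleton (ω.presheaf.stalk y))
    (h : ∃ U : Y.Opens, y ∈ U ∧ Dual3.IsInvertibleD ((DCoh.restrictD U.ι).obj M)) :
    RelCanon.InvertibleAt ω y := by
  obtain ⟨U, hyU, hinv⟩ := h
  obtain ⟨W, n, hW, ⟨i⟩⟩ := hinv ⟨y, hyU⟩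
  let R₁ := Scheme.Modules.restrictFunctor U.ι
  let R₂ := Scheme.Modules.restrictFunctor W.ι
  let iH : R₂.obj (R₁.obj (DCoh.HD M (-(d : ℤ)))) ≅
      DCoh.HD ((DCoh.inD (W : Scheme.{u}) (Coh.structureModule (W : Scheme.{u})))⟦n⟧) (-(d : ℤ)) :=
    R₂.mapIso (((TildeD.nu R₁ (-(d : ℤ))).app M).symm) ≪≫
      ((TildeD.nu R₂ (-(d : ℤ))).app ((DCoh.restrictD U.ι).obj M)).symm ≪≫
      (DerivedCategory.homologyFunctor _ (-(d : ℤ))).mapIso i
  let iω : R₂.obj (R₁.obj ω) ≅
      DCoh.HD ((DCoh.inD (W : Scheme.{u}) (Coh.structureModule (W : Scheme.{u})))⟦n⟧) (-(d : ℤ)) :=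
    R₂.mapIso (R₁.mapIso e.symm) ≪≫ iH
  let y₁ : (W : Scheme.{u}) := ⟨⟨y, hyU⟩, hW⟩
  by_cases hn : n = (d : ℤ)
  · subst hn
    let V : Y.Opens := (W.ι ≫ U.ι).opensRange
    let i₀ : R₂.obj (R₁.obj ω) ≅ Coh.structureModule (W : Scheme.{u}) :=
      iω ≪≫ ((DerivedCategory.homologyFunctor _ 0).shiftIso (d : ℤ) (-(d : ℤ)) 0 (by omega)).app _ ≪≫
        (DerivedCategory.singleFunctorCompHomologyFunctorIso _ 0).app _
    refine ⟨V, ⟨y₁, rfl⟩, ⟨?_⟩⟩
    let s := (W.ι ≫ U.ι).isoOpensRange.inv
    exact (Scheme.Modules.restrictFunctorCongr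
        (show V.ι = s ≫ W.ι ≫ U.ι from ((W.ι ≫ U.ι).isoOpensRange_inv_comp).symm)).app ω ≪≫
      (Scheme.Modules.restrictFunctorComp s (W.ι ≫ U.ι)).app ω ≪≫
      (Scheme.Modules.restrictFunctor s).mapIso ((Scheme.Modules.restrictFunctorComp W.ι U.ι).app ω ≪≫ i₀) ≪≫
      DCohLib.restrictUnit s
  · exfalso
    have hz : IsZero (R₂.obj (R₁.obj ω)) := (isZero_HD_inD_shift _ n _ (by omega)).of_iso iω
    have h1 := DCohLib.subsingleton_stalk_of_isZero hz y₁
    have h2 : Subsingleton ((R₁.obj ω).presheaf.stalk (W.ι y₁)) := @Equiv.subsingleton _ _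
      ((Scheme.Modules.restrictStalkNatIso W.ι y₁).app (R₁.obj ω)).addCommGroupIsoToAddEquiv.toEquiv.symm h1
    exact hnt (@Equiv.subsingleton _ _
      ((Scheme.Modules.restrictStalkNatIso U.ι (W.ι y₁)).app ω).addCommGroupIsoToAddEquiv.toEquiv.symm h2)

/-- Localisations of reflexive modules over Noetherian rings are reflexive. -/
theorem isReflexive_localizedModule {R M : Type u} [CommRing R] [IsNoetherianRing R] [AddCommGroup M] [Module R M]
    [Module.Finite R M] [Module.IsReflexive R M] (p : Ideal R) [p.IsPrime] :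
    Module.IsReflexive (Localization.AtPrime p) (LocalizedModule p.primeCompl M) := by
  haveI := Module.finitePresentation_of_finite R M
  haveI := Module.finitePresentation_of_finite R (Module.Dual R M)
  let B := Localization.AtPrime p
  let N := LocalizedModule p.primeCompl M
  let f := LocalizedModule.mkLinearMap p.primeCompl M
  let T : Module.Dual R M →ₗ[R] Module.Dual B N :=
    IsLocalizedModule.mapExtendScalars p.primeCompl f (Algebra.linearMap R B) B
  haveI : IsLocalizedModule p.primeCompl T :=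
    Module.FinitePresentation.isLocalizedModule_mapExtendScalars p.primeCompl _ _ B
  haveI : IsLocalizedModule p.primeCompl
      (IsLocalizedModule.mapExtendScalars p.primeCompl T (Algebra.linearMap R B) B) :=
    Module.FinitePresentation.isLocalizedModule_mapExtendScalars p.primeCompl _ _ B
  haveI : IsLocalizedModule p.primeCompl (IsLocalizedModule.mapExtendScalars p.primeCompl T (Algebra.linearMap R B) B
      ∘ₗ (Module.evalEquiv R M).toLinearMap) :=
    IsLocalizedModule.of_linearEquiv_right p.primeCompl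
      (IsLocalizedModule.mapExtendScalars p.primeCompl T (Algebra.linearMap R B) B) (Module.evalEquiv R M)
  have hb := bijective_of_comp_eq p.primeCompl f
    (IsLocalizedModule.mapExtendScalars p.primeCompl T (Algebra.linearMap R B) B ∘ₗ (Module.evalEquiv R M).toLinearMap)
    ((Module.Dual.eval B N).restrictScalars R) fun x => by
      refine LinearMap.restrictScalars_injective R ?_
      refine IsLocalizedModule.ext p.primeCompl T (IsLocalizedModule.map_units (Algebra.linearMap R B))
        (LinearMap.ext fun φ => ?_)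
      exact (IsLocalizedModule.map_apply p.primeCompl f (Algebra.linearMap R B) φ x).trans
        (IsLocalizedModule.map_apply p.primeCompl T (Algebra.linearMap R B) (Module.evalEquiv R M x) φ).symm
  exact ⟨hb⟩

/-- An invertible point of a module is a reflexive point. -/
theorem isReflexiveAt_of_invertibleAt {Y : Scheme.{u}} (ω : Y.Modules) (y : Y) (h : RelCanon.InvertibleAt ω y) :
    RefHull.IsReflexiveAt ω y := by
  obtain ⟨U, hy, ⟨i⟩⟩ := h
  refine (RefOne.isReflexiveAt_restrict_iff U.ι ω ⟨y, hy⟩).1 (S1691.isReflexiveAt_of_iso i _ ?_)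
  exact Module.equiv
    (LinearEquiv.ofBijective (LinearMap.toSpanSingleton _ _ (ParaFLib.oneG (X := (U : Scheme.{u})) ⟨y, hy⟩))
      (ParaFLib.bijective_oneG _))

variable {A : Type u} [CommRing A] [IsNoetherianRing A] {Y : Scheme.{u}}

/-- The relative canonical sheaf on charts, and its Gorenstein points. -/
theorem relCanonical_model [Y.Over (Spec (CommRingCat.of A))] [IsProper (Y ↘ Spec (CommRingCat.of A))]
    (d : ℕ) (hS : RelCanon.IsSkMor (Y ↘ Spec (CommRingCat.of A)) 2)
    (hd : Cyc.HasRelDim (Y ↘ Spec (CommRingCat.of A)) d) (ω : Y.Modules)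
    (hω : RelCanon.IsDualizingSheaf A Y d ω) :
    Coh.IsCoh ω ∧
    (∀ y : Y, Dual3.IsGorensteinAt (Y ↘ Spec (CommRingCat.of A)) y → RelCanon.InvertibleAt ω y) ∧
    ∀ y : Y, ∃ c : Chart (Y ↘ Spec (CommRingCat.of A)) y, IsNoetherianRing c.A ∧ IsNoetherianRing c.B ∧
      Module.Flat c.A c.B ∧ ∃ P : Pres c.A c.B, ∀ q : PrimeSpectrum c.B,
        ∃ E : ω.presheaf.stalk (c.j q) ≃+ LocalizedModule q.asIdeal.primeCompl (Dual.HD c.B P.omega (-(d : ℤ))),
          ∀ (b : c.B) z, E (chartToStalk c.j q b • z) = b • E z := by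
  let f := Y ↘ Spec (CommRingCat.of A)
  let S := Spec (CommRingCat.of A)
  haveI : ∀ (R : CommRingCat.{u}), PreservesFiniteLimits (tilde.functor R) := fun R =>
    TildeD.preservesFiniteLimits_tilde
  haveI : IsNoetherianRing (CommRingCat.of A) := inferInstanceAs (IsNoetherianRing A)
  haveI : IsLocallyNoetherian Y := LocallyOfFiniteType.isLocallyNoetherian f
  haveI : CompactSpace Y := QuasiCompact.compactSpace_of_compactSpace f
  haveI : IsNoetherian Y := {}
  haveI : Flat f := hS.1
  have hfib := dim_fiber_le f d hd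
  haveI := BC.hasRpush f
  have h : DCoh.RpushPreservesQCoh f := rpushQC f
  haveI := isLeftAdjoint_rpushQ' f
  let a := (DCoh.RpushQ f h).rightAdjoint
  let adj : DCoh.RpushQ f h ⊣ a := Adjunction.ofIsLeftAdjoint (DCoh.RpushQ f h)
  let O : DCoh.DQCoh S := oQ S
  have hO : Nonempty (O.obj ≅ DCoh.inD S (Coh.structureModule S)) := ⟨Iso.refl _⟩
  let cp := idComp f
  haveI : DCoh.HasRpush cp.fbar := ‹DCoh.HasRpush f›
  let adjc : DCoh.RpushQ cp.fbar h ⊣ a := adj
  let M := (Dual3.shriekC cp a).obj O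
  let eM : M ≅ (a.obj O).obj := (restrictDId (X := Y)).app (a.obj O).obj
  have hlow : ∀ i : ℤ, i < -(d : ℤ) → IsZero (DCoh.HD (a.obj O).obj i) := fun i hi => by
    refine (DCohLib.isZero_of_stalks fun y => ?_).of_iso
      ((DerivedCategory.homologyFunctor Y.Modules i).mapIso eM.symm)
    obtain ⟨c⟩ := exists_chart f y
    haveI := isNoetherianRing_base c
    haveI := isNoetherianRing_total c
    haveI := ShriekBridge.flat_of_chart c
    obtain ⟨P⟩ := nonempty_pres c.A c.B
    obtain ⟨E, -⟩ := RelDualCMLib.exists_stalk_chart (cp := cp) adjc O hO c P c.q i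
    haveI := RelDualCMLib.subsingleton_relOmega_of_lt_neg P.hψ P.adj d
      (fun p => (fibre_rings 2 d hS hd c p).2) i hi
    haveI : Subsingleton (Dual.HD c.B P.omega i) := ‹_›
    exact c.hq ▸ E.toEquiv.subsingleton
  haveI hGE : (a.obj O).obj.IsGE (-(d : ℤ)) := (DerivedCategory.isGE_iff _ _).2 hlow
  obtain ⟨tr₀, htr₀⟩ := exists_isRDualOver_adjoint A Y h a adj O (Iso.refl _) d hGE
    (fun F hF j hj => by
      haveI := hF
      obtain ⟨p, rfl⟩ : ∃ p, j = p + 1 := ⟨j - 1, by omega⟩
      exact subsingleton_HH _ _ (FibreVanishQC.subsingleton_HU_affine f d hfib F p (by omega)))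
    (Iso.refl _)
  obtain ⟨tr, htr⟩ := id hω
  obtain ⟨e₀⟩ := nonempty_iso_of_isRDualOver_ring A htr₀ htr
  let e : DCoh.HD M (-(d : ℤ)) ≅ ω := (DerivedCategory.homologyFunctor Y.Modules (-(d : ℤ))).mapIso eM ≪≫ e₀
  have key : ∀ y : Y, ∃ c : Chart f y, IsNoetherianRing c.A ∧ IsNoetherianRing c.B ∧
      Module.Flat c.A c.B ∧ ∃ P : Pres c.A c.B, ∀ q : PrimeSpectrum c.B,
        ∃ E : ω.presheaf.stalk (c.j q) ≃+ LocalizedModule q.asIdeal.primeCompl (Dual.HD c.B P.omega (-(d : ℤ))),
          ∀ (b : c.B) z, E (chartToStalk c.j q b • z) = b • E z := fun y => by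
    obtain ⟨c⟩ := exists_chart f y
    haveI := isNoetherianRing_base c
    haveI := isNoetherianRing_total c
    obtain ⟨P⟩ := nonempty_pres c.A c.B
    refine ⟨c, inferInstance, inferInstance, ShriekBridge.flat_of_chart c, P, fun q => ?_⟩
    obtain ⟨E, hE⟩ := RelDualCMLib.exists_stalk_chart (cp := cp) adjc O hO c P q (-(d : ℤ))
    let L := ((DCohLib.stkF (c.j q)).mapIso e).toLinearEquiv
    exact ⟨L.symm.toAddEquiv.trans E, fun b z => by
      show E (L.symm (chartToStalk c.j q b • z)) = b • E (L.symm z)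
      erw [L.symm.map_smul (chartToStalk c.j q b) z]
      exact hE b _⟩
  have hnt : ∀ y : Y, ¬ Subsingleton (ω.presheaf.stalk y) := fun y hs => by
    obtain ⟨c, hA, hB, hfl, P, hP⟩ := key y
    haveI := hA; haveI := hB; haveI := hfl
    obtain ⟨E, hE⟩ := hP c.q
    haveI : Module.Finite c.B (Dual.HD c.B P.omega (-(d : ℤ))) :=
      (ShriekAlgLib.shriekVia_self_bounded c.A c.B P.n P.ψ P.hψ P.Rψ P.adj).2 _
    haveI : Subsingleton (ω.presheaf.stalk (c.j c.q)) := by rw [c.hq]; exact hs
    have hend := (toEnd_bijective_localized (chartToStalk c.j c.q) c.q.asIdeal (isLocalization_chartToStalk c.j c.q) E hE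
      (RelDualCMLib.toEnd_HD_bijective_of_S2 P.hψ P.adj d (fun p => (fibre_rings 2 d hS hd c p).2)
        (fun p => (fibre_rings 2 d hS hd c p).1))).1
    exact zero_ne_one (hend (Subsingleton.elim
      ((0 : Y.presheaf.stalk (c.j c.q)) • (LinearMap.id : ω.presheaf.stalk (c.j c.q) →ₗ[_] ω.presheaf.stalk (c.j c.q)))
      _) : (0 : Y.presheaf.stalk (c.j c.q)) = 1)
  exact ⟨isCoh_of_pair A d hfib htr, fun y hy => invertibleAt_of_invertibleD M d ω e y (hnt y)
    ((ShriekBridge.gorensteinAt_iff_invertible (cp := cp) adjc O hO y).1 hy), key⟩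

/-- The relative canonical sheaf of a proper `(S₂)`-morphism with fibres Gorenstein in codimension one is
reflexive. -/
theorem isReflexive_relCanonical [Y.Over (Spec (CommRingCat.of A))] [IsProper (Y ↘ Spec (CommRingCat.of A))]
    (d : ℕ) (hS : RelCanon.IsSkMor (Y ↘ Spec (CommRingCat.of A)) 2)
    (hd : Cyc.HasRelDim (Y ↘ Spec (CommRingCat.of A)) d) (ω : Y.Modules)
    (hω : RelCanon.IsDualizingSheaf A Y d ω)
    (hG : ∀ y : Y, y ∉ RelCanon.gorLocus (Y ↘ Spec (CommRingCat.of A)) →
      (2 : WithBot ℕ∞) ≤ ringKrullDim (((Y ↘ Spec (CommRingCat.of A)).fiber ((Y ↘ Spec (CommRingCat.of A)) y)).presheaf.stalk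
        ((Y ↘ Spec (CommRingCat.of A)).asFiber y))) :
    RefHull.IsReflexive ω := by
  let f := Y ↘ Spec (CommRingCat.of A)
  haveI : IsNoetherianRing (CommRingCat.of A) := inferInstanceAs (IsNoetherianRing A)
  haveI : IsLocallyNoetherian Y := LocallyOfFiniteType.isLocallyNoetherian f
  haveI : Flat f := hS.1
  haveI : LocallyOfFinitePresentation f := LocallyOfFinitePresentation.iff_locallyOfFiniteType.2 inferInstance
  obtain ⟨hcoh, hgor, hchart⟩ := relCanonical_model d hS hd ω hω
  refine (RefOne.isReflexive_iff hcoh).2 fun y => ?_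
  obtain ⟨c, hA, hB, hfl, P, hP⟩ := hchart y
  haveI := hA; haveI := hB; haveI := hfl
  let H := Dual.HD c.B P.omega (-(d : ℤ))
  haveI : Module.Finite c.B H := (ShriekAlgLib.shriekVia_self_bounded c.A c.B P.n P.ψ P.hψ P.Rψ P.adj).2 _
  let Z : Set (PrimeSpectrum c.B) := {q | ¬ Dual3.IsGorensteinAt f (c.j q)}
  have hZ : IsClosed Z := isOpen_compl_iff.1 (by
    rw [show Zᶜ = c.j ⁻¹' {x : Y | Dual3.IsGorensteinAt f x} from Set.ext fun _ => not_not]
    exact (GorOpenLib.isOpen_gorensteinLocus f).preimage c.j.continuous)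
  let I := PrimeSpectrum.vanishingIdeal Z
  have hIZ : ∀ q : PrimeSpectrum c.B, I ≤ q.asIdeal ↔ q ∈ Z := fun q => by
    have h1 : PrimeSpectrum.zeroLocus (I : Set c.B) = Z := by
      rw [PrimeSpectrum.zeroLocus_vanishingIdeal_eq_closure, hZ.closure_eq]
    rw [← h1, PrimeSpectrum.mem_zeroLocus, SetLike.coe_subset_coe]
  have hH : Module.IsReflexive c.B H := by
    refine RelDualCMLib.isReflexive_HD_of_S2 P.hψ P.adj d (fun p => (fibre_rings 2 d hS hd c p).2)
      (fun p => (fibre_rings 2 d hS hd c p).1) I (fun q hq p Q hp hQ => ?_) (fun q hq => ?_)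
    · obtain rfl : (c.move q).p = p := PrimeSpectrum.ext hp
      obtain rfl : (c.move q).Q = Q := by
        obtain ⟨⟨q', hq'⟩, rfl⟩ := (PrimeSpectrum.preimageEquivFiber c.A c.B (c.move q).p).surjective Q
        obtain rfl : q' = q := PrimeSpectrum.ext ((congrArg (fun z => z.1.asIdeal)
          ((PrimeSpectrum.preimageEquivFiber c.A c.B (c.move q).p).symm_apply_apply ⟨q', hq'⟩)).symm.trans hQ)
        rfl
      exact (hG (c.j q) ((hIZ q).1 hq)).trans_eq ((c.move q).dim_stalk_fibre.trans
        (IsLocalization.AtPrime.ringKrullDim_eq_height (c.move q).Q.asIdeal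
          (Localization.AtPrime (c.move q).Q.asIdeal)).symm)
    · obtain ⟨E, hE⟩ := hP q
      obtain ⟨σ, hσ⟩ := exists_semilinear_localization _ q.asIdeal (isLocalization_chartToStalk c.j q) E hE
      haveI : Module.IsReflexive (Y.presheaf.stalk (c.j q)) (ω.presheaf.stalk (c.j q)) :=
        isReflexiveAt_of_invertibleAt ω _ (hgor _ (not_not.1 fun h => hq ((hIZ q).2 h)))
      exact RefOne.isReflexive_of_semilinear σ.symm E.symm fun r m => E.injective (by
        rw [E.apply_symm_apply, hσ, σ.apply_symm_apply, E.apply_symm_apply])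
  have hloc := isReflexive_localizedModule (R := c.B) (M := H) c.q.asIdeal
  obtain ⟨E, hE⟩ := hP c.q
  obtain ⟨σ, hσ⟩ := exists_semilinear_localization _ c.q.asIdeal (isLocalization_chartToStalk c.j c.q) E hE
  haveI : Module.IsReflexive (Localization.AtPrime c.q.asIdeal) (LocalizedModule c.q.asIdeal.primeCompl H) := hloc
  have : RefHull.IsReflexiveAt ω (c.j c.q) := RefOne.isReflexive_of_semilinear σ E hσ
  exact c.hq ▸ this

end Groth.Agent.FibreDualLib
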