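import Groth.Agent.FibreDualLib.ArtinCore
import Groth.Agent.FibreDepth.FibIso
import Groth.Agent.QGorLib.Depth
import Groth.Agent.CAlgBasics.Reflexive
import Groth.Agent.FibreDualLib.S2Reflexive

/-!
# Serre's condition and depth along an ideal for infinitesimal neighbourhoods at a prime
-/

set_option autoImplicit false
set_option backward.isDefEq.respectTransparency false
set_option backward.isDefEq.respectTransparency.types false
set_option linter.style.haveILetI false
set_option linter.unusedSectionVars false
set_option maxHeartbeats 1000000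

universe u

open IsLocalRing TensorProduct

namespace Groth.Agent.FibreDualLib

/-- `(S₂)` of the reduction of a module of depth two along `J` gives depth two along `J`. -/
theorem two_le_idealDepth_of_hasSk {S : Type u} [CommRing S] [IsNoetherianRing S] (J I : Ideal S)
    (hI : I ≤ nilradical S) (N : Type u) [AddCommGroup N] [Module S N] [Module.Finite S N]
    (hN : 2 ≤ LocCoh.idealDepth J N) (h : LocCoh.HasSk 2 S (N ⧸ (I • ⊤ : Submodule S N))) :
    2 ≤ LocCoh.idealDepth J (N ⧸ (I • ⊤ : Submodule S N)) := by
  rw [← Nat.cast_ofNat, QGorLib.le_idealDepth_iff_forall] at hN ⊢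
  intro P hP
  let X := N ⧸ (I • ⊤ : Submodule S N)
  let SP := Localization.AtPrime P.asIdeal
  let NP := LocalizedModule P.asIdeal.primeCompl N
  let XP := LocalizedModule P.asIdeal.primeCompl X
  rcases subsingleton_or_nontrivial XP with hX | hX
  · rw [CAlgBasics.depth_eq_top]; exact le_top
  let v : NP →ₗ[SP] XP := LocalizedModule.map P.asIdeal.primeCompl (Submodule.mkQ (I • ⊤ : Submodule S N))
  have hv : Function.Surjective v := LocalizedModule.map_surjective _ _ (Submodule.mkQ_surjective _)
  haveI : Nontrivial NP := hv.nontrivial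
  have hd : ((2 : ℕ) : WithBot ℕ∞) ≤ Module.supportDim SP NP :=
    le_trans (WithBot.coe_le_coe.2 (hN P hP)) (QGorLib.depth_le_supportDim NP)
  -- the reduction has the same support
  let I' := I.map (algebraMap S SP)
  have hker : LinearMap.ker v ≤ (I' • ⊤ : Submodule SP NP) := by
    intro x hx
    obtain ⟨⟨n, s⟩, rfl⟩ := IsLocalizedModule.mk'_surjective P.asIdeal.primeCompl
      (LocalizedModule.mkLinearMap P.asIdeal.primeCompl N) x
    let fX := LocalizedModule.mkLinearMap P.asIdeal.primeCompl X
    let fN := LocalizedModule.mkLinearMap P.asIdeal.primeCompl N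
    have e : IsLocalizedModule.mk' fX (Submodule.Quotient.mk n : X) s = 0 := by
      have := LinearMap.mem_ker.1 hx
      simp only [Function.uncurry_apply_pair, v, LocalizedModule.map, IsLocalizedModule.mapExtendScalars] at this
      exact ((IsLocalizedModule.map_mk' P.asIdeal.primeCompl fN fX _ n s).symm).trans this
    rw [IsLocalizedModule.mk'_eq_zero'] at e
    obtain ⟨c, hc⟩ := e
    rw [Submonoid.smul_def, ← Submodule.Quotient.mk_smul, Submodule.Quotient.mk_eq_zero] at hc
    have h1 : fN ((c : S) • n) ∈ (I' • ⊤ : Submodule SP NP) := by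
      rw [← Submodule.restrictScalars_mem S, Submodule.restrictScalars_map_smul_eq]
      refine Submodule.smul_mono le_rfl ?_ ((Submodule.map_smul'' I ⊤ fN).le (Submodule.mem_map_of_mem hc))
      simp
    have hu : IsUnit (algebraMap S SP ((s : S) * c)) := IsLocalization.map_units SP (s * c)
    rw [Function.uncurry_apply_pair]
    rw [← Submodule.smul_mem_iff_of_isUnit _ hu, map_mul, mul_comm, mul_smul, algebraMap_smul SP (s : S),
      show (s : S) • IsLocalizedModule.mk' fN n s = fN n from IsLocalizedModule.mk'_cancel' fN n s,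
      algebraMap_smul SP, ← map_smul]
    exact h1
  have hI' : I' ≤ nilradical SP := by
    rw [Ideal.map_le_iff_le_comap]
    intro a ha
    exact (mem_nilradical.1 (hI ha)).map (algebraMap S SP)
  have hsupp : Module.support SP NP ⊆ Module.support SP XP := by
    intro Q hQ
    have hle : I' ≤ Q.asIdeal := hI'.trans (nilradical_le_prime Q.asIdeal)
    have h1 : Q ∈ Module.support SP (NP ⧸ (I' • ⊤ : Submodule SP NP)) := by
      rw [Module.support_quotient]
      exact ⟨hQ, hle⟩
    let e := (Submodule.quotEquivOfEq _ _ rfl).trans (v.quotKerEquivOfSurjective hv)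
    have h2 : Q ∈ Module.support SP (NP ⧸ LinearMap.ker v) :=
      Module.support_subset_of_surjective (Submodule.factor hker) (Submodule.factor_surjective hker) h1
    rwa [(v.quotKerEquivOfSurjective hv).support_eq] at h2
  have hd' : ((2 : ℕ) : WithBot ℕ∞) ≤ Module.supportDim SP XP :=
    hd.trans (Order.krullDim_le_of_strictMono (fun x => ⟨x.1, hsupp x.2⟩) fun a b hab => hab)
  have h2 := h P.asIdeal
  rw [min_eq_left hd'] at h2
  exact WithBot.coe_le_coe.1 h2

/-- The double dual commutes with localisation of finite modules over Noetherian rings. -/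
theorem exists_isLocalizedModule_dualDual {R : Type u} [CommRing R] [IsNoetherianRing R] (S : Submonoid R)
    (Rₛ : Type u) [CommRing Rₛ] [Algebra R Rₛ] [IsLocalization S Rₛ] (X X' : Type u) [AddCommGroup X] [Module R X]
    [Module.Finite R X] [AddCommGroup X'] [Module R X'] [Module Rₛ X'] [IsScalarTower R Rₛ X'] (f : X →ₗ[R] X')
    [IsLocalizedModule S f] :
    ∃ g : Module.Dual R (Module.Dual R X) →ₗ[R] Module.Dual Rₛ (Module.Dual Rₛ X'), IsLocalizedModule S g := by
  haveI : Module.FinitePresentation R X := Module.finitePresentation_of_finite R X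
  haveI : Module.FinitePresentation R (Module.Dual R X) := Module.finitePresentation_of_finite R _
  let l := Algebra.linearMap R Rₛ
  let D : Module.Dual R X →ₗ[R] Module.Dual Rₛ X' := IsLocalizedModule.mapExtendScalars S f l Rₛ
  exact ⟨IsLocalizedModule.mapExtendScalars S D l Rₛ, inferInstance⟩

/-- Inside a fibre, a generisation has at least the dimension of its own fibre local ring. -/
theorem fibLocRing_dim_le {R C : Type u} [CommRing R] [CommRing C] [Algebra R C] (n q : Ideal C) [n.IsPrime] [q.IsPrime]
    (hqn : q ≤ n) (hc : q.comap (algebraMap R C) = n.comap (algebraMap R C)) (P : Ideal (EGA4.FibLocRing R C n))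
    [P.IsPrime] (hP : P.comap (algebraMap C (EGA4.FibLocRing R C n)) = q) :
    ringKrullDim (EGA4.FibLocRing R C q) ≤ ringKrullDim (Localization.AtPrime P) := by
  let Sn := Localization.AtPrime n
  let Sq := Localization.AtPrime q
  let Fn := EGA4.FibLocRing R C n
  let Fq := EGA4.FibLocRing R C q
  let In := (n.comap (algebraMap R C)).map (algebraMap R Sn)
  let Iq := (q.comap (algebraMap R C)).map (algebraMap R Sq)
  let ψ : Sn →+* Fq := (Ideal.Quotient.mk Iq).comp (IsLocalization.lift (M := n.primeCompl)
    (g := algebraMap C Sq) fun s => IsLocalization.map_units Sq (⟨s.1, fun h => s.2 (hqn h)⟩ : q.primeCompl))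
  have hψ : ∀ c, ψ (algebraMap C Sn c) = algebraMap C Fq c := fun c => by
    show Ideal.Quotient.mk Iq _ = _
    rw [IsLocalization.lift_eq]
    rfl
  let φ : Fn →+* Fq := Ideal.Quotient.lift In ψ fun a ha => by
    have h : In ≤ RingHom.ker ψ := by
      rw [Ideal.map_le_iff_le_comap]
      intro r hr
      rw [Ideal.mem_comap, RingHom.mem_ker, IsScalarTower.algebraMap_apply R C Sn, hψ,
        ← IsScalarTower.algebraMap_apply, IsScalarTower.algebraMap_apply R Sq Fq, Ideal.Quotient.algebraMap_eq,
        Ideal.Quotient.eq_zero_iff_mem]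
      exact Ideal.mem_map_of_mem _ (hc.ge hr)
    exact h ha
  have hφ : ∀ c, φ (algebraMap C Fn c) = algebraMap C Fq c := fun c => by
    rw [IsScalarTower.algebraMap_apply C Sn Fn, Ideal.Quotient.algebraMap_eq, Ideal.Quotient.lift_mk, hψ]
  have hu : ∀ z : P.primeCompl, IsUnit (φ z) := by
    rintro ⟨z, hz⟩
    obtain ⟨w, rfl⟩ := Ideal.Quotient.mk_surjective z
    obtain ⟨c, s, rfl⟩ := IsLocalization.exists_mk'_eq n.primeCompl w
    have hcq : c ∉ q := fun hcq => hz (by
      have h1 : Ideal.Quotient.mk In (algebraMap C Sn c) ∈ P := hP.ge hcq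
      rw [← IsLocalization.mk'_spec Sn c s, map_mul] at h1
      exact ((‹P.IsPrime›).mem_or_mem h1).resolve_right fun h2 =>
        (‹P.IsPrime›).ne_top (Ideal.eq_top_of_isUnit_mem _ h2 ((IsLocalization.map_units Sn s).map _)))
    have h3 : φ (Ideal.Quotient.mk In (algebraMap C Sn c)) =
        φ (Ideal.Quotient.mk In (IsLocalization.mk' Sn c s)) * φ (Ideal.Quotient.mk In (algebraMap C Sn s)) := by
      rw [← map_mul, ← map_mul, IsLocalization.mk'_spec]
    have h4 : IsUnit (φ (algebraMap C Fn c)) := by
      rw [hφ, IsScalarTower.algebraMap_apply C Sq Fq]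
      exact (IsLocalization.map_units Sq (⟨c, hcq⟩ : q.primeCompl)).map _
    rw [IsScalarTower.algebraMap_apply C Sn Fn, Ideal.Quotient.algebraMap_eq, h3] at h4
    exact isUnit_of_mul_isUnit_left h4
  let φ' : Localization.AtPrime P →+* Fq := IsLocalization.lift (M := P.primeCompl) (g := φ) hu
  have hφ' : φ'.comp (algebraMap C (Localization.AtPrime P)) = algebraMap C Fq := RingHom.ext fun c => by
    rw [RingHom.comp_apply, IsScalarTower.algebraMap_apply C Fn (Localization.AtPrime P), IsLocalization.lift_eq, hφ]
  have hinj : Function.Injective (PrimeSpectrum.comap φ') := fun a b hab => by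
    have hC : Function.Injective (PrimeSpectrum.comap (algebraMap C Fq)) := by
      rw [IsScalarTower.algebraMap_eq C Sq Fq, PrimeSpectrum.comap_comp]
      exact (PrimeSpectrum.localization_comap_injective Sq q.primeCompl).comp
        (PrimeSpectrum.comap_injective_of_surjective _ Ideal.Quotient.mk_surjective)
    refine hC ?_
    rw [← hφ', PrimeSpectrum.comap_comp, Function.comp_apply, Function.comp_apply, hab]
  exact Order.krullDim_le_of_strictMono (PrimeSpectrum.comap φ')
    (Monotone.strictMono_of_injective (fun a b hab => Ideal.comap_mono hab) hinj)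

/-- Serre's condition of a reduction is computed in any model of the localisation. -/
theorem hasSk_reduction_of_fibLoc {A' C' C2 DD' DD : Type u} [CommRing A'] [CommRing C'] [CommRing C2] [Algebra A' C']
    [Algebra C' C2] (q' : Ideal C') [q'.IsPrime] [IsLocalization.AtPrime C2 q'] [AddCommGroup DD'] [Module C' DD']
    [AddCommGroup DD] [Module C2 DD] [Module C' DD] [IsScalarTower C' C2 DD] [Module.Finite C2 DD]
    (g : DD' →ₗ[C'] DD) [IsLocalizedModule q'.primeCompl g] (I2 : Ideal C2)
    (hI : I2 = ((q'.comap (algebraMap A' C')).map (algebraMap A' C')).map (algebraMap C' C2)) (k : ℕ)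
    (h : LocCoh.HasSk k (EGA4.FibLocRing A' C' q') (EGA4.FibLocMod A' C' q' DD')) :
    LocCoh.HasSk k C2 (DD ⧸ (I2 • ⊤ : Submodule C2 DD)) := by
  let L := Localization.AtPrime q'
  let M' := LocalizedModule q'.primeCompl DD'
  let ε : C2 ≃ₐ[C'] L := IsLocalization.algEquiv q'.primeCompl C2 L
  let e0 : DD ≃ₗ[C'] M' :=
    IsLocalizedModule.linearEquiv q'.primeCompl g (LocalizedModule.mkLinearMap q'.primeCompl DD')
  have he0 : ∀ (r : C2) (x : DD), e0 (r • x) = ε r • e0 x := fun r x => by
    obtain ⟨⟨a, s⟩, has⟩ := IsLocalization.surj q'.primeCompl r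
    have hu : IsUnit (algebraMap C' L s) := IsLocalization.map_units L s
    refine hu.smul_left_cancel.1 ?_
    rw [algebraMap_smul, ← map_smul, ← algebraMap_smul C2 (s : C'), ← mul_smul, ← mul_smul, mul_comm, has,
      algebraMap_smul, map_smul, ← ε.commutes (s : C'), ← map_mul, mul_comm, has, ε.commutes, algebraMap_smul]
  let Iq : Ideal L := (q'.comap (algebraMap A' C')).map (algebraMap A' L)
  have hImap : I2.map (ε : C2 →+* L) = Iq := by
    simp only [Iq]
    rw [hI, Ideal.map_map, Ideal.map_map]
    congr 1
    refine RingHom.ext fun r => ?_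
    show ε (algebraMap C' C2 (algebraMap A' C' r)) = algebraMap A' L r
    rw [ε.commutes, ← IsScalarTower.algebraMap_apply]
  have hmap : ∀ x, x ∈ (I2 • ⊤ : Submodule C2 DD) ↔ e0 x ∈ (Iq • ⊤ : Submodule L M') := by
    intro x
    constructor
    · intro hx
      refine Submodule.smul_induction_on hx (fun a ha y _ => ?_) fun y z hy hz => ?_
      · rw [he0]
        exact Submodule.smul_mem_smul (hImap.le (Ideal.mem_map_of_mem _ ha)) Submodule.mem_top
      · rw [map_add]; exact add_mem hy hz
    · intro hx
      rw [← e0.symm_apply_apply x]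
      refine Submodule.smul_induction_on hx (fun a ha y _ => ?_) fun y z hy hz => ?_
      · obtain ⟨b, hb, rfl⟩ := (Ideal.mem_map_iff_of_surjective (ε : C2 →+* L) ε.surjective).1 (hImap.ge ha)
        rw [show (ε : C2 →+* L) b • y = e0 (b • e0.symm y) by rw [he0, LinearEquiv.apply_symm_apply]; rfl,
          LinearEquiv.symm_apply_apply]
        exact Submodule.smul_mem_smul hb Submodule.mem_top
      · rw [map_add]; exact add_mem hy hz
  let ψ : C2 →+* EGA4.FibLocRing A' C' q' := (Ideal.Quotient.mk Iq).comp (ε : C2 →+* L)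
  let E : (DD ⧸ (I2 • ⊤ : Submodule C2 DD)) →+ EGA4.FibLocMod A' C' q' DD' :=
    QuotientAddGroup.map (I2 • ⊤ : Submodule C2 DD).toAddSubgroup
      (Iq • ⊤ : Submodule L M').toAddSubgroup e0.toAddEquiv.toAddMonoidHom fun x hx => (hmap x).1 hx
  have hEmk : ∀ x, E (Submodule.Quotient.mk x) = Submodule.Quotient.mk (e0 x) := fun x => rfl
  have hE : Function.Bijective E := by
    refine ⟨(injective_iff_map_eq_zero _).2 fun z hz => ?_, fun z => ?_⟩
    · obtain ⟨x, rfl⟩ := Submodule.Quotient.mk_surjective _ z
      rw [hEmk, Submodule.Quotient.mk_eq_zero] at hz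
      exact (Submodule.Quotient.mk_eq_zero _).2 ((hmap x).2 hz)
    · obtain ⟨x, rfl⟩ := Submodule.Quotient.mk_surjective _ z
      exact ⟨Submodule.Quotient.mk (e0.symm x), by rw [hEmk, LinearEquiv.apply_symm_apply]⟩
  have hiso : FibreDepth.FibIso C2 (DD ⧸ (I2 • ⊤ : Submodule C2 DD)) (EGA4.FibLocRing A' C' q')
      (EGA4.FibLocMod A' C' q' DD') := by
    refine ⟨ψ, Ideal.Quotient.mk_surjective.comp ε.surjective, AddEquiv.ofBijective E hE, fun r z => ?_⟩
    obtain ⟨x, rfl⟩ := Submodule.Quotient.mk_surjective _ z
    show E (r • Submodule.Quotient.mk x) = _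
    rw [← Submodule.Quotient.mk_smul, hEmk, he0]
    rfl
  exact (hiso.hasSk_iff k).2 h

end Groth.Agent.FibreDualLib
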