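import Groth.Agent.FibreDualLib.BCSk
import Groth.Agent.LocFlat.Fibre
import Groth.Agent.FlatLocus.FreeNhd
import Groth.Agent.PullbackMod.LimFree

/-!
# Local forms of the base change of reflexive powers, and Gorenstein indices
-/

set_option autoImplicit false
set_option linter.style.haveILetI false
set_option linter.unusedSectionVars false
set_option backward.isDefEq.respectTransparency false
set_option maxHeartbeats 1000000

universe u

open CategoryTheory CategoryTheory.Limits AlgebraicGeometry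
open Groth.Agent.DCohLib Groth.Agent.CohBase
open scoped TensorProduct

noncomputable section

namespace Groth.Agent.FibreDualLib

variable {X Y T : Scheme.{u}}

/-- A coherent module with a free rank one stalk is invertible at the point. -/
theorem invertibleAt_of_stalk_equiv [IsLocallyNoetherian Y] {P : Y.Modules} (hP : Coh.IsCoh P) {y : Y}
    (l : Y.presheaf.stalk y ≃ₗ[Y.presheaf.stalk y] P.presheaf.stalk y) : RelCanon.InvertibleAt P y := by
  haveI := hP.1
  obtain ⟨U, n, hU, ⟨e⟩⟩ := FlatLocus.exists_free_nhd P (QCohLib.isFP_of_isCoh _ hP) y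
    (Module.Flat.of_linearEquiv l.symm)
  obtain ⟨l'⟩ := PullbackMod.freeAt_of_restrict_iso P e hU
  obtain rfl : n = 1 := by
    have := (l.trans l').finrank_eq
    rw [Module.finrank_self, Module.finrank_fin_fun] at this
    exact this.symm
  exact ⟨U, hU, ⟨e ≪≫ coproductUniqueIso fun _ : Fin 1 => Coh.structureModule (U : Scheme.{u})⟩⟩

/-- A flat module whose restriction to the fibre is invertible at a point is invertible at the point. -/
theorem invertibleAt_of_fibre (f : Y ⟶ T) [IsLocallyNoetherian Y] [IsLocallyNoetherian T] {P : Y.Modules}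
    (hP : Coh.IsCoh P) (t : T) (w : f.fiber t) (hfl : FlatMod.IsFlatOverAt f P (f.fiberι t w))
    (h : RelCanon.InvertibleAt ((Scheme.Modules.pullback (f.fiberι t)).obj P) w) :
    RelCanon.InvertibleAt P (f.fiberι t w) := by
  haveI := hP.1
  let g := f.fiberι t
  let R := T.presheaf.stalk (f (g w))
  let S := Y.presheaf.stalk (g w)
  let O := (f.fiber t).presheaf.stalk w
  let M := P.presheaf.stalk (g w)
  let N := ((Scheme.Modules.pullback g).obj P).presheaf.stalk w
  obtain ⟨l⟩ := exists_stalk_equiv_of_invertibleAt h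
  haveI : Module.Finite S M := PullbackMod.finite_stalk_of_isFT hP.2 (g w)
  letI : Algebra R S := (f.stalkMap (g w)).hom.toAlgebra
  letI : Module R M := FlatMod.moduleStalkOver f P (g w)
  haveI : IsScalarTower R S M := .of_algebraMap_smul fun _ _ => rfl
  haveI : Module.Flat R M := hfl
  haveI : IsLocalHom (algebraMap R S) := inferInstanceAs (IsLocalHom (f.stalkMap (g w)).hom)
  letI : Algebra S O := (g.stalkMap w).hom.toAlgebra
  letI : Module S N := Module.compHom N (g.stalkMap w).hom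
  haveI : IsScalarTower S O N := .of_algebraMap_smul fun _ _ => rfl
  have hbc : IsBaseChange O (PullbackMod.pullStalkL g P w) := PullbackMod.isBaseChange_pullStalkL g P w
  have hsurj : Function.Surjective (algebraMap S O) := FlatLocus.fiberι_stalkMap_surjective f t w
  have hker : RingHom.ker (algebraMap S O) = (IsLocalRing.maximalIdeal R).map (algebraMap R S) :=
    FlatLocus.ker_fiberι_stalkMap f t w
  obtain ⟨E⟩ := FibreDepth.exists_quot_equiv hsurj _ hbc
  let I : Ideal S := (IsLocalRing.maximalIdeal R).map (algebraMap R S)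
  let F1 : (S ⧸ I) ⊗[S] M ≃ₗ[S] S ⧸ I :=
    (TensorProduct.quotTensorEquivQuotSMul M I).trans <|
      (Submodule.quotEquivOfEq _ _ (show I • (⊤ : Submodule S M) = RingHom.ker (algebraMap S O) • ⊤ by rw [hker])).trans <|
        E.symm.trans <| (l.restrictScalars S).symm.trans <|
          (LinearMap.quotKerEquivOfSurjective (Algebra.linearMap S O) hsurj).symm.trans
            (Submodule.quotEquivOfEq _ _ hker)
  let F2 : (S ⧸ I) ⊗[S] M ≃ₗ[S ⧸ I] S ⧸ I :=
    LinearEquiv.extendScalarsOfSurjective (Ideal.Quotient.mk_surjective (I := I)) F1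
  haveI : Nontrivial M := by
    by_contra hc
    rw [not_nontrivial_iff_subsingleton] at hc
    haveI : Subsingleton ((S ⧸ I) ⊗[S] M) := inferInstance
    haveI : Subsingleton (S ⧸ I) := F2.toEquiv.symm.subsingleton
    haveI : Nontrivial (S ⧸ I) := Ideal.Quotient.nontrivial_iff.2 fun h =>
      (IsLocalRing.maximalIdeal.isMaximal S).ne_top (top_le_iff.1 (h ▸ IsLocalRing.map_maximalIdeal_le (algebraMap R S)))
    exact not_subsingleton (S ⧸ I) ‹_›
  haveI := (LocFlat.free_of_free_fibre (R := R) (S := S) (M := M) (Module.Free.of_equiv F2.symm)).1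
  haveI : Nontrivial O := inferInstance
  have hrank : Module.finrank S M = 1 := by
    have h1 := (hbc.equiv.trans l.symm).finrank_eq
    rwa [Module.finrank_baseChange, Module.finrank_self] at h1
  exact invertibleAt_of_stalk_equiv hP
    ((LinearEquiv.funUnique (Fin 1) S S).symm.trans ((Module.finBasisOfFinrankEq S M hrank).equivFun.symm))

/-- Depth two passes to open subschemes. -/
theorem two_le_depth_restrict [IsLocallyNoetherian Y] (V : Y.Opens) {G : Y.Modules} (hG : Coh.IsCoh G)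
    (o : (V : Scheme.{u})) (h : (2 : ℕ∞) ≤ LocCoh.depth (Y.presheaf.stalk (V.ι o)) (G.presheaf.stalk (V.ι o))) :
    (2 : ℕ∞) ≤ LocCoh.depth ((V : Scheme.{u}).presheaf.stalk o) ((G.restrict V.ι).presheaf.stalk o) := by
  haveI : IsLocallyNoetherian (V : Scheme.{u}) := isLocallyNoetherian_of_isOpenImmersion V.ι
  exact (two_le_depth_pullback_flat V.ι hG o (Flat.stalkMap V.ι o) h).trans_eq
    (CAlgBasics.depth_congr
      ((DCohLib.stkF o).mapIso ((Scheme.Modules.restrictFunctorIsoPullback V.ι).app G).symm).toLinearEquiv)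

variable {A : Type u} [CommRing A] [IsNoetherianRing A] [Y.Over (Spec (CommRingCat.of A))]
  [IsProper (Y ↘ Spec (CommRingCat.of A))]
  {B : Type u} [CommRing B] [IsNoetherianRing B] [X.Over (Spec (CommRingCat.of B))]

/-- Base change of reflexive powers over an open set where they are relatively `(S₂)`. -/
theorem nonempty_restrict_refPowZ_baseChange (d : ℕ) (hS : RelCanon.IsSkMor (Y ↘ Spec (CommRingCat.of A)) 2)
    (hd : Cyc.HasRelDim (Y ↘ Spec (CommRingCat.of A)) d) (ω : Y.Modules)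
    (hω : RelCanon.IsDualizingSheaf A Y d ω) (U : Y.Opens)
    (hU : (U : Set Y) ⊆ RelCanon.gorLocus (Y ↘ Spec (CommRingCat.of A)))
    (hG : ∀ y : Y, y ∉ U →
      (2 : WithBot ℕ∞) ≤ ringKrullDim (((Y ↘ Spec (CommRingCat.of A)).fiber ((Y ↘ Spec (CommRingCat.of A)) y)).presheaf.stalk
        ((Y ↘ Spec (CommRingCat.of A)).asFiber y)))
    (φ : A →+* B) (p : X ⟶ Y)
    (hp : IsPullback p (X ↘ Spec (CommRingCat.of B)) (Y ↘ Spec (CommRingCat.of A)) (Spec.map (CommRingCat.ofHom φ)))
    (ω' : X.Modules) (hω' : RelCanon.IsDualizingSheaf B X d ω') (m : ℤ) (V : Y.Opens)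
    (hV : ∀ y : Y, y ∈ V → RelCanon.RelSkAt (Y ↘ Spec (CommRingCat.of A)) 2 (RelCanon.refPowZ ω m) y) :
    Nonempty (((Scheme.Modules.pullback p).obj (RelCanon.refPowZ ω m)).restrict (p ⁻¹ᵁ V).ι ≅
      (RelCanon.refPowZ ω' m).restrict (p ⁻¹ᵁ V).ι) := by
  let f := Y ↘ Spec (CommRingCat.of A)
  let f' := X ↘ Spec (CommRingCat.of B)
  haveI : IsNoetherianRing (CommRingCat.of A) := inferInstanceAs (IsNoetherianRing A)
  haveI : IsNoetherianRing (CommRingCat.of B) := inferInstanceAs (IsNoetherianRing B)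
  haveI : IsProper f' := MorphismProperty.of_isPullback (P := @IsProper) hp ‹_›
  haveI : IsProper (X ↘ Spec (CommRingCat.of B)) := ‹IsProper f'›
  haveI : IsLocallyNoetherian Y := LocallyOfFiniteType.isLocallyNoetherian f
  haveI : IsLocallyNoetherian X := LocallyOfFiniteType.isLocallyNoetherian f'
  obtain ⟨⟨key⟩, -, -⟩ := refPowZ_baseChange d hS hd ω hω U hU hG φ p hp ω' hω' m
  obtain ⟨-, hcoh, hpow⟩ := refPowZ_restrict_gor d hS hd ω hω U hU
  obtain ⟨-, -, hnt⟩ := hpow m
  obtain ⟨hS', hd'⟩ := isSkMor_baseChange hp 2 d hS hd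
  obtain ⟨hcoh', -, -⟩ := relCanonical_model d hS' hd' ω' hω'
  let P := RelCanon.refPowZ ω m
  let Q := (Scheme.Modules.pullback p).obj P
  let R := RelCanon.refPowZ ω' m
  have hPcoh : Coh.IsCoh P := by
    cases m with
    | ofNat n => exact RefOne.isCoh_dual (RefOne.isCoh_dual (isCoh_tensorPow hcoh n))
    | negSucc n => exact RefOne.isCoh_dual (RefOne.isCoh_dual (isCoh_tensorPow (RefOne.isCoh_dual hcoh) (n + 1)))
  have hQ : Coh.IsCoh Q := PullbackMod.isCoh_pullback p _ hPcoh
  let U' := p ⁻¹ᵁ U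
  let V' := p ⁻¹ᵁ V
  have hRd : ∀ z : X, z ∉ U' → (2 : ℕ∞) ≤ LocCoh.depth (X.presheaf.stalk z) (R.presheaf.stalk z) := by
    intro z hz
    have hO : (2 : ℕ∞) ≤ LocCoh.depth (X.presheaf.stalk z) (X.presheaf.stalk z) :=
      two_le_depth_stalk f' hS' z (codim_baseChange hp z 2 fun y hy => hG y (by rw [hy]; exact hz))
    have key' : ∀ {G : X.Modules}, Coh.IsCoh G →
        (2 : ℕ∞) ≤ LocCoh.depth (X.presheaf.stalk z) ((RefHull.dual G).presheaf.stalk z) := by
      intro G hG
      haveI := hG.1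
      haveI := PullbackMod.finite_stalk_of_isFT hG.2 z
      rw [CAlgBasics.depth_congr (RefOne.dualStalk hG z)]
      exact CAlgBasics.two_le_depth_linearMap (M := G.presheaf.stalk z) (N := X.presheaf.stalk z) hO
    cases m with
    | ofNat n => exact key' (RefOne.isCoh_dual (isCoh_tensorPow hcoh' n))
    | negSucc n => exact key' (RefOne.isCoh_dual (isCoh_tensorPow (RefOne.isCoh_dual hcoh') (n + 1)))
  have hRcoh : Coh.IsCoh R := by
    cases m with
    | ofNat n => exact RefOne.isCoh_dual (RefOne.isCoh_dual (isCoh_tensorPow hcoh' n))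
    | negSucc n => exact RefOne.isCoh_dual (RefOne.isCoh_dual (isCoh_tensorPow (RefOne.isCoh_dual hcoh') (n + 1)))
  haveI : IsLocallyNoetherian (V' : Scheme.{u}) := isLocallyNoetherian_of_isOpenImmersion V'.ι
  let W : (V' : Scheme.{u}).Opens := V'.ι ⁻¹ᵁ U'
  haveI := isIso_unit_of_depth W (DCohMore.isCoh_restrict' hQ V') fun o ho =>
    two_le_depth_restrict V' hQ o (two_le_depth_baseChange hp hPcoh U hnt hG (V'.ι o) (hV _ o.2) ho)
  haveI := isIso_unit_of_depth W (DCohMore.isCoh_restrict' hRcoh V') fun o ho =>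
    two_le_depth_restrict V' hRcoh o (hRd _ ho)
  let sw : ∀ F : X.Modules, (F.restrict V'.ι).restrict W.ι ≅ (F.restrict U'.ι).restrict (V'.ι ∣_ U') := fun F =>
    (ParaFLib.restrictComp W.ι V'.ι F).symm ≪≫
      ParaFLib.restrictCongr (morphismRestrict_ι V'.ι U').symm F ≪≫ ParaFLib.restrictComp (V'.ι ∣_ U') U'.ι F
  exact nonempty_iso_of_restrict W
    (sw Q ≪≫ (Scheme.Modules.restrictFunctor (V'.ι ∣_ U')).mapIso key ≪≫ (sw R).symm)

/-- Invertibility of a relatively `(S₂)` reflexive power is detected on any base change of the fibre. -/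
theorem invertibleAt_refPowZ_of_fibre (d : ℕ) (hS : RelCanon.IsSkMor (Y ↘ Spec (CommRingCat.of A)) 2)
    (hd : Cyc.HasRelDim (Y ↘ Spec (CommRingCat.of A)) d) (ω : Y.Modules)
    (hω : RelCanon.IsDualizingSheaf A Y d ω) (U : Y.Opens)
    (hU : (U : Set Y) ⊆ RelCanon.gorLocus (Y ↘ Spec (CommRingCat.of A)))
    (hG : ∀ y : Y, y ∉ U →
      (2 : WithBot ℕ∞) ≤ ringKrullDim (((Y ↘ Spec (CommRingCat.of A)).fiber ((Y ↘ Spec (CommRingCat.of A)) y)).presheaf.stalk
        ((Y ↘ Spec (CommRingCat.of A)).asFiber y)))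
    (y : Y) (ωy : ((Y ↘ Spec (CommRingCat.of A)).fiber ((Y ↘ Spec (CommRingCat.of A)) y)).Modules)
    (hωy : @RelCanon.IsDualizingSheaf ((Spec (CommRingCat.of A)).residueField ((Y ↘ Spec (CommRingCat.of A)) y)) _
      ((Y ↘ Spec (CommRingCat.of A)).fiber ((Y ↘ Spec (CommRingCat.of A)) y))
      ⟨(Y ↘ Spec (CommRingCat.of A)).fiberToSpecResidueField ((Y ↘ Spec (CommRingCat.of A)) y)⟩ d ωy)
    (m : ℤ) (V : Y.Opens) (hy : y ∈ V)
    (hV : ∀ y' : Y, y' ∈ V → RelCanon.RelSkAt (Y ↘ Spec (CommRingCat.of A)) 2 (RelCanon.refPowZ ω m) y')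
    (h : RelCanon.InvertibleAt (RelCanon.refPowZ ωy m) ((Y ↘ Spec (CommRingCat.of A)).asFiber y)) :
    RelCanon.InvertibleAt (RelCanon.refPowZ ω m) y := by
  let f := Y ↘ Spec (CommRingCat.of A)
  haveI : IsNoetherianRing (CommRingCat.of A) := inferInstanceAs (IsNoetherianRing A)
  haveI : IsLocallyNoetherian Y := LocallyOfFiniteType.isLocallyNoetherian f
  let t := f y
  obtain ⟨φt, hφt⟩ := exists_fibre_hom f t
  let κ := (Spec (CommRingCat.of A)).residueField t
  letI : (f.fiber t).Over (Spec (CommRingCat.of κ)) := ⟨f.fiberToSpecResidueField t⟩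
  haveI : IsNoetherianRing κ := inferInstance
  let w := f.asFiber y
  have hw : f.fiberι t w = y := f.fiberι_asFiber y
  obtain ⟨e⟩ := nonempty_restrict_refPowZ_baseChange d hS hd ω hω U hU hG φt (f.fiberι t) hφt ωy hωy m V hV
  obtain ⟨W, hwW, ⟨i⟩⟩ := h
  let V' := f.fiberι t ⁻¹ᵁ V
  have hwV : w ∈ V' := show f.fiberι t w ∈ V by rw [hw]; exact hy
  let Q := (Scheme.Modules.pullback (f.fiberι t)).obj (RelCanon.refPowZ ω m)
  let R := RelCanon.refPowZ ωy m
  let sw : ∀ F : (f.fiber t).Modules, F.restrict (W ⊓ V').ι ≅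
      (F.restrict V'.ι).restrict ((f.fiber t).homOfLE (inf_le_right : W ⊓ V' ≤ V')) := fun F =>
    ParaFLib.restrictCongr ((f.fiber t).homOfLE_ι _).symm F ≪≫ ParaFLib.restrictComp _ V'.ι F
  have hQ : RelCanon.InvertibleAt Q w :=
    ⟨W ⊓ V', ⟨hwW, hwV⟩, ⟨sw Q ≪≫ (Scheme.Modules.restrictFunctor _).mapIso e ≪≫ (sw R).symm ≪≫
      ParaFLib.restrictCongr ((f.fiber t).homOfLE_ι (inf_le_left : W ⊓ V' ≤ W)).symm R ≪≫
      ParaFLib.restrictComp _ W.ι R ≪≫ (Scheme.Modules.restrictFunctor _).mapIso i ≪≫ DCohLib.restrictUnit _⟩⟩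
  obtain ⟨-, hcoh, -⟩ := refPowZ_restrict_gor d hS hd ω hω U hU
  have hPcoh : Coh.IsCoh (RelCanon.refPowZ ω m) := by
    cases m with
    | ofNat n => exact RefOne.isCoh_dual (RefOne.isCoh_dual (isCoh_tensorPow hcoh n))
    | negSucc n => exact RefOne.isCoh_dual (RefOne.isCoh_dual (isCoh_tensorPow (RefOne.isCoh_dual hcoh) (n + 1)))
  have := invertibleAt_of_fibre f hPcoh t w (by rw [hw]; exact (hV y hy).1) hQ
  rwa [hw] at this

end Groth.Agent.FibreDualLib
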