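import Groth.Agent.FibreDualLib.ArtinStalk
import Groth.Agent.FibreDualLib.BCLocal
import Groth.Agent.ShStabLib.Noeth
import Groth.Agent.CubeLib.Cube
import Groth.Agent.DevLib.Closed
import Groth.Agent.EGA4Dim.SnFormal

/-!
# The infinitesimal criterion for relative `(S₂)` of reflexive powers
-/

set_option autoImplicit false
set_option linter.style.haveILetI false
set_option linter.unusedSectionVars false
set_option backward.isDefEq.respectTransparency false
set_option backward.isDefEq.respectTransparency.types false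
set_option maxHeartbeats 1600000
set_option synthInstance.maxHeartbeats 100000

universe u

open CategoryTheory CategoryTheory.Limits AlgebraicGeometry IsLocalRing TopologicalSpace
open scoped TensorProduct

noncomputable section

namespace Groth.Agent.FibreDualLib

variable {A : Type u} [CommRing A] [IsNoetherianRing A]

local notation "S₀" => Spec (CommRingCat.of A)

local instance stalkAlgOf (q : S₀) : Algebra A ((Spec (CommRingCat.of A)).presheaf.stalk q) :=
  StructureSheaf.stalkAlgebra A q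

local instance stalkAlgOf_isLocalization (q : S₀) :
    IsLocalization.AtPrime ((Spec (CommRingCat.of A)).presheaf.stalk q) q.asIdeal :=
  StructureSheaf.IsLocalization.to_stalk A q

/-- The fibre ideal is generated by the prime of the base point. -/
theorem fibreIdeal_eq_map_baseStalk {X : Scheme.{u}} (f : X ⟶ S₀) (x : X) :
    FibreDepth.fibreIdeal f x = (f x).asIdeal.map (FormalAmple.baseStalk f x).hom := by
  have h : (f x).asIdeal.map (algebraMap A ((Spec (CommRingCat.of A)).presheaf.stalk (f x))) =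
      maximalIdeal ((Spec (CommRingCat.of A)).presheaf.stalk (f x)) :=
    IsLocalization.AtPrime.map_eq_maximalIdeal (f x).asIdeal ((Spec (CommRingCat.of A)).presheaf.stalk (f x))
  rw [baseStalk_eq, FibreDepth.fibreIdeal, ← h, Ideal.map_map]

variable {Y : Scheme.{u}} {A' : Type u} [CommRing A'] [IsArtinianRing A'] [IsLocalRing A'] {φ : A →+* A'}
  {f : Y ⟶ Spec (CommRingCat.of A)} {Y' : Scheme.{u}} {p : Y' ⟶ Y} {f' : Y' ⟶ Spec (CommRingCat.of A')}

/-- The fibre ideal of the base change is generated by that of the point below. -/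
theorem fibreIdeal_baseChange (hp : IsPullback p f' f (Spec.map (CommRingCat.ofHom φ))) (z : Y')
    (ψ : (Spec (CommRingCat.of A)).presheaf.stalk (f (p z)) →+* A') (hψ : Function.Surjective ψ)
    (hφ : ψ.comp (algebraMap A ((Spec (CommRingCat.of A)).presheaf.stalk (f (p z)))) = φ) :
    FibreDepth.fibreIdeal f' z = (FibreDepth.fibreIdeal f (p z)).map (p.stalkMap z).hom := by
  have h : (f (p z)).asIdeal.map (algebraMap A ((Spec (CommRingCat.of A)).presheaf.stalk (f (p z)))) =
      maximalIdeal ((Spec (CommRingCat.of A)).presheaf.stalk (f (p z))) :=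
    IsLocalization.AtPrime.map_eq_maximalIdeal (f (p z)).asIdeal ((Spec (CommRingCat.of A)).presheaf.stalk (f (p z)))
  have hq : (f' z).asIdeal = (f (p z)).asIdeal.map φ := by
    rw [← hφ, ← Ideal.map_map, h, IsLocalRing.map_maximalIdeal_of_surjective ψ hψ]
    exact IsLocalRing.eq_maximalIdeal (IsArtinianRing.isMaximal_of_isPrime _)
  rw [fibreIdeal_eq_map_baseStalk f, fibreIdeal_eq_map_baseStalk f', hq, Ideal.map_map, Ideal.map_map]
  congr 1
  refine RingHom.ext fun a => ?_
  show FormalAmple.baseStalk f' z ((CommRingCat.ofHom φ) a) = p.stalkMap z (FormalAmple.baseStalk f (p z) a)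
  rw [FormalAmple.stalkMap_baseStalk, show p ≫ f = f' ≫ Spec.map (CommRingCat.ofHom φ) from hp.w,
    FormalAmple.baseStalk_comp]

/-- The map of local rings is surjective with kernel generated by that of `ψ`. -/
theorem stalkMap_artinian (hp : IsPullback p f' f (Spec.map (CommRingCat.ofHom φ))) (z : Y')
    (ψ : (Spec (CommRingCat.of A)).presheaf.stalk (f (p z)) →+* A') (hψ : Function.Surjective ψ)
    (hφ : ψ.comp (algebraMap A ((Spec (CommRingCat.of A)).presheaf.stalk (f (p z)))) = φ) :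
    Function.Surjective (p.stalkMap z) ∧
      RingHom.ker (p.stalkMap z).hom = (RingHom.ker ψ).map (f.stalkMap (p z)).hom := by
  let L := (Spec (CommRingCat.of A)).presheaf.stalk (f (p z))
  haveI : IsPreimmersion (Spec.map (CommRingCat.ofHom φ)) := by
    rw [← hφ, CommRingCat.ofHom_comp, Spec.map_comp]
    haveI : IsClosedImmersion (Spec.map (CommRingCat.ofHom ψ)) := IsClosedImmersion.spec_of_surjective _ hψ
    haveI : IsPreimmersion (Spec.map (CommRingCat.ofHom (algebraMap A L))) :=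
      IsPreimmersion.of_isLocalization (f (p z)).asIdeal.primeCompl
    infer_instance
  refine ⟨(surjective_stalkMap_of_isPullback hp z).1, ?_⟩
  have h1 := ker_stalkMap_of_isPullback_loc hp z ψ hψ hφ
  rw [h1, baseStalk_eq, ← Ideal.map_map]
  congr 1
  show (RingHom.ker φ).map (algebraMap A L) = _
  rw [← hφ, ← RingHom.comap_ker]
  exact IsLocalization.map_under (f (p z)).asIdeal.primeCompl L _

variable [Y.Over (Spec (CommRingCat.of A))] [IsProper (Y ↘ Spec (CommRingCat.of A))]

/-- Basic properties of a reflexive power. -/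
theorem refPowZ_props (d : ℕ) (hS : RelCanon.IsSkMor (Y ↘ S₀) 2) (hd : Cyc.HasRelDim (Y ↘ S₀) d) (ω : Y.Modules)
    (hω : RelCanon.IsDualizingSheaf A Y d ω) (U : Y.Opens)
    (hU : (U : Set Y) ⊆ RelCanon.gorLocus (Y ↘ S₀)) (m : ℕ) :
    Coh.IsCoh (RelCanon.refPowZ ω m) ∧ Coh.IsCoh (CohB1.tensorPow ω m) ∧
      (∀ v : Y, v ∈ U → RelCanon.InvertibleAt (RelCanon.refPowZ ω m) v) ∧
      ∀ v : Y, v ∈ U → Nontrivial ((RelCanon.refPowZ ω m).presheaf.stalk v) := by
  haveI : IsNoetherianRing (CommRingCat.of A) := inferInstanceAs (IsNoetherianRing A)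
  haveI : IsLocallyNoetherian Y := LocallyOfFiniteType.isLocallyNoetherian (Y ↘ S₀)
  obtain ⟨-, hcoh, hpow⟩ := refPowZ_restrict_gor d hS hd ω hω U hU
  obtain ⟨-, hinv, hnt⟩ := hpow m
  refine ⟨RefOne.isCoh_dual (RefOne.isCoh_dual (isCoh_tensorPow hcoh m)), isCoh_tensorPow hcoh m, fun v hv => ?_, hnt⟩
  obtain ⟨V, hvV, ⟨i⟩⟩ := hinv ⟨v, hv⟩
  exact ⟨U.ι ''ᵁ V, ⟨_, hvV, rfl⟩, ⟨restrictImageIso U V _ i⟩⟩

variable [Y'.Over (Spec (CommRingCat.of A'))]

/-- The reflexive hulls over an infinitesimal neighbourhood have depth two along the bad set. -/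
theorem two_le_idealDepth_dualDual_of_sk (d : ℕ) (hS : RelCanon.IsSkMor (Y ↘ S₀) 2)
    (hd : Cyc.HasRelDim (Y ↘ S₀) d) (ω : Y.Modules)
    (hω : RelCanon.IsDualizingSheaf A Y d ω) (U : Y.Opens)
    (hU : (U : Set Y) ⊆ RelCanon.gorLocus (Y ↘ S₀))
    (hG : ∀ y : Y, y ∉ U →
      (2 : WithBot ℕ∞) ≤ ringKrullDim (((Y ↘ S₀).fiber ((Y ↘ S₀) y)).presheaf.stalk ((Y ↘ S₀).asFiber y)))
    (m : ℕ) (hp : IsPullback p (Y' ↘ Spec (CommRingCat.of A')) (Y ↘ S₀) (Spec.map (CommRingCat.ofHom φ)))
    (ω' : Y'.Modules) (hω' : RelCanon.IsDualizingSheaf A' Y' d ω') (z : Y') (x : Y) (hx : p z = x)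
    (ψ : (Spec (CommRingCat.of A)).presheaf.stalk ((Y ↘ S₀) x) →+* A') (hψ : Function.Surjective ψ)
    (hφ : ψ.comp (algebraMap A ((Spec (CommRingCat.of A)).presheaf.stalk ((Y ↘ S₀) x))) = φ)
    (hsk : RelCanon.SkAt 2 ((Scheme.Modules.pullback ((Y' ↘ Spec (CommRingCat.of A')).fiberι
      ((Y' ↘ Spec (CommRingCat.of A')) z))).obj (RelCanon.refPowZ ω' m)) ((Y' ↘ Spec (CommRingCat.of A')).asFiber z))
    (C : Type u) [CommRing C] [Algebra (Y.presheaf.stalk x) C]
    (hsurj : Function.Surjective (algebraMap (Y.presheaf.stalk x) C))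
    (hker : RingHom.ker (algebraMap (Y.presheaf.stalk x) C) = (RingHom.ker ψ).map ((Y ↘ S₀).stalkMap x).hom)
    (hC2 : 2 ≤ LocCoh.idealDepth ((idealOff U x).map (algebraMap (Y.presheaf.stalk x) C)) C) :
    2 ≤ LocCoh.idealDepth ((idealOff U x).map (algebraMap (Y.presheaf.stalk x) C))
      (Module.Dual C (Module.Dual C (C ⊗[Y.presheaf.stalk x] (RelCanon.refPowZ ω m).presheaf.stalk x)) ⧸
        ((FibreDepth.fibreIdeal (Y ↘ S₀) x).map (algebraMap (Y.presheaf.stalk x) C) • ⊤ :
          Submodule C (Module.Dual C (Module.Dual C (C ⊗[Y.presheaf.stalk x] (RelCanon.refPowZ ω m).presheaf.stalk x))))) := by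
  subst hx
  let f₀ := Y ↘ S₀
  let f₁ := Y' ↘ Spec (CommRingCat.of A')
  haveI : IsNoetherianRing (CommRingCat.of A) := inferInstanceAs (IsNoetherianRing A)
  haveI : IsNoetherianRing (CommRingCat.of A') := inferInstanceAs (IsNoetherianRing A')
  haveI : IsProper f₁ := MorphismProperty.of_isPullback (P := @IsProper) hp ‹_›
  haveI : IsLocallyNoetherian Y := LocallyOfFiniteType.isLocallyNoetherian f₀
  haveI : IsLocallyNoetherian Y' := LocallyOfFiniteType.isLocallyNoetherian f₁
  obtain ⟨hGcoh, -, -, -⟩ := refPowZ_props d hS hd ω hω U hU m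
  haveI := hGcoh.1
  let G := RelCanon.refPowZ ω m
  let B := Y.presheaf.stalk (p z)
  let O' := Y'.presheaf.stalk z
  let F := G.presheaf.stalk (p z)
  haveI : Module.Finite B F := PullbackMod.finite_stalk_of_isFT hGcoh.2 (p z)
  obtain ⟨hps, hpk⟩ := stalkMap_artinian hp z ψ hψ hφ
  letI : Algebra B O' := (p.stalkMap z).hom.toAlgebra
  have hkerO : RingHom.ker (algebraMap B O') = RingHom.ker (algebraMap B C) := hpk.trans hker.symm
  let ε : C →+* O' := RingHom.liftOfSurjective (algebraMap B C) hsurj ⟨algebraMap B O', hkerO.ge⟩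
  have hε : ∀ b, ε (algebraMap B C b) = algebraMap B O' b :=
    RingHom.liftOfRightInverse_comp_apply (algebraMap B C) (Function.surjInv hsurj)
      (Function.rightInverse_surjInv hsurj) ⟨algebraMap B O', hkerO.ge⟩
  have hεbij : Function.Bijective ε := by
    refine ⟨(injective_iff_map_eq_zero _).2 fun c hc => ?_, fun w => ?_⟩
    · obtain ⟨b, rfl⟩ := hsurj c
      rw [hε] at hc
      exact RingHom.mem_ker.1 (hkerO.le (RingHom.mem_ker.2 hc))
    · obtain ⟨b, rfl⟩ := hps w
      exact ⟨algebraMap B C b, hε b⟩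
  letI : Algebra C O' := ε.toAlgebra
  haveI : IsScalarTower B C O' := .of_algebraMap_eq fun b => (hε b).symm
  let Q := (Scheme.Modules.pullback p).obj G
  have hQ : Coh.IsCoh Q := PullbackMod.isCoh_pullback p _ hGcoh
  let N := Q.presheaf.stalk z
  haveI : Module.Finite O' N := PullbackMod.finite_stalk_of_isFT hQ.2 z
  letI : Module B N := Module.compHom N (p.stalkMap z).hom
  haveI : IsScalarTower B O' N := .of_algebraMap_smul fun _ _ => rfl
  letI : Module C N := Module.compHom N ε
  haveI : IsScalarTower C O' N := .of_algebraMap_smul fun _ _ => rfl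
  haveI : IsScalarTower B C N := .of_algebraMap_smul fun b n => by
    show ε (algebraMap B C b) • n = b • n
    rw [hε]; rfl
  have hbc : IsBaseChange O' (PullbackMod.pullStalkL p G z) := PullbackMod.isBaseChange_pullStalkL p G z
  have h1 := TensorProduct.isBaseChange B F C
  let f0 : C ⊗[B] F →ₗ[C] N := h1.lift (PullbackMod.pullStalkL p G z)
  have hf0 : IsBaseChange O' f0 := IsBaseChange.of_comp h1 (by rw [h1.lift_comp]; exact hbc)
  haveI : IsNoetherianRing C := isNoetherianRing_of_surjective B C (algebraMap B C) hsurj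
  haveI : IsLocalization (⊥ : Submonoid C) O' := by
    haveI : IsLocalization (⊥ : Submonoid C) C := IsLocalization.at_units fun s hs => by
      rw [Submonoid.mem_bot] at hs
      exact hs ▸ isUnit_one
    exact IsLocalization.isLocalization_of_algEquiv ⊥ (AlgEquiv.ofBijective (Algebra.ofId C O') hεbij)
  haveI : IsLocalizedModule (⊥ : Submonoid C) f0 := (isLocalizedModule_iff_isBaseChange ⊥ O' f0).2 hf0
  obtain ⟨g, hg⟩ := exists_isLocalizedModule_dualDual (⊥ : Submonoid C) O' (C ⊗[B] F) N f0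
  haveI := hg
  let DD := Module.Dual C (Module.Dual C (C ⊗[B] F))
  haveI : IsLocalizedModule (⊥ : Submonoid C) (LinearMap.id : DD →ₗ[C] DD) := by
    refine ⟨fun s => ?_, fun y => ⟨⟨y, 1⟩, one_smul _ _⟩, fun h => ⟨1, by rw [one_smul, one_smul]; exact h⟩⟩
    rw [(Submonoid.mem_bot.1 s.2), map_one]
    exact isUnit_one
  let e1 : DD ≃ₗ[C] Module.Dual O' (Module.Dual O' N) := IsLocalizedModule.linearEquiv ⊥ LinearMap.id g
  obtain ⟨e2⟩ := exists_stalk_ddual_equiv hQ z
  obtain ⟨e3⟩ := (refPowZ_baseChange d hS hd ω hω U hU hG φ p hp ω' hω' (m : ℤ)).2.1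
  obtain ⟨hS', hd'⟩ := isSkMor_baseChange hp 2 d hS hd
  let P' := RelCanon.refPowZ ω' m
  have hP'coh : Coh.IsCoh P' := ShStabLib.isCoh_of_iso e3 (RefOne.isCoh_dual (RefOne.isCoh_dual hQ))
  let M' := P'.presheaf.stalk z
  let e4 : Module.Dual O' (Module.Dual O' N) ≃ₗ[O'] M' :=
    e2.symm.trans ((DCohLib.stkF z).mapIso e3).toLinearEquiv
  have hsk' := (skAt_fibre_iff f₁ 2 hP'coh z).1 hsk
  have hfi : FibreDepth.fibreIdeal f₁ z = ((FibreDepth.fibreIdeal f₀ (p z)).map (algebraMap B C)).map ε := by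
    rw [fibreIdeal_baseChange hp z ψ hψ hφ, Ideal.map_map]
    congr 1
    exact RingHom.ext fun b => (hε b).symm
  let I2 : Ideal C := (FibreDepth.fibreIdeal f₀ (p z)).map (algebraMap B C)
  have hI2 : I2 ≤ nilradical C := by
    obtain ⟨n, hn⟩ := IsArtinianRing.isNilpotent_jacobson_bot (R := A')
    rw [IsLocalRing.jacobson_eq_maximalIdeal ⊥ bot_ne_top] at hn
    show ((maximalIdeal _).map (f₀.stalkMap (p z)).hom).map (algebraMap B C) ≤ _
    rw [Ideal.map_map, Ideal.map_le_iff_le_comap]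
    intro r hr
    refine mem_nilradical.2 ⟨n, ?_⟩
    rw [← map_pow, RingHom.comp_apply]
    refine (hker.ge (Ideal.mem_map_of_mem _ ?_) :)
    rw [RingHom.mem_ker, map_pow]
    have h2 : ψ r ^ n ∈ maximalIdeal A' ^ n := Ideal.pow_mem_pow (by
      rw [← IsLocalRing.map_maximalIdeal_of_surjective ψ hψ]
      exact Ideal.mem_map_of_mem _ hr) n
    rwa [hn, Ideal.zero_eq_bot, Ideal.mem_bot] at h2
  haveI : Module.FinitePresentation C (C ⊗[B] F) := Module.finitePresentation_of_finite C _
  haveI : Module.Finite C (Module.Dual C (C ⊗[B] F)) := inferInstance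
  haveI : Module.FinitePresentation C (Module.Dual C (C ⊗[B] F)) := Module.finitePresentation_of_finite C _
  refine two_le_idealDepth_of_hasSk _ I2 hI2 DD (FibDepthLib.two_le_idealDepth_dual hC2 _) ?_
  let e5 : DD ≃+ M' := e1.toAddEquiv.trans e4.toAddEquiv
  have he5 : ∀ (c : C) (v : DD), e5 (c • v) = ε c • e5 v := fun c v => by
    show e4 (e1 (c • v)) = ε c • e4 (e1 v)
    rw [map_smul, ← algebraMap_smul O' c (e1 v), map_smul]
    rfl
  have hmap : ∀ v, v ∈ (I2 • ⊤ : Submodule C DD) ↔ e5 v ∈ (FibreDepth.fibreIdeal f₁ z • ⊤ : Submodule O' M') := by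
    intro v
    constructor
    · intro hv
      refine Submodule.smul_induction_on hv (fun a ha w _ => ?_) fun w w' hw hw' => ?_
      · rw [he5, hfi]
        exact Submodule.smul_mem_smul (Ideal.mem_map_of_mem _ ha) Submodule.mem_top
      · rw [map_add]; exact add_mem hw hw'
    · intro hv
      rw [← e5.symm_apply_apply v]
      refine Submodule.smul_induction_on hv (fun a ha w _ => ?_) fun w w' hw hw' => ?_
      · rw [hfi] at ha
        obtain ⟨b, hb, rfl⟩ := (Ideal.mem_map_iff_of_surjective ε hεbij.2).1 ha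
        rw [show ε b • w = e5 (b • e5.symm w) by rw [he5, AddEquiv.apply_symm_apply], AddEquiv.symm_apply_apply]
        exact Submodule.smul_mem_smul hb Submodule.mem_top
      · rw [map_add]; exact add_mem hw hw'
  let E : (DD ⧸ (I2 • ⊤ : Submodule C DD)) →+ FibreDepth.fibreStalkMod f₁ P' z :=
    QuotientAddGroup.map (I2 • ⊤ : Submodule C DD).toAddSubgroup
      (FibreDepth.fibreIdeal f₁ z • ⊤ : Submodule O' M').toAddSubgroup e5.toAddMonoidHom fun v hv => (hmap v).1 hv
  have hEmk : ∀ v, E (Submodule.Quotient.mk v) = Submodule.Quotient.mk (e5 v) := fun v => rfl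
  have hE : Function.Bijective E := by
    refine ⟨(injective_iff_map_eq_zero _).2 fun w hw => ?_, fun w => ?_⟩
    · obtain ⟨v, rfl⟩ := Submodule.Quotient.mk_surjective _ w
      rw [hEmk, Submodule.Quotient.mk_eq_zero] at hw
      exact (Submodule.Quotient.mk_eq_zero _).2 ((hmap v).2 hw)
    · obtain ⟨v, rfl⟩ := Submodule.Quotient.mk_surjective _ w
      exact ⟨Submodule.Quotient.mk (e5.symm v), by rw [hEmk, AddEquiv.apply_symm_apply]⟩
  have hiso : FibreDepth.FibIso C (DD ⧸ (I2 • ⊤ : Submodule C DD)) O' (FibreDepth.fibreStalkMod f₁ P' z) := by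
    refine ⟨ε, hεbij.2, AddEquiv.ofBijective E hE, fun r w => ?_⟩
    obtain ⟨v, rfl⟩ := Submodule.Quotient.mk_surjective _ w
    show E (r • Submodule.Quotient.mk v) = _
    rw [← Submodule.Quotient.mk_smul, hEmk, he5]
    rfl
  exact (hiso.hasSk_iff 2).2 hsk'

/-- The reduction of a local ring of a flat `(S₂)` family has depth two along the bad set. -/
theorem two_le_idealDepth_fibMod_self (hS : RelCanon.IsSkMor (Y ↘ S₀) 2) (U : Y.Opens)
    (hG : ∀ y : Y, y ∉ U →
      (2 : WithBot ℕ∞) ≤ ringKrullDim (((Y ↘ S₀).fiber ((Y ↘ S₀) y)).presheaf.stalk ((Y ↘ S₀).asFiber y)))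
    (x : Y) :
    2 ≤ LocCoh.idealDepth (idealOff U x) ((Y.presheaf.stalk x : Type u) ⧸
      (FibreDepth.fibreIdeal (Y ↘ S₀) x • ⊤ : Submodule (Y.presheaf.stalk x) (Y.presheaf.stalk x))) := by
  let f₀ := Y ↘ S₀
  haveI : IsNoetherianRing (CommRingCat.of A) := inferInstanceAs (IsNoetherianRing A)
  haveI : IsLocallyNoetherian Y := LocallyOfFiniteType.isLocallyNoetherian f₀
  have hnt : ∀ y : Y, y ∈ U → Nontrivial ((Coh.structureModule Y).presheaf.stalk y) := fun y _ =>
    (RefOne.oEquiv y).toEquiv.symm.nontrivial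
  have h := two_le_idealDepth_fibreStalkMod f₀ (DevLib.isCoh_structureModule Y) U hnt hG x
    (relSk_structureModule f₀ hS x).2
  refine h.trans_eq (CAlgBasics.idealDepth_congr (Submodule.Quotient.equiv _ _ (RefOne.oEquiv x).symm ?_))
  rw [Submodule.map_smul'', Submodule.map_top, LinearEquiv.range]

/-- The infinitesimal criterion for relative `(S₂)` of a reflexive power at a point. -/
theorem relSkAt_refPowZ_of_artinian (d : ℕ) (hS : RelCanon.IsSkMor (Y ↘ S₀) 2)
    (hd : Cyc.HasRelDim (Y ↘ S₀) d) (ω : Y.Modules)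
    (hω : RelCanon.IsDualizingSheaf A Y d ω) (U : Y.Opens)
    (hU : (U : Set Y) ⊆ RelCanon.gorLocus (Y ↘ S₀))
    (hG : ∀ y : Y, y ∉ U →
      (2 : WithBot ℕ∞) ≤ ringKrullDim (((Y ↘ S₀).fiber ((Y ↘ S₀) y)).presheaf.stalk ((Y ↘ S₀).asFiber y)))
    (m : ℕ) (y : Y)
    (H : ∀ (A' : Type u) [CommRing A'] [IsArtinianRing A'] [IsLocalRing A']
      (ψ : (Spec (CommRingCat.of A)).presheaf.stalk ((Y ↘ S₀) y) →+* A'), Function.Surjective ψ →
      ∀ (Y' : Scheme.{u}) [Y'.Over (Spec (CommRingCat.of A'))] (p : Y' ⟶ Y),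
      IsPullback p (Y' ↘ Spec (CommRingCat.of A')) (Y ↘ S₀)
        (Spec.map (CommRingCat.ofHom (ψ.comp (algebraMap A ((Spec (CommRingCat.of A)).presheaf.stalk ((Y ↘ S₀) y)))))) →
      ∀ ω' : Y'.Modules, RelCanon.IsDualizingSheaf A' Y' d ω' → ∀ z : Y', p z = y →
        RelCanon.RelSkAt (Y' ↘ Spec (CommRingCat.of A')) 2 (RelCanon.refPowZ ω' m) z) :
    RelCanon.RelSkAt (Y ↘ S₀) 2 (RelCanon.refPowZ ω m) y := by
  let f₀ := Y ↘ S₀
  haveI : IsNoetherianRing (CommRingCat.of A) := inferInstanceAs (IsNoetherianRing A)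
  haveI : IsLocallyNoetherian Y := LocallyOfFiniteType.isLocallyNoetherian f₀
  haveI := hS.1
  obtain ⟨hGcoh, hTcoh, hGinv, hGnt⟩ := refPowZ_props d hS hd ω hω U hU m
  haveI := hGcoh.1
  let G := RelCanon.refPowZ ω m
  let R := (Spec (CommRingCat.of A)).presheaf.stalk (f₀ y)
  let B := Y.presheaf.stalk y
  let F := G.presheaf.stalk y
  let J := idealOff U y
  letI : Algebra R B := (f₀.stalkMap y).hom.toAlgebra
  haveI : Module.Flat R B := Flat.stalkMap f₀ y
  haveI : IsLocalHom (algebraMap R B) := inferInstanceAs (IsLocalHom (f₀.stalkMap y).hom)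
  letI : Module R F := FlatMod.moduleStalkOver f₀ G y
  haveI : IsScalarTower R B F := .of_algebraMap_smul fun _ _ => rfl
  haveI : Module.Finite B F := PullbackMod.finite_stalk_of_isFT hGcoh.2 y
  have hB0 : 2 ≤ LocCoh.idealDepth J (EGA4.FibMod R B B) := two_le_idealDepth_fibMod_self hS U hG y
  have hB2 : 2 ≤ LocCoh.idealDepth J B := by
    refine (two_le_idealDepth_of_points (DevLib.isCoh_structureModule Y) U y fun v _ hv =>
      (two_le_depth_stalk f₀ hS v (hG v hv)).trans_eq (CAlgBasics.depth_congr (RefOne.oEquiv v))).trans_eq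
      (CAlgBasics.idealDepth_congr (RefOne.oEquiv y).symm)
  have hFU : ∀ q : PrimeSpectrum B, ¬ J ≤ q.asIdeal →
      Module.Free (Localization.AtPrime q.asIdeal) (LocalizedModule q.asIdeal.primeCompl F) :=
    free_localization_stalk U y hGinv
  haveI := hTcoh.1
  obtain ⟨eDD⟩ := exists_stalk_ddual_equiv hTcoh y
  haveI : Module.Finite B ((CohB1.tensorPow ω m).presheaf.stalk y) := PullbackMod.finite_stalk_of_isFT hTcoh.2 y
  haveI := Module.finitePresentation_of_finite B ((CohB1.tensorPow ω m).presheaf.stalk y)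
  haveI : Module.Finite B (Module.Dual B ((CohB1.tensorPow ω m).presheaf.stalk y)) := inferInstance
  haveI := Module.finitePresentation_of_finite B F
  haveI : Module.Finite B (Module.Dual B F) := inferInstance
  haveI := Module.finitePresentation_of_finite B (Module.Dual B F)
  haveI : Module.Finite B (Module.Dual B (Module.Dual B F)) := inferInstance
  have hF2 : 2 ≤ LocCoh.idealDepth J F :=
    (FibDepthLib.two_le_idealDepth_dual hB2 _).trans_eq (CAlgBasics.idealDepth_congr eDD.symm)
  haveI : Module.IsReflexive B F := ⟨FibDepthLib.bijective_of_isoOff (FibDepthLib.isoOff_eval F hFU) hF2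
    (le_trans one_le_two (FibDepthLib.two_le_idealDepth_dual hB2 _))⟩
  have hk : ∀ (k : ℕ) (C : Type u) [CommRing C] [Algebra B C], Function.Surjective (algebraMap B C) →
      RingHom.ker (algebraMap B C) = (maximalIdeal R ^ (k + 1)).map (algebraMap R B) →
      2 ≤ LocCoh.idealDepth (J.map (algebraMap B C))
        (Module.Dual C (Module.Dual C (C ⊗[B] F)) ⧸
          ((EGA4.mB R B).map (algebraMap B C) • ⊤ : Submodule C (Module.Dual C (Module.Dual C (C ⊗[B] F))))) := by
    intro k C _ _ hsurj hker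
    let A' := R ⧸ maximalIdeal R ^ (k + 1)
    haveI : (maximalIdeal R).IsMaximal := maximalIdeal.isMaximal R
    haveI : IsArtinianRing A' := (CubeLib.isArtinianRing_quot_pow (maximalIdeal R) k).1
    haveI : IsLocalRing A' := (CubeLib.isArtinianRing_quot_pow (maximalIdeal R) k).2
    let ψ : R →+* A' := Ideal.Quotient.mk (maximalIdeal R ^ (k + 1))
    let φ : A →+* A' := ψ.comp (algebraMap A R)
    let g := Spec.map (CommRingCat.ofHom φ)
    let Y' := pullback f₀ g
    letI : Y'.Over (Spec (CommRingCat.of A')) := ⟨pullback.snd f₀ g⟩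
    have hp : IsPullback (pullback.fst f₀ g) (Y' ↘ Spec (CommRingCat.of A')) f₀ g := IsPullback.of_hasPullback f₀ g
    haveI : IsNoetherianRing (CommRingCat.of A') := inferInstanceAs (IsNoetherianRing A')
    haveI : IsProper (Y' ↘ Spec (CommRingCat.of A')) := MorphismProperty.of_isPullback (P := @IsProper) hp ‹_›
    obtain ⟨hS', hd'⟩ := isSkMor_baseChange hp 2 d hS hd
    obtain ⟨ω', hω'⟩ := exists_isDualizingSheaf (A := A') (Y := Y') d hS' hd'
    let s : Spec (CommRingCat.of A') := closedPoint A'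
    have hs : f₀ y = g s := by
      refine PrimeSpectrum.ext ?_
      show (f₀ y).asIdeal = (maximalIdeal A').comap φ
      rw [← Ideal.comap_comap, IsLocalRing.eq_maximalIdeal (Ideal.comap_isMaximal_of_surjective ψ Ideal.Quotient.mk_surjective)]
      exact (IsLocalization.AtPrime.under_maximalIdeal R (f₀ y).asIdeal).symm
    obtain ⟨z, hz, -⟩ := Scheme.Pullback.exists_preimage_pullback y s hs
    have hH := H A' ψ Ideal.Quotient.mk_surjective Y' (pullback.fst f₀ g) hp ω' hω' z hz
    have hC2 : 2 ≤ LocCoh.idealDepth (J.map (algebraMap B C)) C := by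
      rw [idealDepth_map_of_surjective hsurj]
      exact (S18706.result R B J B (fun q _ => FibDepthLib.flatAt_of_flatAt_self q
        (FibDepthLib.flatAt_self_of_free q (Module.Free.of_equiv (CAlgBasics.selfLocEquiv q.asIdeal.primeCompl).symm)))
        hB0 k).trans_eq (CAlgBasics.idealDepth_congr ((Submodule.quotEquivOfEq _ _ (show
          ((EGA4.mB R B) ^ (k + 1) • ⊤ : Submodule B B) = LinearMap.ker (Algebra.linearMap B C) by
            rw [smul_eq_mul, Ideal.mul_top,
              show LinearMap.ker (Algebra.linearMap B C) = RingHom.ker (algebraMap B C) from rfl, hker]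
            exact (Ideal.map_pow (algebraMap R B) (maximalIdeal R) (k + 1)).symm)).trans
          ((Algebra.linearMap B C).quotKerEquivOfSurjective hsurj)))
    exact two_le_idealDepth_dualDual_of_sk d hS hd ω hω U hU hG m hp ω' hω' z y hz ψ Ideal.Quotient.mk_surjective rfl
      hH.2 C hsurj (by rw [hker, Ideal.mk_ker]; rfl) hC2
  obtain ⟨hfl, hdep⟩ := flat_and_depth_of_artinian (R := R) J hB0 F hFU hk
  refine ⟨hfl, (skAt_fibre_iff f₀ 2 hGcoh y).2 fun P _ => ?_⟩
  let S := B ⧸ EGA4.mB R B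
  let N := EGA4.FibMod R B F
  have hid : FibreDepth.FibIso (R := B) (N := N) S N :=
    ⟨Ideal.Quotient.mk _, Ideal.Quotient.mk_surjective, AddEquiv.refl N, fun r n => by
      obtain ⟨v, rfl⟩ := Submodule.Quotient.mk_surjective _ n
      rfl⟩
  revert P
  show LocCoh.HasSk 2 B N
  rw [hid.hasSk_iff 2]
  haveI : Module.Finite S N := hid.module_finite
  have hsk0 : LocCoh.HasSk 2 S S := by
    have h1 := (skAt_fibre_iff f₀ 2 (DevLib.isCoh_structureModule Y) y).1 (relSk_structureModule f₀ hS y).2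
    have hid' : FibreDepth.FibIso B (FibreDepth.fibreStalkMod f₀ (Coh.structureModule Y) y) S S := by
      let e : FibreDepth.fibreStalkMod f₀ (Coh.structureModule Y) y ≃ₗ[B] S :=
        (Submodule.Quotient.equiv _ (FibreDepth.fibreIdeal f₀ y • ⊤ : Submodule B B) (RefOne.oEquiv y).symm (by
          rw [Submodule.map_smul'', Submodule.map_top, LinearEquiv.range])).trans
          (Submodule.quotEquivOfEq _ _ (by rw [smul_eq_mul, Ideal.mul_top]; rfl))
      exact ⟨Ideal.Quotient.mk _, Ideal.Quotient.mk_surjective, e.toAddEquiv, fun r n => by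
        show e (r • n) = algebraMap B S r • e n
        rw [map_smul, algebraMap_smul]⟩
    haveI := PullbackMod.finite_stalk_of_isFT (DevLib.isCoh_structureModule Y).2 y
    exact (hid'.hasSk_iff 2).1 h1
  intro P _
  by_cases hP : J.map (algebraMap B S) ≤ P
  · have hN : 2 ≤ LocCoh.idealDepth (J.map (algebraMap B S)) N := by
      rw [idealDepth_map_of_surjective (R := S) Ideal.Quotient.mk_surjective]
      exact hdep
    rw [← Nat.cast_ofNat, QGorLib.le_idealDepth_iff_forall] at hN
    exact min_le_left _ _ |>.trans (WithBot.coe_le_coe.2 (hN ⟨P, inferInstance⟩ hP))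
  · let Q : PrimeSpectrum B := PrimeSpectrum.comap (algebraMap B S) ⟨P, inferInstance⟩
    have hQ : ¬ J ≤ Q.asIdeal := fun h => hP (Ideal.map_le_iff_le_comap.mpr h)
    have hfree : (⟨P, inferInstance⟩ : PrimeSpectrum S) ∈ Module.freeLocus S N := by
      have h : (⟨P, inferInstance⟩ : PrimeSpectrum S) ∈ Module.freeLocus S (S ⊗[B] F) :=
        Module.comap_freeLocus_le (R := B) (M := F) (A := S)
          (show (⟨P, inferInstance⟩ : PrimeSpectrum S) ∈ PrimeSpectrum.comap (algebraMap B S) ⁻¹' Module.freeLocus B F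
            from hFU Q hQ)
      rwa [Module.freeLocus_congr (LinearEquiv.extendScalarsOfSurjective Ideal.Quotient.mk_surjective
        (TensorProduct.quotTensorEquivQuotSMul F (EGA4.mB R B)) : (S ⊗[B] F) ≃ₗ[S] N)] at h
    haveI : Module.Free (Localization.AtPrime P) (LocalizedModule P.primeCompl N) := hfree
    haveI : Module.Finite (Localization.AtPrime P) (LocalizedModule P.primeCompl N) :=
      Module.Finite.of_isLocalizedModule P.primeCompl (LocalizedModule.mkLinearMap P.primeCompl N)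
    have hs : LocCoh.HasSk 2 (Localization.AtPrime P) (Localization.AtPrime P) :=
      EGA4Dim.hasSk_of_isLocalization P.primeCompl 2 hsk0
    exact EGA4Dim.skIneq_of_hasSk (QGorLib.hasSk_of_reflexive (LocalizedModule P.primeCompl N) le_rfl hs)

variable {A'' : Type u} [CommRing A''] [IsArtinianRing A''] [IsLocalRing A''] {φ' : A →+* A''} {X' : Scheme.{u}}
  [X'.Over (Spec (CommRingCat.of A''))] {q : X' ⟶ Y}

/-- Relative `(S₂)` of a reflexive power identifies its restriction with the reflexive power over the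
infinitesimal neighbourhood. -/
theorem relSkAt_artinian_of_relSkAt (d : ℕ) (hS : RelCanon.IsSkMor (Y ↘ S₀) 2)
    (hd : Cyc.HasRelDim (Y ↘ S₀) d) (ω : Y.Modules)
    (hω : RelCanon.IsDualizingSheaf A Y d ω) (U : Y.Opens)
    (hU : (U : Set Y) ⊆ RelCanon.gorLocus (Y ↘ S₀))
    (hG : ∀ y : Y, y ∉ U →
      (2 : WithBot ℕ∞) ≤ ringKrullDim (((Y ↘ S₀).fiber ((Y ↘ S₀) y)).presheaf.stalk ((Y ↘ S₀).asFiber y)))
    (m : ℕ) (hp : IsPullback q (X' ↘ Spec (CommRingCat.of A'')) (Y ↘ S₀) (Spec.map (CommRingCat.ofHom φ')))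
    (ω' : X'.Modules) (hω' : RelCanon.IsDualizingSheaf A'' X' d ω') (z : X')
    (ψ : (Spec (CommRingCat.of A)).presheaf.stalk ((Y ↘ S₀) (q z)) →+* A'') (hψ : Function.Surjective ψ)
    (hφ : ψ.comp (algebraMap A ((Spec (CommRingCat.of A)).presheaf.stalk ((Y ↘ S₀) (q z)))) = φ')
    (h : RelCanon.RelSkAt (Y ↘ S₀) 2 (RelCanon.refPowZ ω m) (q z)) :
    Nonempty ((RelCanon.refPowZ ω' m).presheaf.stalk z ≃ₗ[X'.presheaf.stalk z]
        ((Scheme.Modules.pullback q).obj (RelCanon.refPowZ ω m)).presheaf.stalk z) ∧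
      RelCanon.RelSkAt (X' ↘ Spec (CommRingCat.of A'')) 2 (RelCanon.refPowZ ω' m) z := by
  let f₀ := Y ↘ S₀
  let f₁ := X' ↘ Spec (CommRingCat.of A'')
  haveI : IsNoetherianRing (CommRingCat.of A) := inferInstanceAs (IsNoetherianRing A)
  haveI : IsNoetherianRing (CommRingCat.of A'') := inferInstanceAs (IsNoetherianRing A'')
  haveI : IsProper f₁ := MorphismProperty.of_isPullback (P := @IsProper) hp ‹_›
  haveI : IsLocallyNoetherian Y := LocallyOfFiniteType.isLocallyNoetherian f₀
  haveI : IsLocallyNoetherian X' := LocallyOfFiniteType.isLocallyNoetherian f₁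
  haveI := hS.1
  obtain ⟨hGcoh, -, hGinv, hGnt⟩ := refPowZ_props d hS hd ω hω U hU m
  haveI := hGcoh.1
  let G := RelCanon.refPowZ ω m
  let R := (Spec (CommRingCat.of A)).presheaf.stalk (f₀ (q z))
  let B := Y.presheaf.stalk (q z)
  let F := G.presheaf.stalk (q z)
  let O' := X'.presheaf.stalk z
  let J := idealOff U (q z)
  letI : Algebra R B := (f₀.stalkMap (q z)).hom.toAlgebra
  haveI : Module.Flat R B := Flat.stalkMap f₀ (q z)
  haveI : IsLocalHom (algebraMap R B) := inferInstanceAs (IsLocalHom (f₀.stalkMap (q z)).hom)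
  letI : Module R F := FlatMod.moduleStalkOver f₀ G (q z)
  haveI : IsScalarTower R B F := .of_algebraMap_smul fun _ _ => rfl
  haveI : Module.Flat R F := h.1
  haveI : Module.Finite B F := PullbackMod.finite_stalk_of_isFT hGcoh.2 (q z)
  obtain ⟨hps, hpk⟩ := stalkMap_artinian hp z ψ hψ hφ
  letI : Algebra B O' := (q.stalkMap z).hom.toAlgebra
  let Q := (Scheme.Modules.pullback q).obj G
  have hQ : Coh.IsCoh Q := PullbackMod.isCoh_pullback q _ hGcoh
  let N := Q.presheaf.stalk z
  haveI : Module.Finite O' N := PullbackMod.finite_stalk_of_isFT hQ.2 z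
  letI : Module B N := Module.compHom N (q.stalkMap z).hom
  haveI : IsScalarTower B O' N := .of_algebraMap_smul fun _ _ => rfl
  have hbc : IsBaseChange O' (PullbackMod.pullStalkL q G z) := PullbackMod.isBaseChange_pullStalkL q G z
  haveI : IsNoetherianRing O' := isNoetherianRing_of_surjective B O' (algebraMap B O') hps
  obtain ⟨n, hn⟩ := IsArtinianRing.isNilpotent_jacobson_bot (R := A'')
  rw [IsLocalRing.jacobson_eq_maximalIdeal ⊥ bot_ne_top] at hn
  have hpow : maximalIdeal R ^ n ≤ RingHom.ker ψ := by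
    rw [RingHom.ker_eq_comap_bot, ← Ideal.map_le_iff_le_comap, Ideal.map_pow, IsLocalRing.map_maximalIdeal_of_surjective ψ hψ, hn,
      Ideal.zero_eq_bot]
  have hdepth : ∀ (M M' : Type u) [AddCommGroup M] [Module B M] [Module R M] [IsScalarTower R B M] [Module.Finite B M]
      [Module.Flat R M] [AddCommGroup M'] [Module O' M'] [Module B M'] [IsScalarTower B O' M'] (g : M →ₗ[B] M'),
      IsBaseChange O' g → 2 ≤ LocCoh.idealDepth J (EGA4.FibMod R B M) →
      2 ≤ LocCoh.idealDepth (J.map (algebraMap B O')) M' := by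
    intro M M' _ _ _ _ _ _ _ _ _ _ g hg hM
    rw [idealDepth_map_of_surjective hps]
    obtain ⟨E⟩ := FibreDepth.exists_quot_equiv hps g hg
    exact (FibDepthLib.depth_infinitesimal (A := R) (J := J) (d := 2) (Or.inr rfl) hM (RingHom.ker ψ) n hpow).trans_eq
      (CAlgBasics.idealDepth_congr ((Submodule.quotEquivOfEq _ _ (by
        rw [FibDepthLib.sm]
        congr 1
        exact hpk.symm)).trans E.symm))
  have hO2 : 2 ≤ LocCoh.idealDepth (J.map (algebraMap B O')) O' :=
    hdepth B O' (Algebra.linearMap B O') (IsBaseChange.linearMap B O') (two_le_idealDepth_fibMod_self hS U hG (q z))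
  have hN2 : 2 ≤ LocCoh.idealDepth (J.map (algebraMap B O')) N :=
    hdepth F N (PullbackMod.pullStalkL q G z) hbc (two_le_idealDepth_fibreStalkMod f₀ hGcoh U hGnt hG (q z) h.2)
  have hNU : ∀ P : PrimeSpectrum O', ¬ J.map (algebraMap B O') ≤ P.asIdeal →
      Module.Free (Localization.AtPrime P.asIdeal) (LocalizedModule P.asIdeal.primeCompl N) := by
    intro P hP
    have hP' : ¬ J ≤ (PrimeSpectrum.comap (algebraMap B O') P).asIdeal := fun h => hP (Ideal.map_le_iff_le_comap.mpr h)
    have h' : P ∈ Module.freeLocus O' (O' ⊗[B] F) := Module.comap_freeLocus_le (R := B) (M := F) (A := O')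
      (show P ∈ PrimeSpectrum.comap (algebraMap B O') ⁻¹' Module.freeLocus B F from free_localization_stalk U (q z) hGinv _ hP')
    rw [Module.freeLocus_congr hbc.equiv] at h'
    exact h'
  haveI := Module.finitePresentation_of_finite O' N
  haveI : Module.Finite O' (Module.Dual O' N) := inferInstance
  haveI := Module.finitePresentation_of_finite O' (Module.Dual O' N)
  haveI : Module.Finite O' (Module.Dual O' (Module.Dual O' N)) := inferInstance
  let eev : N ≃ₗ[O'] Module.Dual O' (Module.Dual O' N) := LinearEquiv.ofBijective _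
    (FibDepthLib.bijective_of_isoOff (FibDepthLib.isoOff_eval N hNU) hN2
      (le_trans one_le_two (FibDepthLib.two_le_idealDepth_dual hO2 _)))
  obtain ⟨e2⟩ := exists_stalk_ddual_equiv hQ z
  obtain ⟨e3⟩ := (refPowZ_baseChange d hS hd ω hω U hU hG φ' q hp ω' hω' (m : ℤ)).2.1
  let P' := RelCanon.refPowZ ω' m
  have hP'coh : Coh.IsCoh P' := ShStabLib.isCoh_of_iso e3 (RefOne.isCoh_dual (RefOne.isCoh_dual hQ))
  let Me : P'.presheaf.stalk z ≃ₗ[O'] N :=
    (((DCohLib.stkF z).mapIso e3).toLinearEquiv.symm.trans e2).trans eev.symm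
  refine ⟨⟨Me⟩, ?_, (skAt_fibre_iff f₁ 2 hP'coh z).2 ?_⟩
  · letI := FlatMod.moduleStalkOver f₁ P' z
    letI := FlatMod.moduleStalkOver f₁ Q z
    let eR : P'.presheaf.stalk z ≃ₗ[(Spec (CommRingCat.of A'')).presheaf.stalk (f₁ z)] N :=
      { Me with map_smul' := fun r v => Me.map_smul ((f₁.stalkMap z).hom r) v }
    haveI : Module.Flat ((Spec (CommRingCat.of A'')).presheaf.stalk (f₁ z)) N :=
      PullbackMod.isFlatOverAt_baseChange hp G z h.1
    exact Module.Flat.of_linearEquiv eR
  · have h1 := (skAt_fibre_iff f₀ 2 hGcoh (q z)).1 h.2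
    have hfi : FibreDepth.fibreIdeal f₁ z = (FibreDepth.fibreIdeal f₀ (q z)).map (algebraMap B O') :=
      fibreIdeal_baseChange hp z ψ hψ hφ
    have h2 := fibIso_reduction hps (PullbackMod.pullStalkL q G z) hbc (FibreDepth.fibreIdeal f₀ (q z)) (by
      rw [show RingHom.ker (algebraMap B O') = _ from hpk]
      exact Ideal.map_mono (le_maximalIdeal (RingHom.ker_ne_top ψ)))
    have h3 := (h2.hasSk_iff 2).1 h1
    rw [← hfi] at h3
    exact (QGorNhdLib.hasSk_congr_module (Submodule.Quotient.equiv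
      (FibreDepth.fibreIdeal f₁ z • ⊤ : Submodule O' (P'.presheaf.stalk z))
      (FibreDepth.fibreIdeal f₁ z • ⊤ : Submodule O' N) Me (by
        rw [Submodule.map_smul'', Submodule.map_top, LinearEquiv.range])) 2).2 h3


/-- A relatively `(S₂)` reflexive power that is invertible over the residue field of the base is invertible. -/
theorem invertibleAt_refPowZ_of_residue (d : ℕ) (hS : RelCanon.IsSkMor (Y ↘ S₀) 2)
    (hd : Cyc.HasRelDim (Y ↘ S₀) d) (ω : Y.Modules)
    (hω : RelCanon.IsDualizingSheaf A Y d ω) (U : Y.Opens)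
    (hU : (U : Set Y) ⊆ RelCanon.gorLocus (Y ↘ S₀))
    (hG : ∀ y : Y, y ∉ U →
      (2 : WithBot ℕ∞) ≤ ringKrullDim (((Y ↘ S₀).fiber ((Y ↘ S₀) y)).presheaf.stalk ((Y ↘ S₀).asFiber y)))
    (m : ℕ) (hp : IsPullback p (Y' ↘ Spec (CommRingCat.of A')) (Y ↘ S₀) (Spec.map (CommRingCat.ofHom φ)))
    (ω' : Y'.Modules) (hω' : RelCanon.IsDualizingSheaf A' Y' d ω') (z : Y') (x : Y) (hx : p z = x)
    (ψ : (Spec (CommRingCat.of A)).presheaf.stalk ((Y ↘ S₀) x) →+* A') (hψ : Function.Surjective ψ)
    (hφ : ψ.comp (algebraMap A ((Spec (CommRingCat.of A)).presheaf.stalk ((Y ↘ S₀) x))) = φ)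
    (hker : RingHom.ker ψ = maximalIdeal _)
    (hSk : RelCanon.RelSkAt (Y ↘ S₀) 2 (RelCanon.refPowZ ω m) x)
    (hinv : RelCanon.InvertibleAt (RelCanon.refPowZ ω' m) z) :
    RelCanon.InvertibleAt (RelCanon.refPowZ ω m) x := by
  subst hx
  let f₀ := Y ↘ S₀
  haveI : IsNoetherianRing (CommRingCat.of A) := inferInstanceAs (IsNoetherianRing A)
  haveI : IsLocallyNoetherian Y := LocallyOfFiniteType.isLocallyNoetherian f₀
  obtain ⟨hGcoh, -, -, -⟩ := refPowZ_props d hS hd ω hω U hU m
  haveI := hGcoh.1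
  obtain ⟨⟨Me⟩, -⟩ := relSkAt_artinian_of_relSkAt d hS hd ω hω U hU hG m hp ω' hω' z ψ hψ hφ hSk
  obtain ⟨l⟩ := exists_stalk_equiv_of_invertibleAt hinv
  obtain ⟨hps, hpk⟩ := stalkMap_artinian hp z ψ hψ hφ
  let G := RelCanon.refPowZ ω m
  let R := (Spec (CommRingCat.of A)).presheaf.stalk (f₀ (p z))
  let S := Y.presheaf.stalk (p z)
  let O := Y'.presheaf.stalk z
  let M := G.presheaf.stalk (p z)
  let N := ((Scheme.Modules.pullback p).obj G).presheaf.stalk z
  let lN : O ≃ₗ[O] N := l.trans Me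
  haveI : Module.Finite S M := PullbackMod.finite_stalk_of_isFT hGcoh.2 (p z)
  letI : Algebra R S := (f₀.stalkMap (p z)).hom.toAlgebra
  letI : Module R M := FlatMod.moduleStalkOver f₀ G (p z)
  haveI : IsScalarTower R S M := .of_algebraMap_smul fun _ _ => rfl
  haveI : Module.Flat R M := hSk.1
  haveI : IsLocalHom (algebraMap R S) := inferInstanceAs (IsLocalHom (f₀.stalkMap (p z)).hom)
  letI : Algebra S O := (p.stalkMap z).hom.toAlgebra
  letI : Module S N := Module.compHom N (p.stalkMap z).hom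
  haveI : IsScalarTower S O N := .of_algebraMap_smul fun _ _ => rfl
  have hbc : IsBaseChange O (PullbackMod.pullStalkL p G z) := PullbackMod.isBaseChange_pullStalkL p G z
  have hkO : RingHom.ker (algebraMap S O) = (maximalIdeal R).map (algebraMap R S) := hpk.trans (by rw [hker]; rfl)
  obtain ⟨E⟩ := FibreDepth.exists_quot_equiv hps _ hbc
  let I : Ideal S := (maximalIdeal R).map (algebraMap R S)
  let F1 : (S ⧸ I) ⊗[S] M ≃ₗ[S] S ⧸ I :=
    (TensorProduct.quotTensorEquivQuotSMul M I).trans <|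
      (Submodule.quotEquivOfEq _ _ (show I • (⊤ : Submodule S M) = RingHom.ker (algebraMap S O) • ⊤ by rw [hkO])).trans <|
        E.symm.trans <| (lN.restrictScalars S).symm.trans <|
          (LinearMap.quotKerEquivOfSurjective (Algebra.linearMap S O) hps).symm.trans
            (Submodule.quotEquivOfEq _ _ hkO)
  let F2 : (S ⧸ I) ⊗[S] M ≃ₗ[S ⧸ I] S ⧸ I :=
    LinearEquiv.extendScalarsOfSurjective (Ideal.Quotient.mk_surjective (I := I)) F1
  haveI : Nontrivial M := by
    by_contra hc
    rw [not_nontrivial_iff_subsingleton] at hc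
    haveI : Subsingleton ((S ⧸ I) ⊗[S] M) := inferInstance
    haveI : Subsingleton (S ⧸ I) := F2.toEquiv.symm.subsingleton
    haveI : Nontrivial (S ⧸ I) := Ideal.Quotient.nontrivial_iff.2 fun h =>
      (maximalIdeal.isMaximal S).ne_top (top_le_iff.1 (h ▸ IsLocalRing.map_maximalIdeal_le (algebraMap R S)))
    exact not_subsingleton (S ⧸ I) ‹_›
  haveI := (LocFlat.free_of_free_fibre (R := R) (S := S) (M := M) (Module.Free.of_equiv F2.symm)).1
  haveI : Nontrivial O := inferInstance
  have hrank : Module.finrank S M = 1 := by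
    have h1 := (hbc.equiv.trans lN.symm).finrank_eq
    rwa [Module.finrank_baseChange, Module.finrank_self] at h1
  exact invertibleAt_of_stalk_equiv hGcoh
    ((LinearEquiv.funUnique (Fin 1) S S).symm.trans ((Module.finBasisOfFinrankEq S M hrank).equivFun.symm))

end Groth.Agent.FibreDualLib
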