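import Groth.Agent.FibreDualLib.StalkPrime
import Groth.Agent.FibreDepth.Scheme
import Groth.Agent.FormalAmpleLib.Kernel
import Groth.Agent.RefOne.Stalk

/-!
# Stalks of base changes to infinitesimal neighbourhoods of a point of the base
-/

set_option autoImplicit false
set_option linter.style.haveILetI false
set_option linter.unusedSectionVars false
set_option backward.isDefEq.respectTransparency false
set_option maxHeartbeats 1000000

universe u

open CategoryTheory CategoryTheory.Limits AlgebraicGeometry IsLocalRing TopologicalSpace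
open scoped TensorProduct

noncomputable section

namespace Groth.Agent.FibreDualLib

/-- Depth along an ideal depends only on the closed set it cuts out. -/
theorem le_idealDepth_of_le {R M : Type u} [CommRing R] [IsNoetherianRing R] [AddCommGroup M] [Module R M]
    [Module.Finite R M] {I I' : Ideal R} (h : ∀ P : PrimeSpectrum R, I ≤ P.asIdeal → I' ≤ P.asIdeal) (n : ℕ)
    (hn : (n : ℕ∞) ≤ LocCoh.idealDepth I' M) : (n : ℕ∞) ≤ LocCoh.idealDepth I M := by
  rw [QGorLib.le_idealDepth_iff_forall] at hn ⊢
  exact fun P hP => hn P (h P hP)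

/-- The stalk of a reflexive hull is the double dual of the stalk. -/
theorem exists_stalk_ddual_equiv {X : Scheme.{u}} [IsLocallyNoetherian X] {F : X.Modules} (hF : Coh.IsCoh F) (x : X) :
    Nonempty ((RefHull.ddual F).presheaf.stalk x ≃ₗ[X.presheaf.stalk x]
      Module.Dual (X.presheaf.stalk x) (Module.Dual (X.presheaf.stalk x) (F.presheaf.stalk x))) := by
  have hO : Coh.IsQCoh (Coh.structureModule X) := inferInstance
  let e : ∀ (G : X.Modules), Coh.IsCoh G → ((RefHull.dual G).presheaf.stalk x ≃ₗ[X.presheaf.stalk x]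
      Module.Dual (X.presheaf.stalk x) (G.presheaf.stalk x)) := fun G hG =>
    (RefOne.homStalk hG hO x).trans (LinearEquiv.congrRight (RefOne.oEquiv x).symm)
  exact ⟨(e _ (RefOne.isCoh_dual hF)).trans (e _ hF).symm.dualMap⟩

/-- Reduction of a base change along a surjection to a quotient by a larger ideal. -/
theorem fibIso_reduction {B C M N : Type u} [CommRing B] [CommRing C] [Algebra B C] [AddCommGroup M] [Module B M]
    [AddCommGroup N] [Module C N] [Module B N] [IsScalarTower B C N] (hsurj : Function.Surjective (algebraMap B C))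
    (g : M →ₗ[B] N) (hg : IsBaseChange C g) (K : Ideal B) (hK : RingHom.ker (algebraMap B C) ≤ K) :
    FibreDepth.FibIso B (M ⧸ (K • ⊤ : Submodule B M)) C
      (N ⧸ (K.map (algebraMap B C) • ⊤ : Submodule C N)) := by
  obtain ⟨e⟩ := FibreDepth.exists_quot_equiv hsurj g hg
  let R0 : Submodule B M := RingHom.ker (algebraMap B C) • ⊤
  have hle : R0 ≤ (K • ⊤ : Submodule B M) := Submodule.smul_mono_left hK
  have hmap : (K • ⊤ : Submodule B M).map R0.mkQ = (K • ⊤ : Submodule B (M ⧸ R0)) := by
    rw [Submodule.map_smul'', Submodule.map_top, Submodule.range_mkQ]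
  have hmap' : (K.map (algebraMap B C) • ⊤ : Submodule C N).restrictScalars B = (K • ⊤ : Submodule B N) := by
    rw [Submodule.restrictScalars_map_smul_eq, Submodule.restrictScalars_top]
  let E : (M ⧸ (K • ⊤ : Submodule B M)) ≃ₗ[B] N ⧸ (K.map (algebraMap B C) • ⊤ : Submodule C N) :=
    (Submodule.quotientQuotientEquivQuotient R0 _ hle).symm.trans <|
      (Submodule.Quotient.equiv _ ((K.map (algebraMap B C) • ⊤ : Submodule C N).restrictScalars B) e.symm (by
        rw [hmap', hmap, Submodule.map_smul'', Submodule.map_top, LinearEquiv.range])).trans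
        (Submodule.Quotient.restrictScalarsEquiv B _)
  refine ⟨algebraMap B C, hsurj, E.toAddEquiv, fun r n => ?_⟩
  show E (r • n) = algebraMap B C r • E n
  rw [map_smul, algebraMap_smul]

variable {X T : Scheme.{u}}

/-- Serre's condition on a fibre is computed on the reduction of the stalk. -/
theorem skAt_fibre_iff (f : X ⟶ T) [IsLocallyNoetherian X] (k : ℕ) {F : X.Modules} (hF : Coh.IsCoh F) (x : X) :
    RelCanon.SkAt k ((Scheme.Modules.pullback (f.fiberι (f x))).obj F) (f.asFiber x) ↔
      LocCoh.HasSk k (X.presheaf.stalk x) (FibreDepth.fibreStalkMod f F x) := by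
  haveI := hF.1
  have gen : ∀ (y : T) (z : f.fiber y),
      RelCanon.SkAt k ((Scheme.Modules.pullback (f.fiberι y)).obj F) z ↔
        LocCoh.HasSk k (X.presheaf.stalk (f.fiberι y z)) (FibreDepth.fibreStalkMod f F (f.fiberι y z)) := by
    intro y z
    let g := f.fiberι y
    let O := X.presheaf.stalk (g z)
    let O' := (f.fiber y).presheaf.stalk z
    letI : Algebra O O' := (g.stalkMap z).hom.toAlgebra
    letI := Module.compHom (((Scheme.Modules.pullback g).obj F).presheaf.stalk z) (g.stalkMap z).hom
    haveI : IsScalarTower O O' (((Scheme.Modules.pullback g).obj F).presheaf.stalk z) :=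
      .of_algebraMap_smul fun _ _ => rfl
    have hbc := PullbackMod.isBaseChange_pullStalkL g F z
    have hsurj : Function.Surjective (algebraMap O O') := FlatLocus.fiberι_stalkMap_surjective f y z
    have hker : RingHom.ker (algebraMap O O') = FibreDepth.fibreIdeal f (g z) := FlatLocus.ker_fiberι_stalkMap f y z
    haveI := FlatLocus.finite_stalk F (QCohLib.isFP_of_isCoh F hF) (g z)
    obtain ⟨E⟩ := FibreDepth.exists_quot_equiv hsurj _ hbc
    let E' := E.trans (Submodule.quotEquivOfEq _ _ (by rw [hker]))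
    have h : FibreDepth.FibIso O (FibreDepth.fibreStalkMod f F (g z)) O'
        (((Scheme.Modules.pullback g).obj F).presheaf.stalk z) := by
      refine ⟨algebraMap O O', hsurj, E'.symm.toAddEquiv, fun r n => ?_⟩
      show E'.symm (r • n) = algebraMap O O' r • E'.symm n
      rw [map_smul, algebraMap_smul]
    exact (h.hasSk_iff k).symm
  have key : ∀ x' : X, x' = x → (LocCoh.HasSk k (X.presheaf.stalk x') (FibreDepth.fibreStalkMod f F x') ↔
      LocCoh.HasSk k (X.presheaf.stalk x) (FibreDepth.fibreStalkMod f F x)) := by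
    rintro x' rfl; rfl
  exact (gen _ (f.asFiber x)).trans (key _ (f.fiberι_asFiber x))

/-- `(S₂)` at a point gives depth two along the complement of an open set of codimension two. -/
theorem two_le_idealDepth_of_skAt {Z : Scheme.{u}} [IsLocallyNoetherian Z] {F : Z.Modules} (hF : Coh.IsCoh F)
    (U : Z.Opens) (w : Z) (h : RelCanon.SkAt 2 F w) (hU : ∀ v : Z, v ∈ U → Nontrivial (F.presheaf.stalk v))
    (hdim : ∀ v : Z, v ∉ U → (2 : WithBot ℕ∞) ≤ ringKrullDim (Z.presheaf.stalk v)) :
    2 ≤ LocCoh.idealDepth (idealOff U w) (F.presheaf.stalk w) := by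
  haveI := hF.1
  haveI := PullbackMod.finite_stalk_of_isFT hF.2 w
  rw [← Nat.cast_ofNat, QGorLib.le_idealDepth_iff_forall]
  intro P hP
  obtain ⟨ψ, e, he⟩ := exists_generization_equiv F w P
  have hh : FibreDepth.FibIso (Localization.AtPrime P.asIdeal)
      (LocalizedModule P.asIdeal.primeCompl (F.presheaf.stalk w)) (Z.presheaf.stalk (Z.fromSpecStalk w P))
      (F.presheaf.stalk (Z.fromSpecStalk w P)) := ⟨ψ.toRingHom, ψ.surjective, e, he⟩
  let v := Z.fromSpecStalk w P
  haveI : Module.Finite (Z.presheaf.stalk v) (F.presheaf.stalk v) := PullbackMod.finite_stalk_of_isFT hF.2 v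
  have hd : Module.supportDim (Z.presheaf.stalk v) (F.presheaf.stalk v) = ringKrullDim (Z.presheaf.stalk v) :=
    supportDim_stalk_eq F v fun v' _ hv' => hU v' (by
      by_contra hvU
      exact absurd (hv' ▸ hdim v' hvU) (by norm_num))
  have h2 := h P.asIdeal
  rw [hh.supportDim_eq, hd, min_eq_left (by exact_mod_cast hdim v ((idealOff_le_iff U w P).1 hP))] at h2
  exact WithBot.coe_le_coe.1 h2

/-- `(S₂)` of the fibre gives depth two of the reduction of the stalk along the bad set. -/
theorem two_le_idealDepth_fibreStalkMod (f : X ⟶ T) [LocallyOfFiniteType f] [IsLocallyNoetherian X]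
    {F : X.Modules} (hF : Coh.IsCoh F) (U : X.Opens) (hU : ∀ y : X, y ∈ U → Nontrivial (F.presheaf.stalk y))
    (hG : ∀ y : X, y ∉ U → (2 : WithBot ℕ∞) ≤ ringKrullDim ((f.fiber (f y)).presheaf.stalk (f.asFiber y)))
    (x : X) (h : RelCanon.SkAt 2 ((Scheme.Modules.pullback (f.fiberι (f x))).obj F) (f.asFiber x)) :
    2 ≤ LocCoh.idealDepth (idealOff U x) (FibreDepth.fibreStalkMod f F x) := by
  haveI := hF.1
  have hFP := QCohLib.isFP_of_isCoh F hF
  have hG' : ∀ (t : T) (w : f.fiber t), f.fiberι t w ∉ U → (2 : WithBot ℕ∞) ≤ ringKrullDim ((f.fiber t).presheaf.stalk w) :=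
    forall_fiber f fun y hy => hG y (by rwa [f.fiberι_asFiber] at hy)
  have hnt : ∀ (t : T) (w : f.fiber t), f.fiberι t w ∈ U →
      Nontrivial (((Scheme.Modules.pullback (f.fiberι t)).obj F).presheaf.stalk w) := by
    refine forall_fiber f fun y hy => ?_
    rw [f.fiberι_asFiber] at hy
    rw [← not_subsingleton_iff_nontrivial, (FibreDepth.fib_stalk f F hFP y).2.2, not_subsingleton_iff_nontrivial]
    haveI := hU y hy
    haveI := FlatLocus.finite_stalk F hFP y
    refine Submodule.Quotient.nontrivial_iff.2 fun h => ?_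
    have := Submodule.eq_bot_of_le_smul_of_le_jacobson_bot (FibreDepth.fibreIdeal f y)
      (⊤ : Submodule (X.presheaf.stalk y) (F.presheaf.stalk y)) Module.Finite.fg_top h.ge
      ((IsLocalRing.map_maximalIdeal_le (f.stalkMap y).hom).trans (IsLocalRing.maximalIdeal_le_jacobson ⊥))
    exact top_ne_bot this
  have gen : ∀ (t : T) (z : f.fiber t), RelCanon.SkAt 2 ((Scheme.Modules.pullback (f.fiberι t)).obj F) z →
      2 ≤ LocCoh.idealDepth (idealOff U (f.fiberι t z)) (FibreDepth.fibreStalkMod f F (f.fiberι t z)) := by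
    intro t z hz
    let g := f.fiberι t
    haveI : LocallyOfFiniteType (f.fiberToSpecResidueField t) := MorphismProperty.pullback_snd _ _ ‹_›
    haveI : IsLocallyNoetherian (f.fiber t) := LocallyOfFiniteType.isLocallyNoetherian (f.fiberToSpecResidueField t)
    let Q := (Scheme.Modules.pullback g).obj F
    have hQ : Coh.IsCoh Q := PullbackMod.isCoh_pullback g _ hF
    have h1 := two_le_idealDepth_of_skAt hQ (g ⁻¹ᵁ U) z hz (fun v hv => hnt t v hv) (fun v hv => hG' t v hv)
    let O := X.presheaf.stalk (g z)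
    let O' := (f.fiber t).presheaf.stalk z
    letI : Algebra O O' := (g.stalkMap z).hom.toAlgebra
    letI := Module.compHom (Q.presheaf.stalk z) (g.stalkMap z).hom
    haveI : IsScalarTower O O' (Q.presheaf.stalk z) := .of_algebraMap_smul fun _ _ => rfl
    have hbc := PullbackMod.isBaseChange_pullStalkL g F z
    have hsurj : Function.Surjective (algebraMap O O') := FlatLocus.fiberι_stalkMap_surjective f t z
    have hker : RingHom.ker (algebraMap O O') = FibreDepth.fibreIdeal f (g z) := FlatLocus.ker_fiberι_stalkMap f t z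
    haveI := PullbackMod.finite_stalk_of_isFT hQ.2 z
    have h2 : 2 ≤ LocCoh.idealDepth ((idealOff U (g z)).map (algebraMap O O')) (Q.presheaf.stalk z) := by
      refine le_idealDepth_of_le (fun P hP => ?_) 2 h1
      rw [idealOff_le_iff]
      have hP' : idealOff U (g z) ≤ (PrimeSpectrum.comap (algebraMap O O') P).asIdeal := Ideal.map_le_iff_le_comap.1 hP
      rw [idealOff_le_iff] at hP'
      intro hv
      apply hP'
      have hsq : X.fromSpecStalk (g z) (Spec.map (g.stalkMap z) P) = g ((f.fiber t).fromSpecStalk z P) := by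
        rw [← Scheme.Hom.comp_apply, ← Scheme.Hom.comp_apply, Scheme.SpecMap_stalkMap_fromSpecStalk]
      exact hsq ▸ hv
    rw [idealDepth_map_of_surjective hsurj] at h2
    obtain ⟨E⟩ := FibreDepth.exists_quot_equiv hsurj _ hbc
    exact h2.trans_eq (CAlgBasics.idealDepth_congr (E.trans (Submodule.quotEquivOfEq _ _ (by rw [hker]))))
  have key : ∀ x' : X, x' = x → 2 ≤ LocCoh.idealDepth (idealOff U x') (FibreDepth.fibreStalkMod f F x') →
      2 ≤ LocCoh.idealDepth (idealOff U x) (FibreDepth.fibreStalkMod f F x) := by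
    rintro x' rfl h; exact h
  exact key _ (f.fiberι_asFiber x) (gen _ _ h)

variable {A : CommRingCat.{u}}

local instance stalkAlg (q : Spec A) : Algebra A ((Spec A).presheaf.stalk q) := StructureSheaf.stalkAlgebra A q

local instance stalkAlg_isLocalization (q : Spec A) : IsLocalization.AtPrime ((Spec A).presheaf.stalk q) q.asIdeal :=
  StructureSheaf.IsLocalization.to_stalk A q

/-- The functions of an affine base in a local ring factor through the local ring of the image. -/
theorem baseStalk_eq (f : X ⟶ Spec A) (x : X) :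
    (FormalAmple.baseStalk f x).hom =
      (f.stalkMap x).hom.comp (algebraMap A ((Spec A).presheaf.stalk (f x))) := by
  ext a
  simp only [FormalAmple.baseStalk, CommRingCat.hom_comp, RingHom.comp_apply]
  exact (Scheme.Hom.germ_stalkMap_apply f ⊤ x trivial ((Scheme.ΓSpecIso A).inv a)).symm

theorem surjective_stalkMap_of_isPullback {Y' : Scheme.{u}} {B' : CommRingCat.{u}} {φ : A ⟶ B'} {f : X ⟶ Spec A}
    {p : Y' ⟶ X} {f' : Y' ⟶ Spec B'} (h : IsPullback p f' f (Spec.map φ)) [IsPreimmersion (Spec.map φ)] (z : Y') :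
    Function.Surjective (p.stalkMap z) ∧ Function.Injective p :=
  haveI : IsPreimmersion p := MorphismProperty.of_isPullback h.flip inferInstance
  ⟨p.stalkMap_surjective z, p.isEmbedding.injective⟩

/-- The kernel of the map of local rings of a base change to a quotient of a local ring of the base. -/
theorem ker_stalkMap_of_isPullback_loc {Y' : Scheme.{u}} {B' : CommRingCat.{u}} {φ : A ⟶ B'} {f : X ⟶ Spec A}
    {p : Y' ⟶ X} {f' : Y' ⟶ Spec B'} (h : IsPullback p f' f (Spec.map φ)) [IsPreimmersion (Spec.map φ)] (z : Y')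
    (ψ : (Spec A).presheaf.stalk (f (p z)) →+* B') (hψ : Function.Surjective ψ)
    (hφ : ψ.comp (algebraMap A ((Spec A).presheaf.stalk (f (p z)))) = φ.hom) :
    RingHom.ker (p.stalkMap z).hom = (RingHom.ker φ.hom).map (FormalAmple.baseStalk f (p z)).hom := by
  let x := p z
  let L := (Spec A).presheaf.stalk (f x)
  have hge : (RingHom.ker φ.hom).map (FormalAmple.baseStalk f x).hom ≤ RingHom.ker (p.stalkMap z).hom := by
    refine Ideal.map_le_iff_le_comap.2 fun b hb => ?_
    rw [Ideal.mem_comap, RingHom.mem_ker]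
    show p.stalkMap z (FormalAmple.baseStalk f x b) = 0
    rw [FormalAmple.stalkMap_baseStalk, show p ≫ f = f' ≫ Spec.map φ from h.w, FormalAmple.baseStalk_comp,
      show φ b = 0 from RingHom.mem_ker.1 hb, map_zero]
  refine le_antisymm (fun a ha => ?_) hge
  let I := (RingHom.ker φ.hom).map (FormalAmple.baseStalk f x).hom
  have hI : I ≠ ⊤ := fun e => by
    have h1 := hge (show (1 : X.presheaf.stalk x) ∈ I from e ▸ Submodule.mem_top)
    rw [RingHom.mem_ker, map_one] at h1
    exact one_ne_zero h1
  haveI : Nontrivial (X.presheaf.stalk x ⧸ I) := Ideal.Quotient.nontrivial_iff.mpr hI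
  haveI : IsLocalRing (X.presheaf.stalk x ⧸ I) :=
    IsLocalRing.of_surjective' (Ideal.Quotient.mk I) Ideal.Quotient.mk_surjective
  let qx : X.presheaf.stalk x ⟶ CommRingCat.of (X.presheaf.stalk x ⧸ I) :=
    CommRingCat.ofHom (Ideal.Quotient.mk I)
  haveI : IsLocalHom qx.hom :=
    IsLocalHom.of_surjective (Ideal.Quotient.mk I) Ideal.Quotient.mk_surjective
  let mu : L →+* X.presheaf.stalk x ⧸ I := (Ideal.Quotient.mk I).comp (f.stalkMap x).hom
  have hmu : ∀ b, mu (algebraMap A L b) = qx (FormalAmple.baseStalk f x b) := fun b => by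
    show Ideal.Quotient.mk I _ = Ideal.Quotient.mk I ((FormalAmple.baseStalk f x).hom b)
    rw [baseStalk_eq]
    rfl
  have hkill : ∀ l, ψ l = 0 → mu l = 0 := fun l hl => by
    obtain ⟨b, s, rfl⟩ := IsLocalization.exists_mk'_eq (f x).asIdeal.primeCompl l
    have hb : φ b = 0 := by
      show φ.hom b = 0
      rw [← hφ, RingHom.comp_apply, ← IsLocalization.mk'_spec L b s, map_mul, hl, zero_mul]
    have h0 : mu (algebraMap A L b) = 0 := by
      rw [hmu]
      exact Ideal.Quotient.eq_zero_iff_mem.2 (Ideal.mem_map_of_mem _ hb)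
    rw [← IsLocalization.mk'_spec L b s, map_mul] at h0
    exact ((IsLocalization.map_units L s).map mu).mul_left_eq_zero.1 h0
  let k0 : B' ⟶ CommRingCat.of (X.presheaf.stalk x ⧸ I) :=
    CommRingCat.ofHom (RingHom.liftOfSurjective ψ hψ ⟨mu, fun l hl => hkill l hl⟩)
  have hk : φ ≫ k0 = FormalAmple.baseStalk f x ≫ qx := by
    ext b
    show RingHom.liftOfSurjective ψ hψ ⟨mu, fun l hl => hkill l hl⟩ (φ.hom b) = qx (FormalAmple.baseStalk f x b)
    rw [← hφ, RingHom.comp_apply]
    exact (RingHom.liftOfRightInverse_comp_apply ψ (Function.surjInv hψ) (Function.rightInverse_surjInv hψ)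
      ⟨mu, fun l hl => hkill l hl⟩ _).trans (hmu b)
  let l : Spec (CommRingCat.of (X.presheaf.stalk x ⧸ I)) ⟶ Y' :=
    h.lift (Spec.map qx ≫ X.fromSpecStalk x) (Spec.map k0) (by
      rw [Category.assoc, FormalAmple.fromSpecStalk_comp, ← Spec.map_comp, ← Spec.map_comp, hk])
  have hl : l ≫ p = Spec.map qx ≫ X.fromSpecStalk x := h.lift_fst _ _ _
  let c := closedPoint (X.presheaf.stalk x ⧸ I)
  have hx' : p (l c) = x := by
    rw [← Scheme.Hom.comp_apply, hl, Scheme.Hom.comp_apply]
    exact (congrArg (X.fromSpecStalk x) Spec_closedPoint).trans X.fromSpecStalk_closedPoint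
  have hc : l c = z := (surjective_stalkMap_of_isPullback h z).2 hx'
  obtain ⟨U, hxU, sec, rfl⟩ := TopCat.Presheaf.exists_germ_eq X.presheaf a
  show X.presheaf.germ U x hxU sec ∈ I
  rw [← Ideal.Quotient.eq_zero_iff_mem]
  show qx (X.presheaf.germ U x hxU sec) = 0
  have hU : (Spec.map qx ≫ X.fromSpecStalk x) c ∈ U := by
    rw [← hl, Scheme.Hom.comp_apply, hx']; exact hxU
  have h1 := ConcreteCategory.congr_hom
    (Scheme.germ_stalkClosedPointTo_Spec_fromSpecStalk qx U hU) sec
  rw [CommRingCat.comp_apply, CommRingCat.comp_apply] at h1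
  rw [← h1]
  have key : ∀ (w : Y') (hw : p w ∈ U), w = z → p.stalkMap w (X.presheaf.germ U _ hw sec) = 0 := by
    rintro w hw rfl
    exact ha
  have h2 : ∀ (g : Spec (CommRingCat.of (X.presheaf.stalk x ⧸ I)) ⟶ X) (_ : g = l ≫ p) (hg : g c ∈ U),
      Scheme.stalkClosedPointTo g (X.presheaf.germ U _ hg sec) = 0 := by
    rintro g rfl hg
    rw [Scheme.stalkClosedPointTo_comp, CommRingCat.comp_apply]
    exact (congrArg _ (key _ hg hc)).trans (map_zero _)
  exact h2 _ hl.symm hU

/-- The contraction of a power of the maximal ideal generates that power in any model of the localisation. -/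
theorem map_comap_maximalIdeal_pow {R L L' : Type u} [CommRing R] [CommRing L] [CommRing L'] [Algebra R L]
    [Algebra R L'] (q : Ideal R) [q.IsPrime] [IsLocalization.AtPrime L q] [IsLocalization.AtPrime L' q] [IsLocalRing L]
    [IsLocalRing L'] (n : ℕ) :
    ((maximalIdeal L' ^ n).comap (algebraMap R L')).map (algebraMap R L) = maximalIdeal L ^ n := by
  let ε := IsLocalization.algEquiv q.primeCompl L' L
  rw [← ε.toAlgHom.comp_algebraMap, ← Ideal.map_map, IsLocalization.map_comap q.primeCompl L', Ideal.map_pow]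
  congr 1
  exact IsLocalRing.map_maximalIdeal_of_surjective _ ε.surjective

end Groth.Agent.FibreDualLib
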