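import Groth.Agent.ShriekBridge.GorBCLocal

/-!
# Base change of a relative dualizing complex near a point where it is invertible
-/

set_option autoImplicit false
set_option linter.style.haveILetI false
set_option linter.unusedSectionVars false
set_option backward.isDefEq.respectTransparency false
set_option maxHeartbeats 4000000

universe u

open CategoryTheory CategoryTheory.Limits AlgebraicGeometry
open Groth.Agent.DCohLib Groth.Agent.DCohMore Groth.Agent.TwistShriek Groth.Agent.FMKLib Groth.Agent.ShriekBridge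
open scoped TensorProduct

attribute [local instance] HasDerivedCategory.standard Groth.Agent.TwistShriek.linΓ

noncomputable section

namespace Groth.Agent.FibreDualLib

variable {S Y T T' : Scheme.{u}} {f : Y ⟶ S} {g : T ⟶ S} {f' : T' ⟶ T} {g' : T' ⟶ Y}
  [DCoh.HasRpush f] [DCoh.HasRpush f'] [DCoh.HasRpush g] [DCoh.HasRpush g'] [DCoh.HasLpull g] [DCoh.HasLpull g']
  {hf : DCoh.RpushPreservesQCoh f} {hf' : DCoh.RpushPreservesQCoh f'}
  {hg : DCoh.RpushPreservesQCoh g} {hg' : DCoh.RpushPreservesQCoh g'}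
  {a : DCoh.DQCoh S ⥤ DCoh.DQCoh Y} {a' : DCoh.DQCoh T ⥤ DCoh.DQCoh T'}
  [∀ (U V : Scheme.{u}) (j : U ⟶ V) [IsOpenImmersion j], PreservesFiniteLimits (Scheme.Modules.restrictFunctor j)]

/-- Near a point an object is a shift of the structure sheaf. -/
def InvAt {X : Scheme.{u}} (K : DCoh.D X) (x : X) : Prop :=
  ∃ (U : X.Opens) (n : ℤ), x ∈ U ∧
    Nonempty ((DCoh.restrictD U.ι).obj K ≅ (DCoh.inD (U : Scheme.{u}) (Coh.structureModule (U : Scheme.{u})))⟦n⟧)

/-- Near a point where an object is invertible it is, on a small affine open, a shift of the structure sheaf. -/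
theorem exists_affine_uD_at {X : Scheme.{u}} {K : DCoh.D X} {x : X} (h : InvAt K x) (O : X.Opens) (hx : x ∈ O) :
    ∃ (U : X.Opens) (d : ℤ) (_ : DCoh.HasLpull U.ι), IsAffineOpen U ∧ x ∈ U ∧ U ≤ O ∧
      Nonempty ((DCoh.Lpull U.ι).obj K ≅ uD (U : Scheme.{u}) d) := by
  obtain ⟨W, n, hxW, ⟨e⟩⟩ := h
  obtain ⟨_, ⟨U : X.Opens, hU, rfl⟩, hxU, hUW⟩ :=
    X.isBasis_affineOpens.exists_subset_of_mem_open (a := x) (u := (W ⊓ O : X.Opens)) ⟨hxW, hx⟩ (W ⊓ O).isOpen
  haveI := DCohLib.hasLpull U.ι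
  obtain ⟨s⟩ := nonempty_shift_inD (X := (U : Scheme.{u})) n
  let k := X.homOfLE (show U ≤ W from fun y hy => (hUW hy).1)
  refine ⟨U, -n, inferInstance, hU, hxU, fun y hy => (hUW hy).2, ⟨(lpullRestrictNatIso U.ι).app K ≪≫
    (restrictDCongr (X.homOfLE_ι _).symm).app K ≪≫ (restrictDComp k W.ι).app K ≪≫ (DCoh.restrictD k).mapIso e ≪≫
    Groth.Agent.DualCxLib.restrictStructureShift k n ≪≫ s⟩⟩

/-- The base change map of an upper shriek is an isomorphism near a point at which both sides are invertible. -/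
theorem exists_isIso_bcMap_at [CompactSpace Y] [QuasiSeparatedSpace Y] [CompactSpace S] [QuasiSeparatedSpace S]
    [CompactSpace T'] [QuasiSeparatedSpace T'] [IsAffine T] [IsProper f] [Flat f] [LocallyOfFinitePresentation f]
    (hsq : IsPullback g' f' f g) (adj : DCoh.RpushQ f hf ⊣ a) (adj' : DCoh.RpushQ f' hf' ⊣ a')
    (e : DCoh.RpushQ g' hg' ⋙ DCoh.RpushQ f hf ≅ DCoh.RpushQ f' hf' ⋙ DCoh.RpushQ g hg)
    (hξ : ∀ M, IsIso (xiMap adj adj' e M))
    {S₀ : Scheme.{u}} [IsAffine S₀] (i : S₀ ⟶ S) [IsOpenImmersion i] (g₀ : T ⟶ S₀) (hg₀ : g₀ ≫ i = g)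
    (OS : DCoh.DQCoh S) (hOS : Nonempty (OS.obj ≅ DCoh.inD S (Coh.structureModule S))) (z : T')
    (hM : InvAt (a.obj OS).obj (g' z))
    (hN : InvAt (a'.obj ((Dual3.LpullQ g (lpullQCoh g)).obj OS)).obj z)
    [IsIso (xiMap adj adj' e ((Dual3.LpullQ g (lpullQCoh g)).obj OS))] :
    ∃ W : T'.Opens, z ∈ W ∧
      IsIso ((DCoh.restrictD W.ι).map (bcAdjMap adj adj' e (adjQ g hg) (adjQ g' hg') OS).hom) := by
  let μ := bcAdjMap adj adj' e (adjQ g hg) (adjQ g' hg') OS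
  let O'' := (Dual3.LpullQ g (lpullQCoh g)).obj OS
  let M := a.obj OS
  let N := a'.obj O''
  -- affine neighbourhoods
  have hzS : f (g' z) ∈ i.opensRange :=
    ⟨g₀ (f' z), by rw [← Scheme.Hom.comp_apply, hg₀, ← Scheme.Hom.comp_apply, ← hsq.w, Scheme.Hom.comp_apply]⟩
  obtain ⟨U, d, hLU, hUaff, hzU, hUle, ⟨eU⟩⟩ := exists_affine_uD_at hM (f ⁻¹ᵁ i.opensRange) hzS
  haveI := hLU
  haveI : IsAffine (U : Scheme.{u}) := hUaff
  let jU := U.ι
  haveI : QuasiCompact jU := quasiCompact_of_compactSpace jU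
  let pU : (U : Scheme.{u}) ⟶ S₀ := IsOpenImmersion.lift i (jU ≫ f) (by
    rintro _ ⟨y, rfl⟩
    exact hUle y.2)
  have hpU : pU ≫ i = jU ≫ f := IsOpenImmersion.lift_fac _ _ _
  haveI : Flat (pU ≫ i) := by rw [hpU]; infer_instance
  haveI : Flat pU := MorphismProperty.of_postcomp (W := @Flat) (W' := @IsOpenImmersion) pU i inferInstance ‹_›
  let U' := Limits.pullback jU g'
  let gU : U' ⟶ U := Limits.pullback.fst jU g'
  let jU' : U' ⟶ T' := Limits.pullback.snd jU g'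
  have hU : IsPullback gU jU' jU g' := IsPullback.of_hasPullback _ _
  have houter : IsPullback gU (jU' ≫ f') (pU ≫ i) (g₀ ≫ i) := by
    rw [hpU, hg₀]; exact hU.paste_vert hsq
  have hU₀ : IsPullback gU (jU' ≫ f') pU g₀ :=
    IsPullback.mk ⟨by rw [← cancel_mono i, Category.assoc, Category.assoc, houter.w]⟩ ⟨PullbackCone.IsLimit.mk _
      (fun s => houter.lift s.fst s.snd (by rw [reassoc_of% s.condition]))
      (fun s => houter.lift_fst _ _ _) (fun s => houter.lift_snd _ _ _)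
      (fun s m h1 h2 => houter.hom_ext (by rw [houter.lift_fst, h1]) (by rw [houter.lift_snd, h2]))⟩
  haveI : IsAffine U' := .of_isIso hU₀.isoPullback.hom
  obtain ⟨W, l, hLW, hWaff, hzW, hWle, ⟨eW⟩⟩ := exists_affine_uD_at hN jU'.opensRange (by
    obtain ⟨y, -, hy⟩ := Scheme.exists_preimage_of_isPullback hU ⟨g' z, hzU⟩ z rfl
    exact ⟨y, hy⟩)
  haveI := hLW
  haveI : IsAffine (W : Scheme.{u}) := hWaff
  let w : (W : Scheme.{u}) ⟶ U' := IsOpenImmersion.lift jU' W.ι (by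
    rintro _ ⟨y, rfl⟩
    exact hWle y.2)
  have hw : w ≫ jU' = W.ι := IsOpenImmersion.lift_fac _ _ _
  haveI : IsOpenImmersion (w ≫ jU') := by rw [hw]; infer_instance
  haveI : IsOpenImmersion w := IsOpenImmersion.of_comp w jU'
  refine ⟨W, hzW, ?_⟩
  suffices IsIso ((DCoh.restrictD W.ι.opensRange.ι).map μ.hom) by
    rw [Scheme.Opens.opensRange_ι] at this
    exact this
  suffices IsIso ((DCoh.Lpull W.ι).map μ.hom) from isIso_restrictD_opensRange W.ι μ.hom
  haveI := hasLpull i; haveI := hasLpull pU; haveI := hasLpull gU; haveI := hasLpull jU'; haveI := hasLpull w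
  haveI := BC.hasRpush jU; haveI := BC.hasRpush jU'; haveI := BC.hasRpush gU; haveI := BC.hasRpush i
  haveI := BC.hasRpush g₀
  obtain ⟨cw⟩ := nonempty_lpull_square w jU' (𝟙 (W : Scheme.{u})) W.ι (by rw [Category.id_comp, hw])
  haveI := hasLpull (𝟙 (W : Scheme.{u}))
  let lW : DCoh.Lpull (𝟙 (W : Scheme.{u})) ≅ 𝟭 (DCoh.D W) := lpullRestrictNatIso _ ≪≫ restrictDId _
  let cW : DCoh.Lpull jU' ⋙ DCoh.Lpull w ≅ DCoh.Lpull W.ι :=
    cw ≪≫ Functor.isoWhiskerLeft _ lW ≪≫ Functor.rightUnitor _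
  suffices IsIso ((DCoh.Lpull w).map ((DCoh.Lpull jU').map μ.hom)) from
    (NatIso.isIso_map_iff cW μ.hom).1 this
  let zW := (DCoh.Lpull w).map ((DCoh.Lpull jU').map μ.hom)
  -- the identifications of the source and the target
  obtain ⟨cM⟩ := nonempty_lpull_square jU' g' gU jU hU.w.symm
  obtain ⟨uU⟩ := nonempty_lpull_uD gU d
  obtain ⟨uW⟩ := nonempty_lpull_uD w d
  let α : (DCoh.Lpull w).obj ((DCoh.Lpull jU').obj ((DCoh.Lpull g').obj M.obj)) ≅ uD (W : Scheme.{u}) d :=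
    (DCoh.Lpull w).mapIso (cM.app M.obj ≪≫ (DCoh.Lpull gU).mapIso eU ≪≫ uU) ≪≫ uW
  let β : (DCoh.Lpull w).obj ((DCoh.Lpull jU').obj N.obj) ≅ uD (W : Scheme.{u}) l := cW.app N.obj ≪≫ eW
  -- the twisted inverse image near `U`
  haveI : LocallyOfFiniteType f := inferInstance
  haveI := hasLpull f
  let E := DerivedCategory.Q.objPreimage M.obj
  let eE : DerivedCategory.Q.obj E ≅ M.obj := DerivedCategory.Q.objObjPreimageIso _
  haveI : DCoh.HasLTensorCx E := DCohLib.hasLTensorCx _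
  haveI : DCoh.HasLTensorCx (shiftUnitCx (U : Scheme.{u}) d) := DCohLib.hasLTensorCx _
  obtain ⟨ea⟩ := S7865.result Y S f hf a adj (fun J => S3600.result Y S f hf a adj J) OS hOS E ⟨eE⟩
  obtain ⟨l₁⟩ := nonempty_lpull_lTensor_natIso jU E (shiftUnitCx (U : Scheme.{u}) d)
    (eU.symm ≪≫ (DCoh.Lpull jU).mapIso eE.symm)
  obtain ⟨l₂⟩ := nonempty_lpull_square jU f pU i hpU.symm
  let Tn := DCoh.LTensorCx (shiftUnitCx (U : Scheme.{u}) d)
  haveI : Tn.IsEquivalence := isEquivalence_lTensor_shiftUnit d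
  haveI : Tn.Additive := CategoryTheory.Functor.additive_of_preserves_binary_products _
  let ιS := ObjectProperty.ι (DCoh.IsQCohD (X := S))
  let ιY := ObjectProperty.ι (DCoh.IsQCohD (X := Y))
  let Ψ : (a ⋙ ιY) ⋙ DCoh.Lpull jU ≅ ιS ⋙ (DCoh.Lpull i ⋙ DCoh.Lpull pU) ⋙ Tn :=
    Functor.isoWhiskerRight ea (DCoh.Lpull jU) ≪≫
      Functor.associator ιS (DCoh.Lpull f ⋙ DCoh.LTensorCx E) (DCoh.Lpull jU) ≪≫
      Functor.isoWhiskerLeft ιS (Functor.associator (DCoh.Lpull f) (DCoh.LTensorCx E) (DCoh.Lpull jU) ≪≫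
        Functor.isoWhiskerLeft (DCoh.Lpull f) l₁ ≪≫
        (Functor.associator (DCoh.Lpull f) (DCoh.Lpull jU) Tn).symm ≪≫
        Functor.isoWhiskerRight l₂ Tn)
  let G := (DCoh.RpushQ g hg).obj O''
  let Lp := DCoh.Lpull pU
  let Li := DCoh.Lpull i
  haveI := lpull_additive pU; haveI := lpull_additive w; haveI := lpull_additive gU; haveI := lpull_additive i
  haveI := lpull_additive jU
  -- transposition from `U` to `U'`
  haveI : QuasiCompact g := quasiCompact_of_compactSpace g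
  haveI : QuasiSeparated g := inferInstance
  haveI : QuasiCompact g' := MorphismProperty.of_isPullback (P := @QuasiCompact) hsq.flip ‹QuasiCompact g›
  haveI : QuasiSeparated g' := MorphismProperty.of_isPullback (P := @QuasiSeparated) hsq.flip ‹QuasiSeparated g›
  haveI := BC.hasRpush (jU' ≫ g'); haveI := BC.hasRpush (gU ≫ jU)
  obtain ⟨r₁⟩ := nonempty_rpushCompIso jU' g'
  obtain ⟨r₂⟩ := nonempty_rpushCompIso gU jU
  let e' : DCoh.Rpush jU' ⋙ DCoh.Rpush g' ≅ DCoh.Rpush gU ⋙ DCoh.Rpush jU :=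
    r₁ ≪≫ eqToIso (by simp only [hU.w]) ≪≫ r₂.symm
  let AU := lpullRpushAdj gU
  let bc := BC.bc (lpullRpushAdj jU) (lpullRpushAdj jU') e'
  haveI hbc : IsIso (bc.app N.obj) :=
    BC.bcp_qcqs g' jU jU' gU hU.flip BC.TI.of_flat (lpullRpushAdj jU) (lpullRpushAdj jU') e' N.obj N.property
  let τ : ∀ {P : DCoh.D U}, (P ⟶ (DCoh.Lpull jU).obj ((DCoh.Rpush g').obj N.obj)) →
      ((DCoh.Lpull gU).obj P ⟶ (DCoh.Lpull jU').obj N.obj) :=
    fun {P} x => (AU.homEquiv _ _).symm (x ≫ bc.app N.obj)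
  have hτ : ∀ {P : DCoh.D U}, Function.Surjective (τ (P := P)) := fun {P} y =>
    ⟨AU.homEquiv _ _ y ≫ inv (bc.app N.obj), by simp [τ]⟩
  have hτadd : ∀ {P : DCoh.D U} (x y : P ⟶ (DCoh.Lpull jU).obj ((DCoh.Rpush g').obj N.obj)),
      τ (x + y) = τ x + τ y := fun {P} x y => by
    simp only [τ, AU.homEquiv_counit, Preadditive.add_comp, Functor.map_add]
  have hτ0 : ∀ {P : DCoh.D U}, τ (0 : P ⟶ (DCoh.Lpull jU).obj ((DCoh.Rpush g').obj N.obj)) = 0 := fun {P} => by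
    simp only [τ, AU.homEquiv_counit, zero_comp, Functor.map_zero]
  -- restriction to `S₀` is bijective on maps into direct images from `T`
  haveI := BC.hasRpush (g₀ ≫ i)
  obtain ⟨r₃⟩ := nonempty_rpushCompIso g₀ i
  obtain ⟨ffi⟩ := BC.nonempty_fullyFaithful_rpush_open i
  haveI := ffi.full; haveI := ffi.faithful
  let eG : G.obj ≅ (DCoh.Rpush i).obj ((DCoh.Rpush g₀).obj O''.obj) :=
    (eqToIso (by simp only [hg₀]) : DCoh.Rpush g ≅ DCoh.Rpush (g₀ ≫ i)).app _ ≪≫ r₃.symm.app _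
  have hres : ∀ A : DCoh.D S, Function.Surjective fun v : A ⟶ G.obj => Li.map v := by
    intro A φ
    let Ai := lpullRpushAdj i
    haveI : IsIso (Ai.unit.app G.obj) := (NatTrans.isIso_app_iff_of_iso Ai.unit eG).2 inferInstance
    refine ⟨Ai.homEquiv _ _ φ ≫ inv (Ai.unit.app G.obj), (Ai.homEquiv _ _).injective ?_⟩
    rw [Ai.homEquiv_unit, ← Functor.comp_map, ← Ai.unit.naturality]
    simp
  -- maps out of the shifts of the structure sheaf of `S₀`
  obtain ⟨eOS⟩ := hOS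
  let oS : OS.obj ≅ uD S 0 := eOS ≪≫ inDIso
  obtain ⟨gT⟩ := nonempty_lpull_uD g 0
  let oT : O''.obj ≅ uD T 0 := (DCoh.Lpull g).mapIso oS ≪≫ gT
  have hv0 : ∀ m : ℤ, m ≠ 0 → ∀ φ : Li.obj (uD S m) ⟶ Li.obj G.obj, φ = 0 := by
    intro m hm φ
    obtain ⟨v, rfl⟩ := hres _ φ
    obtain ⟨gm⟩ := nonempty_lpull_uD g m
    let Ag := lpullRpushAdj g
    have h0 : (Ag.homEquiv _ _).symm (show uD S m ⟶ (DCoh.Rpush g).obj O''.obj from v) = 0 := by
      have h00 := eq_zero_uD (X := T) hm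
        (gm.inv ≫ (Ag.homEquiv _ _).symm (show uD S m ⟶ (DCoh.Rpush g).obj O''.obj from v) ≫ oT.hom)
      rw [← cancel_epi gm.inv, ← cancel_mono oT.hom, Category.assoc, h00, comp_zero, zero_comp]
    haveI : (DCoh.Rpush g).IsRightAdjoint := Ag.isRightAdjoint
    haveI : (DCoh.Rpush g).Additive := CategoryTheory.Functor.additive_of_preserves_binary_products _
    have hv : v = 0 := ((Ag.homEquiv _ _).apply_symm_apply v).symm.trans
      ((congrArg _ h0).trans (by rw [Ag.homEquiv_unit, Functor.map_zero, comp_zero]))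
    show Li.map v = 0
    rw [hv, Functor.map_zero]
  -- the shifted sources on `U`
  letI := algTop pU
  haveI := flat_top pU
  have hspan : ∀ P : DCoh.D S₀, DCoh.IsPerfect P →
      HomBC pU (idTop S₀) (idTop (U : Scheme.{u})) (fun _ => rfl) P (Li.obj G.obj) := fun P hP =>
    homBC_affine pU _ _ _ (isPushout_top pU) hP _ (TildeD.isQCohD_lpull i G.obj G.property)
  let Qm : ℤ → DCoh.D U := fun m => Tn.obj (Lp.obj (Li.obj (uD S m)))
  have hQ : ∀ m k : ℤ, m + d = k → Nonempty (Qm m ≅ uD (U : Scheme.{u}) k) := fun m k hk => by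
    obtain ⟨a₁⟩ := nonempty_lpull_uD i m
    obtain ⟨a₂⟩ := nonempty_lpull_uD pU m
    obtain ⟨a₃⟩ := nonempty_shift_inD (X := (U : Scheme.{u})) (-d)
    obtain ⟨a₄⟩ := nonempty_shift_uD (X := (U : Scheme.{u})) (-d) m k (by omega)
    obtain ⟨a₅⟩ := nonempty_lTensor_shift_structure (shiftUnitCx (U : Scheme.{u}) d) (-d)
      ⟨eqToIso (by rw [neg_neg]) ≪≫ a₃.symm⟩ (uD (U : Scheme.{u}) m)
    exact ⟨Tn.mapIso (Lp.mapIso a₁ ≪≫ a₂) ≪≫ a₅ ≪≫ a₄⟩
  let ξi : (DCoh.Rpush g').obj N.obj ≅ (a.obj G).obj :=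
    (ObjectProperty.ι _).mapIso (@asIso _ _ _ _ (xiMap adj adj' e O'') (hξ O''))
  let toS : (DCoh.Lpull jU).obj ((DCoh.Rpush g').obj N.obj) ≅ Tn.obj (Lp.obj (Li.obj G.obj)) :=
    (DCoh.Lpull jU).mapIso ξi ≪≫ Ψ.app G
  -- vanishing in the other degrees
  have hzero : ∀ k : ℤ, k ≠ d → ∀ x : uD (U : Scheme.{u}) k ⟶ (DCoh.Lpull jU).obj ((DCoh.Rpush g').obj N.obj),
      x = 0 := by
    intro k hk x
    obtain ⟨q⟩ := hQ (k - d) k (by omega)
    obtain ⟨y, hy⟩ := Tn.map_surjective (q.hom ≫ x ≫ toS.hom)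
    obtain ⟨y', hy'⟩ := (hspan (Li.obj (uD S (k - d)))
      (isPerfect_lpull i _ (isPerfect_shiftUnitCx (k - d)))).2 y
    have hy0 : y = 0 := by
      rw [← hy']
      letI := homMod (idTop S₀) (Li.obj (uD S (k - d))) (Li.obj G.obj)
      clear hy hy'
      induction y' using TensorProduct.induction_on with
      | zero => exact map_zero _
      | tmul s φ =>
        rw [bcHom_tmul, hv0 (k - d) (by omega) φ, Functor.map_zero, comp_zero]
      | add p q hp hq => rw [map_add, hp, hq, add_zero]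
    rw [← cancel_epi q.hom, ← cancel_mono toS.hom, Category.assoc, ← hy, hy0, Functor.map_zero, comp_zero,
      zero_comp]
  have himage : ∀ k : ℤ,
      (∀ x : uD (U : Scheme.{u}) k ⟶ (DCoh.Lpull jU).obj ((DCoh.Rpush g').obj N.obj),
        ∃ c, (DCoh.Lpull w).map (τ x) = c ≫ zW) →
      ∀ y : uD (W : Scheme.{u}) k ⟶ (DCoh.Lpull w).obj ((DCoh.Lpull jU').obj N.obj), ∃ c, y = c ≫ zW := by
    intro k hk y
    obtain ⟨a₁⟩ := nonempty_lpull_uD gU k
    obtain ⟨a₂⟩ := nonempty_lpull_uD w k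
    let σ : (DCoh.Lpull w).obj ((DCoh.Lpull gU).obj (uD (U : Scheme.{u}) k)) ≅ uD (W : Scheme.{u}) k :=
      (DCoh.Lpull w).mapIso a₁ ≪≫ a₂
    letI := algTop w
    haveI := flat_top w
    obtain ⟨y', hy'⟩ := (homBC_affine w (idTop U') (idTop (W : Scheme.{u})) (fun _ => rfl) (isPushout_top w)
      (P := (DCoh.Lpull gU).obj (uD (U : Scheme.{u}) k)) (isPerfect_lpull gU _ (isPerfect_shiftUnitCx k))
      ((DCoh.Lpull jU').obj N.obj) (TildeD.isQCohD_lpull jU' N.obj N.property)).2 (σ.hom ≫ y)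
    suffices ∃ c, σ.hom ≫ y = c ≫ zW by
      obtain ⟨c, hc⟩ := this
      exact ⟨σ.inv ≫ c, by rw [Category.assoc, ← hc, Iso.inv_hom_id_assoc]⟩
    rw [← hy']
    letI := homMod (idTop U') ((DCoh.Lpull gU).obj (uD (U : Scheme.{u}) k)) ((DCoh.Lpull jU').obj N.obj)
    clear hy'
    induction y' using TensorProduct.induction_on with
    | zero => exact ⟨0, by rw [map_zero, zero_comp]⟩
    | tmul s φ =>
      obtain ⟨x, rfl⟩ := hτ φ
      obtain ⟨c, hc⟩ := hk x
      exact ⟨sc (idTop (W : Scheme.{u}) s) _ ≫ c, by rw [bcHom_tmul, hc, Category.assoc]⟩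
    | add p q hp hq =>
      obtain ⟨c, hc⟩ := hp
      obtain ⟨c', hc'⟩ := hq
      exact ⟨c + c', by rw [map_add, hc, hc', Preadditive.add_comp]⟩
  -- the degrees agree
  by_cases hld : l = d
  swap
  · have hid : 𝟙 (uD (W : Scheme.{u}) l) = 0 := by
      have hall : ∀ x : uD (U : Scheme.{u}) l ⟶ (DCoh.Lpull jU).obj ((DCoh.Rpush g').obj N.obj),
          (DCoh.Lpull w).map (τ x) = 0 := fun x => by rw [hzero l hld x, hτ0, Functor.map_zero]
      obtain ⟨c, hc⟩ := himage l (fun x => ⟨0, by rw [hall x, zero_comp]⟩) β.inv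
      obtain ⟨a₁⟩ := nonempty_lpull_uD gU l
      obtain ⟨a₂⟩ := nonempty_lpull_uD w l
      rw [← β.inv_hom_id, hc, Category.assoc]
      -- maps from degree `l` into degree `d` vanish
      have : c = 0 := by
        rw [← cancel_mono α.hom, zero_comp]
        exact eq_zero_uD hld _
      rw [this, zero_comp]
    have hl0 : IsZero (uD (W : Scheme.{u}) l) := (IsZero.iff_id_eq_zero _).2 hid
    obtain ⟨s⟩ := nonempty_shift_uD (X := (W : Scheme.{u})) (l - d) l d (by omega)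
    have hd0 : IsZero (uD (W : Scheme.{u}) d) := ((shiftFunctor _ (l - d)).map_isZero hl0).of_iso s.symm
    exact ⟨0, (hd0.of_iso α).eq_of_src _ _, (hl0.of_iso β).eq_of_src _ _⟩
  subst hld
  -- the canonical element and its translates
  let P₀ := Qm 0
  let o₀ : Tn.obj (Lp.obj (Li.obj OS.obj)) ≅ P₀ := Tn.mapIso (Lp.mapIso (Li.mapIso oS))
  let ι₀ : Tn.obj (Lp.obj (Li.obj OS.obj)) ⟶ (DCoh.Lpull jU).obj M.obj := Ψ.inv.app OS
  let Gd : (uD (U : Scheme.{u}) l ⟶ (DCoh.Lpull jU).obj ((DCoh.Rpush g').obj N.obj)) → Prop :=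
    fun x => ∃ c, (DCoh.Lpull w).map (τ x) = c ≫ zW
  have hgood : ∀ x, Gd x := by
    intro x
    obtain ⟨q⟩ := hQ 0 l (by omega)
    obtain ⟨y, hy⟩ := Tn.map_surjective (o₀.hom ≫ q.hom ≫ x ≫ toS.hom)
    have hx : x = q.inv ≫ o₀.inv ≫ Tn.map y ≫ toS.inv := by simp [hy]
    obtain ⟨y', hy'⟩ := (hspan (Li.obj OS.obj)
      (isPerfect_lpull i _ (isPerfect_iso oS.symm (isPerfect_shiftUnitCx 0)))).2 y
    rw [hx, ← hy']
    letI := homMod (idTop S₀) (Li.obj OS.obj) (Li.obj G.obj)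
    clear hx hy hy'
    induction y' using TensorProduct.induction_on with
    | zero =>
      exact ⟨0, by rw [map_zero, Functor.map_zero, zero_comp, comp_zero, comp_zero, hτ0, Functor.map_zero, zero_comp]⟩
    | add p q' hp hq =>
      obtain ⟨c, hc⟩ := hp
      obtain ⟨c', hc'⟩ := hq
      refine ⟨c + c', ?_⟩
      rw [map_add, Functor.map_add, Preadditive.add_comp, Preadditive.comp_add, Preadditive.comp_add, hτadd,
        Functor.map_add, hc, hc', Preadditive.add_comp]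
    | tmul s φ =>
      obtain ⟨v, rfl⟩ := hres _ φ
      let vQ : OS ⟶ G := ObjectProperty.homMk v
      let δ : O'' ⟶ O'' := ((adjQ g hg).homEquiv OS O'').symm vQ
      have hδ : (adjQ g hg).unit.app OS ≫ (DCoh.RpushQ g hg).map δ = vQ :=
        ((adjQ g hg).homEquiv_unit _ _ _).symm.trans (Equiv.apply_symm_apply _ _)
      have hkey : a.map vQ ≫ inv (xiMap adj adj' e O'') =
          (adjQ g' hg').unit.app M ≫ (DCoh.RpushQ g' hg').map (μ ≫ a'.map δ) := by
        rw [Functor.map_comp, ← Category.assoc, unit_bcAdjMap, ← hδ, Functor.map_comp, Category.assoc,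
          Category.assoc]
        refine congrArg _ ?_
        rw [IsIso.comp_inv_eq, Category.assoc, IsIso.eq_inv_comp]
        exact (xiMap_natural adj adj' e δ).symm
      have hnat : Tn.map (Lp.map (Li.map v)) ≫ toS.inv =
          ι₀ ≫ (DCoh.Lpull jU).map ((adjQ g' hg').unit.app M).hom ≫
            (DCoh.Lpull jU).map ((DCoh.Rpush g').map (μ ≫ a'.map δ).hom) := by
        have hn := Ψ.inv.naturality vQ
        simp only [Functor.comp_map] at hn
        show Tn.map (Lp.map (Li.map v)) ≫ Ψ.inv.app G ≫ (DCoh.Lpull jU).map (inv (xiMap adj adj' e O'')).hom = _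
        erw [reassoc_of% hn]
        rw [← Functor.map_comp, ← Functor.map_comp]
        exact congrArg (fun t => ι₀ ≫ (DCoh.Lpull jU).map t) (congrArg InducedCategory.Hom.hom hkey)
      let u₀ : uD (U : Scheme.{u}) l ⟶ Tn.obj (Lp.obj (Li.obj OS.obj)) :=
        q.inv ≫ o₀.inv ≫ Tn.map (sc (idTop (U : Scheme.{u}) s) _)
      let b₀ : uD (U : Scheme.{u}) l ⟶ (DCoh.Lpull jU).obj ((DCoh.Rpush g').obj ((DCoh.Lpull g').obj M.obj)) :=
        u₀ ≫ ι₀ ≫ (DCoh.Lpull jU).map ((adjQ g' hg').unit.app M).hom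
      let y₀ := (AU.homEquiv _ _).symm (b₀ ≫ bc.app ((DCoh.Lpull g').obj M.obj))
      obtain ⟨δ', hδ'⟩ := exists_comm_uD α β zW ((DCoh.Lpull w).map ((DCoh.Lpull jU').map (a'.map δ).hom))
      refine ⟨(DCoh.Lpull w).map y₀ ≫ δ', ?_⟩
      rw [bcHom_tmul, Functor.map_comp, Category.assoc, hnat]
      have hb : q.inv ≫ o₀.inv ≫ Tn.map (sc (idTop (U : Scheme.{u}) s) _) ≫ ι₀ ≫
          (DCoh.Lpull jU).map ((adjQ g' hg').unit.app M).hom ≫
            (DCoh.Lpull jU).map ((DCoh.Rpush g').map (μ ≫ a'.map δ).hom) =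
          b₀ ≫ (DCoh.Lpull jU).map ((DCoh.Rpush g').map (μ ≫ a'.map δ).hom) := by
        simp only [b₀, u₀, Category.assoc]
      erw [hb]
      have hn2 := bc.naturality (μ ≫ a'.map δ).hom
      simp only [Functor.comp_map] at hn2
      show (DCoh.Lpull w).map ((AU.homEquiv _ _).symm ((b₀ ≫ _) ≫ bc.app N.obj)) = _
      rw [Category.assoc]
      erw [hn2]
      rw [← Category.assoc b₀, AU.homEquiv_naturality_right_symm, Functor.map_comp]
      refine (congrArg (_ ≫ ·) ?_).trans (Category.assoc _ _ _).symm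
      show (DCoh.Lpull w).map ((DCoh.Lpull jU').map (μ.hom ≫ (a'.map δ).hom)) = _
      rw [Functor.map_comp, Functor.map_comp]
      exact hδ'
  obtain ⟨c, hc⟩ := himage l hgood β.inv
  exact isIso_of_split α β zW (β.hom ≫ c) (by rw [Category.assoc, ← hc, β.hom_inv_id])

end Groth.Agent.FibreDualLib
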