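import Groth.Agent.FibreDualLib.S2End
import Groth.Agent.PullbackMod.Flat
import Groth.Agent.LocDimBC.Scheme
import Groth.Agent.EGA4Dim.FieldTensorCM
import Groth.Agent.FlatDepth.Fibres

/-!
# Base change of morphisms with `(S_k)` fibres of pure relative dimension
-/

set_option autoImplicit false
set_option linter.style.haveILetI false
set_option linter.unusedSectionVars false
set_option backward.isDefEq.respectTransparency false
set_option maxHeartbeats 1000000

universe u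

open CategoryTheory AlgebraicGeometry
open scoped TensorProduct
open Groth.Agent.DimFormulaLib

noncomputable section

namespace Groth.Agent.FibreDualLib

/-- Localisations at primes inherit `(S_k)`. -/
theorem hasSk_atPrime {S : Type u} [CommRing S] [IsNoetherianRing S] (q : Ideal S) [q.IsPrime] (k : ℕ)
    (h : LocCoh.HasSk k S S) : LocCoh.HasSk k (Localization.AtPrime q) (Localization.AtPrime q) := by
  rw [FlatDepth.hasSk_iff] at h ⊢
  intro P _
  haveI : IsLocalization.AtPrime (Localization.AtPrime P) (P.comap (algebraMap S (Localization.AtPrime q))) :=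
    IsLocalization.isLocalization_isLocalization_atPrime_isLocalization q.primeCompl (Localization.AtPrime P) P
  haveI : IsNoetherianRing (Localization.AtPrime (P.comap (algebraMap S (Localization.AtPrime q)))) :=
    IsLocalization.isNoetherianRing (P.comap (algebraMap S (Localization.AtPrime q))).primeCompl _ inferInstance
  exact FlatDepth.skLocal_of_ringEquiv (IsLocalization.algEquiv (P.comap (algebraMap S (Localization.AtPrime q))).primeCompl
    (Localization.AtPrime (P.comap (algebraMap S (Localization.AtPrime q)))) (Localization.AtPrime P)).toRingEquiv (h _)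

theorem essFiniteType_residueField (κ T : Type u) [CommRing κ] [CommRing T] [Algebra κ T]
    [Algebra.EssFiniteType κ T] (q : Ideal T) [q.IsPrime] : Algebra.EssFiniteType κ q.ResidueField := by
  haveI : Algebra.EssFiniteType κ (Localization.AtPrime q) := Algebra.EssFiniteType.comp κ T (Localization.AtPrime q)
  exact Algebra.EssFiniteType.comp κ (Localization.AtPrime q) q.ResidueField

/-- Fibre rings of a base change satisfy `(S_k)` if the original ones do. -/
theorem hasSk_fiber_baseChange (k : ℕ) (R C R' C' : Type u) [CommRing R] [CommRing C] [CommRing R'] [CommRing C']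
    [Algebra R C] [Algebra R R'] [Algebra R' C'] [Algebra C C'] [Algebra R C'] [IsScalarTower R C C']
    [IsScalarTower R R' C'] [Algebra.IsPushout R R' C C'] [Algebra.FiniteType R C]
    (p : Ideal R) [p.IsPrime] (p' : Ideal R') [p'.IsPrime] [p'.LiesOver p]
    (h : LocCoh.HasSk k (p.Fiber C) (p.Fiber C)) :
    LocCoh.HasSk k (p'.Fiber C') (p'.Fiber C') := by
  let κ := p.ResidueField
  let K := p'.ResidueField
  letI : Algebra κ K := (Ideal.ResidueField.map p p' (algebraMap R R') (p'.over_def p)).toAlgebra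
  haveI : IsScalarTower R κ K := .of_algebraMap_eq fun r =>
    (IsScalarTower.algebraMap_apply R R' K r).trans (Ideal.ResidueField.map_algebraMap _ _ _ _ r).symm
  let e₁ : K ⊗[R'] C' ≃+* K ⊗[R] C :=
    ((Algebra.TensorProduct.congr (AlgEquiv.refl : K ≃ₐ[R'] K) (Algebra.IsPushout.equiv R R' C C').symm).trans
      ((Algebra.TensorProduct.cancelBaseChange R R' R' K C).restrictScalars R')).toRingEquiv
  let e₂ : K ⊗[R] C ≃+* (p.Fiber C) ⊗[κ] K :=
    (Algebra.TensorProduct.cancelBaseChange R κ κ K C).toRingEquiv.symm.trans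
      (Algebra.TensorProduct.comm κ K (p.Fiber C)).toRingEquiv
  haveI : IsNoetherianRing (p.Fiber C) := Algebra.FiniteType.isNoetherianRing κ _
  haveI : IsNoetherianRing (K ⊗[R] C) := Algebra.FiniteType.isNoetherianRing K _
  haveI : IsNoetherianRing ((p.Fiber C) ⊗[κ] K) := isNoetherianRing_of_ringEquiv _ e₂
  have hS := EGA4Dim.hasSk_field_tensor k κ K (p.Fiber C) (fun q _ => Or.inl (essFiniteType_residueField κ (p.Fiber C) q)) h
  exact GeomRk.hasSk_of_ringEquiv (e₁.trans e₂).symm k hS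

variable {X S X' S' : Scheme.{u}} {f : X ⟶ S} {g : S' ⟶ S} {g' : X' ⟶ X} {f' : X' ⟶ S'}

/-- `(S_k)`-morphisms of pure relative dimension are stable under base change. -/
theorem isSkMor_baseChange (hc : IsPullback g' f' f g) (k d : ℕ) (hS : RelCanon.IsSkMor f k)
    (hd : Cyc.HasRelDim f d) : RelCanon.IsSkMor f' k ∧ Cyc.HasRelDim f' d := by
  haveI := hS.1
  haveI := hS.2.1
  haveI : Flat f' := MorphismProperty.of_isPullback (P := @Flat) hc hS.1
  haveI : LocallyOfFiniteType f' := MorphismProperty.of_isPullback (P := @LocallyOfFiniteType) hc hS.2.1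
  refine ⟨⟨inferInstance, inferInstance, fun x' => ?_⟩, (RelDimLib.hasRelDim_iff f' d).2 fun x' =>
    (LocDimBC.fibreDimAt_baseChange hc x').trans ((RelDimLib.hasRelDim_iff f d).1 hd _)⟩
  obtain ⟨V, W, V', hV, hW, hV', e, e', hxW, hxV'⟩ := PullbackMod.exists_affines hc x'
  obtain ⟨hW', hpo⟩ := PullbackMod.isPushout_appLE hc hV hW hV' e e'
  have hx' : x' ∈ g' ⁻¹ᵁ W ⊓ f' ⁻¹ᵁ V' := ⟨hxW, hxV'⟩
  letI : Algebra Γ(S, V) Γ(X, W) := (f.appLE V W e).hom.toAlgebra
  letI : Algebra Γ(S, V) Γ(S', V') := (g.appLE V V' e').hom.toAlgebra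
  letI : Algebra Γ(X, W) Γ(X', g' ⁻¹ᵁ W ⊓ f' ⁻¹ᵁ V') := (g'.appLE W _ inf_le_left).hom.toAlgebra
  letI : Algebra Γ(S', V') Γ(X', g' ⁻¹ᵁ W ⊓ f' ⁻¹ᵁ V') := (f'.appLE V' _ inf_le_right).hom.toAlgebra
  letI : Algebra Γ(S, V) Γ(X', g' ⁻¹ᵁ W ⊓ f' ⁻¹ᵁ V') :=
    ((g'.appLE W _ inf_le_left).hom.comp (f.appLE V W e).hom).toAlgebra
  haveI : IsScalarTower Γ(S, V) Γ(X, W) Γ(X', g' ⁻¹ᵁ W ⊓ f' ⁻¹ᵁ V') := .of_algebraMap_eq fun _ => rfl
  haveI : IsScalarTower Γ(S, V) Γ(S', V') Γ(X', g' ⁻¹ᵁ W ⊓ f' ⁻¹ᵁ V') := .of_algebraMap_eq' (by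
      show ((f.appLE V W e) ≫ g'.appLE W _ inf_le_left).hom =
        ((g.appLE V V' e') ≫ f'.appLE V' _ inf_le_right).hom
      simp only [Scheme.Hom.appLE_comp_appLE, hc.w])
  haveI : Algebra.IsPushout Γ(S, V) Γ(S', V') Γ(X, W) Γ(X', g' ⁻¹ᵁ W ⊓ f' ⁻¹ᵁ V') := hpo
  haveI : Algebra.FiniteType Γ(S, V) Γ(X, W) := f.finiteType_appLE hV hW e
  haveI : Algebra.FiniteType Γ(S', V') Γ(X', g' ⁻¹ᵁ W ⊓ f' ⁻¹ᵁ V') := f'.finiteType_appLE hV' hW' inf_le_right
  let c : Chart f (g' x') :=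
    { A := Γ(S, V), B := Γ(X, W), i := hV.fromSpec, j := hW.fromSpec,
      w := (hV.SpecMap_appLE_fromSpec f hW e).symm, q := hW.primeIdealOf ⟨g' x', hxW⟩,
      hq := hW.fromSpec_primeIdealOf ⟨g' x', hxW⟩ }
  let c' : Chart f' x' :=
    { A := Γ(S', V'), B := Γ(X', g' ⁻¹ᵁ W ⊓ f' ⁻¹ᵁ V'), i := hV'.fromSpec, j := hW'.fromSpec,
      w := (hV'.SpecMap_appLE_fromSpec f' hW' inf_le_right).symm, q := hW'.primeIdealOf ⟨x', hx'⟩,
      hq := hW'.fromSpec_primeIdealOf ⟨x', hx'⟩ }
  let p : PrimeSpectrum Γ(S, V) := PrimeSpectrum.comap (algebraMap Γ(S, V) Γ(S', V')) c'.p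
  haveI : c'.p.asIdeal.LiesOver p.asIdeal := ⟨rfl⟩
  have h1 : LocCoh.HasSk k (c'.p.asIdeal.Fiber c'.B) (c'.p.asIdeal.Fiber c'.B) :=
    hasSk_fiber_baseChange k Γ(S, V) Γ(X, W) Γ(S', V') Γ(X', g' ⁻¹ᵁ W ⊓ f' ⁻¹ᵁ V') p.asIdeal c'.p.asIdeal
      (fibre_rings k d hS hd c p).1
  rw [sk_fibre_stalk_iff f' k x', CMFlatLib.chart_stalkMap_iff (respectsIso_skFibre k) c']
  haveI : c'.q.asIdeal.LiesOver c'.p.asIdeal := ⟨rfl⟩
  obtain ⟨eB⟩ := CMFlatLib.exists_quotLocal_equiv c'.p.asIdeal c'.q.asIdeal c'.Q.asIdeal c'.comap_Q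
  haveI : IsNoetherianRing (c'.p.asIdeal.Fiber c'.B) :=
    Algebra.FiniteType.isNoetherianRing c'.p.asIdeal.ResidueField _
  haveI : IsNoetherianRing (Localization.AtPrime c'.Q.asIdeal) :=
    IsLocalization.isNoetherianRing c'.Q.asIdeal.primeCompl _ inferInstance
  have h2 : LocCoh.HasSk k (Localization.AtPrime c'.Q.asIdeal) (Localization.AtPrime c'.Q.asIdeal) :=
    hasSk_atPrime c'.Q.asIdeal k h1
  have hI : (Ideal.span (nonunits (Localization.AtPrime c'.p.asIdeal))).map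
      (Localization.localRingHom c'.p.asIdeal c'.q.asIdeal (algebraMap c'.A c'.B) rfl) =
      c'.p.asIdeal.map (algebraMap c'.A (Localization.AtPrime c'.q.asIdeal)) := by
    rw [CMFlatLib.span_nonunits, ← Localization.AtPrime.map_eq_maximalIdeal, Ideal.map_map]
    congr 1
    ext a
    exact (Localization.localRingHom_to_map c'.p.asIdeal c'.q.asIdeal (algebraMap c'.A c'.B) rfl a).trans
      (IsScalarTower.algebraMap_apply c'.A c'.B _ a).symm
  let eI := (Ideal.quotEquivOfEq hI).trans eB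
  exact ⟨isNoetherianRing_of_ringEquiv _ eI.symm, GeomRk.hasSk_of_ringEquiv eI.symm k h2⟩

end Groth.Agent.FibreDualLib
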