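import Groth.Agent.FibreDualLib.S2Reflexive
import Groth.Agent.FibreDualLib.BCGor
import Groth.Agent.FibreDualLib.SkBC
import Groth.Agent.GorSp.BaseChange
import Groth.Agent.DCohLib.PCTop
import Groth.Agent.QGorNhdLib.Basic

/-!
# Base change of the relative canonical sheaf on the relative Gorenstein locus
-/

set_option autoImplicit false
set_option linter.style.haveILetI false
set_option linter.unusedSectionVars false
set_option backward.isDefEq.respectTransparency false
set_option maxHeartbeats 1600000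

universe u

open CategoryTheory CategoryTheory.Limits AlgebraicGeometry
open Groth.Agent.DCohLib Groth.Agent.DCohMore Groth.Agent.TwistShriek Groth.Agent.CohBase
open Groth.Agent.DimFormulaLib Groth.Agent.ShriekBridge Groth.Agent.FMKLib

attribute [local instance] HasDerivedCategory.standard

noncomputable section

namespace Groth.Agent.FibreDualLib

section Local

variable {X : Scheme.{u}}
  [∀ (U V : Scheme.{u}) (j : U ⟶ V) [IsOpenImmersion j], PreservesFiniteLimits (Scheme.Modules.restrictFunctor j)]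

/-- A locally invertible object is invertible near each point. -/
theorem invAt_of_invertibleD {K : DCoh.D X} {x : X}
    (h : ∃ U : X.Opens, x ∈ U ∧ Dual3.IsInvertibleD ((DCoh.restrictD U.ι).obj K)) : InvAt K x := by
  obtain ⟨U, hxU, hU⟩ := h
  obtain ⟨W, n, hW, ⟨i⟩⟩ := hU ⟨x, hxU⟩
  let V : X.Opens := (W.ι ≫ U.ι).opensRange
  let s : (V : Scheme.{u}) ⟶ W := (W.ι ≫ U.ι).isoOpensRange.inv
  have h : V.ι = s ≫ W.ι ≫ U.ι := (Scheme.Hom.isoOpensRange_inv_comp _).symm
  exact ⟨V, n, ⟨⟨⟨x, hxU⟩, hW⟩, rfl⟩, ⟨(restrictDCongr h).app K ≪≫ (restrictDComp s (W.ι ≫ U.ι)).app K ≪≫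
    (DCoh.restrictD s).mapIso ((restrictDComp W.ι U.ι).app K ≪≫ i) ≪≫ DualCxLib.restrictStructureShift s n⟩⟩

/-- Near an invertible point there is only one cohomology sheaf. -/
theorem subsingleton_stalk_of_invAt {K : DCoh.D X} {x : X} (h : InvAt K x) (m i : ℤ) (hi : i ≠ m)
    (hm : ¬ Subsingleton ((DCoh.HD K m).presheaf.stalk x)) :
    Subsingleton ((DCoh.HD K i).presheaf.stalk x) := by
  obtain ⟨U, n, hxU, ⟨e⟩⟩ := h
  have key : ∀ j : ℤ, n + j ≠ 0 → Subsingleton ((DCoh.HD K j).presheaf.stalk x) := fun j hj => by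
    have hz : IsZero ((Scheme.Modules.restrictFunctor U.ι).obj (DCoh.HD K j)) :=
      (isZero_HD_inD_shift _ n j hj).of_iso
        ((restrictHDIso U.ι K j).symm ≪≫ (DerivedCategory.homologyFunctor _ j).mapIso e)
    exact @Equiv.subsingleton _ _
      ((Scheme.Modules.restrictStalkNatIso U.ι (⟨x, hxU⟩ : (U : Scheme.{u}))).app (DCoh.HD K j)).addCommGroupIsoToAddEquiv.toEquiv.symm
      (DCohLib.subsingleton_stalk_of_isZero hz _)
  have hn : n + m = 0 := by
    by_contra hne
    exact hm (key m hne)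
  exact key i (by omega)

/-- An invertible module has no zero stalk. -/
theorem nontrivial_stalk_of_invertibleAt {M : X.Modules} {x : X} (h : RelCanon.InvertibleAt M x) :
    ¬ Subsingleton (M.presheaf.stalk x) := by
  obtain ⟨U, hxU, ⟨i⟩⟩ := h
  intro hs
  let z : (U : Scheme.{u}) := ⟨x, hxU⟩
  have h1 : Subsingleton (((Scheme.Modules.restrictFunctor U.ι).obj M).presheaf.stalk z) :=
    @Equiv.subsingleton _ _
      ((Scheme.Modules.restrictStalkNatIso U.ι z).app M).addCommGroupIsoToAddEquiv.toEquiv hs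
  have h2 : Subsingleton ((Coh.structureModule (U : Scheme.{u})).presheaf.stalk z) :=
    @Equiv.subsingleton _ _ ((DCohLib.stkF z).mapIso i).toLinearEquiv.toEquiv.symm h1
  haveI : Subsingleton ((U : Scheme.{u}).presheaf.stalk z) :=
    @Equiv.subsingleton _ _ (QGorNhdLib.oneEquiv (U : Scheme.{u}) z).toEquiv h2
  exact one_ne_zero (Subsingleton.elim (1 : (U : Scheme.{u}).presheaf.stalk z) 0)

end Local

variable {A : Type u} [CommRing A] [IsNoetherianRing A] {Y : Scheme.{u}}

/-- The relative canonical sheaf is the bottom cohomology of the upper shriek of the base. -/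
theorem shriek_model [Y.Over (Spec (CommRingCat.of A))] [IsProper (Y ↘ Spec (CommRingCat.of A))]
    [∀ (U V : Scheme.{u}) (j : U ⟶ V) [IsOpenImmersion j], PreservesFiniteLimits (Scheme.Modules.restrictFunctor j)]
    (d : ℕ) (hS : RelCanon.IsSkMor (Y ↘ Spec (CommRingCat.of A)) 2)
    (hd : Cyc.HasRelDim (Y ↘ Spec (CommRingCat.of A)) d) (ω : Y.Modules)
    (hω : RelCanon.IsDualizingSheaf A Y d ω) [DCoh.HasRpush (Y ↘ Spec (CommRingCat.of A))]
    {h : DCoh.RpushPreservesQCoh (Y ↘ Spec (CommRingCat.of A))}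
    {a : DCoh.DQCoh (Spec (CommRingCat.of A)) ⥤ DCoh.DQCoh Y}
    (adj : DCoh.RpushQ (Y ↘ Spec (CommRingCat.of A)) h ⊣ a) (O : DCoh.DQCoh (Spec (CommRingCat.of A)))
    (eO : O.obj ≅ DCoh.inD _ (Coh.structureModule (Spec (CommRingCat.of A)))) :
    Nonempty (DCoh.HD (a.obj O).obj (-(d : ℤ)) ≅ ω) ∧
    ∀ y : Y, Dual3.IsGorensteinAt (Y ↘ Spec (CommRingCat.of A)) y →
      InvAt (a.obj O).obj y ∧
      ∀ i : ℤ, i ≠ -(d : ℤ) → Subsingleton ((DCoh.HD (a.obj O).obj i).presheaf.stalk y) := by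
  let f := Y ↘ Spec (CommRingCat.of A)
  let S := Spec (CommRingCat.of A)
  haveI : ∀ (R : CommRingCat.{u}), PreservesFiniteLimits (tilde.functor R) := fun R =>
    TildeD.preservesFiniteLimits_tilde
  haveI : IsNoetherianRing (CommRingCat.of A) := inferInstanceAs (IsNoetherianRing A)
  haveI : IsLocallyNoetherian Y := LocallyOfFiniteType.isLocallyNoetherian f
  haveI : CompactSpace Y := QuasiCompact.compactSpace_of_compactSpace f
  haveI : IsNoetherian Y := {}
  haveI : Flat f := hS.1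
  have hfib := dim_fiber_le f d hd
  have hO : Nonempty (O.obj ≅ DCoh.inD S (Coh.structureModule S)) := ⟨eO⟩
  let cp := idComp f
  haveI : DCoh.HasRpush cp.fbar := ‹DCoh.HasRpush f›
  let adjc : DCoh.RpushQ cp.fbar h ⊣ a := adj
  let M := (Dual3.shriekC cp a).obj O
  let eM : M ≅ (a.obj O).obj := (restrictDId (X := Y)).app (a.obj O).obj
  have hlow : ∀ i : ℤ, i < -(d : ℤ) → IsZero (DCoh.HD (a.obj O).obj i) := fun i hi => by
    refine (DCohLib.isZero_of_stalks fun y => ?_).of_iso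
      ((DerivedCategory.homologyFunctor Y.Modules i).mapIso eM.symm)
    obtain ⟨c⟩ := exists_chart f y
    haveI := isNoetherianRing_base c
    haveI := isNoetherianRing_total c
    haveI := ShriekBridge.flat_of_chart c
    obtain ⟨P⟩ := nonempty_pres c.A c.B
    obtain ⟨E, -⟩ := RelDualCMLib.exists_stalk_chart (cp := cp) adjc O hO c P c.q i
    haveI := RelDualCMLib.subsingleton_relOmega_of_lt_neg P.hψ P.adj d
      (fun p => (fibre_rings 2 d hS hd c p).2) i hi
    haveI : Subsingleton (Dual.HD c.B P.omega i) := ‹_›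
    exact c.hq ▸ E.toEquiv.subsingleton
  haveI hGE : (a.obj O).obj.IsGE (-(d : ℤ)) := (DerivedCategory.isGE_iff _ _).2 hlow
  obtain ⟨tr₀, htr₀⟩ := exists_isRDualOver_adjoint A Y h a adj O eO d hGE
    (fun F hF j hj => by
      haveI := hF
      obtain ⟨p, rfl⟩ : ∃ p, j = p + 1 := ⟨j - 1, by omega⟩
      exact subsingleton_HH _ _ (FibreVanishQC.subsingleton_HU_affine f d hfib F p (by omega)))
    (Iso.refl _)
  obtain ⟨tr, htr⟩ := id hω
  obtain ⟨e₀⟩ := nonempty_iso_of_isRDualOver_ring A htr₀ htr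
  refine ⟨⟨e₀⟩, fun y hy => ?_⟩
  obtain ⟨U, hyU, hU⟩ := (ShriekBridge.gorensteinAt_iff_invertible (cp := cp) adjc O hO y).1 hy
  have hinv : InvAt M y := invAt_of_invertibleD ⟨U, hyU, hU⟩
  have hinv' : InvAt (a.obj O).obj y := by
    obtain ⟨V, n, hV, ⟨i⟩⟩ := hinv
    exact ⟨V, n, hV, ⟨(DCoh.restrictD V.ι).mapIso eM.symm ≪≫ i⟩⟩
  refine ⟨hinv', fun i hi => subsingleton_stalk_of_invAt hinv' _ i hi fun hs => ?_⟩
  exact nontrivial_stalk_of_invertibleAt ((relCanonical_model d hS hd ω hω).2.1 y hy)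
    (@Equiv.subsingleton _ _ ((DCohLib.stkF y).mapIso e₀).toLinearEquiv.toEquiv.symm hs)

/-- The relative Gorenstein locus of a proper flat morphism is open. -/
theorem isOpen_gorLocus [Y.Over (Spec (CommRingCat.of A))] [IsProper (Y ↘ Spec (CommRingCat.of A))]
    [Flat (Y ↘ Spec (CommRingCat.of A))] : IsOpen (RelCanon.gorLocus (Y ↘ Spec (CommRingCat.of A))) := by
  let f := Y ↘ Spec (CommRingCat.of A)
  haveI : ∀ (R : CommRingCat.{u}), PreservesFiniteLimits (tilde.functor R) := fun R =>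
    TildeD.preservesFiniteLimits_tilde
  haveI : IsNoetherianRing (CommRingCat.of A) := inferInstanceAs (IsNoetherianRing A)
  haveI : IsLocallyNoetherian Y := LocallyOfFiniteType.isLocallyNoetherian f
  haveI : CompactSpace Y := QuasiCompact.compactSpace_of_compactSpace f
  haveI : IsNoetherian Y := {}
  haveI := BC.hasRpush f
  haveI := isLeftAdjoint_rpushQ' f
  let cp := idComp f
  haveI : DCoh.HasRpush cp.fbar := ‹DCoh.HasRpush f›
  let adjc : DCoh.RpushQ cp.fbar (rpushQC f) ⊣ (DCoh.RpushQ f (rpushQC f)).rightAdjoint :=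
    Adjunction.ofIsLeftAdjoint (DCoh.RpushQ f (rpushQC f))
  rw [isOpen_iff_forall_mem_open]
  intro y hy
  obtain ⟨U, hyU, hU⟩ :=
    (ShriekBridge.gorensteinAt_iff_invertible (cp := cp) adjc (oQ _) ⟨Iso.refl _⟩ y).1 hy
  exact ⟨U, fun z hz => (ShriekBridge.gorensteinAt_iff_invertible (cp := cp) adjc (oQ _) ⟨Iso.refl _⟩ z).2
    ⟨U, hz, hU⟩, U.2, hyU⟩

/-- Over the relative Gorenstein locus the relative canonical sheaf commutes with base change. -/
theorem nonempty_restrict_pullback_iso [Y.Over (Spec (CommRingCat.of A))] [IsProper (Y ↘ Spec (CommRingCat.of A))]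
    (d : ℕ) (hS : RelCanon.IsSkMor (Y ↘ Spec (CommRingCat.of A)) 2)
    (hd : Cyc.HasRelDim (Y ↘ Spec (CommRingCat.of A)) d) (ω : Y.Modules)
    (hω : RelCanon.IsDualizingSheaf A Y d ω)
    {B : Type u} [CommRing B] [IsNoetherianRing B] (φ : A →+* B) {Y' : Scheme.{u}}
    [Y'.Over (Spec (CommRingCat.of B))] (p : Y' ⟶ Y)
    (hp : IsPullback p (Y' ↘ Spec (CommRingCat.of B)) (Y ↘ Spec (CommRingCat.of A)) (Spec.map (CommRingCat.ofHom φ)))
    (ω' : Y'.Modules) (hω' : RelCanon.IsDualizingSheaf B Y' d ω') (U : Y.Opens)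
    (hU : (U : Set Y) ⊆ RelCanon.gorLocus (Y ↘ Spec (CommRingCat.of A))) :
    Nonempty (((Scheme.Modules.pullback p).obj ω).restrict (p ⁻¹ᵁ U).ι ≅ ω'.restrict (p ⁻¹ᵁ U).ι) := by
  let f := Y ↘ Spec (CommRingCat.of A)
  let f' := Y' ↘ Spec (CommRingCat.of B)
  let S := Spec (CommRingCat.of A)
  let T := Spec (CommRingCat.of B)
  let g : T ⟶ S := Spec.map (CommRingCat.ofHom φ)
  haveI : ∀ (R : CommRingCat.{u}), PreservesFiniteLimits (tilde.functor R) := fun R =>
    TildeD.preservesFiniteLimits_tilde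
  haveI : ∀ (U V : Scheme.{u}) (j : U ⟶ V) [IsOpenImmersion j],
      PreservesFiniteLimits (Scheme.Modules.restrictFunctor j) := fun U V j _ => inferInstance
  haveI : IsNoetherianRing (CommRingCat.of A) := inferInstanceAs (IsNoetherianRing A)
  haveI : IsNoetherianRing (CommRingCat.of B) := inferInstanceAs (IsNoetherianRing B)
  haveI : Flat f := hS.1
  haveI : LocallyOfFinitePresentation f := S14008.lfp_of_lft f
  haveI : IsProper f' := MorphismProperty.of_isPullback (P := @IsProper) hp ‹_›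
  haveI : IsProper (Y' ↘ Spec (CommRingCat.of B)) := ‹IsProper f'›
  haveI : Flat f' := MorphismProperty.of_isPullback (P := @Flat) hp hS.1
  haveI : IsAffineHom g := inferInstance
  haveI : IsAffineHom p := MorphismProperty.of_isPullback (P := @IsAffineHom) hp.flip ‹IsAffineHom g›
  haveI : IsLocallyNoetherian Y := LocallyOfFiniteType.isLocallyNoetherian f
  haveI : CompactSpace Y := QuasiCompact.compactSpace_of_compactSpace f
  haveI : IsNoetherian Y := {}
  haveI : IsLocallyNoetherian Y' := LocallyOfFiniteType.isLocallyNoetherian f'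
  haveI : CompactSpace Y' := QuasiCompact.compactSpace_of_compactSpace f'
  haveI : IsNoetherian Y' := {}
  obtain ⟨hS', hd'⟩ := isSkMor_baseChange hp 2 d hS hd
  haveI := BC.hasRpush f; haveI := BC.hasRpush f'; haveI := BC.hasRpush g; haveI := BC.hasRpush p
  haveI := hasLpull g; haveI := hasLpull p
  haveI := isLeftAdjoint_rpushQ' f; haveI := isLeftAdjoint_rpushQ' f'
  let a := (DCoh.RpushQ f (rpushQC f)).rightAdjoint
  let a' := (DCoh.RpushQ f' (rpushQC f')).rightAdjoint
  let adj : DCoh.RpushQ f (rpushQC f) ⊣ a := Adjunction.ofIsLeftAdjoint _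
  let adj' : DCoh.RpushQ f' (rpushQC f') ⊣ a' := Adjunction.ofIsLeftAdjoint _
  obtain ⟨e, hξ⟩ := exists_isIso_xi (hg := rpushQC g) (hg' := rpushQC p) hp BC.TI.of_flat_left adj adj'
  have hξ' : ∀ M, IsIso (xiMap adj adj' e M) := hξ
  let OT := (Dual3.LpullQ g (lpullQCoh g)).obj (oQ S)
  haveI : IsIso (xiMap adj adj' e OT) := hξ' _
  let μ := bcAdjMap adj adj' e (adjQ g (rpushQC g)) (adjQ p (rpushQC p)) (oQ S)
  obtain ⟨u⟩ := TwistFam.nonempty_lpull_structure g
  obtain ⟨⟨e₀⟩, hY⟩ := shriek_model d hS hd ω hω adj (oQ S) (Iso.refl _)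
  obtain ⟨⟨e₀'⟩, hY'⟩ := shriek_model d hS' hd' ω' hω' adj' OT u
  have hgor : ∀ z : Y', p z ∈ U → Dual3.IsGorensteinAt f' z := fun z hz => by
    have h := hU hz
    have hN := CMFlatLib.noethFibre_of_isLocallyNoetherian (f := f) (p z)
      (haveI : LocallyOfFiniteType (f.fiberToSpecResidueField (f (p z))) :=
        MorphismProperty.pullback_snd (P := @LocallyOfFiniteType) _ _ hS.2.1
       LocallyOfFiniteType.isLocallyNoetherian (f.fiberToSpecResidueField (f (p z))))
    have h' : GorSp.GorFibre (f.stalkMap (p z)).hom := ((GorSp.gorAt_iff_gorFibre f (p z)).1 h).2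
    rw [GorSp.gorAt_iff_gorFibre]
    exact ⟨CMFlatLib.flat_stalkMap_baseChange hp z ((GorSp.gorAt_iff_gorFibre f (p z)).1 h).1,
      (GorSp.gorFibre_isPullback_iff hp z hN (Or.inr inferInstance)).2 h'⟩
  -- the base change map is invertible over the open set
  let U' : Y'.Opens := p ⁻¹ᵁ U
  let j' := U'.ι
  let L := (DCoh.restrictD j')
  haveI hμ : IsIso (L.map μ.hom) := by
    refine isIso_of_restrictD _ fun z => ?_
    obtain ⟨W, hzW, hW⟩ := exists_isIso_bcMap_at hp adj adj' e hξ' (𝟙 S) g (Category.comp_id g) (oQ S)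
      ⟨Iso.refl _⟩ (j' z) (hY _ (hU z.2)).1 (hY' _ (hgor _ z.2)).1
    let W₀ : (U' : Scheme.{u}).Opens := j' ⁻¹ᵁ W
    let k : (W₀ : Scheme.{u}) ⟶ W := j'.resLE W W₀ le_rfl
    have hk : k ≫ W.ι = W₀.ι ≫ j' := Scheme.Hom.resLE_comp_ι _ _
    haveI : IsOpenImmersion (k ≫ W.ι) := by rw [hk]; infer_instance
    haveI : IsOpenImmersion k := IsOpenImmersion.of_comp k W.ι
    refine ⟨W₀, hzW, ?_⟩
    have h1 : IsIso ((DCoh.restrictD k).map ((DCoh.restrictD W.ι).map μ.hom)) := by
      haveI := hW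
      infer_instance
    have h2 := (NatIso.isIso_map_iff (restrictDComp k W.ι) μ.hom).2 h1
    exact (NatIso.isIso_map_iff (restrictDComp W₀.ι j') μ.hom).1
      ((NatIso.isIso_map_iff (restrictDCongr hk) μ.hom).1 h2)
  -- both sides on the open set
  let M := (a.obj (oQ S)).obj
  let j := U.ι
  let q : (U' : Scheme.{u}) ⟶ U := p ∣_ U
  have hq : q ≫ j = j' ≫ p := morphismRestrict_ι p U
  haveI := hasLpull j; haveI := hasLpull j'; haveI := hasLpull q
  haveI : ((DCoh.Lpull j).obj M).IsLE (-(d : ℤ)) := (DerivedCategory.isLE_iff _ _).2 fun i hi => by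
    refine IsZero.of_iso ?_ ((DerivedCategory.homologyFunctor _ i).mapIso ((lpullRestrictNatIso j).app M) ≪≫
      restrictHDIso j M i)
    refine DCohLib.isZero_of_stalks fun z => ?_
    exact @Equiv.subsingleton _ _
      ((Scheme.Modules.restrictStalkNatIso j z).app (DCoh.HD M i)).addCommGroupIsoToAddEquiv.toEquiv
      ((hY _ (hU z.2)).2 i (by omega))
  obtain ⟨t⟩ := nonempty_HD_top_lpull q ((DCoh.Lpull j).obj M) (-(d : ℤ))
  obtain ⟨c⟩ := nonempty_lpull_square q j j' p hq
  let Pq := Scheme.Modules.pullback q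
  let src : DCoh.HD ((DCoh.Lpull j').obj ((DCoh.Lpull p).obj M)) (-(d : ℤ)) ≅
      ((Scheme.Modules.pullback p).obj ω).restrict j' :=
    (DerivedCategory.homologyFunctor _ (-(d : ℤ))).mapIso (c.app M).symm ≪≫ t ≪≫
      Pq.mapIso ((DerivedCategory.homologyFunctor _ (-(d : ℤ))).mapIso ((lpullRestrictNatIso j).app M) ≪≫
        restrictHDIso j M _ ≪≫ (Scheme.Modules.restrictFunctor j).mapIso e₀ ≪≫
        (Scheme.Modules.restrictFunctorIsoPullback j).app ω) ≪≫
      (Scheme.Modules.pullbackComp q j).app ω ≪≫ (Scheme.Modules.pullbackCongr hq).app ω ≪≫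
      ((Scheme.Modules.pullbackComp j' p).app ω).symm ≪≫
      ((Scheme.Modules.restrictFunctorIsoPullback j').app _).symm
  exact ⟨src.symm ≪≫ (DerivedCategory.homologyFunctor _ (-(d : ℤ))).mapIso
      ((lpullRestrictNatIso j').app ((DCoh.Lpull p).obj M) ≪≫ @asIso _ _ _ _ (L.map μ.hom) hμ) ≪≫
    restrictHDIso j' _ _ ≪≫ (Scheme.Modules.restrictFunctor j').mapIso e₀'⟩

end Groth.Agent.FibreDualLib
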