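import Groth.Agent.FibreDualLib.BCInv
import Groth.Agent.EGA4Dim.TensorSk

/-!
# Relative `(S₂)` of base changes of reflexive powers
-/

set_option autoImplicit false
set_option linter.style.haveILetI false
set_option linter.unusedSectionVars false
set_option backward.isDefEq.respectTransparency false
set_option maxHeartbeats 1000000

universe u

open CategoryTheory CategoryTheory.Limits AlgebraicGeometry
open Groth.Agent.DCohLib Groth.Agent.CohBase

noncomputable section

namespace Groth.Agent.FibreDualLib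

variable {Z : Scheme.{u}}

/-- A stalk is the localisation of the sections over an affine open. -/
theorem fibIso_stalk (F : Z.Modules) [Coh.IsQCoh F] {W : Z.Opens} (hW : IsAffineOpen W) {v : Z} (hv : v ∈ W) :
    FibreDepth.FibIso (Localization.AtPrime (AssLib.pr hW hv))
      (LocalizedModule (AssLib.pr hW hv).primeCompl Γ(F, W)) (Z.presheaf.stalk v) (F.presheaf.stalk v) := by
  letI : Algebra Γ(Z, W) (Z.presheaf.stalk v) := TopCat.Presheaf.algebra_section_stalk Z.presheaf ⟨v, hv⟩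
  haveI : IsLocalization.AtPrime (Z.presheaf.stalk v) (AssLib.pr hW hv) := hW.isLocalization_stalk ⟨v, hv⟩
  letI : Module Γ(Z, W) (F.presheaf.stalk v) := Module.compHom _ (Z.presheaf.germ W v hv).hom
  haveI : IsScalarTower Γ(Z, W) (Z.presheaf.stalk v) (F.presheaf.stalk v) := .of_algebraMap_smul fun _ _ => rfl
  haveI := FlatLocus.isLocalizedModule_germL F hW v hv
  let φ := IsLocalization.algEquiv (AssLib.pr hW hv).primeCompl (Localization.AtPrime (AssLib.pr hW hv))
    (Z.presheaf.stalk v)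
  let e := IsLocalizedModule.iso (AssLib.pr hW hv).primeCompl (FlatLocus.germL F W v hv)
  refine ⟨φ.toRingEquiv.toRingHom, φ.surjective, e.toAddEquiv, fun r n => ?_⟩
  show e (r • n) = φ r • e n
  obtain ⟨⟨a, s⟩, has⟩ := IsLocalization.surj (AssLib.pr hW hv).primeCompl r
  have hu : IsUnit (algebraMap Γ(Z, W) (Z.presheaf.stalk v) s) := IsLocalization.map_units _ s
  apply hu.smul_left_cancel.1
  rw [algebraMap_smul, ← map_smul, ← algebraMap_smul (Localization.AtPrime (AssLib.pr hW hv)) (s : Γ(Z, W)) (r • n),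
    ← mul_smul, mul_comm, has, algebraMap_smul, map_smul, ← algebraMap_smul (Z.presheaf.stalk v) a (e n),
    ← φ.commutes a, ← has, map_mul, φ.commutes, mul_comm, mul_smul, algebraMap_smul]

/-- Serre's condition at a point from the inequalities at its generalisations. -/
theorem skAt_of_forall_generization [IsLocallyNoetherian Z] {F : Z.Modules} (hF : Coh.IsCoh F) (k : ℕ) (w : Z)
    (h : ∀ v : Z, v ⤳ w → EGA4Dim.SkIneq k (Z.presheaf.stalk v) (F.presheaf.stalk v)) :
    RelCanon.SkAt k F w := by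
  haveI := hF.1
  obtain ⟨_, ⟨W : Z.Opens, (hW : IsAffineOpen W), rfl⟩, hwW, -⟩ :=
    Z.isBasis_affineOpens.exists_subset_of_mem_open (Set.mem_univ w) isOpen_univ
  haveI : Module.Finite Γ(Z, W) Γ(F, W) := QCohLib.finite_sections F hF.2 hW
  let q := AssLib.pr hW hwW
  haveI : Module.Finite (Localization.AtPrime q) (LocalizedModule q.primeCompl Γ(F, W)) :=
    Module.Finite.of_isLocalizedModule q.primeCompl (LocalizedModule.mkLinearMap q.primeCompl Γ(F, W))
  refine ((fibIso_stalk F hW hwW).hasSk_iff k).1 ((EGA4Dim.hasSkAt_iff q).2 fun P hP hPq => ?_)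
  let v := AssLib.pt hW ⟨P, hP⟩
  have hv : v ∈ W := AssLib.pt_mem hW _
  have hpr : AssLib.pr hW hv = P := AssLib.pr_pt hW _
  haveI := PullbackMod.finite_stalk_of_isFT hF.2 v
  have hvw : v ⤳ w := (AssLib.specializes_iff hW hwW hv).2 (hpr.le.trans hPq)
  have aux : ∀ (P' : Ideal Γ(Z, W)) [P'.IsPrime], P' = AssLib.pr hW hv →
      EGA4Dim.SkIneq k (Localization.AtPrime P') (LocalizedModule P'.primeCompl Γ(F, W)) := by
    rintro P' _ rfl
    exact (EGA4Dim.skIneq_of_fibIso (fibIso_stalk F hW hv)).2 (h v hvw)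
  exact aux P hpr.symm

/-- A trivialisation on an open subset of an open subscheme. -/
def restrictImageIso {Y : Scheme.{u}} (U : Y.Opens) (V : (U : Scheme.{u}).Opens) (P : Y.Modules)
    (i : (P.restrict U.ι).restrict V.ι ≅ Coh.structureModule (V : Scheme.{u})) :
    P.restrict (U.ι ''ᵁ V).ι ≅ Coh.structureModule ((U.ι ''ᵁ V : Y.Opens) : Scheme.{u}) :=
  ParaFLib.restrictCongr (show (U.ι ''ᵁ V).ι = (U.ι.isoImage V).inv ≫ (V.ι ≫ U.ι) by
      rw [Iso.eq_inv_comp]; exact (U.ι.isoImage_hom_ι V)) P ≪≫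
    ParaFLib.restrictComp (U.ι.isoImage V).inv (V.ι ≫ U.ι) P ≪≫
    (Scheme.Modules.restrictFunctor (U.ι.isoImage V).inv).mapIso (ParaFLib.restrictComp V.ι U.ι P ≪≫ i) ≪≫
    DCohLib.restrictUnit (U.ι.isoImage V).inv

variable {A : Type u} [CommRing A] [IsNoetherianRing A] {Y : Scheme.{u}} [Y.Over (Spec (CommRingCat.of A))]
  [IsProper (Y ↘ Spec (CommRingCat.of A))]
  {B : Type u} [CommRing B] [IsNoetherianRing B] {X : Scheme.{u}} [X.Over (Spec (CommRingCat.of B))]

/-- Relative `(S₂)` of a reflexive power of the relative canonical sheaf is stable under base change. -/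
theorem relSk_refPowZ_baseChange (d : ℕ) (hS : RelCanon.IsSkMor (Y ↘ Spec (CommRingCat.of A)) 2)
    (hd : Cyc.HasRelDim (Y ↘ Spec (CommRingCat.of A)) d) (ω : Y.Modules)
    (hω : RelCanon.IsDualizingSheaf A Y d ω) (U : Y.Opens)
    (hU : (U : Set Y) ⊆ RelCanon.gorLocus (Y ↘ Spec (CommRingCat.of A)))
    (hG : ∀ y : Y, y ∉ U →
      (2 : WithBot ℕ∞) ≤ ringKrullDim (((Y ↘ Spec (CommRingCat.of A)).fiber ((Y ↘ Spec (CommRingCat.of A)) y)).presheaf.stalk
        ((Y ↘ Spec (CommRingCat.of A)).asFiber y)))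
    (φ : A →+* B) (p : X ⟶ Y)
    (hp : IsPullback p (X ↘ Spec (CommRingCat.of B)) (Y ↘ Spec (CommRingCat.of A)) (Spec.map (CommRingCat.ofHom φ)))
    (ω' : X.Modules) (hω' : RelCanon.IsDualizingSheaf B X d ω') (m : ℤ)
    (hSk : RelCanon.RelSk (Y ↘ Spec (CommRingCat.of A)) 2 (RelCanon.refPowZ ω m)) :
    RelCanon.RelSk (X ↘ Spec (CommRingCat.of B)) 2 (RelCanon.refPowZ ω' m) := by
  let f' := X ↘ Spec (CommRingCat.of B)
  haveI : IsNoetherianRing (CommRingCat.of A) := inferInstanceAs (IsNoetherianRing A)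
  haveI : IsNoetherianRing (CommRingCat.of B) := inferInstanceAs (IsNoetherianRing B)
  haveI : IsProper f' := MorphismProperty.of_isPullback (P := @IsProper) hp ‹_›
  haveI : IsLocallyNoetherian Y := LocallyOfFiniteType.isLocallyNoetherian (Y ↘ Spec (CommRingCat.of A))
  haveI : IsLocallyNoetherian X := LocallyOfFiniteType.isLocallyNoetherian f'
  obtain ⟨-, -, hiso⟩ := refPowZ_baseChange d hS hd ω hω U hU hG φ p hp ω' hω' m
  obtain ⟨e⟩ := hiso hSk
  obtain ⟨-, hcoh, hpow⟩ := refPowZ_restrict_gor d hS hd ω hω U hU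
  obtain ⟨-, hPinv, hnt⟩ := hpow m
  obtain ⟨hS', -⟩ := isSkMor_baseChange hp 2 d hS hd
  let P := RelCanon.refPowZ ω m
  have hPcoh : Coh.IsCoh P := by
    cases m with
    | ofNat n => exact RefOne.isCoh_dual (RefOne.isCoh_dual (isCoh_tensorPow hcoh n))
    | negSucc n => exact RefOne.isCoh_dual (RefOne.isCoh_dual (isCoh_tensorPow (RefOne.isCoh_dual hcoh) (n + 1)))
  haveI := hPcoh.1
  intro z
  refine ⟨PullbackMod.isFlatOverAt_of_iso e f' z (PullbackMod.isFlatOverAt_baseChange hp P z (hSk _).1), ?_⟩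
  let s := f' z
  haveI : LocallyOfFiniteType (f'.fiberToSpecResidueField s) := MorphismProperty.pullback_snd _ _ hS'.2.1
  haveI : IsLocallyNoetherian (f'.fiber s) := LocallyOfFiniteType.isLocallyNoetherian (f'.fiberToSpecResidueField s)
  let F := (Scheme.Modules.pullback (f'.fiberι s)).obj ((Scheme.Modules.pullback p).obj P)
  have hF : Coh.IsCoh F := PullbackMod.isCoh_pullback _ _ (PullbackMod.isCoh_pullback p _ hPcoh)
  refine (QGorNhdLib.hasSk_congr_module
    ((DCohLib.stkF (f'.asFiber z)).mapIso ((Scheme.Modules.pullback (f'.fiberι s)).mapIso e)).toLinearEquiv 2).1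
    (skAt_of_forall_generization hF 2 _ fun v _ => ?_)
  haveI := PullbackMod.finite_stalk_of_isFT hF.2 v
  by_cases hv : p (f'.fiberι s v) ∈ U
  · have hinvP : RelCanon.InvertibleAt P (p (f'.fiberι s v)) := by
      obtain ⟨V, hV, ⟨i⟩⟩ := hPinv ⟨_, hv⟩
      refine ⟨U.ι ''ᵁ V, ⟨_, hV, rfl⟩, ⟨?_⟩⟩
      exact restrictImageIso U V P i
    obtain ⟨j⟩ := exists_stalk_equiv_of_invertibleAt
      (invertibleAt_pullback (f'.fiberι s) (x := v) (invertibleAt_pullback p hinvP))
    have hO : LocCoh.HasSk 2 ((f'.fiber s).presheaf.stalk v) ((f'.fiber s).presheaf.stalk v) :=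
      forall_fiber f' (P := fun t w => LocCoh.HasSk 2 ((f'.fiber t).presheaf.stalk w) ((f'.fiber t).presheaf.stalk w))
        (fun x => (QGorNhdLib.skAt_structureModule_iff _ _ 2).1 (hS'.2.2 x)) s v
    exact EGA4Dim.skIneq_of_hasSk ((QGorNhdLib.hasSk_congr_module j 2).1 hO)
  · exact (min_le_left _ _).trans (WithBot.coe_le_coe.2
      (two_le_depth_fibre_baseChange hp hPcoh U hnt hG s v (hSk _) hv))

end Groth.Agent.FibreDualLib
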