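import Groth.Agent.FibreDualLib.Torsion

/-!
# Invertibility of reflexive powers prime to the residue characteristic
-/

set_option autoImplicit false
set_option linter.style.haveILetI false
set_option linter.unusedSectionVars false
set_option backward.isDefEq.respectTransparency false
set_option backward.isDefEq.respectTransparency.types false
set_option maxHeartbeats 1600000

universe u

open CategoryTheory CategoryTheory.Limits AlgebraicGeometry IsLocalRing TopologicalSpace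

noncomputable section

namespace Groth.Agent.FibreDualLib

section General

variable {Z : Scheme.{u}}

/-- Invertibility of a restriction gives invertibility at the points of the open set. -/
theorem invertibleAt_of_restrict (U : Z.Opens) {P : Z.Modules} (h : PicF.IsInvertible (P.restrict U.ι)) {v : Z}
    (hv : v ∈ U) : RelCanon.InvertibleAt P v := by
  obtain ⟨V, hvV, ⟨i⟩⟩ := h ⟨v, hv⟩
  exact ⟨U.ι ''ᵁ V, ⟨_, hvV, rfl⟩, ⟨restrictImageIso U V _ i⟩⟩

/-- Invertibility at the points of an open set gives invertibility of the restriction. -/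
theorem isInvertible_restrict_of_forall (U : Z.Opens) {P : Z.Modules}
    (h : ∀ v : Z, v ∈ U → RelCanon.InvertibleAt P v) : PicF.IsInvertible (P.restrict U.ι) := fun v =>
  invertibleAt_of_iso ((Scheme.Modules.restrictFunctorIsoPullback U.ι).app P).symm
    (invertibleAt_pullback U.ι (h _ v.2))

variable [IsLocallyNoetherian Z]

/-- A double dual agrees with a module where that is invertible. -/
theorem nonempty_ddual_restrict (U : Z.Opens) {X : Z.Modules} (hX : Coh.IsCoh X)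
    (h : PicF.IsInvertible (X.restrict U.ι)) : Nonempty ((RefHull.ddual X).restrict U.ι ≅ X.restrict U.ι) := by
  haveI : IsLocallyNoetherian (U : Scheme.{u}) := isLocallyNoetherian_of_isOpenImmersion U.ι
  haveI := hX.1
  haveI := (RefOne.isCoh_dual hX).1
  haveI := (DCohMore.isCoh_restrict' (RefOne.isCoh_dual hX) U).1
  haveI := (DCohMore.isCoh_restrict' hX U).1
  haveI := (RefOne.isCoh_dual (DCohMore.isCoh_restrict' hX U)).1
  obtain ⟨d1⟩ := nonempty_dual_restrict U (RefHull.dual X)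
  obtain ⟨d2⟩ := nonempty_dual_restrict U X
  obtain ⟨d3⟩ := nonempty_dual_congr d2
  obtain ⟨d4⟩ := nonempty_ddual_iso h
  exact ⟨d1 ≪≫ d3 ≪≫ d4.symm⟩

/-- Non-negative reflexive powers are tensor powers where the module is invertible. -/
theorem nonempty_refPow_restrict (U : Z.Opens) {ω : Z.Modules} (hω : Coh.IsCoh ω)
    (h : PicF.IsInvertible (ω.restrict U.ι)) (k : ℕ) :
    Nonempty ((RelCanon.refPowZ ω k).restrict U.ι ≅ CohB1.tensorPow (ω.restrict U.ι) k) := by
  obtain ⟨a⟩ := nonempty_ddual_restrict U (isCoh_tensorPow hω k)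
    (ParaFLib.isInvertible_of_iso (tensorPowRestrict U ω k).symm (AmpleLib.isInvertible_tensorPow h k))
  exact ⟨a ≪≫ tensorPowRestrict U ω k⟩

/-- Powers of non-negative reflexive powers where the module is invertible. -/
theorem nonempty_pow_refPow_restrict (U : Z.Opens) {ω : Z.Modules} (hω : Coh.IsCoh ω)
    (h : PicF.IsInvertible (ω.restrict U.ι)) (r n : ℕ) :
    Nonempty ((RefHull.ddual (CohB1.tensorPow (RelCanon.refPowZ ω r) n)).restrict U.ι ≅
      CohB1.tensorPow (ω.restrict U.ι) (r * n)) := by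
  obtain ⟨a⟩ := nonempty_refPow_restrict U hω h r
  have hG : Coh.IsCoh (RelCanon.refPowZ ω r) := RefOne.isCoh_dual (RefOne.isCoh_dual (isCoh_tensorPow hω r))
  let b : (CohB1.tensorPow (RelCanon.refPowZ ω r) n).restrict U.ι ≅ CohB1.tensorPow (ω.restrict U.ι) (r * n) :=
    tensorPowRestrict U _ n ≪≫ AmpleLib.powCongr a n ≪≫ AmpleLib.powMul _ r n
  obtain ⟨c⟩ := nonempty_ddual_restrict U (isCoh_tensorPow hG n)
    (ParaFLib.isInvertible_of_iso b.symm (AmpleLib.isInvertible_tensorPow h (r * n)))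
  exact ⟨c ≪≫ b⟩

/-- Depth two of a double dual along a closed set where the structure sheaf has depth two. -/
theorem two_le_idealDepth_ddual (U : Z.Opens) {H : Z.Modules} (hH : Coh.IsCoh H) (z : Z)
    (hB2 : 2 ≤ LocCoh.idealDepth (idealOff U z) (Z.presheaf.stalk z)) :
    2 ≤ LocCoh.idealDepth (idealOff U z) ((RefHull.ddual H).presheaf.stalk z) := by
  let B := Z.presheaf.stalk z
  haveI := hH.1
  haveI : Module.Finite B (H.presheaf.stalk z) := PullbackMod.finite_stalk_of_isFT hH.2 z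
  haveI := Module.finitePresentation_of_finite B (H.presheaf.stalk z)
  haveI : Module.Finite B (Module.Dual B (H.presheaf.stalk z)) := inferInstance
  obtain ⟨eDD⟩ := exists_stalk_ddual_equiv hH z
  exact (FibDepthLib.two_le_idealDepth_dual hB2 _).trans_eq (CAlgBasics.idealDepth_congr eDD.symm)

/-- Invertibility of double duals which agree off a set of depth two. -/
theorem invertibleAt_ddual_congr (U : Z.Opens) {H H' : Z.Modules} (hH : Coh.IsCoh H) (hH' : Coh.IsCoh H') (z : Z)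
    (hB2 : 2 ≤ LocCoh.idealDepth (idealOff U z) (Z.presheaf.stalk z))
    (e : (RefHull.ddual H).restrict U.ι ≅ (RefHull.ddual H').restrict U.ι)
    (h : RelCanon.InvertibleAt (RefHull.ddual H) z) : RelCanon.InvertibleAt (RefHull.ddual H') z := by
  have h1 : Coh.IsCoh (RefHull.ddual H) := RefOne.isCoh_dual (RefOne.isCoh_dual hH)
  have h2 : Coh.IsCoh (RefHull.ddual H') := RefOne.isCoh_dual (RefOne.isCoh_dual hH')
  obtain ⟨i⟩ := stalk_iso_of_restrict U h1 h2 e z (two_le_idealDepth_ddual U hH z hB2)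
    (two_le_idealDepth_ddual U hH' z hB2)
  obtain ⟨l⟩ := exists_stalk_equiv_of_invertibleAt h
  exact invertibleAt_of_stalk_equiv h2 (l.trans i)

end General

variable {A : Type u} [CommRing A] [IsNoetherianRing A] {Y : Scheme.{u}} [Y.Over (Spec (CommRingCat.of A))]
  [IsProper (Y ↘ Spec (CommRingCat.of A))]

local notation3 "S₀" => Spec (CommRingCat.of A)

/-- Depth two of a local ring along the non-Gorenstein locus from the codimension in the fibre. -/
theorem two_le_idealDepth_stalk_near (hS : RelCanon.IsSkMor (Y ↘ S₀) 2) (U : Y.Opens) (y : Y)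
    (hG : ∀ v : Y, (Y ↘ S₀) v = (Y ↘ S₀) y → v ⤳ y → v ∉ U →
      (2 : WithBot ℕ∞) ≤ ringKrullDim (((Y ↘ S₀).fiber ((Y ↘ S₀) v)).presheaf.stalk ((Y ↘ S₀).asFiber v))) :
    2 ≤ LocCoh.idealDepth (idealOff U y) (Y.presheaf.stalk y) := by
  let f₀ := Y ↘ S₀
  haveI : IsNoetherianRing (CommRingCat.of A) := inferInstanceAs (IsNoetherianRing A)
  haveI : IsLocallyNoetherian Y := LocallyOfFiniteType.isLocallyNoetherian f₀
  haveI := hS.1
  let R := (Spec (CommRingCat.of A)).presheaf.stalk (f₀ y)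
  let B := Y.presheaf.stalk y
  letI : Algebra R B := (f₀.stalkMap y).hom.toAlgebra
  haveI : Module.Flat R B := Flat.stalkMap f₀ y
  haveI : IsLocalHom (algebraMap R B) := inferInstanceAs (IsLocalHom (f₀.stalkMap y).hom)
  exact two_le_idealDepth_of_fibre_ideal (R := R) (idealOff U y) (two_le_idealDepth_fibMod_self_near hS U y hG)

/-- If the first reflexive power is invertible then all are. -/
theorem invertibleAt_refPowZ_of_one (d : ℕ) (hS : RelCanon.IsSkMor (Y ↘ S₀) 2) (hd : Cyc.HasRelDim (Y ↘ S₀) d)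
    (ω : Y.Modules) (hω : RelCanon.IsDualizingSheaf A Y d ω) (U : Y.Opens)
    (hU : (U : Set Y) ⊆ RelCanon.gorLocus (Y ↘ S₀)) (y : Y)
    (hG : ∀ v : Y, (Y ↘ S₀) v = (Y ↘ S₀) y → v ⤳ y → v ∉ U →
      (2 : WithBot ℕ∞) ≤ ringKrullDim (((Y ↘ S₀).fiber ((Y ↘ S₀) v)).presheaf.stalk ((Y ↘ S₀).asFiber v)))
    (h1 : RelCanon.InvertibleAt (RelCanon.refPowZ ω (1 : ℕ)) y) (m : ℤ) :
    RelCanon.InvertibleAt (RelCanon.refPowZ ω m) y := by
  haveI : IsNoetherianRing (CommRingCat.of A) := inferInstanceAs (IsNoetherianRing A)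
  haveI : IsLocallyNoetherian Y := LocallyOfFiniteType.isLocallyNoetherian (Y ↘ S₀)
  obtain ⟨hinv, hcoh, hpow⟩ := refPowZ_restrict_gor d hS hd ω hω U hU
  let G := RelCanon.refPowZ ω (1 : ℕ)
  have hG' : Coh.IsCoh G := RefOne.isCoh_dual (RefOne.isCoh_dual (isCoh_tensorPow hcoh 1))
  obtain ⟨V, hyV, ⟨i⟩⟩ := h1
  haveI : IsLocallyNoetherian (V : Scheme.{u}) := isLocallyNoetherian_of_isOpenImmersion V.ι
  have hGV : PicF.IsInvertible (G.restrict V.ι) :=
    ParaFLib.isInvertible_of_iso i.symm ParaFLib.isInvertible_structureModule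
  obtain ⟨e1⟩ := nonempty_refPowZ_restrict V hG' m
  have hGm : RelCanon.InvertibleAt (RelCanon.refPowZ G m) y :=
    invertibleAt_of_restrict V (ParaFLib.isInvertible_of_iso e1.symm (isInvertible_refPowZ hGV m)) hyV
  obtain ⟨T, hT, hGT⟩ := exists_eq_ddual hG' m
  obtain ⟨T', hT', hωT⟩ := exists_eq_ddual hcoh m
  obtain ⟨a⟩ := nonempty_refPow_restrict U hcoh hinv 1
  let a' : G.restrict U.ι ≅ ω.restrict U.ι := a ≪≫ AmpleLib.powOne _
  obtain ⟨e2⟩ := nonempty_refPowZ_restrict U hG' m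
  obtain ⟨e3⟩ := nonempty_refPowZ_restrict U hcoh m
  obtain ⟨c⟩ := nonempty_refPowZ_congr (ParaFLib.isInvertible_of_iso a'.symm hinv) hinv a' m
  let e : (RelCanon.refPowZ G m).restrict U.ι ≅ (RelCanon.refPowZ ω m).restrict U.ι := e2 ≪≫ c ≪≫ e3.symm
  rw [hωT]
  rw [hGT] at hGm e
  rw [hωT] at e
  exact invertibleAt_ddual_congr U hT hT' y (two_le_idealDepth_stalk_near hS U y hG) e hGm

/-- A reflexive power is invertible if a multiple, by a number prime to the residue characteristic, is and the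
corresponding power on the fibre is. -/
theorem invertibleAt_refPow_of_mul (d : ℕ) (hS : RelCanon.IsSkMor (Y ↘ S₀) 2) (hd : Cyc.HasRelDim (Y ↘ S₀) d)
    (ω : Y.Modules) (hω : RelCanon.IsDualizingSheaf A Y d ω) (U : Y.Opens)
    (hU : (U : Set Y) ⊆ RelCanon.gorLocus (Y ↘ S₀)) (y : Y)
    (hG : ∀ v : Y, (Y ↘ S₀) v = (Y ↘ S₀) y → v ⤳ y → v ∉ U →
      (2 : WithBot ℕ∞) ≤ ringKrullDim (((Y ↘ S₀).fiber ((Y ↘ S₀) v)).presheaf.stalk ((Y ↘ S₀).asFiber v)))
    (r n : ℕ) (hn : 0 < n) (hnk : (n : (Spec (CommRingCat.of A)).residueField ((Y ↘ S₀) y)) ≠ 0)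
    (hT : RelCanon.InvertibleAt (RelCanon.refPowZ ω (r * n : ℕ)) y)
    (ωy : ((Y ↘ S₀).fiber ((Y ↘ S₀) y)).Modules)
    (hωy : @RelCanon.IsDualizingSheaf ((Spec (CommRingCat.of A)).residueField ((Y ↘ S₀) y)) _
      ((Y ↘ S₀).fiber ((Y ↘ S₀) y)) ⟨(Y ↘ S₀).fiberToSpecResidueField ((Y ↘ S₀) y)⟩ d ωy)
    (h0 : RelCanon.InvertibleAt (RelCanon.refPowZ ωy r) ((Y ↘ S₀).asFiber y)) :
    RelCanon.InvertibleAt (RelCanon.refPowZ ω r) y := by
  let f₀ := Y ↘ S₀
  haveI : IsNoetherianRing (CommRingCat.of A) := inferInstanceAs (IsNoetherianRing A)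
  haveI : IsLocallyNoetherian Y := LocallyOfFiniteType.isLocallyNoetherian f₀
  obtain ⟨hinv, hcoh, hpow⟩ := refPowZ_restrict_gor d hS hd ω hω U hU
  let t := f₀ y
  let k := (Spec (CommRingCat.of A)).residueField t
  let Yt := f₀.fiber t
  letI : Yt.Over (Spec (CommRingCat.of k)) := ⟨f₀.fiberToSpecResidueField t⟩
  haveI : IsNoetherianRing (CommRingCat.of k) := inferInstanceAs (IsNoetherianRing k)
  obtain ⟨φ, hp⟩ := exists_fibre_hom f₀ t
  haveI : IsProper (Yt ↘ Spec (CommRingCat.of k)) := MorphismProperty.of_isPullback (P := @IsProper) hp ‹_›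
  haveI : IsLocallyNoetherian Yt := LocallyOfFiniteType.isLocallyNoetherian (Yt ↘ Spec (CommRingCat.of k))
  obtain ⟨hS', hd'⟩ := isSkMor_baseChange hp 2 d hS hd
  let Ut := (f₀.fiberι t) ⁻¹ᵁ U
  have hUt : (Ut : Set Yt) ⊆ RelCanon.gorLocus (Yt ↘ Spec (CommRingCat.of k)) := fun v hv =>
    preimage_gor_subset hp rfl (hU hv)
  obtain ⟨hinvt, hcoht, -⟩ := refPowZ_restrict_gor (A := k) (Y := Yt) d hS' hd' ωy hωy Ut hUt
  let G := RelCanon.refPowZ ω r
  have hGcoh : Coh.IsCoh G := RefOne.isCoh_dual (RefOne.isCoh_dual (isCoh_tensorPow hcoh r))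
  have hGinv : ∀ v : Y, v ∈ U → RelCanon.InvertibleAt G v := fun v hv => invertibleAt_of_restrict U (hpow r).2.1 hv
  have hB2 := two_le_idealDepth_stalk_near hS U y hG
  refine invertibleAt_of_pow hS U hGcoh hGinv y hG (two_le_idealDepth_ddual U (isCoh_tensorPow hcoh r) y hB2)
    n hn hnk ?_ ?_
  · obtain ⟨a⟩ := nonempty_pow_refPow_restrict U hcoh hinv r n
    obtain ⟨b⟩ := nonempty_refPow_restrict U hcoh hinv (r * n)
    exact invertibleAt_ddual_congr U (isCoh_tensorPow hcoh (r * n)) (isCoh_tensorPow hGcoh n) y hB2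
      (b ≪≫ a.symm) hT
  · obtain ⟨a⟩ := nonempty_refPow_restrict U hcoh hinv r
    obtain ⟨i⟩ := nonempty_restrict_pullback_iso d hS hd ω hω φ (f₀.fiberι t) hp ωy hωy U hU
    obtain ⟨b⟩ := nonempty_refPow_restrict Ut hcoht hinvt r
    let Q := (Scheme.Modules.pullback (f₀.fiberι t)).obj G
    have hQ : Coh.IsCoh Q := PullbackMod.isCoh_pullback _ _ hGcoh
    let j : (Scheme.Modules.pullback (f₀.fiberι t ∣_ U)).obj (ω.restrict U.ι) ≅ ωy.restrict Ut.ι :=
      (pullbackRestrict (f₀.fiberι t) U ω).symm ≪≫ i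
    let c : Q.restrict Ut.ι ≅ (RelCanon.refPowZ ωy r).restrict Ut.ι :=
      pullbackRestrict (f₀.fiberι t) U G ≪≫ (Scheme.Modules.pullback (f₀.fiberι t ∣_ U)).mapIso a ≪≫
        AmpleLib.pullPow _ _ r ≪≫ AmpleLib.powCongr j r ≪≫ b.symm
    obtain ⟨c'⟩ := nonempty_ddual_restrict Ut hQ (ParaFLib.isInvertible_of_iso (c ≪≫ b).symm
      (AmpleLib.isInvertible_tensorPow hinvt r))
    have hdimt : ∀ v : Yt, v ⤳ f₀.asFiber y → v ∉ Ut → (2 : WithBot ℕ∞) ≤ ringKrullDim (Yt.presheaf.stalk v) := by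
      have h := forall_fiber f₀ (P := fun s w => s = t → f₀.fiberι s w ⤳ y → f₀.fiberι s w ∉ U →
        (2 : WithBot ℕ∞) ≤ ringKrullDim ((f₀.fiber s).presheaf.stalk w)) (fun x hx hxy hxo => by
          rw [f₀.fiberι_asFiber] at hxy hxo
          exact hG x hx hxy hxo) t
      exact fun v hvw hv => h v rfl ((hvw.map (f₀.fiberι t).continuous).trans
        (specializes_of_eq (f₀.fiberι_asFiber y))) hv
    have hBt : 2 ≤ LocCoh.idealDepth (idealOff Ut (f₀.asFiber y)) (Yt.presheaf.stalk (f₀.asFiber y)) := by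
      refine (two_le_idealDepth_of_skAt_near (DevLib.isCoh_structureModule Yt) Ut (f₀.asFiber y) (hS.2.2 y)
        (fun v _ _ => (RefOne.oEquiv v).toEquiv.symm.nontrivial) hdimt).trans_eq
        (CAlgBasics.idealDepth_congr (RefOne.oEquiv (f₀.asFiber y)).symm)
    exact invertibleAt_ddual_congr Ut (isCoh_tensorPow hcoht r) hQ (f₀.asFiber y) hBt (c.symm ≪≫ c'.symm) h0

end Groth.Agent.FibreDualLib
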