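import Groth.Agent.FibreDualLib.CM
import Groth.Agent.RelDualCMLib.S2Bound
import Groth.Agent.QGorNhdLib.Basic
import Groth.Agent.RefOne.Stalk

/-!
# Endomorphisms of the relative canonical sheaf of a proper `(S₂)`-morphism
-/

set_option autoImplicit false
set_option linter.style.haveILetI false
set_option linter.unusedSectionVars false
set_option backward.isDefEq.respectTransparency false
set_option maxHeartbeats 1600000

universe u

open CategoryTheory CategoryTheory.Limits AlgebraicGeometry
open Groth.Agent.DCohLib Groth.Agent.DCohMore Groth.Agent.TwistShriek Groth.Agent.CohBase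
open Groth.Agent.DimFormulaLib Groth.Agent.ShriekBridge

attribute [local instance] HasDerivedCategory.standard

noncomputable section

namespace Groth.Agent.FibreDualLib

section Local

/-- `(S_k)` of the closed fibre ring of a map. -/
def SkFibre (k : ℕ) {R S : Type u} [CommRing R] [CommRing S] (g : R →+* S) : Prop :=
  IsNoetherianRing (S ⧸ (Ideal.span (nonunits R)).map g) ∧
    LocCoh.HasSk k (S ⧸ (Ideal.span (nonunits R)).map g) (S ⧸ (Ideal.span (nonunits R)).map g)

theorem respectsIso_skFibre (k : ℕ) : RingHom.RespectsIso (@SkFibre k) := by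
  refine ⟨fun {R S T} _ _ _ g e h => ?_, fun {R S T} _ _ _ g e h => ?_⟩
  · let E := Ideal.quotientEquiv ((Ideal.span (nonunits R)).map g) ((Ideal.span (nonunits R)).map (e.toRingHom.comp g)) e
      (Ideal.map_map g (e : S →+* T)).symm
    haveI := h.1
    exact ⟨isNoetherianRing_of_ringEquiv _ E, GeomRk.hasSk_of_ringEquiv E k h.2⟩
  · let E := Ideal.quotEquivOfEq
      (I := (Ideal.span (nonunits S)).map g) (J := (Ideal.span (nonunits R)).map (g.comp e.toRingHom))
      (by rw [← Ideal.map_map, CMFlatLib.map_span_nonunits e])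
    haveI := h.1
    exact ⟨isNoetherianRing_of_ringEquiv _ E, GeomRk.hasSk_of_ringEquiv E k h.2⟩

variable {X Y : Scheme.{u}} {f : X ⟶ Y}

theorem sk_fibre_stalk_iff (f : X ⟶ Y) [LocallyOfFiniteType f] (k : ℕ) (x : X) :
    RelCanon.SkAt k (Coh.structureModule (f.fiber (f x))) (f.asFiber x) ↔ SkFibre k (f.stalkMap x).hom := by
  rw [QGorNhdLib.skAt_structureModule_iff]
  have key : ∀ x' : X, x' = x → (SkFibre k (f.stalkMap x').hom ↔ SkFibre k (f.stalkMap x).hom) := by
    rintro x' rfl; rfl
  rw [← key _ (f.fiberι_asFiber x)]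
  let e := (Ideal.quotEquivOfEq (show (Ideal.span (nonunits _)).map (f.stalkMap (f.fiberι (f x) (f.asFiber x))).hom =
      RingHom.ker ((f.fiberι (f x)).stalkMap (f.asFiber x)).hom by
        rw [CMFlatLib.span_nonunits, FlatLocus.ker_fiberι_stalkMap])).trans
    (RingHom.quotientKerEquivOfSurjective (f := ((f.fiberι (f x)).stalkMap (f.asFiber x)).hom)
      (FlatLocus.fiberι_stalkMap_surjective f (f x) (f.asFiber x)))
  haveI : LocallyOfFiniteType (f.fiberToSpecResidueField (f x)) := MorphismProperty.pullback_snd _ _ ‹_›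
  haveI : IsLocallyNoetherian (f.fiber (f x)) :=
    LocallyOfFiniteType.isLocallyNoetherian (f.fiberToSpecResidueField (f x))
  exact ⟨fun h => ⟨isNoetherianRing_of_ringEquiv _ e.symm, GeomRk.hasSk_of_ringEquiv e.symm k h⟩,
    fun h => haveI := h.1; GeomRk.hasSk_of_ringEquiv e k h.2⟩

theorem hasSk_localization_Q [LocallyOfFiniteType f] {x : X} (c : Chart f x) (k : ℕ)
    (h : RelCanon.SkAt k (Coh.structureModule (f.fiber (f x))) (f.asFiber x)) :
    LocCoh.HasSk k (Localization.AtPrime c.Q.asIdeal) (Localization.AtPrime c.Q.asIdeal) := by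
  have h' := (CMFlatLib.chart_stalkMap_iff (respectsIso_skFibre k) c).1 ((sk_fibre_stalk_iff f k x).1 h)
  obtain ⟨eB⟩ := CMFlatLib.exists_quotLocal_equiv c.p.asIdeal c.q.asIdeal c.Q.asIdeal c.comap_Q
  haveI := h'.1
  refine GeomRk.hasSk_of_ringEquiv ((Ideal.quotEquivOfEq ?_).trans eB) k h'.2
  rw [CMFlatLib.span_nonunits, ← Localization.AtPrime.map_eq_maximalIdeal, Ideal.map_map]
  congr 1
  ext a
  exact (Localization.localRingHom_to_map c.p.asIdeal c.q.asIdeal (algebraMap c.A c.B) rfl a).trans
    (IsScalarTower.algebraMap_apply c.A c.B _ a).symm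

/-- The fibre rings of a chart of an `(S₂)`-morphism of pure relative dimension. -/
theorem fibre_rings [LocallyOfFiniteType f] (k : ℕ) (d : ℕ) (hS : RelCanon.IsSkMor f k)
    (hd : Cyc.HasRelDim f d) {x : X} (c : Chart f x) (p : PrimeSpectrum c.A) :
    LocCoh.HasSk k (p.asIdeal.Fiber c.B) (p.asIdeal.Fiber c.B) ∧
      ∀ P : PrimeSpectrum (p.asIdeal.Fiber c.B), P.asIdeal ∈ minimalPrimes (p.asIdeal.Fiber c.B) →
        Order.coheight P = (d : ℕ∞) := by
  have hmove : ∀ Q : PrimeSpectrum (p.asIdeal.Fiber c.B),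
      FlatMor.localDim (PrimeSpectrum (p.asIdeal.Fiber c.B)) Q = (d : WithBot ℕ∞) ∧
        LocCoh.HasSk k (Localization.AtPrime Q.asIdeal) (Localization.AtPrime Q.asIdeal) := by
    intro Q
    obtain ⟨⟨q, hq⟩, rfl⟩ := (PrimeSpectrum.preimageEquivFiber c.A c.B p).surjective Q
    obtain rfl : PrimeSpectrum.comap (algebraMap c.A c.B) q = p := hq
    exact ⟨(c.move q).fibreDimAt_eq.symm.trans ((RelDimLib.hasRelDim_iff f d).1 hd _),
      hasSk_localization_Q (c.move q) k (hS.2.2 _)⟩
  haveI : IsNoetherianRing (p.asIdeal.Fiber c.B) := Algebra.FiniteType.isNoetherianRing p.asIdeal.ResidueField _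
  refine ⟨(SerreLib.hasSk_localRing_iff k).2 fun Q hQ => ?_, fun P hP => ?_⟩
  · rw [IsLocalization.AtPrime.ringKrullDim_eq_height Q]
    exact GeomRk.hasSk_apply Q.primeCompl (Localization.AtPrime Q) k (hmove ⟨Q, hQ⟩).2 Q
      (Set.disjoint_left.2 fun _ h1 h2 => h1 h2)
  · obtain ⟨t, ht⟩ := exists_nat_trdeg_quotient p.asIdeal.ResidueField (p.asIdeal.Fiber c.B) P.asIdeal
    have hl := (localDim_bounds p.asIdeal.ResidueField (p.asIdeal.Fiber c.B) P t (fun P' n _ hle hn => by
      obtain rfl : P' = P := le_antisymm hle ((PrimeSpectrum.isMin_iff.2 hP) hle)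
      have : n = t := by exact_mod_cast hn.symm.trans ht
      exact this.le) ⟨P, le_rfl, ht⟩).1
    rw [(hmove P).1] at hl
    have h1 := ringKrullDim_eq_trdeg p.asIdeal.ResidueField t ht
    rw [CatLib.ringKrullDim_quotient_eq_coheight, ← hl] at h1
    exact_mod_cast h1

end Local

section Algebra

theorem mapExtendScalars_id {B T M N : Type u} [CommRing B] [CommRing T] [Algebra B T] (S : Submonoid B)
    [IsLocalization S T] [AddCommGroup M] [Module B M] [AddCommGroup N] [Module B N] [Module T N]
    [IsScalarTower B T N] (g : M →ₗ[B] N) [IsLocalizedModule S g] :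
    IsLocalizedModule.mapExtendScalars S g g T LinearMap.id = LinearMap.id := by
  ext v
  simp [IsLocalizedModule.mapExtendScalars, IsLocalizedModule.map_id]

/-- A map commuting with two localizations of one module is bijective. -/
theorem bijective_of_comp_eq {B : Type u} [CommRing B] (S : Submonoid B) {M P Q : Type u} [AddCommGroup M] [Module B M]
    [AddCommGroup P] [Module B P] [AddCommGroup Q] [Module B Q] (f : M →ₗ[B] P) [IsLocalizedModule S f]
    (g : M →ₗ[B] Q) [IsLocalizedModule S g] (Φ : P →ₗ[B] Q) (h : ∀ x, Φ (f x) = g x) : Function.Bijective Φ := by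
  have : Φ = (IsLocalizedModule.linearEquiv S f g).toLinearMap := by
    refine IsLocalizedModule.ext S f (IsLocalizedModule.map_units g) (LinearMap.ext fun x => ?_)
    simp only [LinearMap.comp_apply, LinearEquiv.coe_coe, IsLocalizedModule.linearEquiv_apply]
    exact h x
  rw [this]
  exact LinearEquiv.bijective _

theorem toEnd_bijective_of_isLocalizedModule {B T M N : Type u} [CommRing B] [CommRing T] [Algebra B T]
    (S : Submonoid B) [IsLocalization S T] [AddCommGroup M] [Module B M] [Module.FinitePresentation B M]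
    [AddCommGroup N] [Module B N] [Module T N] [IsScalarTower B T N] (g : M →ₗ[B] N) [IsLocalizedModule S g]
    (h : Function.Bijective fun b : B => b • (LinearMap.id : M →ₗ[B] M)) :
    Function.Bijective fun r : T => r • (LinearMap.id : N →ₗ[T] N) := by
  haveI : IsLocalizedModule S (IsLocalizedModule.mapExtendScalars S g g T) :=
    Module.FinitePresentation.isLocalizedModule_mapExtendScalars _ _ _ _
  haveI : IsLocalizedModule S (Algebra.linearMap B T) :=
    (isLocalizedModule_iff_isLocalization' S T).2 inferInstance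
  let e₀ : B ≃ₗ[B] (M →ₗ[B] M) :=
    LinearEquiv.ofBijective (LinearMap.toSpanSingleton B (M →ₗ[B] M) LinearMap.id) h
  haveI : IsLocalizedModule S (IsLocalizedModule.mapExtendScalars S g g T ∘ₗ e₀.toLinearMap) :=
    IsLocalizedModule.of_linearEquiv_right S (IsLocalizedModule.mapExtendScalars S g g T) e₀
  exact bijective_of_comp_eq S (Algebra.linearMap B T)
    (IsLocalizedModule.mapExtendScalars S g g T ∘ₗ e₀.toLinearMap)
    ((LinearMap.toSpanSingleton T (N →ₗ[T] N) LinearMap.id).restrictScalars B) fun b => by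
      show algebraMap B T b • (LinearMap.id : N →ₗ[T] N) =
        IsLocalizedModule.mapExtendScalars S g g T (b • (LinearMap.id : M →ₗ[B] M))
      rw [map_smul, mapExtendScalars_id S g, algebraMap_smul]

/-- Scalar endomorphisms localize. -/
theorem toEnd_bijective_localized {B T : Type u} [CommRing B] [IsNoetherianRing B] [CommRing T] (χ : B →+* T)
    (q : Ideal B) [q.IsPrime] (hT : letI := χ.toAlgebra; IsLocalization.AtPrime T q) {M N : Type u}
    [AddCommGroup M] [Module B M] [Module.Finite B M] [AddCommGroup N] [Module T N]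
    (E : N ≃+ LocalizedModule q.primeCompl M) (hE : ∀ (b : B) y, E (χ b • y) = b • E y)
    (h : Function.Bijective fun b : B => b • (LinearMap.id : M →ₗ[B] M)) :
    Function.Bijective fun r : T => r • (LinearMap.id : N →ₗ[T] N) := by
  letI := χ.toAlgebra
  haveI : IsLocalization q.primeCompl T := hT
  letI : Module B N := Module.compHom N χ
  haveI : IsScalarTower B T N := .of_algebraMap_smul fun _ _ => rfl
  let E' : N ≃ₗ[B] LocalizedModule q.primeCompl M := { E with map_smul' := hE }
  haveI : IsLocalizedModule q.primeCompl (E'.symm.toLinearMap ∘ₗ LocalizedModule.mkLinearMap q.primeCompl M) :=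
    IsLocalizedModule.of_linearEquiv q.primeCompl (LocalizedModule.mkLinearMap q.primeCompl M) E'.symm
  haveI : Module.FinitePresentation B M := Module.finitePresentation_of_finite _ _
  exact toEnd_bijective_of_isLocalizedModule q.primeCompl
    (E'.symm.toLinearMap ∘ₗ LocalizedModule.mkLinearMap q.primeCompl M) h

theorem toEnd_bijective_congr {T : Type u} [CommRing T] {M N : Type u} [AddCommGroup M] [Module T M]
    [AddCommGroup N] [Module T N] (e : M ≃ₗ[T] N)
    (h : Function.Bijective fun r : T => r • (LinearMap.id : M →ₗ[T] M)) :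
    Function.Bijective fun r : T => r • (LinearMap.id : N →ₗ[T] N) := by
  have : (fun r : T => r • (LinearMap.id : N →ₗ[T] N)) = e.conj ∘ fun r : T => r • (LinearMap.id : M →ₗ[T] M) := by
    funext r
    show _ = e.conj (r • LinearMap.id)
    rw [map_smul, LinearEquiv.conj_id]
  rw [this]
  exact e.conj.bijective.comp h

end Algebra

/-- A module whose stalks have only scalar endomorphisms has trivial sheaf of endomorphisms. -/
theorem nonempty_homSh_self_iso {Y : Scheme.{u}} [IsLocallyNoetherian Y] (M : Y.Modules) (hM : Coh.IsCoh M)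
    (h : ∀ y : Y, Function.Bijective fun r : Y.presheaf.stalk y =>
      r • (LinearMap.id : M.presheaf.stalk y →ₗ[Y.presheaf.stalk y] M.presheaf.stalk y)) :
    Nonempty (RefHull.homSh M M ≅ Coh.structureModule Y) := by
  let s : Γ(RefHull.homSh M M, ⊤) := RefHull.ofHom (𝟙 M) ⊤
  let φ := DCohLib.secHom (RefHull.homSh M M) s
  haveI : IsIso φ := (PullbackMod.isIso_iff_stalk φ).2 fun y => by
    have h1 : RefHull.evalStalk M M y (PullbackMod.stalkLin φ y (ParaFLib.oneG y)) = LinearMap.id := by
      show RefHull.evalStalk M M y (FlatLocus.stalkHom φ y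
        ((Coh.structureModule Y).presheaf.germ ⊤ y trivial (1 : Γ(Y, ⊤)))) = _
      erw [TopCat.Presheaf.stalkFunctor_map_germ_apply]
      rw [Scheme.Modules.mapPresheaf_app, DCohLib.secHom_app_one]
      erw [TopCat.Presheaf.germ_res_apply, RefHull.evalStalk_germ]
      refine LinearMap.ext fun v => ?_
      obtain ⟨V, hV, m, rfl⟩ := TopCat.Presheaf.exists_germ_eq M.presheaf v
      exact RefHull.stalkMapₗ_germ (𝟙 M) y hV m
    let ψ := (RefHull.evalStalk M M y).comp (PullbackMod.stalkLin φ y)
    have hψ : Function.Bijective ψ := by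
      refine (Function.Bijective.of_comp_iff ψ (ParaFLib.bijective_oneG y)).1 ?_
      convert h y using 1
      funext r
      show ψ (r • ParaFLib.oneG y) = _
      rw [map_smul]
      exact congrArg (r • ·) h1
    exact (Function.Bijective.of_comp_iff' (RefOne.evalStalk_bijective hM hM.1 y) _).1 hψ
  exact ⟨(asIso φ).symm⟩

variable {A : Type u} [CommRing A] [IsNoetherianRing A] {Y : Scheme.{u}}

/-- The relative canonical sheaf of a proper `(S₂)`-morphism has trivial sheaf of endomorphisms. -/
theorem nonempty_homSh_relCanonical_iso [Y.Over (Spec (CommRingCat.of A))] [IsProper (Y ↘ Spec (CommRingCat.of A))]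
    (d : ℕ) (hS : RelCanon.IsSkMor (Y ↘ Spec (CommRingCat.of A)) 2)
    (hd : Cyc.HasRelDim (Y ↘ Spec (CommRingCat.of A)) d) (ω : Y.Modules)
    (hω : RelCanon.IsDualizingSheaf A Y d ω) :
    Nonempty (RefHull.homSh ω ω ≅ Coh.structureModule Y) := by
  let f := Y ↘ Spec (CommRingCat.of A)
  let S := Spec (CommRingCat.of A)
  haveI : ∀ (R : CommRingCat.{u}), PreservesFiniteLimits (tilde.functor R) := fun R =>
    TildeD.preservesFiniteLimits_tilde
  haveI : IsNoetherianRing (CommRingCat.of A) := inferInstanceAs (IsNoetherianRing A)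
  haveI : IsLocallyNoetherian Y := LocallyOfFiniteType.isLocallyNoetherian f
  haveI : CompactSpace Y := QuasiCompact.compactSpace_of_compactSpace f
  haveI : IsNoetherian Y := {}
  haveI : Flat f := hS.1
  have hfib := dim_fiber_le f d hd
  haveI := BC.hasRpush f
  have h : DCoh.RpushPreservesQCoh f := rpushQC f
  haveI := isLeftAdjoint_rpushQ' f
  let a := (DCoh.RpushQ f h).rightAdjoint
  let adj : DCoh.RpushQ f h ⊣ a := Adjunction.ofIsLeftAdjoint (DCoh.RpushQ f h)
  let O : DCoh.DQCoh S := oQ S
  have hO : Nonempty (O.obj ≅ DCoh.inD S (Coh.structureModule S)) := ⟨Iso.refl _⟩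
  let cp := idComp f
  haveI : DCoh.HasRpush cp.fbar := ‹DCoh.HasRpush f›
  let adjc : DCoh.RpushQ cp.fbar h ⊣ a := adj
  let M := (Dual3.shriekC cp a).obj O
  let eM : M ≅ (a.obj O).obj := (restrictDId (X := Y)).app (a.obj O).obj
  have hlow : ∀ i : ℤ, i < -(d : ℤ) → IsZero (DCoh.HD (a.obj O).obj i) := fun i hi => by
    refine (DCohLib.isZero_of_stalks fun y => ?_).of_iso
      ((DerivedCategory.homologyFunctor Y.Modules i).mapIso eM.symm)
    obtain ⟨c⟩ := exists_chart f y
    haveI := isNoetherianRing_base c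
    haveI := isNoetherianRing_total c
    haveI := ShriekBridge.flat_of_chart c
    obtain ⟨P⟩ := nonempty_pres c.A c.B
    obtain ⟨E, -⟩ := RelDualCMLib.exists_stalk_chart (cp := cp) adjc O hO c P c.q i
    haveI := RelDualCMLib.subsingleton_relOmega_of_lt_neg P.hψ P.adj d
      (fun p => (fibre_rings 2 d hS hd c p).2) i hi
    haveI : Subsingleton (Dual.HD c.B P.omega i) := ‹_›
    exact c.hq ▸ E.toEquiv.subsingleton
  haveI hGE : (a.obj O).obj.IsGE (-(d : ℤ)) := (DerivedCategory.isGE_iff _ _).2 hlow
  obtain ⟨tr₀, htr₀⟩ := exists_isRDualOver_adjoint A Y h a adj O (Iso.refl _) d hGE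
    (fun F hF j hj => by
      haveI := hF
      obtain ⟨p, rfl⟩ : ∃ p, j = p + 1 := ⟨j - 1, by omega⟩
      exact subsingleton_HH _ _ (FibreVanishQC.subsingleton_HU_affine f d hfib F p (by omega)))
    (Iso.refl _)
  obtain ⟨tr, htr⟩ := hω
  obtain ⟨e₀⟩ := nonempty_iso_of_isRDualOver_ring A htr₀ htr
  let e : DCoh.HD M (-(d : ℤ)) ≅ ω := (DerivedCategory.homologyFunctor Y.Modules (-(d : ℤ))).mapIso eM ≪≫ e₀
  refine nonempty_homSh_self_iso ω (isCoh_of_pair A d hfib htr) fun y => ?_
  refine toEnd_bijective_congr ((DCohLib.stkF y).mapIso e).toLinearEquiv ?_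
  obtain ⟨c⟩ := exists_chart f y
  haveI := isNoetherianRing_base c
  haveI := isNoetherianRing_total c
  haveI := ShriekBridge.flat_of_chart c
  obtain ⟨P⟩ := nonempty_pres c.A c.B
  obtain ⟨E, hE⟩ := RelDualCMLib.exists_stalk_chart (cp := cp) adjc O hO c P c.q (-(d : ℤ))
  have hfin : Module.Finite c.B (Dual.HD c.B P.omega (-(d : ℤ))) :=
    (ShriekAlgLib.shriekVia_self_bounded c.A c.B P.n P.ψ P.hψ P.Rψ P.adj).2 _
  haveI := hfin
  have hend := toEnd_bijective_localized (chartToStalk c.j c.q) c.q.asIdeal (isLocalization_chartToStalk c.j c.q) E hE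
    (RelDualCMLib.toEnd_HD_bijective_of_S2 P.hψ P.adj d (fun p => (fibre_rings 2 d hS hd c p).2)
      (fun p => (fibre_rings 2 d hS hd c p).1))
  exact c.hq ▸ hend

end Groth.Agent.FibreDualLib
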