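import Groth.Agent.FibreDualLib.SheafEval
import Groth.Agent.FibreDualLib.S2End
import Groth.Agent.FibreDualLib.Powers
import Groth.Agent.S18700

/-!
# Pairings between modules with trivial sheaves of homomorphisms
-/

set_option autoImplicit false
set_option linter.style.haveILetI false
set_option linter.unusedSectionVars false
set_option backward.isDefEq.respectTransparency false
set_option backward.isDefEq.respectTransparency.types false
set_option maxHeartbeats 1600000

universe u

open CategoryTheory CategoryTheory.Limits AlgebraicGeometry TopologicalSpace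
open Groth.Agent.PullbackMod Groth.Agent.ModTensor Groth.Agent.DCohLib
open scoped TensorProduct

noncomputable section

namespace Groth.Agent.FibreDualLib

section Algebra

variable {B : Type u} [CommRing B] {M N P : Type u} [AddCommGroup M] [Module B M] [AddCommGroup N] [Module B N]
  [AddCommGroup P] [Module B P]

/-- Scalar endomorphisms from a free rank one endomorphism module. -/
theorem toEnd_bijective_of_equiv (e : (M →ₗ[B] M) ≃ₗ[B] B) :
    Function.Bijective fun r : B => r • (LinearMap.id : M →ₗ[B] M) := by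
  let g := e.symm 1
  let a := e LinearMap.id
  have hid : (LinearMap.id : M →ₗ[B] M) = a • g := e.injective (by simp [g, a])
  have hc : g ∘ₗ g = e (g ∘ₗ g) • g := e.injective (by simp [g])
  have h : g = (a * e (g ∘ₗ g)) • g := by
    rw [mul_smul, ← hc, ← LinearMap.comp_smul, ← hid, LinearMap.comp_id]
  have ha : a * e (g ∘ₗ g) = 1 := by
    simpa [g] using (congrArg e h).symm
  have hu : IsUnit a := IsUnit.of_mul_eq_one _ ha
  have : (fun r : B => r • (LinearMap.id : M →ₗ[B] M)) = e.symm ∘ fun r => r * a := funext fun r => by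
    refine e.injective ?_
    simp [a]
  rw [this]
  exact e.symm.bijective.comp hu.unit.mulRight.bijective

/-- A free rank one tensor factor. -/
theorem bijective_tmul_gen {g : N} (hg : Function.Bijective fun r : B => r • g) :
    Function.Bijective fun v : M => v ⊗ₜ[B] g := by
  let f : B ≃ₗ[B] N := LinearEquiv.ofBijective (LinearMap.toSpanSingleton B N g) hg
  let E : M ≃ₗ[B] M ⊗[B] N := (TensorProduct.rid B M).symm ≪≫ₗ TensorProduct.congr (LinearEquiv.refl B M) f
  have : (fun v : M => v ⊗ₜ[B] g) = E := funext fun v => by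
    simp [E, f]
  rw [this]
  exact E.bijective

/-- Composition of a generator of a module of homomorphisms with an isomorphism. -/
theorem bijective_smul_comp {ε : N →ₗ[B] P} (h : Function.Bijective fun r : B => r • ε) (θ : M ≃ₗ[B] N) :
    Function.Bijective fun r : B => r • (ε ∘ₗ θ.toLinearMap) := by
  have : (fun r : B => r • (ε ∘ₗ θ.toLinearMap)) = (LinearEquiv.arrowCongr θ.symm (LinearEquiv.refl B P)) ∘
      fun r : B => r • ε := funext fun r => LinearMap.ext fun x => by simp
  rw [this]
  exact (LinearEquiv.arrowCongr θ.symm (LinearEquiv.refl B P)).bijective.comp h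

/-- The two sides of an isomorphism between modules with scalar endomorphisms. -/
theorem bijective_smul_equiv (h : Function.Bijective fun r : B => r • (LinearMap.id : N →ₗ[B] N)) (θ : M ≃ₗ[B] N) :
    Function.Bijective fun r : B => r • θ.toLinearMap :=
  bijective_smul_comp h θ

/-- A generator of the homomorphisms between isomorphic modules is an isomorphism. -/
theorem bijective_of_generator (h : Function.Bijective fun r : B => r • (LinearMap.id : N →ₗ[B] N))
    (σ : M ≃ₗ[B] N) {θ : M →ₗ[B] N} (hθ : Function.Bijective fun r : B => r • θ) : Function.Bijective θ := by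
  obtain ⟨a, ha : a • σ.toLinearMap = θ⟩ := (bijective_smul_equiv h σ).2 θ
  obtain ⟨b, hb : b • θ = σ.toLinearMap⟩ := hθ.2 σ.toLinearMap
  have hab : a * b = 1 := hθ.1 (show (a * b) • θ = (1 : B) • θ by rw [mul_smul, hb, ha, one_smul])
  have hu : IsUnit a := IsUnit.of_mul_eq_one _ hab
  have hsm : (fun x => a • x) = fun x : N => hu.unit • x := rfl
  have : ⇑θ = (fun x : N => a • x) ∘ σ := by
    rw [← ha]; rfl
  rw [this, hsm]
  exact (MulAction.bijective hu.unit).comp σ.bijective

/-- A module with trivial double dual has trivial dual. -/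
theorem nonempty_dual_equiv_of_ddual [IsLocalRing B] (l : Module.Dual B (Module.Dual B M) ≃ₗ[B] B) :
    Nonempty (Module.Dual B M ≃ₗ[B] B) := by
  let D := Module.Dual B M
  let DD := Module.Dual B (Module.Dual B D)
  let E : DD ≃ₗ[B] B := l.dualMap.symm ≪≫ₗ LinearMap.ringLmapEquivSelf B B B
  let i : D →ₗ[B] DD := Module.Dual.eval B D
  let r : DD →ₗ[B] D := (Module.Dual.eval B M).dualMap
  have hri : ∀ φ, r (i φ) = φ := fun φ => rfl
  let p : B →ₗ[B] B := (E.toLinearMap ∘ₗ i) ∘ₗ (r ∘ₗ E.symm.toLinearMap)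
  have hp : ∀ x, p (p x) = p x := fun x => by simp [p, hri]
  let c := p 1
  have hpc : ∀ x, p x = x * c := fun x => by
    rw [← smul_eq_mul, ← map_smul, smul_eq_mul, mul_one]
  have hcc : c * c = c := by rw [← hpc, hp]
  rcases IsLocalRing.isUnit_or_isUnit_one_sub_self c with hc | hc
  · refine ⟨LinearEquiv.ofBijective (E.toLinearMap ∘ₗ i) ⟨?_, fun b => ?_⟩⟩
    · exact E.injective.comp (fun a b (hab : i a = i b) => by rw [← hri a, hab, hri])
    · have hc1 : c = 1 := (IsUnit.mul_eq_left hc).1 hcc
      refine ⟨r (E.symm b), ?_⟩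
      show p b = b
      rw [hpc, hc1, mul_one]
  · exfalso
    have hc0 : c = 0 := by
      have : (1 - c) * c = 0 := by rw [sub_mul, one_mul, hcc, sub_self]
      exact (hc.mul_right_eq_zero).1 this
    have hD : ∀ φ : D, φ = 0 := fun φ => by
      have h1 : p (E (i φ)) = E (i φ) := by simp [p, hri]
      rw [hpc, hc0, mul_zero] at h1
      rw [← hri φ, show i φ = 0 from E.map_eq_zero_iff.1 h1.symm, map_zero]
    have h10 : l.symm 1 = 0 := LinearMap.ext fun φ => by rw [hD φ, map_zero]; rfl
    exact one_ne_zero (l.symm.map_eq_zero_iff.1 h10)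

/-- Depth two of a module of homomorphisms into a module of depth two. -/
theorem two_le_idealDepth_hom [IsNoetherianRing B] [Module.Finite B M] [Module.Finite B N] {J : Ideal B}
    (h : 2 ≤ LocCoh.idealDepth J N) : 2 ≤ LocCoh.idealDepth J (M →ₗ[B] N) := by
  classical
  obtain ⟨n, π, hπ⟩ := Module.Finite.exists_fin' B M
  obtain ⟨m, P0, hP0⟩ := Module.Finite.exists_fin' B (LinearMap.ker π)
  let u : (Fin n → B) →ₗ[B] M := π
  let Pm : (Fin m → B) →ₗ[B] (Fin n → B) := (LinearMap.ker π).subtype ∘ₗ P0
  let v : ((Fin n → B) →ₗ[B] N) →ₗ[B] ((Fin m → B) →ₗ[B] N) := LinearMap.lcomp B N Pm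
  have hpi : ∀ k : ℕ, (2 : ℕ∞) ≤ LocCoh.idealDepth J ((Fin k → B) →ₗ[B] N) := fun k => by
    rw [CAlgBasics.idealDepth_congr ((LinearMap.lsum B (fun _ : Fin k => B) B).symm ≪≫ₗ
      LinearEquiv.piCongrRight (fun _ => LinearMap.ringLmapEquivSelf B B N) ≪≫ₗ
        LinearEquiv.funCongrLeft B N (Equiv.ulift.{u} : ULift.{u} (Fin k) ≃ Fin k))]
    exact_mod_cast le_idealDepth_pi (ULift.{u} (Fin k)) 2 (by exact_mod_cast h)
  let w : (M →ₗ[B] N) →ₗ[B] LinearMap.ker v := (LinearMap.lcomp B N u).codRestrict _ fun f => by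
    refine LinearMap.ext fun x => ?_
    show f (π ((P0 x : LinearMap.ker π) : Fin n → B)) = 0
    rw [(P0 x).2, map_zero]
  have hw : Function.Bijective w := by
    refine ⟨fun f g hfg => LinearMap.ext fun x => ?_, fun g => ?_⟩
    · obtain ⟨z, rfl⟩ := hπ x
      exact LinearMap.congr_fun (congrArg Subtype.val hfg) z
    · have hle : LinearMap.ker π ≤ LinearMap.ker g.1 := fun z hz => by
        obtain ⟨x, hx⟩ := hP0 ⟨z, hz⟩
        have h0 := LinearMap.congr_fun (show g.1 ∘ₗ Pm = 0 from g.2) x
        simpa [Pm, hx] using h0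
      refine ⟨(LinearMap.ker π).liftQ g.1 hle ∘ₗ (π.quotKerEquivOfSurjective hπ).symm.toLinearMap,
        Subtype.ext (LinearMap.ext fun z => ?_)⟩
      show (LinearMap.ker π).liftQ g.1 hle ((π.quotKerEquivOfSurjective hπ).symm (π z)) = _
      rw [show (π.quotKerEquivOfSurjective hπ).symm (π z) = Submodule.Quotient.mk z from
          (π.quotKerEquivOfSurjective hπ).injective (by rw [LinearEquiv.apply_symm_apply]; rfl)]
      rfl
  rw [CAlgBasics.idealDepth_congr (LinearEquiv.ofBijective w hw)]
  haveI : Module.Finite B ((Fin n → B) →ₗ[B] N) := inferInstance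
  exact (S18700.result B J _ _ v).2 (hpi n) (le_trans one_le_two (hpi m))

end Algebra

/-- Scalar endomorphisms along a semilinear equivalence. -/
theorem toEnd_bijective_semilinear {T T' : Type u} [CommRing T] [CommRing T'] (σ : T ≃+* T') {N N' : Type u}
    [AddCommGroup N] [Module T N] [AddCommGroup N'] [Module T' N'] (e : N ≃+ N')
    (he : ∀ (r : T) x, e (r • x) = σ r • e x)
    (h : Function.Bijective fun r : T' => r • (LinearMap.id : N' →ₗ[T'] N')) :
    Function.Bijective fun r : T => r • (LinearMap.id : N →ₗ[T] N) := by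
  refine ⟨fun a b hab => σ.injective (h.1 (LinearMap.ext fun y => ?_)), fun f => ?_⟩
  · obtain ⟨x, rfl⟩ := e.surjective y
    show σ a • e x = σ b • e x
    rw [← he, ← he]
    exact congrArg e (LinearMap.congr_fun hab x)
  · let f' : N' →ₗ[T'] N' :=
      { toFun := fun y => e (f (e.symm y))
        map_add' := fun a b => by rw [map_add, map_add, map_add]
        map_smul' := fun r y => by
          have : e.symm (r • y) = σ.symm r • e.symm y := e.injective (by
            rw [he, e.apply_symm_apply, σ.apply_symm_apply, e.apply_symm_apply])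
          rw [this, map_smul, he, σ.apply_symm_apply, RingHom.id_apply] }
    obtain ⟨r, hr : r • LinearMap.id = f'⟩ := h.2 f'
    refine ⟨σ.symm r, LinearMap.ext fun x => e.injective ?_⟩
    show e (σ.symm r • x) = _
    rw [he, σ.apply_symm_apply]
    exact (LinearMap.congr_fun hr (e x)).trans (by show e (f (e.symm (e x))) = _; rw [e.symm_apply_apply])

section Scheme

variable {X : Scheme.{u}}

/-- Scalar endomorphisms of the stalks of a restriction. -/
theorem toEnd_bijective_restrict (U : X.Opens) (M : X.Modules)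
    (h : ∀ x ∈ U, Function.Bijective fun r : X.presheaf.stalk x =>
      r • (LinearMap.id : M.presheaf.stalk x →ₗ[X.presheaf.stalk x] M.presheaf.stalk x)) (z : (U : Scheme.{u})) :
    Function.Bijective fun r : (U : Scheme.{u}).presheaf.stalk z =>
      r • (LinearMap.id : (M.restrict U.ι).presheaf.stalk z →ₗ[(U : Scheme.{u}).presheaf.stalk z]
        (M.restrict U.ι).presheaf.stalk z) :=
  toEnd_bijective_semilinear (N' := M.presheaf.stalk (U.ι z)) (asIso (U.ι.stalkMap z)).commRingCatIsoToRingEquiv.symm
    ((Scheme.Modules.restrictStalkNatIso U.ι z).app M).addCommGroupIsoToAddEquiv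
    (DCohLib.restrictStalk_smul U.ι M z) (h _ z.2)

variable [IsLocallyNoetherian X]

/-- A global generator of a trivial sheaf of homomorphisms. -/
theorem exists_gen_hom {F G : X.Modules} (hF : Coh.IsCoh F) (hG : Coh.IsQCoh G)
    (h : Nonempty (RefHull.homSh F G ≅ Coh.structureModule X)) :
    ∃ ε : F ⟶ G, ∀ x : X, Function.Bijective fun r : X.presheaf.stalk x => r • PullbackMod.stalkLin ε x := by
  obtain ⟨e⟩ := h
  let s : Γ(RefHull.homSh F G, ⊤) := e.inv.app ⊤ (1 : Γ(X, ⊤))
  refine ⟨HomLib.toHom s, fun x => ?_⟩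
  let ψ := RefHull.evalStalk F G x ∘ₗ PullbackMod.stalkLin e.inv x
  have h1 : ψ (ParaFLib.oneG x) = PullbackMod.stalkLin (HomLib.toHom s) x := by
    have hs : PullbackMod.stalkLin e.inv x (ParaFLib.oneG x) =
        (RefHull.homSh F G).presheaf.germ ⊤ x trivial s := by
      show FlatLocus.stalkHom e.inv x ((Coh.structureModule X).presheaf.germ ⊤ x trivial (1 : Γ(X, ⊤))) = _
      erw [TopCat.Presheaf.stalkFunctor_map_germ_apply]
      rfl
    show RefHull.evalStalk F G x (PullbackMod.stalkLin e.inv x (ParaFLib.oneG x)) = _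
    rw [hs, RefHull.evalStalk_germ]
    conv_lhs => rw [← HomLib.ofHom_toHom s]
    refine LinearMap.ext fun v => ?_
    obtain ⟨U, hU, m, rfl⟩ := TopCat.Presheaf.exists_germ_eq F.presheaf v
    rw [RefHull.ofHom_apply, RefHull.stalkMapₗ_germ]
    show _ = FlatLocus.stalkHom _ x _
    erw [TopCat.Presheaf.stalkFunctor_map_germ_apply]
    rfl
  have hψ : Function.Bijective ψ :=
    (RefOne.evalStalk_bijective hF hG x).comp ((PullbackMod.isIso_iff_stalk e.inv).1 inferInstance x)
  have : (fun r : X.presheaf.stalk x => r • PullbackMod.stalkLin (HomLib.toHom s) x) =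
      ψ ∘ fun r => r • ParaFLib.oneG x := funext fun r => by rw [← h1]; exact (map_smul ψ r _).symm
  rw [this]
  exact hψ.comp (ParaFLib.bijective_oneG x)

/-- An invertible factor of a pairing of modules with trivial sheaves of homomorphisms into a third is trivial. -/
theorem nonempty_iso_of_pairing {F₁ F₂ G P : X.Modules} (hF₁ : Coh.IsCoh F₁) (hF₂ : Coh.IsCoh F₂)
    (hG : Coh.IsQCoh G) (h₁ : Nonempty (RefHull.homSh F₁ G ≅ Coh.structureModule X))
    (h₂ : Nonempty (RefHull.homSh F₂ G ≅ Coh.structureModule X)) (hP : PicF.IsInvertible P)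
    (e : tmod F₁ P ≅ F₂) : Nonempty (P ≅ Coh.structureModule X) := by
  obtain ⟨ε, hε⟩ := exists_gen_hom hF₂ hG h₂
  let c := curryMor (e.hom ≫ ε)
  haveI : IsIso c := (PullbackMod.isIso_iff_stalk c).2 fun x => by
    obtain ⟨g, hg⟩ := ParaFLib.exists_stalk_gen hP x
    let θ : F₁.presheaf.stalk x →ₗ[X.presheaf.stalk x] F₂.presheaf.stalk x :=
      PullbackMod.stalkLin e.hom x ∘ₗ (stalkTensor x F₁ P).toLinearMap ∘ₗ
        (TensorProduct.mk _ (F₁.presheaf.stalk x) (P.presheaf.stalk x)).flip g
    have hθ : Function.Bijective θ :=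
      ((PullbackMod.isIso_iff_stalk e.hom).1 inferInstance x).comp
        ((stalkTensor x F₁ P).bijective.comp (bijective_tmul_gen hg))
    let E := RefHull.evalStalk F₁ G x ∘ₗ PullbackMod.stalkLin c x
    have h1 : E g = PullbackMod.stalkLin ε x ∘ₗ (LinearEquiv.ofBijective θ hθ).toLinearMap :=
      LinearMap.ext fun v => by
        refine (curryMor_stalk (e.hom ≫ ε) x g v).trans ?_
        rw [PullbackMod.stalkLin_comp]
        rfl
    have hE : Function.Bijective E := by
      refine (Function.Bijective.of_comp_iff _ hg).1 ?_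
      have : E ∘ (fun r : X.presheaf.stalk x => r • g) =
          fun r => r • (PullbackMod.stalkLin ε x ∘ₗ (LinearEquiv.ofBijective θ hθ).toLinearMap) :=
        funext fun r => by rw [Function.comp_apply, map_smul, h1]
      rw [this]
      exact bijective_smul_comp (hε x) _
    exact (Function.Bijective.of_comp_iff' (RefOne.evalStalk_bijective hF₁ hG x) _).1 hE
  obtain ⟨a⟩ := h₁
  exact ⟨asIso c ≪≫ a⟩

/-- A module with trivial double dual has trivial dual. -/
theorem nonempty_dual_iso_of_ddual {F : X.Modules} (hF : Coh.IsCoh F)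
    (h : Nonempty (RefHull.ddual F ≅ Coh.structureModule X)) :
    Nonempty (RefHull.dual F ≅ Coh.structureModule X) := by
  obtain ⟨e⟩ := h
  have hD := RefOne.isCoh_dual hF
  haveI := hD.1
  haveI := (RefOne.isCoh_dual hD).1
  have hinv : PicF.IsInvertible (RefHull.dual F) := fun x => by
    haveI : IsLocalRing (X.presheaf.stalk x) := inferInstance
    obtain ⟨a⟩ := exists_stalk_ddual_equiv hF x
    let l : Module.Dual (X.presheaf.stalk x) (Module.Dual (X.presheaf.stalk x) (F.presheaf.stalk x)) ≃ₗ[X.presheaf.stalk x]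
        X.presheaf.stalk x :=
      a.symm ≪≫ₗ ((DCohLib.stkF x).mapIso e).toLinearEquiv ≪≫ₗ (RefOne.oEquiv x).symm
    obtain ⟨b⟩ := nonempty_dual_equiv_of_ddual l
    exact invertibleAt_of_stalk_equiv hD
      (b.symm ≪≫ₗ (LinearEquiv.congrRight (RefOne.oEquiv x)) ≪≫ₗ
        (RefOne.homStalk hF (inferInstance : Coh.IsQCoh (Coh.structureModule X)) x).symm)
  obtain ⟨a⟩ := nonempty_ddual_iso hinv
  obtain ⟨b⟩ := nonempty_dual_congr e
  have hO : Nonempty (RefHull.dual (Coh.structureModule X) ≅ Coh.structureModule X) :=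
    nonempty_homSh_self_iso _ (DevLib.isCoh_structureModule X) fun x =>
      toEnd_bijective_congr (RefOne.oEquiv x) (toEnd_bijective_of_equiv (LinearMap.ringLmapEquivSelf _ _ _))
  obtain ⟨o⟩ := hO
  exact ⟨a ≪≫ b ≪≫ o⟩

end Scheme

end Groth.Agent.FibreDualLib
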