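import Groth.Agent.FibreDualLib.CMDepth
import Groth.Agent.FibreDualLib.CMGen
import Groth.Agent.FibreDualLib.BCSk

/-!
# The canonical sheaf of an `(S₂)`-scheme over a field
-/

set_option autoImplicit false
set_option linter.style.haveILetI false
set_option linter.unusedSectionVars false
set_option backward.isDefEq.respectTransparency false
set_option backward.isDefEq.respectTransparency.types false
set_option maxHeartbeats 1600000

universe u

open CategoryTheory CategoryTheory.Limits AlgebraicGeometry IsLocalRing TopologicalSpace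
open scoped TensorProduct

noncomputable section

namespace Groth.Agent.FibreDualLib

/-- A module with scalar endomorphisms has positive depth where the ring has. -/
theorem one_le_depth_of_scalar_end {B M : Type u} [CommRing B] [IsLocalRing B] [IsNoetherianRing B] [AddCommGroup M]
    [Module B M] [Module.Finite B M] (hB : 1 ≤ LocCoh.depth B B)
    (h : Function.Bijective fun r : B => r • (LinearMap.id : M →ₗ[B] M)) : 1 ≤ LocCoh.depth B M := by
  rw [CAlgBasics.one_le_depth_iff] at hB ⊢
  intro x hx
  let k := IsLocalRing.ResidueField B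
  haveI : Nontrivial M := by
    by_contra hM
    rw [not_nontrivial_iff_subsingleton] at hM
    exact one_ne_zero (h.1 (show (1 : B) • LinearMap.id = (0 : B) • LinearMap.id from
      LinearMap.ext fun m => hM.elim _ _))
  haveI : Nontrivial (k ⊗[B] M) := by
    by_contra hV
    rw [not_nontrivial_iff_subsingleton, IsLocalRing.subsingleton_tensorProduct] at hV
    exact not_subsingleton M hV
  obtain ⟨v, hv⟩ := exists_ne (0 : k ⊗[B] M)
  obtain ⟨φ, hφ⟩ : ∃ φ : Module.Dual k (k ⊗[B] M), φ v ≠ 0 := by
    by_contra! hc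
    exact hv ((Module.forall_dual_apply_eq_zero_iff k v).1 hc)
  let f : M →ₗ[B] k := (φ.restrictScalars B) ∘ₗ TensorProduct.mk B k M 1
  obtain ⟨m₀, hm₀⟩ : ∃ m₀, f m₀ ≠ 0 := by
    by_contra! hc
    refine hφ ?_
    induction v using TensorProduct.induction_on with
    | zero => exact map_zero φ
    | tmul c m =>
      rw [show c ⊗ₜ[B] m = c • ((1 : k) ⊗ₜ[B] m) by rw [TensorProduct.smul_tmul', smul_eq_mul, mul_one], map_smul,
        show φ ((1 : k) ⊗ₜ[B] m) = 0 from hc m, smul_zero]
    | add a b ha hb =>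
      rw [map_add]
      by_cases ha0 : φ a = 0
      · by_cases hb0 : φ b = 0
        · rw [ha0, hb0, add_zero]
        · exact absurd (hb (fun hb' => hb0 (by rw [hb', map_zero])) hb0) hb0
      · exact absurd (ha (fun ha' => ha0 (by rw [ha', map_zero])) ha0) ha0
  let g : k →ₗ[B] M := (maximalIdeal B).liftQ (LinearMap.toSpanSingleton B M x) fun a ha => hx a ha
  obtain ⟨b, hb : b • LinearMap.id = g ∘ₗ f⟩ := h.2 (g ∘ₗ f)
  have hb0 : b = 0 := hB b fun a ha => h.1 (show (a * b) • LinearMap.id = (0 : B) • LinearMap.id by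
    rw [mul_smul, hb, zero_smul]
    refine LinearMap.ext fun m => ?_
    show a • g (f m) = 0
    rw [← map_smul, show a • f m = 0 from ?_, map_zero]
    rw [← algebraMap_smul k a (f m), smul_eq_mul,
      show algebraMap B k a = 0 from (IsLocalRing.residue_eq_zero_iff a).2 ha, zero_mul])
  have h0 : g (f m₀) = 0 := by
    show (g ∘ₗ f) m₀ = 0
    rw [← hb, hb0, zero_smul]
    rfl
  obtain ⟨c, hc⟩ := IsLocalRing.residue_surjective (R := B) (f m₀)
  have hcu : IsUnit c := by
    by_contra hn
    exact hm₀ (by rw [← hc]; exact (IsLocalRing.residue_eq_zero_iff c).2 ((mem_maximalIdeal _).2 hn))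
  have : c • x = 0 := by rw [← h0, ← hc]; rfl
  exact hcu.smul_left_cancel.1 (this.trans (smul_zero c).symm)

variable {A : Type u} [CommRing A] [IsNoetherianRing A] {Y : Scheme.{u}} [Y.Over (Spec (CommRingCat.of A))]
  [IsProper (Y ↘ Spec (CommRingCat.of A))]

/-- The relative canonical sheaf has only scalar endomorphisms at each point. -/
theorem scalar_end_relCanonical (d : ℕ) (hS : RelCanon.IsSkMor (Y ↘ Spec (CommRingCat.of A)) 2)
    (hd : Cyc.HasRelDim (Y ↘ Spec (CommRingCat.of A)) d) (ω : Y.Modules)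
    (hω : RelCanon.IsDualizingSheaf A Y d ω) (y : Y) :
    Function.Bijective fun r : Y.presheaf.stalk y =>
      r • (LinearMap.id : ω.presheaf.stalk y →ₗ[Y.presheaf.stalk y] ω.presheaf.stalk y) := by
  haveI : IsNoetherianRing (CommRingCat.of A) := inferInstanceAs (IsNoetherianRing A)
  haveI : IsLocallyNoetherian Y := LocallyOfFiniteType.isLocallyNoetherian (Y ↘ Spec (CommRingCat.of A))
  obtain ⟨hcoh, -, -⟩ := relCanonical_model d hS hd ω hω
  obtain ⟨e⟩ := nonempty_homSh_relCanonical_iso d hS hd ω hω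
  exact toEnd_bijective_of_equiv ((RefOne.homStalk hcoh hcoh.1 y).symm ≪≫ₗ
    ((DCohLib.stkF y).mapIso e).toLinearEquiv ≪≫ₗ (RefOne.oEquiv y).symm)

variable {k : Type u} [Field k] {Z : Scheme.{u}}

/-- A scheme over a field has the local rings of its fibre. -/
theorem bijective_stalkMap_fiberι_field (f : Z ⟶ Spec (CommRingCat.of k)) (u : Z) :
    Function.Bijective ((f.fiberι (f u)).stalkMap (f.asFiber u)) := by
  refine ⟨?_, FlatLocus.fiberι_stalkMap_surjective f _ _⟩
  rw [injective_iff_map_eq_zero]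
  intro x hx
  have hk := (FlatLocus.ker_fiberι_stalkMap f (f u) (f.asFiber u)).le (RingHom.mem_ker.2 hx)
  let q := f (f.fiberι (f u) (f.asFiber u))
  let K := (Spec (CommRingCat.of k)).presheaf.stalk q
  have hbot : maximalIdeal K = ⊥ := by
    letI : Algebra k K := StructureSheaf.stalkAlgebra k q
    haveI : IsLocalization.AtPrime K q.asIdeal := StructureSheaf.IsLocalization.to_stalk k q
    rw [← IsLocalization.AtPrime.map_eq_maximalIdeal q.asIdeal K, Ideal.eq_bot_of_prime q.asIdeal, Ideal.map_bot]
  change x ∈ (maximalIdeal K).map _ at hk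
  rw [hbot, Ideal.map_bot] at hk
  exact hk

/-- The fibres of a scheme over a field have the local rings of the scheme. -/
theorem dim_fiber_field (f : Z ⟶ Spec (CommRingCat.of k)) (u : Z) :
    ringKrullDim (Z.presheaf.stalk u) = ringKrullDim ((f.fiber (f u)).presheaf.stalk (f.asFiber u)) := by
  have hbij := bijective_stalkMap_fiberι_field f u
  have key : ∀ u' : Z, u' = u → ringKrullDim (Z.presheaf.stalk u') = ringKrullDim (Z.presheaf.stalk u) := by
    rintro u' rfl; rfl
  exact (key _ (f.fiberι_asFiber u)).symm.trans (ringKrullDim_eq_of_ringEquiv (RingEquiv.ofBijective _ hbij))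

/-- Local rings of specialisations have larger dimension. -/
theorem dim_stalk_le_of_specializes {z u : Z} (h : z ⤳ u) :
    ringKrullDim (Z.presheaf.stalk z) ≤ ringKrullDim (Z.presheaf.stalk u) := by
  obtain ⟨P', hP'⟩ : z ∈ Set.range (Z.fromSpecStalk u) := by
    rw [Scheme.range_fromSpecStalk]; exact h
  obtain ⟨ψ', -, -⟩ := exists_generization_equiv (Coh.structureModule Z) u P'
  rw [← hP', ← ringKrullDim_eq_of_ringEquiv ψ',
    IsLocalization.AtPrime.ringKrullDim_eq_height P'.asIdeal (Localization.AtPrime P'.asIdeal)]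
  exact Ideal.height_le_ringKrullDim_of_ne_top P'.2.ne_top

variable [Z.Over (Spec (CommRingCat.of k))] [IsProper (Z ↘ Spec (CommRingCat.of k))]

/-- The canonical sheaf of an `(S₂)`-scheme over a field has depth two in codimension two. -/
theorem two_le_depth_dualizing_field (d : ℕ) (hS : RelCanon.IsSkMor (Z ↘ Spec (CommRingCat.of k)) 2)
    (hd : Cyc.HasRelDim (Z ↘ Spec (CommRingCat.of k)) d) (ω : Z.Modules)
    (hω : RelCanon.IsDualizingSheaf k Z d ω) (z : Z) (h : (2 : WithBot ℕ∞) ≤ ringKrullDim (Z.presheaf.stalk z)) :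
    (2 : ℕ∞) ≤ LocCoh.depth (Z.presheaf.stalk z) (ω.presheaf.stalk z) :=
  two_le_depth_dualizing (A := k) (Y := Z) d hS hd ω hω z fun u hu =>
    (h.trans (dim_stalk_le_of_specializes hu)).trans_eq (dim_fiber_field _ u)

/-- The canonical sheaf of an `(S₂)`-scheme over a field satisfies `(S₂)`. -/
theorem skAt_two_dualizing (d : ℕ) (hS : RelCanon.IsSkMor (Z ↘ Spec (CommRingCat.of k)) 2)
    (hd : Cyc.HasRelDim (Z ↘ Spec (CommRingCat.of k)) d) (ω : Z.Modules)
    (hω : RelCanon.IsDualizingSheaf k Z d ω) (w : Z) : RelCanon.SkAt 2 ω w := by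
  let f := Z ↘ Spec (CommRingCat.of k)
  haveI : IsNoetherianRing (CommRingCat.of k) := inferInstanceAs (IsNoetherianRing k)
  haveI : IsLocallyNoetherian Z := LocallyOfFiniteType.isLocallyNoetherian f
  obtain ⟨hcoh, -, -⟩ := relCanonical_model (A := k) (Y := Z) d hS hd ω hω
  refine skAt_of_forall_generization hcoh 2 w fun v _ => ?_
  haveI := hcoh.1
  let T := Z.presheaf.stalk v
  let M := ω.presheaf.stalk v
  haveI : Module.Finite T M := PullbackMod.finite_stalk_of_isFT hcoh.2 v
  show min ((2 : ℕ) : WithBot ℕ∞) (Module.supportDim T M) ≤ ((LocCoh.depth T M : ℕ∞) : WithBot ℕ∞)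
  by_cases h2 : (2 : WithBot ℕ∞) ≤ ringKrullDim T
  · exact (min_le_left _ _).trans (WithBot.coe_le_coe.2 (two_le_depth_dualizing_field d hS hd ω hω v h2))
  by_cases h1 : (1 : WithBot ℕ∞) ≤ ringKrullDim T
  swap
  · refine (min_le_right _ _).trans ((Module.supportDim_le_ringKrullDim T M).trans ?_)
    obtain ⟨e, he⟩ := RegLocal.exists_nat_ringKrullDim T
    rw [he] at h1 ⊢
    obtain rfl : e = 0 := by
      by_contra hne
      exact h1 (by exact_mod_cast Nat.one_le_iff_ne_zero.2 hne)
    exact WithBot.coe_le_coe.2 bot_le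
  have hT : LocCoh.HasSk 2 T T := by
    have hv := (QGorNhdLib.skAt_structureModule_iff _ _ 2).1 (hS.2.2 v)
    have key : ∀ u' : Z, u' = v → LocCoh.HasSk 2 (Z.presheaf.stalk u') (Z.presheaf.stalk u') →
        LocCoh.HasSk 2 T T := by
      rintro u' rfl h; exact h
    have hbij := bijective_stalkMap_fiberι_field f v
    exact key _ (f.fiberι_asFiber v) (GeomRk.hasSk_of_ringEquiv (RingEquiv.ofBijective _ hbij).symm 2 hv)
  have hd1 : (1 : ℕ∞) ≤ LocCoh.depth T T := by
    let e : T ≃ₐ[T] Localization.AtPrime (maximalIdeal T) :=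
      IsLocalization.atUnits T (maximalIdeal T).primeCompl fun x hx => by
        simpa [mem_maximalIdeal, IsUnit.mem_submonoid_iff] using hx
    haveI : IsNoetherianRing (Localization.AtPrime (maximalIdeal T)) := isNoetherianRing_of_ringEquiv _ e.toRingEquiv
    have h := (SerreLib.hasSk_localRing_iff 2).1 hT (maximalIdeal T)
    rw [← ringKrullDim_eq_of_ringEquiv e.toRingEquiv, ShriekAlgLib.depth_of_ringEquiv e.toRingEquiv] at h
    exact WithBot.coe_le_coe.1 ((le_min (by norm_num) h1).trans h)
  have hM := one_le_depth_of_scalar_end hd1 (scalar_end_relCanonical (A := k) (Y := Z) d hS hd ω hω v)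
  refine (min_le_right _ _).trans ((Module.supportDim_le_ringKrullDim T M).trans ?_)
  refine le_trans ?_ (WithBot.coe_le_coe.2 hM)
  obtain ⟨e, he⟩ := RegLocal.exists_nat_ringKrullDim T
  rw [he] at h2 ⊢
  have he2 : e ≤ 1 := by
    by_contra hne
    exact h2 (by exact_mod_cast (show 2 ≤ e by omega))
  exact_mod_cast he2

end Groth.Agent.FibreDualLib
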