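import Groth.Agent.FibreDualLib.BCFibres

/-!
# Invertible points of reflexive powers under base change
-/

set_option autoImplicit false
set_option linter.style.haveILetI false
set_option linter.unusedSectionVars false
set_option backward.isDefEq.respectTransparency false
set_option maxHeartbeats 1000000

universe u

open CategoryTheory CategoryTheory.Limits AlgebraicGeometry
open Groth.Agent.DCohLib Groth.Agent.CohBase

noncomputable section

namespace Groth.Agent.FibreDualLib

variable {X Y T : Scheme.{u}}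

/-- Stalks at invertible points are free of rank one. -/
theorem exists_stalk_equiv_of_invertibleAt {P : Y.Modules} {y : Y} (h : RelCanon.InvertibleAt P y) :
    Nonempty (Y.presheaf.stalk y ≃ₗ[Y.presheaf.stalk y] P.presheaf.stalk y) := by
  obtain ⟨U, hy, ⟨e⟩⟩ := h
  obtain ⟨s, hs⟩ := ParaFLib.exists_gen_of_iso e
  exact ⟨LinearEquiv.ofBijective (LinearMap.toSpanSingleton _ _ _) (hs.bijective_germ y (U.ι_image_top.ge hy))⟩

/-- Inverse images are invertible over invertible points. -/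
theorem invertibleAt_pullback (q : X ⟶ Y) {P : Y.Modules} {x : X} (h : RelCanon.InvertibleAt P (q x)) :
    RelCanon.InvertibleAt ((Scheme.Modules.pullback q).obj P) x := by
  obtain ⟨U, hx, ⟨e⟩⟩ := h
  exact ⟨q ⁻¹ᵁ U, hx, ⟨pullbackRestrict q U P ≪≫ (Scheme.Modules.pullback (q ∣_ U)).mapIso e ≪≫
    AmpleLib.pullO (q ∣_ U)⟩⟩

theorem invertibleAt_of_iso {P Q : Y.Modules} (e : P ≅ Q) {y : Y} (h : RelCanon.InvertibleAt P y) :
    RelCanon.InvertibleAt Q y := by
  obtain ⟨U, hy, ⟨i⟩⟩ := h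
  exact ⟨U, hy, ⟨((Scheme.Modules.restrictFunctor U.ι).mapIso e).symm ≪≫ i⟩⟩

/-- An `(S_k)`-morphism makes invertible points relatively `(S_k)`. -/
theorem relSkAt_of_invertibleAt (f : Y ⟶ T) {k : ℕ} (hS : RelCanon.IsSkMor f k) {P : Y.Modules} {y : Y}
    (h : RelCanon.InvertibleAt P y) : RelCanon.RelSkAt f k P y := by
  haveI := hS.1
  obtain ⟨e⟩ := exists_stalk_equiv_of_invertibleAt h
  constructor
  · letI : Algebra (T.presheaf.stalk (f y)) (Y.presheaf.stalk y) := (f.stalkMap y).hom.toAlgebra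
    letI : Module (T.presheaf.stalk (f y)) (P.presheaf.stalk y) := FlatMod.moduleStalkOver f P y
    haveI : IsScalarTower (T.presheaf.stalk (f y)) (Y.presheaf.stalk y) (P.presheaf.stalk y) :=
      .of_algebraMap_smul fun _ _ => rfl
    haveI : Module.Flat (T.presheaf.stalk (f y)) (Y.presheaf.stalk y) := Flat.stalkMap f y
    exact Module.Flat.of_linearEquiv (e.symm.restrictScalars (T.presheaf.stalk (f y)))
  · obtain ⟨e'⟩ := exists_stalk_equiv_of_invertibleAt
      (invertibleAt_pullback (f.fiberι (f y)) (x := f.asFiber y) (P := P) (by rwa [f.fiberι_asFiber]))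
    exact (QGorNhdLib.hasSk_congr_module e' k).1 ((QGorNhdLib.skAt_structureModule_iff _ _ k).1 (hS.2.2 y))

/-- The first reflexive power of a reflexive module. -/
theorem nonempty_refPowZ_one_iso [IsLocallyNoetherian Y] {G : Y.Modules} (hG : Coh.IsCoh G)
    (hr : RefHull.IsReflexive G) : Nonempty (RelCanon.refPowZ G 1 ≅ G) := by
  haveI : IsIso (RefHull.bidualMap G) := hr
  have h1 := isCoh_tensorPow hG 1
  haveI := h1.1; haveI := hG.1
  haveI := (RefOne.isCoh_dual hG).1
  haveI := (RefOne.isCoh_dual h1).1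
  obtain ⟨a⟩ := nonempty_dual_congr (AmpleLib.powOne G)
  obtain ⟨b⟩ := nonempty_dual_congr a
  exact ⟨b ≪≫ (asIso (RefHull.bidualMap G)).symm⟩

/-- The fibre as a base change along a ring map. -/
theorem exists_fibre_hom {A : Type u} [CommRing A] (f : Y ⟶ Spec (CommRingCat.of A)) (t : Spec (CommRingCat.of A)) :
    ∃ φ : A →+* (Spec (CommRingCat.of A)).residueField t,
      IsPullback (f.fiberι t) (f.fiberToSpecResidueField t) f (Spec.map (CommRingCat.ofHom φ)) := by
  refine ⟨(Spec.preimage ((Spec (CommRingCat.of A)).fromSpecResidueField t)).hom, ?_⟩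
  rw [CommRingCat.ofHom_hom, Spec.map_preimage]
  exact IsPullback.of_hasPullback _ _

variable {A : Type u} [CommRing A] [IsNoetherianRing A] [Y.Over (Spec (CommRingCat.of A))]
  [IsProper (Y ↘ Spec (CommRingCat.of A))]
  {B : Type u} [CommRing B] [IsNoetherianRing B] [X.Over (Spec (CommRingCat.of B))]

/-- Invertibility of a reflexive power of the relative canonical sheaf is inherited by base changes. -/
theorem invertibleAt_refPowZ_baseChange (d : ℕ) (hS : RelCanon.IsSkMor (Y ↘ Spec (CommRingCat.of A)) 2)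
    (hd : Cyc.HasRelDim (Y ↘ Spec (CommRingCat.of A)) d) (ω : Y.Modules)
    (hω : RelCanon.IsDualizingSheaf A Y d ω) (U : Y.Opens)
    (hU : (U : Set Y) ⊆ RelCanon.gorLocus (Y ↘ Spec (CommRingCat.of A)))
    (hG : ∀ y : Y, y ∉ U →
      (2 : WithBot ℕ∞) ≤ ringKrullDim (((Y ↘ Spec (CommRingCat.of A)).fiber ((Y ↘ Spec (CommRingCat.of A)) y)).presheaf.stalk
        ((Y ↘ Spec (CommRingCat.of A)).asFiber y)))
    (φ : A →+* B) (p : X ⟶ Y)
    (hp : IsPullback p (X ↘ Spec (CommRingCat.of B)) (Y ↘ Spec (CommRingCat.of A)) (Spec.map (CommRingCat.ofHom φ)))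
    (ω' : X.Modules) (hω' : RelCanon.IsDualizingSheaf B X d ω') (m : ℤ) (z : X)
    (h : RelCanon.InvertibleAt (RelCanon.refPowZ ω m) (p z)) :
    RelCanon.InvertibleAt (RelCanon.refPowZ ω' m) z := by
  haveI : IsNoetherianRing (CommRingCat.of A) := inferInstanceAs (IsNoetherianRing A)
  haveI : IsNoetherianRing (CommRingCat.of B) := inferInstanceAs (IsNoetherianRing B)
  haveI : IsProper (X ↘ Spec (CommRingCat.of B)) := MorphismProperty.of_isPullback (P := @IsProper) hp ‹_›
  haveI : IsLocallyNoetherian Y := LocallyOfFiniteType.isLocallyNoetherian (Y ↘ Spec (CommRingCat.of A))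
  haveI : IsLocallyNoetherian X := LocallyOfFiniteType.isLocallyNoetherian (X ↘ Spec (CommRingCat.of B))
  obtain ⟨-, ⟨i⟩, -⟩ := refPowZ_baseChange d hS hd ω hω U hU hG φ p hp ω' hω' m
  obtain ⟨-, hcoh, -⟩ := refPowZ_restrict_gor d hS hd ω hω U hU
  have hPcoh : Coh.IsCoh (RelCanon.refPowZ ω m) := by
    cases m with
    | ofNat n => exact RefOne.isCoh_dual (RefOne.isCoh_dual (isCoh_tensorPow hcoh n))
    | negSucc n => exact RefOne.isCoh_dual (RefOne.isCoh_dual (isCoh_tensorPow (RefOne.isCoh_dual hcoh) (n + 1)))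
  let Q := (Scheme.Modules.pullback p).obj (RelCanon.refPowZ ω m)
  have hQ : Coh.IsCoh Q := PullbackMod.isCoh_pullback p _ hPcoh
  obtain ⟨V, hz, ⟨e⟩⟩ := invertibleAt_pullback p (x := z) h
  haveI : IsLocallyNoetherian (V : Scheme.{u}) := isLocallyNoetherian_of_isOpenImmersion V.ι
  haveI := hQ.1
  haveI := (RefOne.isCoh_dual hQ).1
  haveI := (DCohMore.isCoh_restrict' (RefOne.isCoh_dual hQ) V).1
  haveI := (DCohMore.isCoh_restrict' hQ V).1
  haveI := (RefOne.isCoh_dual (DCohMore.isCoh_restrict' hQ V)).1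
  obtain ⟨d1⟩ := nonempty_dual_restrict V (RefHull.dual Q)
  obtain ⟨d2⟩ := nonempty_dual_restrict V Q
  obtain ⟨d3⟩ := nonempty_dual_congr d2
  obtain ⟨d4⟩ := nonempty_ddual_iso (ParaFLib.isInvertible_of_iso e.symm ParaFLib.isInvertible_structureModule)
  exact ⟨V, hz, ⟨((Scheme.Modules.restrictFunctor V.ι).mapIso i).symm ≪≫ d1 ≪≫ d3 ≪≫ d4.symm ≪≫ e⟩⟩

end Groth.Agent.FibreDualLib
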