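import Groth.Agent.S12131
import Mathlib.AlgebraicGeometry.Morphisms.Affine

/-!
# Direct images along affine monomorphisms
-/

set_option autoImplicit false
set_option linter.style.haveILetI false
set_option linter.unusedSectionVars false
set_option backward.isDefEq.respectTransparency false

universe u

open CategoryTheory AlgebraicGeometry AlgebraicGeometry.Scheme.Modules

noncomputable section

namespace Groth.Agent.FibreDualLib

variable {X Y : Scheme.{u}} (q : X ⟶ Y) [IsAffineHom q] [Mono q]

/-- Along an affine monomorphism a quasi-coherent module is the inverse image of its direct image. -/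
theorem nonempty_pullback_pushforward_self (F : X.Modules) [Coh.IsQCoh F] :
    Nonempty ((pullback q).obj ((pushforward q).obj F) ≅ F) := by
  haveI := S12131.result q q (𝟙 X) (𝟙 X) (IsKernelPair.id_of_mono q) F
  refine ⟨@asIso _ _ _ _ _ this ≪≫ (pushforwardId X).app _ ≪≫ (pullbackId X).app F⟩

/-- Along an affine monomorphism quasi-coherent modules with isomorphic direct images are isomorphic. -/
theorem nonempty_iso_of_pushforward {F G : X.Modules} [Coh.IsQCoh F] [Coh.IsQCoh G]
    (e : (pushforward q).obj F ≅ (pushforward q).obj G) : Nonempty (F ≅ G) := by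
  obtain ⟨a⟩ := nonempty_pullback_pushforward_self q F
  obtain ⟨b⟩ := nonempty_pullback_pushforward_self q G
  exact ⟨a.symm ≪≫ (pullback q).mapIso e ≪≫ b⟩

end Groth.Agent.FibreDualLib
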