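import Groth.Agent.FibreDualLib.TopLpull
import Groth.Agent.FibreDualLib.Mono
import Groth.Agent.ShriekBridge.GorBC
import Groth.Agent.FMKLib.NatPF
import Groth.Agent.TwistShriek.PerfPull
import Groth.Agent.S7865
import Groth.Agent.S3600

/-!
# The upper shriek of a proper flat morphism on an affine monomorphic base change
-/

set_option autoImplicit false
set_option linter.style.haveILetI false
set_option linter.unusedSectionVars false
set_option backward.isDefEq.respectTransparency false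
set_option maxHeartbeats 1600000

universe u

open CategoryTheory CategoryTheory.Limits AlgebraicGeometry
open Groth.Agent.DCohLib Groth.Agent.DCohMore Groth.Agent.TwistShriek Groth.Agent.ShriekBridge Groth.Agent.FMKLib

attribute [local instance] HasDerivedCategory.standard

noncomputable section

namespace Groth.Agent.FibreDualLib

variable {X S X' T : Scheme.{u}} {f : X ⟶ S} {g : T ⟶ S} {f' : X' ⟶ T} {q : X' ⟶ X}
  [IsNoetherian S] [IsNoetherian T] [IsProper f] [Flat f] [IsAffineHom g]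
  [DCoh.HasRpush f] {hf : DCoh.RpushPreservesQCoh f} {a : DCoh.DQCoh S ⥤ DCoh.DQCoh X}
  [DCoh.HasRpush f'] {hf' : DCoh.RpushPreservesQCoh f'} {a' : DCoh.DQCoh T ⥤ DCoh.DQCoh X'}
  [DCoh.HasRpush q] [DCoh.HasLpull q]

/-- After direct image to the total space the upper shriek of a base change is the inverse image. -/
theorem nonempty_rpush_shriek_iso (hsq : IsPullback q f' f g) (adj : DCoh.RpushQ f hf ⊣ a)
    (adj' : DCoh.RpushQ f' hf' ⊣ a') (OS : DCoh.DQCoh S)
    (hOS : Nonempty (OS.obj ≅ DCoh.inD S (Coh.structureModule S))) (OT : DCoh.DQCoh T)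
    (hOT : Nonempty (OT.obj ≅ DCoh.inD T (Coh.structureModule T))) :
    Nonempty ((DCoh.Rpush q).obj (a'.obj OT).obj ≅ (DCoh.Rpush q).obj ((DCoh.Lpull q).obj (a.obj OS).obj)) := by
  haveI : LocallyOfFinitePresentation f := S14008.lfp_of_lft f
  haveI : IsProper f' := MorphismProperty.of_isPullback (P := @IsProper) hsq ‹IsProper f›
  haveI : Flat f' := MorphismProperty.of_isPullback (P := @Flat) hsq ‹Flat f›
  haveI : IsAffineHom q := MorphismProperty.of_isPullback (P := @IsAffineHom) hsq.flip ‹IsAffineHom g›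
  haveI : CompactSpace X := QuasiCompact.compactSpace_of_compactSpace f
  haveI : IsLocallyNoetherian X := LocallyOfFiniteType.isLocallyNoetherian f
  haveI : CompactSpace X' := QuasiCompact.compactSpace_of_compactSpace f'
  haveI : IsLocallyNoetherian X' := LocallyOfFiniteType.isLocallyNoetherian f'
  haveI : IsNoetherian X := {}
  haveI : IsNoetherian X' := {}
  haveI := hasLpull f; haveI := hasLpull f'; haveI := hasLpull g; haveI := BC.hasRpush g
  obtain ⟨e, hξ⟩ := exists_isIso_xi (hg := rpushQC g) (hg' := rpushQC q) hsq BC.TI.of_flat_left adj adj'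
  haveI := hξ OT
  let ξi : (DCoh.Rpush q).obj (a'.obj OT).obj ≅ (a.obj ((DCoh.RpushQ g (rpushQC g)).obj OT)).obj :=
    (ObjectProperty.ι _).mapIso (asIso (Dual3.xi adj adj' e OT))
  -- the functor as a tensor product
  let E := DerivedCategory.Q.objPreimage (a.obj OS).obj
  let eE : DerivedCategory.Q.obj E ≅ (a.obj OS).obj := DerivedCategory.Q.objObjPreimageIso _
  haveI : DCoh.HasLTensorCx E := DCohLib.hasLTensorCx _
  obtain ⟨ea⟩ := S7865.result X S f hf a adj (fun J => S3600.result X S f hf a adj J) OS hOS E ⟨eE⟩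
  -- base change along the flat morphism
  obtain ⟨e₂, he₂⟩ := BC.exists_iso_baseChange g f q f' hsq.flip BC.TI.of_flat (lpullRpushAdj f) (lpullRpushAdj f')
  haveI := he₂ OT.obj OT.property
  -- the projection formula
  let L := DerivedCategory.Q.objPreimage ((DCoh.Lpull q).obj (a.obj OS).obj)
  let eL : DerivedCategory.Q.obj L ≅ (DCoh.Lpull q).obj (a.obj OS).obj := DerivedCategory.Q.objObjPreimageIso _
  haveI : DCoh.HasLTensorCx L := DCohLib.hasLTensorCx _
  obtain ⟨pj⟩ := FMKLib.nonempty_proj_left q E (TildeD.isQCohD_of_iso eE.symm (a.obj OS).property) L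
    (eL ≪≫ (DCoh.Lpull q).mapIso eE.symm)
  obtain ⟨eOT⟩ := hOT
  obtain ⟨u⟩ := TwistFam.nonempty_lpull_structure f'
  obtain ⟨v⟩ := TwistShriek.nonempty_lTensor_inD_structure L
  let N : DCoh.DQCoh X' := ⟨(DCoh.Lpull f').obj OT.obj, TildeD.isQCohD_lpull f' OT.obj OT.property⟩
  exact ⟨ξi ≪≫ ea.app ((DCoh.RpushQ g (rpushQC g)).obj OT) ≪≫
    (DCoh.LTensorCx E).mapIso (asIso (DCoh.baseChangeApp (lpullRpushAdj f) (lpullRpushAdj f') e₂ OT.obj)) ≪≫
    pj.app N ≪≫ (DCoh.Rpush q).mapIso ((DCoh.LTensorCx L).mapIso ((DCoh.Lpull f').mapIso eOT ≪≫ u) ≪≫ v ≪≫ eL)⟩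

/-- The cohomology of the upper shriek of a monomorphic affine base change in the top degree is the inverse image. -/
theorem nonempty_HD_shriek_iso (hsq : IsPullback q f' f g) [Mono g] (adj : DCoh.RpushQ f hf ⊣ a)
    (adj' : DCoh.RpushQ f' hf' ⊣ a') (OS : DCoh.DQCoh S)
    (hOS : Nonempty (OS.obj ≅ DCoh.inD S (Coh.structureModule S))) (OT : DCoh.DQCoh T)
    (hOT : Nonempty (OT.obj ≅ DCoh.inD T (Coh.structureModule T))) (m : ℤ) [(a.obj OS).obj.IsLE m] :
    Nonempty (DCoh.HD (a'.obj OT).obj m ≅ (Scheme.Modules.pullback q).obj (DCoh.HD (a.obj OS).obj m)) := by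
  haveI : IsAffineHom q := MorphismProperty.of_isPullback (P := @IsAffineHom) hsq.flip ‹IsAffineHom g›
  haveI : Mono q := MorphismProperty.of_isPullback (P := MorphismProperty.monomorphisms Scheme.{u}) hsq.flip ‹Mono g›
  obtain ⟨r⟩ := nonempty_rpush_shriek_iso hsq adj adj' OS hOS OT hOT
  have hL : DCoh.IsQCohD ((DCoh.Lpull q).obj (a.obj OS).obj) := TildeD.isQCohD_lpull q _ (a.obj OS).property
  obtain ⟨h₁⟩ := nonempty_HD_rpush_affine q (a'.obj OT).obj (a'.obj OT).property m
  obtain ⟨h₂⟩ := nonempty_HD_rpush_affine q _ hL m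
  haveI : Coh.IsQCoh (DCoh.HD (a'.obj OT).obj m) := (a'.obj OT).property m
  haveI : Coh.IsQCoh (DCoh.HD ((DCoh.Lpull q).obj (a.obj OS).obj) m) := hL m
  obtain ⟨i⟩ := nonempty_iso_of_pushforward q
    (h₁.symm ≪≫ (DerivedCategory.homologyFunctor X.Modules m).mapIso r ≪≫ h₂)
  obtain ⟨t⟩ := nonempty_HD_top_lpull q (a.obj OS).obj m
  exact ⟨i ≪≫ t⟩

end Groth.Agent.FibreDualLib
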