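import Groth.Agent.FibreDualLib.CMModel
import Groth.Agent.FibreDualLib.Main
import Groth.Agent.FibreDualLib.BCInv

/-!
# Base change of the relative canonical sheaf to fibres over the relative Cohen–Macaulay locus
-/

set_option autoImplicit false
set_option linter.style.haveILetI false
set_option linter.unusedSectionVars false
set_option backward.isDefEq.respectTransparency false
set_option maxHeartbeats 1600000

universe u

open CategoryTheory CategoryTheory.Limits AlgebraicGeometry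
open Groth.Agent.DCohLib Groth.Agent.DCohMore Groth.Agent.TwistShriek Groth.Agent.CohBase
open Groth.Agent.DimFormulaLib Groth.Agent.ShriekBridge Groth.Agent.FMKLib

attribute [local instance] HasDerivedCategory.standard

noncomputable section

namespace Groth.Agent.FibreDualLib

variable {A : Type u} [CommRing A] [IsNoetherianRing A] {Y : Scheme.{u}}

/-- The relative canonical sheaf is flat over the Cohen–Macaulay locus and restricts there to the canonical
sheaves of the fibres. -/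
theorem cm_model [Y.Over (Spec (CommRingCat.of A))] [IsProper (Y ↘ Spec (CommRingCat.of A))] (d : ℕ)
    (hS : RelCanon.IsSkMor (Y ↘ Spec (CommRingCat.of A)) 2) (hd : Cyc.HasRelDim (Y ↘ Spec (CommRingCat.of A)) d)
    (ω : Y.Modules) (hω : RelCanon.IsDualizingSheaf A Y d ω) :
    ∃ V : Y.Opens, (∀ y : Y, y ∈ V ↔ MoreMor.IsCMAt (Y ↘ Spec (CommRingCat.of A)) y) ∧
      (∀ y ∈ V, FlatMod.IsFlatOverAt (Y ↘ Spec (CommRingCat.of A)) ω y) ∧
      ∀ (t : Spec (CommRingCat.of A)) (ωt : ((Y ↘ Spec (CommRingCat.of A)).fiber t).Modules),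
        @RelCanon.IsDualizingSheaf ((Spec (CommRingCat.of A)).residueField t) _
          ((Y ↘ Spec (CommRingCat.of A)).fiber t) ⟨(Y ↘ Spec (CommRingCat.of A)).fiberToSpecResidueField t⟩ d ωt →
        Nonempty (((Scheme.Modules.pullback ((Y ↘ Spec (CommRingCat.of A)).fiberι t)).obj ω).restrict
            (((Y ↘ Spec (CommRingCat.of A)).fiberι t) ⁻¹ᵁ V).ι ≅
          ωt.restrict (((Y ↘ Spec (CommRingCat.of A)).fiberι t) ⁻¹ᵁ V).ι) := by
  let f := Y ↘ Spec (CommRingCat.of A)
  let S := Spec (CommRingCat.of A)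
  haveI : ∀ (R : CommRingCat.{u}), PreservesFiniteLimits (tilde.functor R) := fun R =>
    TildeD.preservesFiniteLimits_tilde
  haveI : ∀ (U V : Scheme.{u}) (j : U ⟶ V) [IsOpenImmersion j],
      PreservesFiniteLimits (Scheme.Modules.restrictFunctor j) := fun U V j _ => inferInstance
  haveI : IsNoetherianRing (CommRingCat.of A) := inferInstanceAs (IsNoetherianRing A)
  haveI : Flat f := hS.1
  haveI : LocallyOfFinitePresentation f := S14008.lfp_of_lft f
  haveI : IsLocallyNoetherian Y := LocallyOfFiniteType.isLocallyNoetherian f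
  haveI : CompactSpace Y := QuasiCompact.compactSpace_of_compactSpace f
  haveI : IsNoetherian Y := {}
  haveI := BC.hasRpush f
  haveI := isLeftAdjoint_rpushQ' f
  let a := (DCoh.RpushQ f (rpushQC f)).rightAdjoint
  let adj : DCoh.RpushQ f (rpushQC f) ⊣ a := Adjunction.ofIsLeftAdjoint _
  let cp := idComp f
  haveI : DCoh.HasRpush cp.fbar := ‹DCoh.HasRpush f›
  let adjc : DCoh.RpushQ cp.fbar (rpushQC f) ⊣ a := adj
  have hO : Nonempty ((oQ S).obj ≅ DCoh.inD S (Coh.structureModule S)) := ⟨Iso.refl _⟩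
  let M := (a.obj (oQ S)).obj
  let eM : (Dual3.shriekC cp a).obj (oQ S) ≅ M := (restrictDId (X := Y)).app M
  obtain ⟨⟨e₀⟩, -⟩ := shriek_model d hS hd ω hω adj (oQ S) (Iso.refl _)
  let V : Y.Opens := ⟨_, CMFlatLib.isOpen_isCMAt f⟩
  have hst : ∀ y ∈ V, (∀ i : ℤ, i ≠ -(d : ℤ) → Subsingleton ((DCoh.HD M i).presheaf.stalk y)) ∧
      FlatMod.IsFlatOverAt f ω y := fun y hy => by
    obtain ⟨h1, h2⟩ := RelDualCMLib.stalks_of_cm (cp := cp) adjc (oQ S) hO hy d ((RelDimLib.hasRelDim_iff f d).1 hd y)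
    refine ⟨fun i hi => ?_, ?_⟩
    · haveI hs : Subsingleton ((DCohLib.stkF y).obj (DCoh.HD ((Dual3.shriekC cp a).obj (oQ S)) i)) := h1 i hi
      exact @Equiv.subsingleton _ _ ((DCohLib.stkF y).mapIso ((DerivedCategory.homologyFunctor Y.Modules i).mapIso eM)).toLinearEquiv.symm.toEquiv hs
    · rw [isFlatOverAt_iff_stalkOver]
      haveI := (isFlatOverAt_iff_stalkOver f _ y).1 h2
      exact Module.Flat.of_linearEquiv ((DerSch.stalkOver f y).mapIso
        ((DerivedCategory.homologyFunctor Y.Modules (-(d : ℤ))).mapIso eM ≪≫ e₀)).toLinearEquiv.symm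
  refine ⟨V, fun y => Iff.rfl, fun y hy => (hst y hy).2, fun t ωt hωt => ?_⟩
  let κ := S.residueField t
  let g := S.fromSpecResidueField t
  let Yt := f.fiber t
  letI : Yt.Over (Spec (CommRingCat.of κ)) := ⟨f.fiberToSpecResidueField t⟩
  obtain ⟨φ, hp⟩ := exists_fibre_hom f t
  let f' := Yt ↘ Spec (CommRingCat.of κ)
  haveI : IsProper f' := MorphismProperty.of_isPullback (P := @IsProper) hp ‹_›
  haveI : IsProper (Yt ↘ Spec (CommRingCat.of κ)) := ‹IsProper f'›
  haveI : IsNoetherianRing (CommRingCat.of κ) := inferInstanceAs (IsNoetherianRing κ)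
  haveI : IsLocallyNoetherian Yt := LocallyOfFiniteType.isLocallyNoetherian f'
  haveI : CompactSpace Yt := QuasiCompact.compactSpace_of_compactSpace f'
  haveI : IsNoetherian Yt := {}
  obtain ⟨hS', hd'⟩ := isSkMor_baseChange hp 2 d hS hd
  let p := f.fiberι t
  have hsq : IsPullback p f' f g := IsPullback.of_hasPullback _ _
  haveI : IsAffineHom g := inferInstance
  haveI : IsAffineHom p := MorphismProperty.of_isPullback (P := @IsAffineHom) hsq.flip inferInstance
  haveI : Mono p := MorphismProperty.of_isPullback (P := MorphismProperty.monomorphisms Scheme.{u}) hsq.flip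
    (inferInstance : Mono g)
  haveI := BC.hasRpush f'; haveI := BC.hasRpush p; haveI := hasLpull p
  haveI := isLeftAdjoint_rpushQ' f'
  let T := Spec (CommRingCat.of κ)
  let a' := (DCoh.RpushQ f' (rpushQC f')).rightAdjoint
  let adj' : DCoh.RpushQ f' (rpushQC f') ⊣ a' := Adjunction.ofIsLeftAdjoint _
  obtain ⟨⟨e₀'⟩, -⟩ := shriek_model (A := κ) (Y := Yt) d hS' hd' ωt hωt adj' (oQ T) (Iso.refl _)
  let m : ℤ := -(d : ℤ)
  obtain ⟨r⟩ := nonempty_rpush_shriek_iso hsq adj adj' (oQ S) hO (oQ T) ⟨Iso.refl _⟩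
  have hL : DCoh.IsQCohD ((DCoh.Lpull p).obj M) := TildeD.isQCohD_lpull p _ (a.obj (oQ S)).property
  obtain ⟨h₁⟩ := nonempty_HD_rpush_affine p (a'.obj (oQ T)).obj (a'.obj (oQ T)).property m
  obtain ⟨h₂⟩ := nonempty_HD_rpush_affine p _ hL m
  haveI : Coh.IsQCoh (DCoh.HD (a'.obj (oQ T)).obj m) := (a'.obj (oQ T)).property m
  haveI : Coh.IsQCoh (DCoh.HD ((DCoh.Lpull p).obj M) m) := hL m
  obtain ⟨i⟩ := nonempty_iso_of_pushforward p
    (h₁.symm ≪≫ (DerivedCategory.homologyFunctor Y.Modules m).mapIso r ≪≫ h₂)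
  let V' : Yt.Opens := p ⁻¹ᵁ V
  let j := V.ι
  let j' := V'.ι
  let q : (V' : Scheme.{u}) ⟶ V := p ∣_ V
  have hq : q ≫ j = j' ≫ p := morphismRestrict_ι p V
  haveI := hasLpull j; haveI := hasLpull j'; haveI := hasLpull q
  haveI : ((DCoh.Lpull j).obj M).IsLE m := (DerivedCategory.isLE_iff _ _).2 fun i hi => by
    refine IsZero.of_iso ?_ ((DerivedCategory.homologyFunctor _ i).mapIso ((lpullRestrictNatIso j).app M) ≪≫
      restrictHDIso j M i)
    refine DCohLib.isZero_of_stalks fun z => ?_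
    exact @Equiv.subsingleton _ _
      ((Scheme.Modules.restrictStalkNatIso j z).app (DCoh.HD M i)).addCommGroupIsoToAddEquiv.toEquiv
      ((hst _ z.2).1 i (by omega))
  obtain ⟨tp⟩ := nonempty_HD_top_lpull q ((DCoh.Lpull j).obj M) m
  obtain ⟨c⟩ := nonempty_lpull_square q j j' p hq
  let Pq := Scheme.Modules.pullback q
  let src : DCoh.HD ((DCoh.Lpull j').obj ((DCoh.Lpull p).obj M)) m ≅ ((Scheme.Modules.pullback p).obj ω).restrict j' :=
    (DerivedCategory.homologyFunctor _ m).mapIso (c.app M).symm ≪≫ tp ≪≫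
      Pq.mapIso ((DerivedCategory.homologyFunctor _ m).mapIso ((lpullRestrictNatIso j).app M) ≪≫
        restrictHDIso j M _ ≪≫ (Scheme.Modules.restrictFunctor j).mapIso e₀ ≪≫
        (Scheme.Modules.restrictFunctorIsoPullback j).app ω) ≪≫
      (Scheme.Modules.pullbackComp q j).app ω ≪≫ (Scheme.Modules.pullbackCongr hq).app ω ≪≫
      ((Scheme.Modules.pullbackComp j' p).app ω).symm ≪≫
      ((Scheme.Modules.restrictFunctorIsoPullback j').app _).symm
  exact ⟨src.symm ≪≫ (DerivedCategory.homologyFunctor _ m).mapIso ((lpullRestrictNatIso j').app _) ≪≫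
    restrictHDIso j' _ _ ≪≫ (Scheme.Modules.restrictFunctor j').mapIso (i.symm ≪≫ e₀')⟩

end Groth.Agent.FibreDualLib
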