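import Groth.Agent.FibreDualLib.BCShriek
import Groth.Agent.FibreDualLib.CMLocus
import Groth.Agent.FibreDualLib.CMField

/-!
# Relatively `(S₂)` canonical sheaves commute with base change
-/

set_option autoImplicit false
set_option linter.style.haveILetI false
set_option linter.unusedSectionVars false
set_option backward.isDefEq.respectTransparency false
set_option backward.isDefEq.respectTransparency.types false
set_option maxHeartbeats 1600000

universe u

open CategoryTheory CategoryTheory.Limits AlgebraicGeometry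
open Groth.Agent.DCohLib Groth.Agent.DCohMore Groth.Agent.TwistShriek Groth.Agent.CohBase
open Groth.Agent.DimFormulaLib Groth.Agent.ShriekBridge Groth.Agent.FMKLib

attribute [local instance] HasDerivedCategory.standard

noncomputable section

namespace Groth.Agent.FibreDualLib

variable {A : Type u} [CommRing A] [IsNoetherianRing A] {Y : Scheme.{u}}

/-- A relatively `(S₂)` canonical sheaf commutes with Noetherian base change. -/
theorem isDualizingSheaf_baseChange [Y.Over (Spec (CommRingCat.of A))] [IsProper (Y ↘ Spec (CommRingCat.of A))] (d : ℕ)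
    (hS : RelCanon.IsSkMor (Y ↘ Spec (CommRingCat.of A)) 2) (hd : Cyc.HasRelDim (Y ↘ Spec (CommRingCat.of A)) d)
    (ω : Y.Modules) (hω : RelCanon.IsDualizingSheaf A Y d ω)
    (h2 : RelCanon.RelSk (Y ↘ Spec (CommRingCat.of A)) 2 ω) :
    RelCanon.CommutesWithBaseChangeNoeth A Y d ω := by
  intro B _ _ φ Y' _ p hsq
  let f := Y ↘ Spec (CommRingCat.of A)
  let S := Spec (CommRingCat.of A)
  haveI : ∀ (R : CommRingCat.{u}), PreservesFiniteLimits (tilde.functor R) := fun R =>
    TildeD.preservesFiniteLimits_tilde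
  haveI : ∀ (U V : Scheme.{u}) (j : U ⟶ V) [IsOpenImmersion j],
      PreservesFiniteLimits (Scheme.Modules.restrictFunctor j) := fun U V j _ => inferInstance
  haveI : IsNoetherianRing (CommRingCat.of A) := inferInstanceAs (IsNoetherianRing A)
  haveI : Flat f := hS.1
  haveI : LocallyOfFinitePresentation f := S14008.lfp_of_lft f
  haveI : IsLocallyNoetherian Y := LocallyOfFiniteType.isLocallyNoetherian f
  haveI : CompactSpace Y := QuasiCompact.compactSpace_of_compactSpace f
  haveI : IsNoetherian Y := {}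
  haveI := BC.hasRpush f
  haveI := isLeftAdjoint_rpushQ' f
  let a := (DCoh.RpushQ f (rpushQC f)).rightAdjoint
  let adj : DCoh.RpushQ f (rpushQC f) ⊣ a := Adjunction.ofIsLeftAdjoint _
  let cp := idComp f
  haveI : DCoh.HasRpush cp.fbar := ‹DCoh.HasRpush f›
  let adjc : DCoh.RpushQ cp.fbar (rpushQC f) ⊣ a := adj
  have hO : Nonempty ((oQ S).obj ≅ DCoh.inD S (Coh.structureModule S)) := ⟨Iso.refl _⟩
  let M := (a.obj (oQ S)).obj
  let eM : (Dual3.shriekC cp a).obj (oQ S) ≅ M := (restrictDId (X := Y)).app M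
  obtain ⟨⟨e₀⟩, -⟩ := shriek_model d hS hd ω hω adj (oQ S) (Iso.refl _)
  let V : Y.Opens := ⟨_, CMFlatLib.isOpen_isCMAt f⟩
  have hst : ∀ y ∈ V, (∀ i : ℤ, i ≠ -(d : ℤ) → Subsingleton ((DCoh.HD M i).presheaf.stalk y)) ∧
      FlatMod.IsFlatOverAt f ω y := fun y hy => by
    obtain ⟨h1, h2⟩ := RelDualCMLib.stalks_of_cm (cp := cp) adjc (oQ S) hO hy d ((RelDimLib.hasRelDim_iff f d).1 hd y)
    refine ⟨fun i hi => ?_, ?_⟩
    · haveI hs : Subsingleton ((DCohLib.stkF y).obj (DCoh.HD ((Dual3.shriekC cp a).obj (oQ S)) i)) := h1 i hi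
      exact @Equiv.subsingleton _ _ ((DCohLib.stkF y).mapIso ((DerivedCategory.homologyFunctor Y.Modules i).mapIso eM)).toLinearEquiv.symm.toEquiv hs
    · rw [isFlatOverAt_iff_stalkOver]
      haveI := (isFlatOverAt_iff_stalkOver f _ y).1 h2
      exact Module.Flat.of_linearEquiv ((DerSch.stalkOver f y).mapIso
        ((DerivedCategory.homologyFunctor Y.Modules (-(d : ℤ))).mapIso eM ≪≫ e₀)).toLinearEquiv.symm
  let T := Spec (CommRingCat.of B)
  let f' := Y' ↘ T
  let g : T ⟶ S := Spec.map (CommRingCat.ofHom φ)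
  haveI : IsNoetherianRing (CommRingCat.of B) := inferInstanceAs (IsNoetherianRing B)
  haveI : IsProper f' := MorphismProperty.of_isPullback (P := @IsProper) hsq ‹_›
  haveI : IsLocallyNoetherian Y' := LocallyOfFiniteType.isLocallyNoetherian f'
  haveI : CompactSpace Y' := QuasiCompact.compactSpace_of_compactSpace f'
  haveI : IsNoetherian Y' := {}
  obtain ⟨hS', hd'⟩ := isSkMor_baseChange hsq 2 d hS hd
  haveI : IsAffineHom g := inferInstance
  haveI : IsAffineHom p := MorphismProperty.of_isPullback (P := @IsAffineHom) hsq.flip inferInstance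
  haveI := BC.hasRpush f'; haveI := BC.hasRpush p; haveI := hasLpull p
  haveI := isLeftAdjoint_rpushQ' f'
  obtain ⟨ω', hω'⟩ := exists_isDualizingSheaf (A := B) (Y := Y') d hS' hd'
  let a' := (DCoh.RpushQ f' (rpushQC f')).rightAdjoint
  let adj' : DCoh.RpushQ f' (rpushQC f') ⊣ a' := Adjunction.ofIsLeftAdjoint _
  obtain ⟨⟨e₀'⟩, -⟩ := shriek_model (A := B) (Y := Y') d hS' hd' ω' hω' adj' (oQ T) (Iso.refl _)
  let m : ℤ := -(d : ℤ)
  obtain ⟨i⟩ := nonempty_HD_shriek_lpull_iso hsq adj adj' (oQ S) hO (oQ T) ⟨Iso.refl _⟩ m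
  -- over the Cohen–Macaulay locus
  let V' : Y'.Opens := p ⁻¹ᵁ V
  let j := V.ι
  let j' := V'.ι
  let q : (V' : Scheme.{u}) ⟶ V := p ∣_ V
  have hq : q ≫ j = j' ≫ p := morphismRestrict_ι p V
  haveI := hasLpull j; haveI := hasLpull j'; haveI := hasLpull q
  haveI : ((DCoh.Lpull j).obj M).IsLE m := (DerivedCategory.isLE_iff _ _).2 fun i hi => by
    refine IsZero.of_iso ?_ ((DerivedCategory.homologyFunctor _ i).mapIso ((lpullRestrictNatIso j).app M) ≪≫
      restrictHDIso j M i)
    refine DCohLib.isZero_of_stalks fun z => ?_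
    exact @Equiv.subsingleton _ _
      ((Scheme.Modules.restrictStalkNatIso j z).app (DCoh.HD M i)).addCommGroupIsoToAddEquiv.toEquiv
      ((hst _ z.2).1 i (by omega))
  obtain ⟨tp⟩ := nonempty_HD_top_lpull q ((DCoh.Lpull j).obj M) m
  obtain ⟨c⟩ := nonempty_lpull_square q j j' p hq
  let Pq := Scheme.Modules.pullback q
  let src : DCoh.HD ((DCoh.Lpull j').obj ((DCoh.Lpull p).obj M)) m ≅ ((Scheme.Modules.pullback p).obj ω).restrict j' :=
    (DerivedCategory.homologyFunctor _ m).mapIso (c.app M).symm ≪≫ tp ≪≫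
      Pq.mapIso ((DerivedCategory.homologyFunctor _ m).mapIso ((lpullRestrictNatIso j).app M) ≪≫
        restrictHDIso j M _ ≪≫ (Scheme.Modules.restrictFunctor j).mapIso e₀ ≪≫
        (Scheme.Modules.restrictFunctorIsoPullback j).app ω) ≪≫
      (Scheme.Modules.pullbackComp q j).app ω ≪≫ (Scheme.Modules.pullbackCongr hq).app ω ≪≫
      ((Scheme.Modules.pullbackComp j' p).app ω).symm ≪≫
      ((Scheme.Modules.restrictFunctorIsoPullback j').app _).symm
  let iV : ((Scheme.Modules.pullback p).obj ω).restrict j' ≅ ω'.restrict j' :=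
    src.symm ≪≫ (DerivedCategory.homologyFunctor _ m).mapIso ((lpullRestrictNatIso j').app _) ≪≫
      restrictHDIso j' _ _ ≪≫ (Scheme.Modules.restrictFunctor j').mapIso (i.symm ≪≫ e₀')
  -- extension
  obtain ⟨hcoh, -, -⟩ := relCanonical_model d hS hd ω hω
  obtain ⟨hcoh', -, -⟩ := relCanonical_model (A := B) (Y := Y') d hS' hd' ω' hω'
  have hdim : ∀ y : Y, y ∉ V → (2 : WithBot ℕ∞) ≤ ringKrullDim ((f.fiber (f y)).presheaf.stalk (f.asFiber y)) :=
    fun y hy => le_trans (by norm_num) (three_le_dim_fibre_of_not_cm f hS y hy)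
  have hnt : ∀ y : Y, y ∈ V → Nontrivial (ω.presheaf.stalk y) := fun y _ => by
    by_contra hn
    rw [not_nontrivial_iff_subsingleton] at hn
    exact one_ne_zero ((scalar_end_relCanonical d hS hd ω hω y).1
      (show (1 : Y.presheaf.stalk y) • LinearMap.id = (0 : Y.presheaf.stalk y) • LinearMap.id from
        LinearMap.ext fun m => hn.elim _ _))
  haveI := hcoh.1
  haveI : IsIso ((Scheme.Modules.restrictAdjunction V'.ι).unit.app ((Scheme.Modules.pullback p).obj ω)) :=
    isIso_unit_of_depth V' (PullbackMod.isCoh_pullback p _ hcoh) fun z hz =>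
      two_le_depth_baseChange hsq hcoh V hnt hdim z (h2 (p z)) hz
  haveI : IsIso ((Scheme.Modules.restrictAdjunction V'.ι).unit.app ω') :=
    isIso_unit_of_depth V' hcoh' fun z hz =>
      two_le_depth_dualizing (A := B) (Y := Y') d hS' hd' ω' hω' z fun v hv =>
        codim_baseChange hsq v _ fun y hy => hdim y fun hyV =>
          hz (hv.mem_open V'.2 (show p v ∈ V from hy ▸ hyV))
  obtain ⟨E⟩ := nonempty_iso_of_restrict V' iV
  obtain ⟨tr, htr⟩ := hω'
  exact TwistShriek.exists_isRDualOver_of_iso B Y' d E.symm tr htr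

end Groth.Agent.FibreDualLib
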