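import Groth.Agent.FibreDualLib.S2Extend
import Groth.Agent.FibreDepth.Scheme
import Groth.Agent.EGA4Dim.TensorSk
import Groth.Agent.FlatDepth.Basic
import Groth.Agent.AssLib.Basic
import Groth.Agent.DCohLib.PCTop
import Groth.Agent.PullbackMod.Flat
import Groth.Agent.PullbackMod.Props

/-!
# Depth two of base changes of relatively `(S₂)` modules
-/

set_option autoImplicit false
set_option linter.style.haveILetI false
set_option linter.unusedSectionVars false
set_option backward.isDefEq.respectTransparency false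
set_option maxHeartbeats 1000000

universe u

open CategoryTheory CategoryTheory.Limits AlgebraicGeometry
open scoped TensorProduct

noncomputable section

namespace Groth.Agent.FibreDualLib

variable {X Y T : Scheme.{u}}

/-- Properties of all fibre points can be checked at the points `asFiber`. -/
theorem forall_fiber (f : X ⟶ T) {P : ∀ t : T, f.fiber t → Prop} (h : ∀ x : X, P (f x) (f.asFiber x)) :
    ∀ (t : T) (w : f.fiber t), P t w := by
  intro t w
  have ht : f (f.fiberι t w) = t := by
    have : f.fiberι t w ∈ f ⁻¹' {t} := by rw [← f.range_fiberι t]; exact ⟨w, rfl⟩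
    exact this
  generalize hx : f.fiberι t w = x at ht
  subst ht
  have hw : w = f.asFiber x :=
    (f.fiberι (f x)).isEmbedding.injective (hx.trans (f.fiberι_asFiber x).symm)
  exact hw ▸ h x

/-- A stalk that is nonzero at the generic points of a neighbourhood has full support. -/
theorem supportDim_stalk_eq {Z : Scheme.{u}} (F : Z.Modules) [Coh.IsQCoh F] (w : Z)
    (h : ∀ v : Z, v ⤳ w → ringKrullDim (Z.presheaf.stalk v) = 0 → Nontrivial (F.presheaf.stalk v)) :
    Module.supportDim (Z.presheaf.stalk w) (F.presheaf.stalk w) = ringKrullDim (Z.presheaf.stalk w) := by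
  obtain ⟨_, ⟨W : Z.Opens, (hW : IsAffineOpen W), rfl⟩, hwW, -⟩ :=
    Z.isBasis_affineOpens.exists_subset_of_mem_open (Set.mem_univ w) isOpen_univ
  let B := Γ(Z, W)
  let O := Z.presheaf.stalk w
  let P := AssLib.pr hW hwW
  letI : Algebra B O := TopCat.Presheaf.algebra_section_stalk Z.presheaf ⟨w, hwW⟩
  haveI : IsLocalization.AtPrime O P := hW.isLocalization_stalk ⟨w, hwW⟩
  letI : Module B (F.presheaf.stalk w) := Module.compHom _ (Z.presheaf.germ W w hwW).hom
  haveI : IsScalarTower B O (F.presheaf.stalk w) := .of_algebraMap_smul fun _ _ => rfl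
  haveI := FlatLocus.isLocalizedModule_germL F hW w hwW
  let g := FlatLocus.germL F W w hwW
  have hsupp : Module.support O (F.presheaf.stalk w) = Set.univ := by
    refine Set.eq_univ_of_forall fun Q => ?_
    obtain ⟨Q0, hQ0, hle⟩ := Ideal.exists_minimalPrimes_le (bot_le (a := Q.asIdeal))
    haveI := hQ0.1.1
    refine Module.mem_support_mono (p := ⟨Q0, inferInstance⟩) hle ?_
    let q0 : PrimeSpectrum B := PrimeSpectrum.comap (algebraMap B O) ⟨Q0, inferInstance⟩
    have hq0P : q0.asIdeal ≤ P := fun a ha =>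
      (IsLocalization.AtPrime.to_map_mem_maximal_iff O P a).1 (IsLocalRing.le_maximalIdeal hQ0.1.1.ne_top ha)
    let v := AssLib.pt hW q0
    have hv : v ∈ W := AssLib.pt_mem hW q0
    have hpr : AssLib.pr hW hv = q0.asIdeal := AssLib.pr_pt hW q0
    have hvw : v ⤳ w := (AssLib.specializes_iff hW hwW hv).2 (hpr.le.trans hq0P)
    have hdim : ringKrullDim (Z.presheaf.stalk v) = 0 := by
      letI : Algebra B (Z.presheaf.stalk v) := TopCat.Presheaf.algebra_section_stalk Z.presheaf ⟨v, hv⟩
      haveI : IsLocalization.AtPrime (Z.presheaf.stalk v) (AssLib.pr hW hv) := hW.isLocalization_stalk ⟨v, hv⟩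
      rw [IsLocalization.AtPrime.ringKrullDim_eq_height (AssLib.pr hW hv) (Z.presheaf.stalk v), hpr,
        show q0.asIdeal = Q0.comap (algebraMap B O) from rfl, IsLocalization.height_comap P.primeCompl,
        Ideal.height_eq_zero_iff.2 hQ0]
      rfl
    haveI hnv := h v hvw hdim
    have hmem : q0 ∈ Module.support B Γ(F, W) := by
      have h' := (AssLib.nontrivial_stalk_iff hW hv).1 hnv
      rwa [AssLib.primeIdealOf_pt] at h'
    rw [Module.mem_support_iff'] at hmem ⊢
    obtain ⟨m, hm⟩ := hmem
    refine ⟨g m, fun r hr hz => ?_⟩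
    obtain ⟨⟨a, s⟩, has⟩ := IsLocalization.surj P.primeCompl r
    have hga : g (a • m) = 0 := by
      rw [map_smul, ← algebraMap_smul O a (g m), ← has, mul_comm, mul_smul, hz, smul_zero]
    obtain ⟨c, hc⟩ := (IsLocalizedModule.eq_zero_iff P.primeCompl g).1 hga
    rw [Submonoid.smul_def, smul_smul] at hc
    refine hm _ (fun hin => ?_) hc
    rcases q0.isPrime.mem_or_mem hin with hc' | ha
    · exact c.2 (hq0P hc')
    · change algebraMap B O a ∈ Q0 at ha
      rw [← has] at ha
      rcases hQ0.1.1.mem_or_mem ha with h' | h'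
      · exact hr h'
      · exact hQ0.1.1.ne_top (Ideal.eq_top_of_isUnit_mem _ h' (IsLocalization.map_units O s))
  rw [Module.supportDim, hsupp]
  exact Order.krullDim_eq_of_orderIso OrderIso.Set.univ

/-- Fibre restrictions of relatively `(S₂)` modules have depth two in codimension two. -/
theorem two_le_depth_fibre_stalk (f : Y ⟶ T) [LocallyOfFiniteType f] [IsLocallyNoetherian Y] {P : Y.Modules}
    (hP : Coh.IsCoh P) (U : Y.Opens)
    (hU : ∀ y : Y, y ∈ U → Nontrivial (P.presheaf.stalk y))
    (hG : ∀ y : Y, y ∉ U → (2 : WithBot ℕ∞) ≤ ringKrullDim ((f.fiber (f y)).presheaf.stalk (f.asFiber y))) :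
    ∀ (t : T) (w : f.fiber t), RelCanon.RelSkAt f 2 P (f.fiberι t w) → f.fiberι t w ∉ U →
      (2 : ℕ∞) ≤ LocCoh.depth ((f.fiber t).presheaf.stalk w)
        (((Scheme.Modules.pullback (f.fiberι t)).obj P).presheaf.stalk w) := by
  haveI := hP.1
  have hFP := QCohLib.isFP_of_isCoh P hP
  have hnt : ∀ (t : T) (w : f.fiber t), f.fiberι t w ∈ U →
      Nontrivial (((Scheme.Modules.pullback (f.fiberι t)).obj P).presheaf.stalk w) := by
    refine forall_fiber f fun y hy => ?_
    rw [f.fiberι_asFiber] at hy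
    rw [← not_subsingleton_iff_nontrivial, (FibreDepth.fib_stalk f P hFP y).2.2, not_subsingleton_iff_nontrivial]
    haveI := hU y hy
    haveI := FlatLocus.finite_stalk P hFP y
    refine Submodule.Quotient.nontrivial_iff.2 fun h => ?_
    have := Submodule.eq_bot_of_le_smul_of_le_jacobson_bot (FibreDepth.fibreIdeal f y)
      (⊤ : Submodule (Y.presheaf.stalk y) (P.presheaf.stalk y)) Module.Finite.fg_top h.ge
      ((IsLocalRing.map_maximalIdeal_le (f.stalkMap y).hom).trans (IsLocalRing.maximalIdeal_le_jacobson ⊥))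
    exact top_ne_bot this
  have hG' : ∀ (t : T) (w : f.fiber t), f.fiberι t w ∉ U → (2 : WithBot ℕ∞) ≤ ringKrullDim ((f.fiber t).presheaf.stalk w) :=
    forall_fiber f fun y hy => hG y (by rwa [f.fiberι_asFiber] at hy)
  refine forall_fiber f fun y hSk hy => ?_
  rw [f.fiberι_asFiber] at hSk
  haveI : LocallyOfFiniteType (f.fiberToSpecResidueField (f y)) := MorphismProperty.pullback_snd _ _ ‹_›
  haveI : IsLocallyNoetherian (f.fiber (f y)) :=
    LocallyOfFiniteType.isLocallyNoetherian (f.fiberToSpecResidueField (f y))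
  let Q := (Scheme.Modules.pullback (f.fiberι (f y))).obj P
  haveI : Coh.IsQCoh Q := PullbackMod.isQCoh_pullback _ P
  have hQ : Coh.IsCoh Q := PullbackMod.isCoh_pullback (f.fiberι (f y)) _ hP
  haveI := PullbackMod.finite_stalk_of_isFT hQ.2 (f.asFiber y)
  have hdim : Module.supportDim ((f.fiber (f y)).presheaf.stalk (f.asFiber y)) (Q.presheaf.stalk (f.asFiber y)) =
      ringKrullDim ((f.fiber (f y)).presheaf.stalk (f.asFiber y)) :=
    supportDim_stalk_eq Q _ fun v _ hv => hnt _ v (by
      by_contra hvU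
      exact absurd (hv ▸ hG' _ v hvU) (by norm_num))
  have h := EGA4Dim.skIneq_of_hasSk hSk.2
  rw [EGA4Dim.SkIneq, hdim] at h
  exact WithBot.coe_le_coe.1 ((le_min le_rfl (hG' _ _ hy)).trans h)

/-- Depth two is inherited by flat inverse images. -/
theorem two_le_depth_pullback_flat (q : X ⟶ Y) [IsLocallyNoetherian X] [IsLocallyNoetherian Y] {F : Y.Modules}
    (hF : Coh.IsCoh F) (w : X) (hq : (q.stalkMap w).hom.Flat)
    (h : (2 : ℕ∞) ≤ LocCoh.depth (Y.presheaf.stalk (q w)) (F.presheaf.stalk (q w))) :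
    (2 : ℕ∞) ≤ LocCoh.depth (X.presheaf.stalk w) (((Scheme.Modules.pullback q).obj F).presheaf.stalk w) := by
  haveI := hF.1
  haveI := PullbackMod.finite_stalk_of_isFT hF.2 (q w)
  let O := Y.presheaf.stalk (q w)
  let O' := X.presheaf.stalk w
  letI : Algebra O O' := (q.stalkMap w).hom.toAlgebra
  haveI : Module.Flat O O' := hq
  haveI : IsLocalHom (algebraMap O O') := inferInstanceAs (IsLocalHom (q.stalkMap w).hom)
  letI := Module.compHom (((Scheme.Modules.pullback q).obj F).presheaf.stalk w) (q.stalkMap w).hom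
  haveI : IsScalarTower O O' (((Scheme.Modules.pullback q).obj F).presheaf.stalk w) :=
    .of_algebraMap_smul fun _ _ => rfl
  have hbc := PullbackMod.isBaseChange_pullStalkL q F w
  rw [← CAlgBasics.depth_congr hbc.equiv]
  rcases subsingleton_or_nontrivial (F.presheaf.stalk (q w)) with hs | hs
  · rw [CAlgBasics.depth_eq_top]
    exact le_top
  rw [FlatDepth.depth_tensor (A := O) (B := O') (N := O') (F.presheaf.stalk (q w))]
  exact h.trans le_self_add

/-- Depth two of a flat module from depth two of its restriction to the fibre. -/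
theorem two_le_depth_of_fibre_stalk (f : X ⟶ T) [IsLocallyNoetherian X] [IsLocallyNoetherian T] {F : X.Modules}
    (hF : Coh.IsCoh F) (x : X) (hfl : FlatMod.IsFlatOverAt f F x)
    (h : (2 : ℕ∞) ≤ LocCoh.depth ((f.fiber (f x)).presheaf.stalk (f.asFiber x))
      (((Scheme.Modules.pullback (f.fiberι (f x))).obj F).presheaf.stalk (f.asFiber x))) :
    (2 : ℕ∞) ≤ LocCoh.depth (X.presheaf.stalk x) (F.presheaf.stalk x) := by
  haveI := hF.1
  haveI := PullbackMod.finite_stalk_of_isFT hF.2 x
  have h' : (2 : ℕ∞) ≤ LocCoh.depth (X.presheaf.stalk x) (FibreDepth.fibreStalkMod f F x) :=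
    h.trans_eq (FibreDepth.fib_stalk f F (QCohLib.isFP_of_isCoh F hF) x).1
  let R := T.presheaf.stalk (f x)
  let S := X.presheaf.stalk x
  letI : Algebra R S := (f.stalkMap x).hom.toAlgebra
  letI : Module R (F.presheaf.stalk x) := FlatMod.moduleStalkOver f F x
  haveI : IsScalarTower R S (F.presheaf.stalk x) := .of_algebraMap_smul fun _ _ => rfl
  haveI : Module.Flat R (F.presheaf.stalk x) := hfl
  haveI : IsLocalHom (algebraMap R S) := inferInstanceAs (IsLocalHom (f.stalkMap x).hom)
  let I : Ideal S := (IsLocalRing.maximalIdeal R).map (algebraMap R S)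
  refine QGorLib.two_le_depth_of_fibre (R := R) (M := F.presheaf.stalk x) ?_
  haveI : Nontrivial (S ⧸ I) := Ideal.Quotient.nontrivial_iff.2 fun h =>
    (IsLocalRing.maximalIdeal.isMaximal S).ne_top (top_le_iff.1 (h ▸ IsLocalRing.map_maximalIdeal_le (algebraMap R S)))
  haveI : IsLocalRing (S ⧸ I) := IsLocalRing.of_surjective' (Ideal.Quotient.mk I) Ideal.Quotient.mk_surjective
  rw [show (IsLocalRing.maximalIdeal S).map (Ideal.Quotient.mk I) = IsLocalRing.maximalIdeal (S ⧸ I) from
    IsLocalRing.eq_maximalIdeal (Ideal.IsMaximal.map_of_surjective_of_ker_le Ideal.Quotient.mk_surjective (by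
      rw [Ideal.mk_ker]; exact IsLocalRing.map_maximalIdeal_le (algebraMap R S)))]
  haveI : Module.Finite (S ⧸ I) (F.presheaf.stalk x ⧸ (I • ⊤ : Submodule S (F.presheaf.stalk x))) :=
    Module.Finite.of_restrictScalars_finite S _ _
  exact h'.trans_eq (FlatDepth.depth_of_surjective (S := S) (R := S ⧸ I) Ideal.Quotient.mk_surjective
    (F.presheaf.stalk x ⧸ (I • ⊤ : Submodule S (F.presheaf.stalk x)))).symm

/-- Restrictions to fibres of a base change of relatively `(S₂)` modules have depth two off the preimage of an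
open set with fibrewise complement of codimension two. -/
theorem two_le_depth_fibre_baseChange {Y' T' : Scheme.{u}} {p : Y' ⟶ Y} {f' : Y' ⟶ T'} {f : Y ⟶ T} {g : T' ⟶ T}
    (hp : IsPullback p f' f g) [LocallyOfFiniteType f] [IsLocallyNoetherian T] [IsLocallyNoetherian T']
    {P : Y.Modules} (hP : Coh.IsCoh P) (U : Y.Opens)
    (hU : ∀ y : Y, y ∈ U → Nontrivial (P.presheaf.stalk y))
    (hG : ∀ y : Y, y ∉ U → (2 : WithBot ℕ∞) ≤ ringKrullDim ((f.fiber (f y)).presheaf.stalk (f.asFiber y)))
    (s : T') (w : f'.fiber s) (hSk : RelCanon.RelSkAt f 2 P (p (f'.fiberι s w))) (hw : p (f'.fiberι s w) ∉ U) :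
    (2 : ℕ∞) ≤ LocCoh.depth ((f'.fiber s).presheaf.stalk w)
      (((Scheme.Modules.pullback (f'.fiberι s)).obj ((Scheme.Modules.pullback p).obj P)).presheaf.stalk w) := by
  haveI := hP.1
  haveI : LocallyOfFiniteType f' := MorphismProperty.of_isPullback (P := @LocallyOfFiniteType) hp ‹_›
  haveI : IsLocallyNoetherian Y := LocallyOfFiniteType.isLocallyNoetherian f
  let q : f'.fiber s ⟶ f.fiber (g s) :=
    pullback.map _ _ _ _ p (Spec.map (g.residueFieldMap s)) g hp.w.symm (by simp)
  have hq : IsPullback q (f'.fiberToSpecResidueField s) (f.fiberToSpecResidueField (g s))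
      (Spec.map (g.residueFieldMap s)) := isPullback_fiberToSpecResidueField_of_isPullback hp s
  have hqι : q ≫ f.fiberι (g s) = f'.fiberι s ≫ p := pullback.lift_fst _ _ _
  haveI hgfl : Flat (Spec.map (g.residueFieldMap s)) := by
    letI := (g.residueFieldMap s).hom.toAlgebra
    exact (HasRingHomProperty.Spec_iff (P := @Flat)).2
      (RingHom.flat_algebraMap_iff.2 (inferInstance : Module.Flat (T.residueField (g s)) (T'.residueField s)))
  haveI : Flat q := MorphismProperty.of_isPullback (P := @Flat) hq.flip hgfl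
  haveI : LocallyOfFiniteType (f'.fiberToSpecResidueField s) := MorphismProperty.pullback_snd _ _ ‹_›
  haveI : LocallyOfFiniteType (f.fiberToSpecResidueField (g s)) := MorphismProperty.pullback_snd _ _ ‹_›
  haveI : IsLocallyNoetherian (f'.fiber s) := LocallyOfFiniteType.isLocallyNoetherian (f'.fiberToSpecResidueField s)
  haveI : IsLocallyNoetherian (f.fiber (g s)) :=
    LocallyOfFiniteType.isLocallyNoetherian (f.fiberToSpecResidueField (g s))
  have hι : f.fiberι (g s) (q w) = p (f'.fiberι s w) := by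
    rw [← Scheme.Hom.comp_apply, hqι, Scheme.Hom.comp_apply]
  have h2 := two_le_depth_fibre_stalk f hP U hU hG (g s) (q w) (by rwa [hι]) (by rwa [hι])
  have h3 := two_le_depth_pullback_flat q (PullbackMod.isCoh_pullback (f.fiberι (g s)) _ hP) w
    (Flat.stalkMap q w) h2
  let e : (Scheme.Modules.pullback q).obj ((Scheme.Modules.pullback (f.fiberι (g s))).obj P) ≅
      (Scheme.Modules.pullback (f'.fiberι s)).obj ((Scheme.Modules.pullback p).obj P) :=
    (Scheme.Modules.pullbackComp _ _).app P ≪≫ (Scheme.Modules.pullbackCongr hqι).app P ≪≫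
      ((Scheme.Modules.pullbackComp _ _).app P).symm
  exact h3.trans_eq (CAlgBasics.depth_congr ((DCohLib.stkF w).mapIso e).toLinearEquiv)

/-- Inverse images of relatively `(S₂)` modules along a base change have depth two off the preimage of an open
set with fibrewise complement of codimension two. -/
theorem two_le_depth_baseChange {Y' T' : Scheme.{u}} {p : Y' ⟶ Y} {f' : Y' ⟶ T'} {f : Y ⟶ T} {g : T' ⟶ T}
    (hp : IsPullback p f' f g) [LocallyOfFiniteType f] [IsLocallyNoetherian T] [IsLocallyNoetherian T']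
    {P : Y.Modules} (hP : Coh.IsCoh P) (U : Y.Opens)
    (hU : ∀ y : Y, y ∈ U → Nontrivial (P.presheaf.stalk y))
    (hG : ∀ y : Y, y ∉ U → (2 : WithBot ℕ∞) ≤ ringKrullDim ((f.fiber (f y)).presheaf.stalk (f.asFiber y)))
    (z : Y') (hSk : RelCanon.RelSkAt f 2 P (p z)) (hz : p z ∉ U) :
    (2 : ℕ∞) ≤ LocCoh.depth (Y'.presheaf.stalk z) (((Scheme.Modules.pullback p).obj P).presheaf.stalk z) := by
  haveI := hP.1
  haveI : LocallyOfFiniteType f' := MorphismProperty.of_isPullback (P := @LocallyOfFiniteType) hp ‹_›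
  haveI : IsLocallyNoetherian Y := LocallyOfFiniteType.isLocallyNoetherian f
  haveI : IsLocallyNoetherian Y' := LocallyOfFiniteType.isLocallyNoetherian f'
  exact two_le_depth_of_fibre_stalk f' (PullbackMod.isCoh_pullback p _ hP) z
    (PullbackMod.isFlatOverAt_baseChange hp P z hSk.1)
    (two_le_depth_fibre_baseChange hp hP U hU hG (f' z) (f'.asFiber z) (by rwa [f'.fiberι_asFiber])
      (by rwa [f'.fiberι_asFiber]))

end Groth.Agent.FibreDualLib
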