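import Groth.Agent.FibreDualLib.BCLocal

/-!
# Descent of reflexive powers along flat base change
-/

set_option autoImplicit false
set_option linter.style.haveILetI false
set_option linter.unusedSectionVars false
set_option backward.isDefEq.respectTransparency false
set_option maxHeartbeats 1000000

universe u

open CategoryTheory CategoryTheory.Limits AlgebraicGeometry
open Groth.Agent.DCohLib Groth.Agent.CohBase
open scoped TensorProduct

noncomputable section

namespace Groth.Agent.FibreDualLib

/-- Serre's condition on a local ring is the condition at its maximal ideal. -/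
theorem hasSkAt_maximal_iff (k : ℕ) (R N : Type u) [CommRing R] [IsLocalRing R] [AddCommGroup N] [Module R N]
    [Module.Finite R N] :
    EGA4.HasSkAt k R N (IsLocalRing.maximalIdeal R) ↔ LocCoh.HasSk k R N := by
  let m := IsLocalRing.maximalIdeal R
  haveI : IsLocalization m.primeCompl R := IsLocalization.at_units fun s hs => IsLocalRing.notMem_maximalIdeal.1 hs
  haveI : IsLocalizedModule m.primeCompl (LinearMap.id : N →ₗ[R] N) :=
    (isLocalizedModule_iff_isBaseChange m.primeCompl R LinearMap.id).2 (IsBaseChange.ofEquiv (LinearEquiv.refl R N))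
  let e := IsLocalizedModule.linearEquiv m.primeCompl (LinearMap.id : N →ₗ[R] N)
    (LocalizedModule.mkLinearMap m.primeCompl N)
  have h : FibreDepth.FibIso R N (Localization.AtPrime m) (LocalizedModule m.primeCompl N) := by
    refine ⟨algebraMap R (Localization.AtPrime m), fun z => ?_, e.toAddEquiv, fun r n => ?_⟩
    · obtain ⟨t, ht⟩ := (IsLocalization.algEquiv m.primeCompl R (Localization.AtPrime m)).surjective z
      exact ⟨t, ((IsLocalization.algEquiv m.primeCompl R (Localization.AtPrime m)).commutes t).symm.trans ht⟩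
    · show e (r • n) = algebraMap R (Localization.AtPrime m) r • e n
      rw [map_smul, algebraMap_smul]
  exact (h.hasSk_iff k).symm

/-- Serre's condition descends along flat morphisms. -/
theorem skAt_of_pullback_flat {X Y : Scheme.{u}} (q : X ⟶ Y) [IsLocallyNoetherian X] [IsLocallyNoetherian Y]
    {F : Y.Modules} (hF : Coh.IsCoh F) (k : ℕ) (w : X) (hq : (q.stalkMap w).hom.Flat)
    (h : RelCanon.SkAt k ((Scheme.Modules.pullback q).obj F) w) : RelCanon.SkAt k F (q w) := by
  haveI := hF.1
  haveI := PullbackMod.finite_stalk_of_isFT hF.2 (q w)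
  let O := Y.presheaf.stalk (q w)
  let O' := X.presheaf.stalk w
  letI : Algebra O O' := (q.stalkMap w).hom.toAlgebra
  haveI : Module.Flat O O' := hq
  haveI : IsLocalHom (algebraMap O O') := inferInstanceAs (IsLocalHom (q.stalkMap w).hom)
  letI := Module.compHom (((Scheme.Modules.pullback q).obj F).presheaf.stalk w) (q.stalkMap w).hom
  haveI : IsScalarTower O O' (((Scheme.Modules.pullback q).obj F).presheaf.stalk w) :=
    .of_algebraMap_smul fun _ _ => rfl
  have hbc := PullbackMod.isBaseChange_pullStalkL q F w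
  haveI : Module.Finite O' (O' ⊗[O] F.presheaf.stalk (q w)) := FlatDepth.finite_tensor _
  have h1 : EGA4.HasSkAt k O' (O' ⊗[O] F.presheaf.stalk (q w)) (IsLocalRing.maximalIdeal O') :=
    (hasSkAt_maximal_iff k O' _).2 ((QGorNhdLib.hasSk_congr_module hbc.equiv k).2 h)
  have hmem : (⟨IsLocalRing.maximalIdeal O', inferInstance⟩ : PrimeSpectrum O') ∈ Module.support O' O' :=
    Module.mem_support_iff_of_finite.2 (IsLocalRing.le_maximalIdeal (by
      rw [Ne, Module.annihilator_eq_top_iff]
      exact not_subsingleton O'))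
  have h2 := EGA4Dim.hasSkAt_base (A := O) (B := O') (E := F.presheaf.stalk (q w)) (F := O') k
    ⟨IsLocalRing.maximalIdeal O', inferInstance⟩ hmem h1
  have key : ∀ (P : Ideal O) [P.IsPrime], P = IsLocalRing.maximalIdeal O →
      EGA4.HasSkAt k O (F.presheaf.stalk (q w)) P → EGA4.HasSkAt k O (F.presheaf.stalk (q w)) (IsLocalRing.maximalIdeal O) := by
    rintro P _ rfl h; exact h
  exact (hasSkAt_maximal_iff k O _).1 (key _ (Ideal.ext fun x => by
    simp [Ideal.mem_comap, IsLocalRing.mem_maximalIdeal, mem_nonunits_iff]) h2)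

variable {Y' Y T T' : Scheme.{u}} {p : Y' ⟶ Y} {f' : Y' ⟶ T'} {f : Y ⟶ T} {g : T' ⟶ T}

/-- Relative `(S_k)` descends along flat base change. -/
theorem relSkAt_of_baseChange_flat (hp : IsPullback p f' f g) [Flat g] [LocallyOfFiniteType f]
    [IsLocallyNoetherian T] [IsLocallyNoetherian T'] {P : Y.Modules} (hP : Coh.IsCoh P) (k : ℕ) (z : Y')
    (h : RelCanon.RelSkAt f' k ((Scheme.Modules.pullback p).obj P) z) : RelCanon.RelSkAt f k P (p z) := by
  haveI := hP.1
  haveI : LocallyOfFiniteType f' := MorphismProperty.of_isPullback (P := @LocallyOfFiniteType) hp ‹_›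
  refine ⟨PullbackMod.isFlatOverAt_of_baseChange hp P z (Flat.stalkMap g _) h.1, ?_⟩
  let s := f' z
  let q : f'.fiber s ⟶ f.fiber (g s) :=
    pullback.map _ _ _ _ p (Spec.map (g.residueFieldMap s)) g hp.w.symm (by simp)
  have hq : IsPullback q (f'.fiberToSpecResidueField s) (f.fiberToSpecResidueField (g s))
      (Spec.map (g.residueFieldMap s)) := isPullback_fiberToSpecResidueField_of_isPullback hp s
  have hqι : q ≫ f.fiberι (g s) = f'.fiberι s ≫ p := pullback.lift_fst _ _ _
  haveI hgfl : Flat (Spec.map (g.residueFieldMap s)) := by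
    letI := (g.residueFieldMap s).hom.toAlgebra
    exact (HasRingHomProperty.Spec_iff (P := @Flat)).2
      (RingHom.flat_algebraMap_iff.2 (inferInstance : Module.Flat (T.residueField (g s)) (T'.residueField s)))
  haveI : Flat q := MorphismProperty.of_isPullback (P := @Flat) hq.flip hgfl
  haveI : LocallyOfFiniteType (f'.fiberToSpecResidueField s) := MorphismProperty.pullback_snd _ _ ‹_›
  haveI : LocallyOfFiniteType (f.fiberToSpecResidueField (g s)) := MorphismProperty.pullback_snd _ _ ‹_›
  haveI : IsLocallyNoetherian (f'.fiber s) := LocallyOfFiniteType.isLocallyNoetherian (f'.fiberToSpecResidueField s)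
  haveI : IsLocallyNoetherian (f.fiber (g s)) :=
    LocallyOfFiniteType.isLocallyNoetherian (f.fiberToSpecResidueField (g s))
  let e : (Scheme.Modules.pullback q).obj ((Scheme.Modules.pullback (f.fiberι (g s))).obj P) ≅
      (Scheme.Modules.pullback (f'.fiberι s)).obj ((Scheme.Modules.pullback p).obj P) :=
    (Scheme.Modules.pullbackComp _ _).app P ≪≫ (Scheme.Modules.pullbackCongr hqι).app P ≪≫
      ((Scheme.Modules.pullbackComp _ _).app P).symm
  have h3 : RelCanon.SkAt k ((Scheme.Modules.pullback q).obj ((Scheme.Modules.pullback (f.fiberι (g s))).obj P))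
      (f'.asFiber z) :=
    (QGorNhdLib.hasSk_congr_module ((DCohLib.stkF (f'.asFiber z)).mapIso e).toLinearEquiv k).2 h.2
  have h4 := skAt_of_pullback_flat q (PullbackMod.isCoh_pullback (f.fiberι (g s)) _ hP) k (f'.asFiber z)
    (Flat.stalkMap q _) h3
  have key : ∀ (t : T) (v : f.fiber t),
      RelCanon.SkAt k ((Scheme.Modules.pullback (f.fiberι t)).obj P) v →
      ∀ y : Y, f.fiberι t v = y → RelCanon.SkAt k ((Scheme.Modules.pullback (f.fiberι (f y))).obj P) (f.asFiber y) := by
    refine forall_fiber f fun x hx y hy => ?_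
    rw [f.fiberι_asFiber] at hy
    exact hy ▸ hx
  exact key _ _ h4 (p z) (by rw [← Scheme.Hom.comp_apply, hqι, Scheme.Hom.comp_apply, f'.fiberι_asFiber])

/-- Invertibility descends along flat morphisms. -/
theorem invertibleAt_of_pullback_flat (q : Y' ⟶ Y) [IsLocallyNoetherian Y] [IsLocallyNoetherian Y'] {F : Y.Modules}
    (hF : Coh.IsCoh F) (z : Y') (hq : (q.stalkMap z).hom.Flat)
    (h : RelCanon.InvertibleAt ((Scheme.Modules.pullback q).obj F) z) : RelCanon.InvertibleAt F (q z) := by
  haveI := hF.1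
  haveI := PullbackMod.finite_stalk_of_isFT hF.2 (q z)
  obtain ⟨l⟩ := exists_stalk_equiv_of_invertibleAt h
  let O := Y.presheaf.stalk (q z)
  let O' := Y'.presheaf.stalk z
  letI : Algebra O O' := (q.stalkMap z).hom.toAlgebra
  haveI : Module.Flat O O' := hq
  haveI : IsLocalHom (algebraMap O O') := inferInstanceAs (IsLocalHom (q.stalkMap z).hom)
  haveI : Module.FaithfullyFlat O O' := Module.FaithfullyFlat.of_flat_of_isLocalHom
  letI := Module.compHom (((Scheme.Modules.pullback q).obj F).presheaf.stalk z) (q.stalkMap z).hom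
  haveI : IsScalarTower O O' (((Scheme.Modules.pullback q).obj F).presheaf.stalk z) :=
    .of_algebraMap_smul fun _ _ => rfl
  have hbc := PullbackMod.isBaseChange_pullStalkL q F z
  let e : O' ⊗[O] F.presheaf.stalk (q z) ≃ₗ[O'] O' := hbc.equiv.trans l.symm
  haveI : Module.Flat O' (O' ⊗[O] F.presheaf.stalk (q z)) := Module.Flat.of_linearEquiv e
  haveI : Module.Flat O (F.presheaf.stalk (q z)) := Module.Flat.of_flat_tensorProduct O (F.presheaf.stalk (q z)) O'
  haveI : Module.Free O (F.presheaf.stalk (q z)) := Module.free_of_flat_of_isLocalRing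
  have hrank : Module.finrank O (F.presheaf.stalk (q z)) = 1 := by
    have h1 := e.finrank_eq
    rwa [Module.finrank_baseChange, Module.finrank_self] at h1
  exact invertibleAt_of_stalk_equiv hF
    ((LinearEquiv.funUnique (Fin 1) O O).symm.trans ((Module.finBasisOfFinrankEq O _ hrank).equivFun.symm))

variable {A : Type u} [CommRing A] [IsNoetherianRing A] [Y.Over (Spec (CommRingCat.of A))]
  [IsProper (Y ↘ Spec (CommRingCat.of A))]
  {B : Type u} [CommRing B] [IsNoetherianRing B] [Y'.Over (Spec (CommRingCat.of B))]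

/-- Reflexive powers of the relative canonical sheaf commute with flat base change. -/
theorem nonempty_pullback_refPowZ_iso_of_flat (d : ℕ) (hS : RelCanon.IsSkMor (Y ↘ Spec (CommRingCat.of A)) 2)
    (hd : Cyc.HasRelDim (Y ↘ Spec (CommRingCat.of A)) d) (ω : Y.Modules)
    (hω : RelCanon.IsDualizingSheaf A Y d ω) (U : Y.Opens)
    (hU : (U : Set Y) ⊆ RelCanon.gorLocus (Y ↘ Spec (CommRingCat.of A)))
    (hG : ∀ y : Y, y ∉ U →
      (2 : WithBot ℕ∞) ≤ ringKrullDim (((Y ↘ Spec (CommRingCat.of A)).fiber ((Y ↘ Spec (CommRingCat.of A)) y)).presheaf.stalk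
        ((Y ↘ Spec (CommRingCat.of A)).asFiber y)))
    (φ : A →+* B) [Flat (Spec.map (CommRingCat.ofHom φ))] (p : Y' ⟶ Y)
    (hp : IsPullback p (Y' ↘ Spec (CommRingCat.of B)) (Y ↘ Spec (CommRingCat.of A)) (Spec.map (CommRingCat.ofHom φ)))
    (ω' : Y'.Modules) (hω' : RelCanon.IsDualizingSheaf B Y' d ω') (m : ℤ) :
    Coh.IsCoh (RelCanon.refPowZ ω m) ∧
      Nonempty ((Scheme.Modules.pullback p).obj (RelCanon.refPowZ ω m) ≅ RelCanon.refPowZ ω' m) := by
  let f := Y ↘ Spec (CommRingCat.of A)
  let f' := Y' ↘ Spec (CommRingCat.of B)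
  haveI : IsNoetherianRing (CommRingCat.of A) := inferInstanceAs (IsNoetherianRing A)
  haveI : IsNoetherianRing (CommRingCat.of B) := inferInstanceAs (IsNoetherianRing B)
  haveI : IsProper f' := MorphismProperty.of_isPullback (P := @IsProper) hp ‹_›
  haveI : IsProper (Y' ↘ Spec (CommRingCat.of B)) := ‹IsProper f'›
  haveI : IsLocallyNoetherian Y := LocallyOfFiniteType.isLocallyNoetherian f
  haveI : IsLocallyNoetherian Y' := LocallyOfFiniteType.isLocallyNoetherian f'
  haveI : Flat p := MorphismProperty.of_isPullback (P := @Flat) hp.flip ‹_›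
  obtain ⟨⟨key⟩, -, -⟩ := refPowZ_baseChange d hS hd ω hω U hU hG φ p hp ω' hω' m
  obtain ⟨-, hcoh, -⟩ := refPowZ_restrict_gor d hS hd ω hω U hU
  obtain ⟨hS', hd'⟩ := isSkMor_baseChange hp 2 d hS hd
  obtain ⟨hcoh', -, -⟩ := relCanonical_model d hS' hd' ω' hω'
  let U' := p ⁻¹ᵁ U
  have hdep : ∀ z : Y', z ∉ U' → (2 : ℕ∞) ≤ LocCoh.depth (Y'.presheaf.stalk z) (Y'.presheaf.stalk z) :=
    fun z hz => two_le_depth_stalk f' hS' z (codim_baseChange hp z 2 fun y hy => hG y (by rw [hy]; exact hz))
  have main : ∀ {G : Y.Modules}, Coh.IsCoh G → ∀ z : Y', z ∉ U' →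
      (2 : ℕ∞) ≤ LocCoh.depth (Y'.presheaf.stalk z)
        (((Scheme.Modules.pullback p).obj (RefHull.dual G)).presheaf.stalk z) := by
    intro G hG' z hz
    haveI := hG'.1
    refine two_le_depth_pullback_flat p (RefOne.isCoh_dual hG') z (Flat.stalkMap p z) ?_
    haveI := PullbackMod.finite_stalk_of_isFT hG'.2 (p z)
    rw [CAlgBasics.depth_congr (RefOne.dualStalk hG' (p z))]
    exact CAlgBasics.two_le_depth_linearMap (M := G.presheaf.stalk (p z)) (N := Y.presheaf.stalk (p z))
      (two_le_depth_stalk f hS (p z) (hG _ hz))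
  haveI := isIso_unit_refPowZ U' hcoh' hdep m
  obtain ⟨hPc, hPd⟩ : Coh.IsCoh (RelCanon.refPowZ ω m) ∧ ∀ z : Y', z ∉ U' →
      (2 : ℕ∞) ≤ LocCoh.depth (Y'.presheaf.stalk z)
        (((Scheme.Modules.pullback p).obj (RelCanon.refPowZ ω m)).presheaf.stalk z) := by
    cases m with
    | ofNat n => exact ⟨RefOne.isCoh_dual (RefOne.isCoh_dual (isCoh_tensorPow hcoh n)),
        main (RefOne.isCoh_dual (isCoh_tensorPow hcoh n))⟩
    | negSucc n => exact ⟨RefOne.isCoh_dual (RefOne.isCoh_dual (isCoh_tensorPow (RefOne.isCoh_dual hcoh) (n + 1))),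
        main (RefOne.isCoh_dual (isCoh_tensorPow (RefOne.isCoh_dual hcoh) (n + 1)))⟩
  haveI := isIso_unit_of_depth U' (PullbackMod.isCoh_pullback p _ hPc) hPd
  exact ⟨hPc, nonempty_iso_of_restrict U' key⟩

end Groth.Agent.FibreDualLib
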