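import Groth.Agent.FibreDualLib.BCPowers
import Mathlib.RingTheory.Ideal.GoingDown

/-!
# Base change to fibres: existence of canonical sheaves, codimension of the non-Gorenstein locus
-/

set_option autoImplicit false
set_option linter.style.haveILetI false
set_option linter.unusedSectionVars false
set_option backward.isDefEq.respectTransparency false
set_option maxHeartbeats 1000000

universe u

open CategoryTheory CategoryTheory.Limits AlgebraicGeometry
open Groth.Agent.DCohLib Groth.Agent.DCohMore Groth.Agent.TwistShriek Groth.Agent.CohBase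
open Groth.Agent.DimFormulaLib Groth.Agent.ShriekBridge

attribute [local instance] HasDerivedCategory.standard

noncomputable section

namespace Groth.Agent.FibreDualLib

/-- Dimension does not drop along flat local homomorphisms. -/
theorem ringKrullDim_le_of_flat_local {R S : Type u} [CommRing R] [CommRing S] [IsLocalRing R] [IsLocalRing S]
    [Algebra R S] [Module.Flat R S] [IsLocalHom (algebraMap R S)] : ringKrullDim R ≤ ringKrullDim S := by
  haveI : Module.FaithfullyFlat R S := Module.FaithfullyFlat.of_flat_of_isLocalHom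
  haveI : Algebra.HasGoingDown R S := Algebra.HasGoingDown.of_flat
  refine iSup_le fun l => ?_
  obtain ⟨P, hP⟩ := PrimeSpectrum.comap_surjective_of_faithfullyFlat (A := R) (B := S) l.last
  haveI : P.asIdeal.LiesOver l.last.asIdeal := ⟨(congrArg PrimeSpectrum.asIdeal hP).symm⟩
  obtain ⟨L, hL, -, -⟩ := Ideal.exists_ltSeries_of_hasGoingDown l P.asIdeal
  exact le_iSup_of_le L (by rw [hL])

variable {Y Y' T T' : Scheme.{u}} {p : Y' ⟶ Y} {f' : Y' ⟶ T'} {f : Y ⟶ T} {g : T' ⟶ T}

/-- Fibre dimension at points does not drop under base change. -/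
theorem codim_baseChange (hp : IsPullback p f' f g) (z : Y') (n : WithBot ℕ∞)
    (h : ∀ y : Y, y = p z → n ≤ ringKrullDim ((f.fiber (f y)).presheaf.stalk (f.asFiber y))) :
    n ≤ ringKrullDim ((f'.fiber (f' z)).presheaf.stalk (f'.asFiber z)) := by
  let s := f' z
  let q : f'.fiber s ⟶ f.fiber (g s) :=
    pullback.map _ _ _ _ p (Spec.map (g.residueFieldMap s)) g hp.w.symm (by simp)
  have hq : IsPullback q (f'.fiberToSpecResidueField s) (f.fiberToSpecResidueField (g s))
      (Spec.map (g.residueFieldMap s)) := isPullback_fiberToSpecResidueField_of_isPullback hp s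
  have hqι : q ≫ f.fiberι (g s) = f'.fiberι s ≫ p := pullback.lift_fst _ _ _
  haveI hgfl : Flat (Spec.map (g.residueFieldMap s)) := by
    letI := (g.residueFieldMap s).hom.toAlgebra
    exact (HasRingHomProperty.Spec_iff (P := @Flat)).2
      (RingHom.flat_algebraMap_iff.2 (inferInstance : Module.Flat (T.residueField (g s)) (T'.residueField s)))
  haveI : Flat q := MorphismProperty.of_isPullback (P := @Flat) hq.flip hgfl
  let w := f'.asFiber z
  have key : ∀ (t : T) (v : f.fiber t), f.fiberι t v = p z → n ≤ ringKrullDim ((f.fiber t).presheaf.stalk v) :=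
    forall_fiber f fun y hy => h y (by rwa [f.fiberι_asFiber] at hy)
  refine (key (g s) (q w) (by rw [← Scheme.Hom.comp_apply, hqι, Scheme.Hom.comp_apply, f'.fiberι_asFiber])).trans ?_
  letI : Algebra ((f.fiber (g s)).presheaf.stalk (q w)) ((f'.fiber s).presheaf.stalk w) := (q.stalkMap w).hom.toAlgebra
  haveI : Module.Flat ((f.fiber (g s)).presheaf.stalk (q w)) ((f'.fiber s).presheaf.stalk w) := Flat.stalkMap q w
  haveI : IsLocalHom (algebraMap ((f.fiber (g s)).presheaf.stalk (q w)) ((f'.fiber s).presheaf.stalk w)) :=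
    inferInstanceAs (IsLocalHom (q.stalkMap w).hom)
  exact ringKrullDim_le_of_flat_local

/-- The Gorenstein locus pulls back into the Gorenstein locus. -/
theorem preimage_gor_subset (hp : IsPullback p f' f g) [IsLocallyNoetherian T] [LocallyOfFiniteType f]
    {y : Y} {z : Y'} (hzy : p z = y) (h : y ∈ RelCanon.gorLocus f) : z ∈ RelCanon.gorLocus f' := by
  subst hzy
  have hN := CMFlatLib.noethFibre_of_isLocallyNoetherian (f := f) (p z)
    (haveI : LocallyOfFiniteType (f.fiberToSpecResidueField (f (p z))) :=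
      MorphismProperty.pullback_snd (P := @LocallyOfFiniteType) _ _ ‹_›
     LocallyOfFiniteType.isLocallyNoetherian (f.fiberToSpecResidueField (f (p z))))
  have h' : GorSp.GorFibre (f.stalkMap (p z)).hom := ((GorSp.gorAt_iff_gorFibre f (p z)).1 h).2
  show Dual3.IsGorensteinAt f' z
  rw [GorSp.gorAt_iff_gorFibre]
  exact ⟨CMFlatLib.flat_stalkMap_baseChange hp z ((GorSp.gorAt_iff_gorFibre f (p z)).1 h).1,
    (GorSp.gorFibre_isPullback_iff hp z hN (Or.inr inferInstance)).2 h'⟩

/-- Gorenstein in codimension one is stable under base change. -/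
theorem gor_codim_baseChange (hp : IsPullback p f' f g) [IsLocallyNoetherian T] [LocallyOfFiniteType f]
    (n : WithBot ℕ∞)
    (hG : ∀ y : Y, y ∉ RelCanon.gorLocus f → n ≤ ringKrullDim ((f.fiber (f y)).presheaf.stalk (f.asFiber y)))
    (z : Y') (hz : z ∉ RelCanon.gorLocus f') :
    n ≤ ringKrullDim ((f'.fiber (f' z)).presheaf.stalk (f'.asFiber z)) :=
  codim_baseChange hp z n fun y hy => hG y fun h => hz (preimage_gor_subset hp hy.symm h)

variable {A : Type u} [CommRing A] [IsNoetherianRing A]

/-- The relative canonical sheaf exists. -/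
theorem exists_isDualizingSheaf [Y.Over (Spec (CommRingCat.of A))] [IsProper (Y ↘ Spec (CommRingCat.of A))]
    (d : ℕ) (hS : RelCanon.IsSkMor (Y ↘ Spec (CommRingCat.of A)) 2)
    (hd : Cyc.HasRelDim (Y ↘ Spec (CommRingCat.of A)) d) :
    ∃ ω : Y.Modules, RelCanon.IsDualizingSheaf A Y d ω := by
  let f := Y ↘ Spec (CommRingCat.of A)
  let S := Spec (CommRingCat.of A)
  haveI : ∀ (R : CommRingCat.{u}), PreservesFiniteLimits (tilde.functor R) := fun R =>
    TildeD.preservesFiniteLimits_tilde
  haveI : IsNoetherianRing (CommRingCat.of A) := inferInstanceAs (IsNoetherianRing A)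
  haveI : IsLocallyNoetherian Y := LocallyOfFiniteType.isLocallyNoetherian f
  haveI : CompactSpace Y := QuasiCompact.compactSpace_of_compactSpace f
  haveI : IsNoetherian Y := {}
  haveI : Flat f := hS.1
  have hfib := dim_fiber_le f d hd
  haveI := BC.hasRpush f
  have h : DCoh.RpushPreservesQCoh f := rpushQC f
  haveI := isLeftAdjoint_rpushQ' f
  let a := (DCoh.RpushQ f h).rightAdjoint
  let adj : DCoh.RpushQ f h ⊣ a := Adjunction.ofIsLeftAdjoint (DCoh.RpushQ f h)
  let O : DCoh.DQCoh S := oQ S
  have hO : Nonempty (O.obj ≅ DCoh.inD S (Coh.structureModule S)) := ⟨Iso.refl _⟩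
  let cp := idComp f
  haveI : DCoh.HasRpush cp.fbar := ‹DCoh.HasRpush f›
  let adjc : DCoh.RpushQ cp.fbar h ⊣ a := adj
  let eM : (Dual3.shriekC cp a).obj O ≅ (a.obj O).obj := (restrictDId (X := Y)).app (a.obj O).obj
  have hlow : ∀ i : ℤ, i < -(d : ℤ) → IsZero (DCoh.HD (a.obj O).obj i) := fun i hi => by
    refine (DCohLib.isZero_of_stalks fun y => ?_).of_iso
      ((DerivedCategory.homologyFunctor Y.Modules i).mapIso eM.symm)
    obtain ⟨c⟩ := exists_chart f y
    haveI := isNoetherianRing_base c
    haveI := isNoetherianRing_total c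
    haveI := ShriekBridge.flat_of_chart c
    obtain ⟨P⟩ := nonempty_pres c.A c.B
    obtain ⟨E, -⟩ := RelDualCMLib.exists_stalk_chart (cp := cp) adjc O hO c P c.q i
    haveI := RelDualCMLib.subsingleton_relOmega_of_lt_neg P.hψ P.adj d
      (fun p => (fibre_rings 2 d hS hd c p).2) i hi
    haveI : Subsingleton (Dual.HD c.B P.omega i) := ‹_›
    exact c.hq ▸ E.toEquiv.subsingleton
  haveI hGE : (a.obj O).obj.IsGE (-(d : ℤ)) := (DerivedCategory.isGE_iff _ _).2 hlow
  obtain ⟨tr₀, htr₀⟩ := exists_isRDualOver_adjoint A Y h a adj O (Iso.refl _) d hGE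
    (fun F hF j hj => by
      haveI := hF
      obtain ⟨p, rfl⟩ : ∃ p, j = p + 1 := ⟨j - 1, by omega⟩
      exact subsingleton_HH _ _ (FibreVanishQC.subsingleton_HU_affine f d hfib F p (by omega)))
    (Iso.refl _)
  exact ⟨_, tr₀, htr₀⟩

/-- Relative canonical sheaves are unique up to isomorphism. -/
theorem nonempty_iso_of_isDualizingSheaf [Y.Over (Spec (CommRingCat.of A))] {d : ℕ} {ω ω' : Y.Modules}
    (h : RelCanon.IsDualizingSheaf A Y d ω) (h' : RelCanon.IsDualizingSheaf A Y d ω') : Nonempty (ω ≅ ω') := by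
  obtain ⟨tr, htr⟩ := h
  obtain ⟨tr', htr'⟩ := h'
  exact nonempty_iso_of_isRDualOver_ring A htr htr'

end Groth.Agent.FibreDualLib
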