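import Groth.Agent.HomLib.Basic
import Groth.Agent.PullbackMod.SuppClosed
import Groth.Agent.TwistShriek.Scalar
import Mathlib.AlgebraicGeometry.Morphisms.Flat

/-!
# Quasi-coherent modules determined by their direct images with the operators of the base
-/

set_option autoImplicit false
set_option linter.style.haveILetI false
set_option linter.unusedSectionVars false
set_option backward.isDefEq.respectTransparency false
set_option backward.isDefEq.respectTransparency.types false
set_option maxHeartbeats 1600000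

universe u

open CategoryTheory CategoryTheory.Limits AlgebraicGeometry TopologicalSpace Opposite
open Groth.Agent.CohBase Groth.Agent.TwistShriek

attribute [local instance] Groth.Agent.TwistShriek.linΓ

noncomputable section

namespace Groth.Agent.FibreDualLib

/-- A subring containing both legs of a pushout of rings is everything. -/
theorem mem_of_isPushout {R₁ R₂ R₃ R : CommRingCat.{u}} {i : R₁ ⟶ R₂} {j : R₁ ⟶ R₃} {a : R₂ ⟶ R} {b : R₃ ⟶ R}
    (h : IsPushout i j a b) (R' : Subring R) (ha : ∀ x, a x ∈ R') (hb : ∀ x, b x ∈ R') (r : R) : r ∈ R' := by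
  let a' : R₂ ⟶ CommRingCat.of R' := CommRingCat.ofHom (a.hom.codRestrict R' ha)
  let b' : R₃ ⟶ CommRingCat.of R' := CommRingCat.ofHom (b.hom.codRestrict R' hb)
  let ι' : CommRingCat.of R' ⟶ R := CommRingCat.ofHom R'.subtype
  have hw : i ≫ a' = j ≫ b' := by
    refine CommRingCat.hom_ext (RingHom.ext fun x => Subtype.ext ?_)
    exact ConcreteCategory.congr_hom h.w x
  have : h.desc a' b' hw ≫ ι' = 𝟙 R := by
    refine h.hom_ext ?_ ?_
    · rw [← Category.assoc, h.inl_desc, Category.comp_id]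
      rfl
    · rw [← Category.assoc, h.inr_desc, Category.comp_id]
      rfl
  rw [← show ι' (h.desc a' b' hw r) = r from ConcreteCategory.congr_hom this r]
  exact (h.desc a' b' hw r).2

variable {X S X' T : Scheme.{u}} {f : X ⟶ S} {g : T ⟶ S} {f' : X' ⟶ T} {q : X' ⟶ X}
  {M N : X'.Modules}

/-- Sections of a map of direct images. -/
def appPush (ψ : (Scheme.Modules.pushforward q).obj M ⟶ (Scheme.Modules.pushforward q).obj N) (W : X.Opens) :
    Γ(M, q ⁻¹ᵁ W) →+ Γ(N, q ⁻¹ᵁ W) :=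
  (ψ.app W).hom

section Linear

variable (hsq : IsPullback q f' f g) [IsAffine S] [IsAffine T]
  (ψ : (Scheme.Modules.pushforward q).obj M ⟶ (Scheme.Modules.pushforward q).obj N)
  (hψ : ∀ b : Γ(T, ⊤), (Scheme.Modules.pushforward q).map (fa f' b • 𝟙 M) ≫ ψ =
    ψ ≫ (Scheme.Modules.pushforward q).map (fa f' b • 𝟙 N))

include hsq hψ

/-- A map of direct images commuting with the functions on the base is linear over the functions upstairs. -/
theorem app_smul_of_linear {W : X.Opens} (hW : IsAffineOpen W) (r : Γ(X', q ⁻¹ᵁ W)) (m : Γ(M, q ⁻¹ᵁ W)) :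
    appPush ψ W (r • m) = r • appPush ψ W m := by
  let a := appPush ψ W
  let R' : Subring Γ(X', q ⁻¹ᵁ W) :=
    { carrier := {r | ∀ m : Γ(M, q ⁻¹ᵁ W), a (r • m) = r • a m}
      mul_mem' := fun {x y} hx hy m => by rw [mul_smul, mul_smul, hx, hy]
      one_mem' := fun m => by rw [one_smul, one_smul]
      add_mem' := fun {x y} hx hy m => by rw [add_smul, add_smul, map_add, hx, hy]
      zero_mem' := fun m => by rw [zero_smul, zero_smul, map_zero]
      neg_mem' := fun {x} hx m => by rw [neg_smul, neg_smul, map_neg, hx] }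
  have hp := (isIso_pushoutSection_iff hsq (US := ⊤) (UT := ⊤) (UX := W) (UY := q ⁻¹ᵁ W) le_top le_top
    (by simp)).1 (isIso_pushoutSection_of_isAffineOpen _ _ _ _ (isAffineOpen_top S) (isAffineOpen_top T) hW)
  refine mem_of_isPushout hp R' (fun x m => ?_) (fun b m => ?_) r m
  · rw [Scheme.Hom.appLE_eq_app]
    exact Scheme.Modules.Hom.app_smul ψ x m
  · have key := ConcreteCategory.congr_hom (congrArg (fun φ => Scheme.Modules.Hom.app φ W) (hψ b)) m
    rw [smul_id_eq, smul_id_eq] at key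
    exact key

end Linear

/-- Quasi-coherent modules with isomorphic direct images compatibly with the functions on the base are isomorphic. -/
theorem nonempty_iso_of_linear [IsAffineHom q] (hsq : IsPullback q f' f g) [IsAffine S] [IsAffine T]
    [Coh.IsQCoh M] [Coh.IsQCoh N]
    (ψ : (Scheme.Modules.pushforward q).obj M ≅ (Scheme.Modules.pushforward q).obj N)
    (hψ : ∀ b : Γ(T, ⊤), (Scheme.Modules.pushforward q).map (fa f' b • 𝟙 M) ≫ ψ.hom =
      ψ.hom ≫ (Scheme.Modules.pushforward q).map (fa f' b • 𝟙 N)) :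
    Nonempty (M ≅ N) := by
  have hψ' : ∀ b : Γ(T, ⊤), (Scheme.Modules.pushforward q).map (fa f' b • 𝟙 N) ≫ ψ.inv =
      ψ.inv ≫ (Scheme.Modules.pushforward q).map (fa f' b • 𝟙 M) := fun b => by
    rw [Iso.eq_inv_comp, ← Category.assoc, ← hψ b, Category.assoc, ψ.hom_inv_id, Category.comp_id]
  -- the stalk maps
  have hex : ∀ (W : X.Opens) (hW : IsAffineOpen W),
      ∃ F : Γ(RefHull.homSh M N, q ⁻¹ᵁ W), ∀ m, HomLib.ev F le_rfl m = ψ.hom.app W m := fun W hW => by
    obtain ⟨F, hF⟩ := HomLib.ev_surjective (hW.preimage q)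
      ({ toFun := fun m => ψ.hom.app W m
         map_add' := fun a b => (ψ.hom.app W).hom.map_add a b
         map_smul' := fun r m => app_smul_of_linear hsq ψ.hom hψ hW r m } :
        Γ(M, q ⁻¹ᵁ W) →ₗ[Γ(X', q ⁻¹ᵁ W)] Γ(N, q ⁻¹ᵁ W))
    exact ⟨F, fun m => LinearMap.congr_fun hF m⟩
  choose F hF using hex
  have hcompat : ∀ (W V : X.Opens) (hW : IsAffineOpen W) (hV : IsAffineOpen V) (h : V ≤ W) (x : X') (hx : x ∈ q ⁻¹ᵁ V),
      (F V hV).1 ⟨x, hx⟩ = (F W hW).1 ⟨x, h hx⟩ := fun W V hW hV h x hx => by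
    let hW' := hW.preimage q
    let hV' : q ⁻¹ᵁ V ≤ q ⁻¹ᵁ W := fun y hy => h hy
    letI := Module.compHom (M.presheaf.stalk x) (X'.presheaf.germ (q ⁻¹ᵁ W) x (h hx)).hom
    letI : Algebra Γ(X', q ⁻¹ᵁ W) (X'.presheaf.stalk x) :=
      TopCat.Presheaf.algebra_section_stalk X'.presheaf ⟨x, h hx⟩
    haveI := hW'.isLocalization_stalk ⟨x, h hx⟩
    haveI := FlatLocus.isLocalizedModule_germL M hW' x (h hx)
    refine LinearMap.ext fun z => ?_
    obtain ⟨⟨m, s⟩, hs⟩ := IsLocalizedModule.surj (hW'.primeIdealOf ⟨x, h hx⟩).asIdeal.primeCompl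
      (FlatLocus.germL M (q ⁻¹ᵁ W) x (h hx)) z
    have hu : IsUnit (algebraMap Γ(X', q ⁻¹ᵁ W) (X'.presheaf.stalk x) s.1) := IsLocalization.map_units _ s
    refine hu.smul_left_cancel.1 ?_
    rw [← map_smul, ← map_smul,
      show algebraMap Γ(X', q ⁻¹ᵁ W) (X'.presheaf.stalk x) s.1 • z = M.presheaf.germ (q ⁻¹ᵁ W) x (h hx) m from hs,
      ← HomLib.germ_ev (F W hW) le_rfl (h hx), hF, ← HomLib.germ_res' hV' hx m,
      ← HomLib.germ_ev (F V hV) le_rfl hx, hF, ← HomLib.germ_res' hV' hx]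
    refine congrArg (N.presheaf.germ (q ⁻¹ᵁ V) x hx) ?_
    exact ConcreteCategory.congr_hom (ψ.hom.mapPresheaf.naturality (homOfLE h).op) m
  have hcov : ∀ x : X', ∃ W : X.Opens, IsAffineOpen W ∧ q x ∈ W := fun x => by
    obtain ⟨W, hW, hxW, -⟩ := Opens.isBasis_iff_nbhd.1 X.isBasis_affineOpens (Opens.mem_top (q x))
    exact ⟨W, hW, hxW⟩
  choose W hW hxW using hcov
  let s : ∀ x : (⊤ : X'.Opens), RefHull.StalkHom M N x.1 := fun x => (F (W x.1) (hW x.1)).1 ⟨x.1, hxW x.1⟩
  have hs : ∀ (x : X') (V : X.Opens) (hV : IsAffineOpen V) (hx : q x ∈ V), s ⟨x, trivial⟩ = (F V hV).1 ⟨x, hx⟩ :=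
    fun x V hV hx => by
      obtain ⟨U, hU, hxU, hle⟩ := Opens.isBasis_iff_nbhd.1 X.isBasis_affineOpens
        (show q x ∈ W x ⊓ V from ⟨hxW x, hx⟩)
      exact (hcompat _ U (hW x) hU (fun y hy => (hle hy).1) x hxU).symm.trans
        (hcompat V U hV hU (fun y hy => (hle hy).2) x hxU)
  have hloc : RefHull.IsLocSect M N s := fun V i m x => by
    have hsec := RefHull.isLocSect_of_mem (F (W x.1) (hW x.1))
    obtain ⟨U, hxU, j, n, hn⟩ := hsec (V ⊓ q ⁻¹ᵁ W x.1) (homOfLE inf_le_right)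
      (M.presheaf.map (homOfLE inf_le_left).op m) ⟨x.1, x.2, hxW x.1⟩
    refine ⟨U, hxU, j ≫ homOfLE inf_le_left, n, fun y => ?_⟩
    have e := hn y
    rw [TopCat.Presheaf.germ_res_apply] at e
    rw [hs y.1 (W x.1) (hW x.1) (j.le y.2).2]
    exact e
  let φ : M ⟶ N := HomLib.toHom (⟨s, hloc⟩ : Γ(RefHull.homSh M N, (⊤ : X'.Opens)))
  have happ : ∀ (V : X.Opens) (hV : IsAffineOpen V), ⇑(φ.app (q ⁻¹ᵁ V)) = ⇑(ψ.hom.app V) := fun V hV =>
    funext fun m => HomLib.ext_germ _ _ fun x hx => by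
      rw [← hF V hV, HomLib.germ_ev _ le_rfl hx, HomLib.toHom_app, HomLib.germ_ev _ le_top hx, ← hs x V hV hx]
  haveI : IsIso φ := (PullbackMod.isIso_iff_stalk φ).2 fun x => by
    let V' := q ⁻¹ᵁ W x
    have hV' : IsAffineOpen V' := (hW x).preimage q
    have hx : x ∈ V' := hxW x
    have hbij : Function.Bijective (φ.app V') := by
      rw [happ _ (hW x)]
      exact ConcreteCategory.bijective_of_isIso (ψ.hom.app (W x))
    letI : Algebra Γ(X', V') (X'.presheaf.stalk x) := TopCat.Presheaf.algebra_section_stalk X'.presheaf ⟨x, hx⟩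
    haveI := hV'.isLocalization_stalk ⟨x, hx⟩
    let P := (hV'.primeIdealOf ⟨x, hx⟩).asIdeal.primeCompl
    letI := Module.compHom (M.presheaf.stalk x) (X'.presheaf.germ V' x hx).hom
    letI := Module.compHom (N.presheaf.stalk x) (X'.presheaf.germ V' x hx).hom
    haveI : IsLocalizedModule P (FlatLocus.germL M V' x hx) := FlatLocus.isLocalizedModule_germL M hV' x hx
    haveI : IsLocalizedModule P (FlatLocus.germL N V' x hx) := FlatLocus.isLocalizedModule_germL N hV' x hx
    have hg : ∀ m : Γ(M, V'), PullbackMod.stalkLin φ x (M.presheaf.germ V' x hx m) =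
        N.presheaf.germ V' x hx (φ.app V' m) := fun m => TopCat.Presheaf.stalkFunctor_map_germ_apply V' x hx φ.mapPresheaf m
    refine ⟨(injective_iff_map_eq_zero _).2 fun z hz => ?_, fun y => ?_⟩
    · obtain ⟨⟨m, s⟩, hs⟩ := IsLocalizedModule.surj P (FlatLocus.germL M V' x hx) z
      have hu : IsUnit (algebraMap Γ(X', V') (X'.presheaf.stalk x) s.1) := IsLocalization.map_units _ s
      have hz' : algebraMap Γ(X', V') (X'.presheaf.stalk x) s.1 • z = M.presheaf.germ V' x hx m := hs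
      have h0 : FlatLocus.germL N V' x hx (φ.app V' m) = 0 := by
        show N.presheaf.germ V' x hx (φ.app V' m) = 0
        rw [← hg, ← hz', map_smul, hz, smul_zero]
      obtain ⟨c, hc⟩ := (IsLocalizedModule.eq_zero_iff P (FlatLocus.germL N V' x hx)).1 h0
      have hcm : c.1 • m = 0 := hbij.1 ((Scheme.Modules.Hom.app_smul φ c.1 m).trans (hc.trans (map_zero _).symm))
      have : FlatLocus.germL M V' x hx m = 0 := (IsLocalizedModule.eq_zero_iff P _).2 ⟨c, hcm⟩
      exact hu.smul_left_cancel.1 (by rw [smul_zero, hz']; exact this)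
    · obtain ⟨⟨n, s⟩, hs⟩ := IsLocalizedModule.surj P (FlatLocus.germL N V' x hx) y
      obtain ⟨m, rfl⟩ := hbij.2 n
      obtain ⟨u, hu⟩ := (IsLocalization.map_units (X'.presheaf.stalk x) s : IsUnit (algebraMap Γ(X', V') (X'.presheaf.stalk x) s.1))
      refine ⟨u⁻¹.1 • M.presheaf.germ V' x hx m, ?_⟩
      have hy : algebraMap Γ(X', V') (X'.presheaf.stalk x) s.1 • y = N.presheaf.germ V' x hx (φ.app V' m) := hs
      rw [map_smul, hg, ← hy, ← mul_smul, ← hu, Units.inv_mul, one_smul]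
  exact ⟨asIso φ⟩

end Groth.Agent.FibreDualLib
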