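import Groth.Agent.FibreDualLib.BCCanonical
import Groth.Agent.FibreDualLib.RefPowIso
import Groth.Agent.FibreDualLib.BCDepth
import Groth.Agent.FlatStage.Smooth

/-!
# Base change of the reflexive powers of the relative canonical sheaf
-/

set_option autoImplicit false
set_option linter.style.haveILetI false
set_option linter.unusedSectionVars false
set_option backward.isDefEq.respectTransparency false
set_option maxHeartbeats 1000000

universe u

open CategoryTheory CategoryTheory.Limits AlgebraicGeometry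
open Groth.Agent.DCohLib Groth.Agent.CohBase Groth.Agent.TwistShriek

noncomputable section

namespace Groth.Agent.FibreDualLib

variable {X Y : Scheme.{u}}

/-- Tensor powers commute with restriction to open subschemes. -/
def tensorPowRestrict (U : X.Opens) (G : X.Modules) (n : ℕ) :
    (CohB1.tensorPow G n).restrict U.ι ≅ CohB1.tensorPow (G.restrict U.ι) n :=
  (Scheme.Modules.restrictFunctorIsoPullback U.ι).app _ ≪≫ AmpleLib.pullPow U.ι G n ≪≫
    AmpleLib.powCongr ((Scheme.Modules.restrictFunctorIsoPullback U.ι).app G).symm n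

/-- Reflexive powers commute with restriction to open subschemes. -/
theorem nonempty_refPowZ_restrict [IsLocallyNoetherian X] (U : X.Opens) {G : X.Modules} (hG : Coh.IsCoh G) :
    ∀ m : ℤ, Nonempty ((RelCanon.refPowZ G m).restrict U.ι ≅ RelCanon.refPowZ (G.restrict U.ι) m) := by
  haveI : IsLocallyNoetherian (U : Scheme.{u}) := isLocallyNoetherian_of_isOpenImmersion U.ι
  have key : ∀ {G : X.Modules}, Coh.IsCoh G → ∀ {G' : (U : Scheme.{u}).Modules}, (G.restrict U.ι ≅ G') → ∀ n : ℕ,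
      Nonempty ((RefHull.ddual (CohB1.tensorPow G n)).restrict U.ι ≅ RefHull.ddual (CohB1.tensorPow G' n)) := by
    intro G hG G' e n
    have hT := isCoh_tensorPow hG n
    let t : (CohB1.tensorPow G n).restrict U.ι ≅ CohB1.tensorPow G' n :=
      tensorPowRestrict U G n ≪≫ AmpleLib.powCongr e n
    have hT1 : Coh.IsCoh ((CohB1.tensorPow G n).restrict U.ι) := DCohMore.isCoh_restrict' hT U
    have hT2 : Coh.IsCoh (CohB1.tensorPow G' n) := isCoh_iso t hT1
    haveI := hT.1; haveI := hT1.1; haveI := hT2.1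
    haveI := (RefOne.isCoh_dual hT).1
    haveI := (DCohMore.isCoh_restrict' (RefOne.isCoh_dual hT) U).1
    haveI := (RefOne.isCoh_dual hT1).1
    haveI := (RefOne.isCoh_dual hT2).1
    obtain ⟨a⟩ := nonempty_dual_restrict U (RefHull.dual (CohB1.tensorPow G n))
    obtain ⟨b⟩ := nonempty_dual_restrict U (CohB1.tensorPow G n)
    obtain ⟨c⟩ := nonempty_dual_congr t
    obtain ⟨d⟩ := nonempty_dual_congr (b ≪≫ c)
    exact ⟨a ≪≫ d⟩
  intro m
  cases m with
  | ofNat n => exact key hG (Iso.refl _) n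
  | negSucc n =>
    haveI := hG.1
    obtain ⟨b⟩ := nonempty_dual_restrict U G
    exact key (RefOne.isCoh_dual hG) b (n + 1)

/-- Sheaves that extend from an open set are isomorphic if their restrictions are. -/
theorem nonempty_iso_of_restrict (U : X.Opens) {F G : X.Modules}
    [IsIso ((Scheme.Modules.restrictAdjunction U.ι).unit.app F)]
    [IsIso ((Scheme.Modules.restrictAdjunction U.ι).unit.app G)]
    (e : F.restrict U.ι ≅ G.restrict U.ι) : Nonempty (F ≅ G) :=
  ⟨asIso ((Scheme.Modules.restrictAdjunction U.ι).unit.app F) ≪≫ (Scheme.Modules.pushforward U.ι).mapIso e ≪≫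
    (asIso ((Scheme.Modules.restrictAdjunction U.ι).unit.app G)).symm⟩

/-- A module of depth two off an open set extends from it. -/
theorem isIso_unit_of_depth [IsLocallyNoetherian X] (U : X.Opens) {F : X.Modules} (hF : Coh.IsCoh F)
    (hU : ∀ x : X, x ∉ U → (2 : ℕ∞) ≤ LocCoh.depth (X.presheaf.stalk x) (F.presheaf.stalk x)) :
    IsIso ((Scheme.Modules.restrictAdjunction U.ι).unit.app F) := by
  haveI := hF.1
  haveI : Coh.IsQCoh ((Scheme.Modules.restrictFunctor U.ι).obj F) := inferInstance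
  haveI : Coh.IsQCoh ((Scheme.Modules.pushforward U.ι).obj ((Scheme.Modules.restrictFunctor U.ι).obj F)) :=
    QCohLib.isQCoh_pushforward _ U.ι
  haveI : Coh.IsQCoh ((𝟭 X.Modules).obj F) := hF.1
  haveI : Coh.IsQCoh ((Scheme.Modules.restrictFunctor U.ι ⋙ Scheme.Modules.pushforward U.ι).obj F) := by
    assumption
  refine AssLib.isIso_of_depth _ hF fun x => ?_
  by_cases hx : x ∈ U
  · exact Or.inl (S1575.unit_stalk_bijective U.ι F (by rw [Scheme.Opens.opensRange_ι]; exact hx))
  · refine Or.inr ⟨hU x hx, fun hass => hx ?_⟩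
    obtain ⟨y, rfl, -⟩ := AssLib.exists_isWeakAssPoint_of_push U.ι ((Scheme.Modules.restrictFunctor U.ι).obj F)
      ((AssLib.isWeakAssPoint_iff_isAssPoint _ x).mpr hass)
    exact y.2

/-- Inverse images restricted to the preimage of an open set. -/
def pullbackRestrict (p : Y ⟶ X) (U : X.Opens) (F : X.Modules) :
    ((Scheme.Modules.pullback p).obj F).restrict (p ⁻¹ᵁ U).ι ≅
      (Scheme.Modules.pullback (p ∣_ U)).obj (F.restrict U.ι) :=
  (Scheme.Modules.restrictFunctorIsoPullback (p ⁻¹ᵁ U).ι).app _ ≪≫ (Scheme.Modules.pullbackComp _ _).app F ≪≫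
    (Scheme.Modules.pullbackCongr (morphismRestrict_ι p U).symm).app F ≪≫
    ((Scheme.Modules.pullbackComp _ _).app F).symm ≪≫
    (Scheme.Modules.pullback (p ∣_ U)).mapIso ((Scheme.Modules.restrictFunctorIsoPullback U.ι).app F).symm

/-- The structure sheaf of an `(S₂)`-morphism satisfies relative `(S₂)`. -/
theorem relSk_structureModule (f : Y ⟶ X) {k : ℕ} (hS : RelCanon.IsSkMor f k) :
    RelCanon.RelSk f k (Coh.structureModule Y) := fun y => by
  haveI := hS.1
  refine ⟨(FlatStage.isFlatOverAt_structureModule f y).2 (Flat.stalkMap f y), ?_⟩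
  exact (QGorNhdLib.hasSk_congr_module
    ((DCohLib.stkF (f.asFiber y)).mapIso (AmpleLib.pullO (f.fiberι (f y)))).toLinearEquiv k).2 (hS.2.2 y)

variable {A : Type u} [CommRing A] [IsNoetherianRing A]

section

variable [Y.Over (Spec (CommRingCat.of A))] [IsProper (Y ↘ Spec (CommRingCat.of A))]

/-- The relative Gorenstein locus as an open subscheme. -/
theorem exists_gorOpens (hS : RelCanon.IsSkMor (Y ↘ Spec (CommRingCat.of A)) 2) :
    ∃ U : Y.Opens, (U : Set Y) = RelCanon.gorLocus (Y ↘ Spec (CommRingCat.of A)) := by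
  haveI := hS.1
  exact ⟨⟨_, isOpen_gorLocus (A := A) (Y := Y)⟩, rfl⟩

/-- The reflexive powers of the relative canonical sheaf are invertible on the Gorenstein locus. -/
theorem refPowZ_restrict_gor (d : ℕ) (hS : RelCanon.IsSkMor (Y ↘ Spec (CommRingCat.of A)) 2)
    (hd : Cyc.HasRelDim (Y ↘ Spec (CommRingCat.of A)) d) (ω : Y.Modules)
    (hω : RelCanon.IsDualizingSheaf A Y d ω) (U : Y.Opens)
    (hU : (U : Set Y) ⊆ RelCanon.gorLocus (Y ↘ Spec (CommRingCat.of A))) :
    PicF.IsInvertible (ω.restrict U.ι) ∧ Coh.IsCoh ω ∧ ∀ m : ℤ,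
      Nonempty ((RelCanon.refPowZ ω m).restrict U.ι ≅ RelCanon.refPowZ (ω.restrict U.ι) m) ∧
      PicF.IsInvertible ((RelCanon.refPowZ ω m).restrict U.ι) ∧
      ∀ y : Y, y ∈ U → Nontrivial ((RelCanon.refPowZ ω m).presheaf.stalk y) := by
  haveI : IsNoetherianRing (CommRingCat.of A) := inferInstanceAs (IsNoetherianRing A)
  haveI : IsLocallyNoetherian Y := LocallyOfFiniteType.isLocallyNoetherian (Y ↘ Spec (CommRingCat.of A))
  obtain ⟨hcoh, hgor, -⟩ := relCanonical_model d hS hd ω hω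
  have hinv : PicF.IsInvertible (ω.restrict U.ι) :=
    ParaFLib.isInvertible_restrict_of_cover ω U fun x hx => hgor x (hU hx)
  refine ⟨hinv, hcoh, fun m => ?_⟩
  obtain ⟨e⟩ := nonempty_refPowZ_restrict U hcoh m
  have hi : PicF.IsInvertible ((RelCanon.refPowZ ω m).restrict U.ι) :=
    ParaFLib.isInvertible_of_iso e.symm (isInvertible_refPowZ hinv m)
  refine ⟨⟨e⟩, hi, fun y hy => ?_⟩
  rw [← not_subsingleton_iff_nontrivial]
  intro hs
  refine nontrivial_stalk_of_invertibleAt (X := (U : Scheme.{u})) (M := (RelCanon.refPowZ ω m).restrict U.ι)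
    (x := (⟨y, hy⟩ : (U : Scheme.{u}))) (hi ⟨y, hy⟩) ?_
  exact @Equiv.subsingleton _ _
    ((Scheme.Modules.restrictStalkNatIso U.ι (⟨y, hy⟩ : (U : Scheme.{u}))).app _).addCommGroupIsoToAddEquiv.toEquiv hs

variable {B : Type u} [CommRing B] [IsNoetherianRing B] {Y' : Scheme.{u}}
  [Y'.Over (Spec (CommRingCat.of B))]

/-- Base change of the reflexive powers of the relative canonical sheaf, for fibres Gorenstein in codimension
one. -/
theorem refPowZ_baseChange (d : ℕ) (hS : RelCanon.IsSkMor (Y ↘ Spec (CommRingCat.of A)) 2)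
    (hd : Cyc.HasRelDim (Y ↘ Spec (CommRingCat.of A)) d) (ω : Y.Modules)
    (hω : RelCanon.IsDualizingSheaf A Y d ω) (U : Y.Opens)
    (hU : (U : Set Y) ⊆ RelCanon.gorLocus (Y ↘ Spec (CommRingCat.of A)))
    (hG : ∀ y : Y, y ∉ U →
      (2 : WithBot ℕ∞) ≤ ringKrullDim (((Y ↘ Spec (CommRingCat.of A)).fiber ((Y ↘ Spec (CommRingCat.of A)) y)).presheaf.stalk
        ((Y ↘ Spec (CommRingCat.of A)).asFiber y)))
    (φ : A →+* B) (p : Y' ⟶ Y)
    (hp : IsPullback p (Y' ↘ Spec (CommRingCat.of B)) (Y ↘ Spec (CommRingCat.of A)) (Spec.map (CommRingCat.ofHom φ)))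
    (ω' : Y'.Modules) (hω' : RelCanon.IsDualizingSheaf B Y' d ω') (m : ℤ) :
    Nonempty (((Scheme.Modules.pullback p).obj (RelCanon.refPowZ ω m)).restrict (p ⁻¹ᵁ U).ι ≅
        (RelCanon.refPowZ ω' m).restrict (p ⁻¹ᵁ U).ι) ∧
    Nonempty (RefHull.ddual ((Scheme.Modules.pullback p).obj (RelCanon.refPowZ ω m)) ≅ RelCanon.refPowZ ω' m) ∧
    (RelCanon.RelSk (Y ↘ Spec (CommRingCat.of A)) 2 (RelCanon.refPowZ ω m) →
      Nonempty ((Scheme.Modules.pullback p).obj (RelCanon.refPowZ ω m) ≅ RelCanon.refPowZ ω' m)) := by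
  let f := Y ↘ Spec (CommRingCat.of A)
  let f' := Y' ↘ Spec (CommRingCat.of B)
  haveI : IsNoetherianRing (CommRingCat.of A) := inferInstanceAs (IsNoetherianRing A)
  haveI : IsNoetherianRing (CommRingCat.of B) := inferInstanceAs (IsNoetherianRing B)
  haveI : IsProper f' := MorphismProperty.of_isPullback (P := @IsProper) hp ‹_›
  haveI : IsProper (Y' ↘ Spec (CommRingCat.of B)) := ‹IsProper f'›
  haveI : IsLocallyNoetherian Y := LocallyOfFiniteType.isLocallyNoetherian f
  haveI : IsLocallyNoetherian Y' := LocallyOfFiniteType.isLocallyNoetherian f'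
  let U' : Y'.Opens := p ⁻¹ᵁ U
  haveI : IsLocallyNoetherian (U' : Scheme.{u}) := isLocallyNoetherian_of_isOpenImmersion U'.ι
  obtain ⟨hinv, hcoh, hpow⟩ := refPowZ_restrict_gor d hS hd ω hω U hU
  obtain ⟨⟨a⟩, hPinv, hnt⟩ := hpow m
  obtain ⟨hS', hd'⟩ := isSkMor_baseChange hp 2 d hS hd
  obtain ⟨hcoh', -, -⟩ := relCanonical_model d hS' hd' ω' hω'
  -- both sides on the preimage of the open set
  obtain ⟨i⟩ := nonempty_restrict_pullback_iso d hS hd ω hω φ p hp ω' hω' U hU
  let j : (Scheme.Modules.pullback (p ∣_ U)).obj (ω.restrict U.ι) ≅ ω'.restrict U'.ι := (pullbackRestrict p U ω).symm ≪≫ i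
  have hpi := AmpleLib.isInvertible_pullback (p ∣_ U) hinv
  obtain ⟨b⟩ := nonempty_pullback_refPowZ (p ∣_ U) hinv m
  obtain ⟨c⟩ := nonempty_refPowZ_congr hpi (ParaFLib.isInvertible_of_iso j hpi) j m
  obtain ⟨e'⟩ := nonempty_refPowZ_restrict U' hcoh' m
  let P := RelCanon.refPowZ ω m
  let key : ((Scheme.Modules.pullback p).obj P).restrict U'.ι ≅ (RelCanon.refPowZ ω' m).restrict U'.ι :=
    pullbackRestrict p U P ≪≫ (Scheme.Modules.pullback (p ∣_ U)).mapIso a ≪≫ b ≪≫ c ≪≫ e'.symm
  have hQinv : PicF.IsInvertible (((Scheme.Modules.pullback p).obj P).restrict U'.ι) :=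
    ParaFLib.isInvertible_of_iso (pullbackRestrict p U P).symm (AmpleLib.isInvertible_pullback (p ∣_ U) hPinv)
  -- depth off the open set
  have hPcoh : Coh.IsCoh P := by
    cases m with
    | ofNat n => exact RefOne.isCoh_dual (RefOne.isCoh_dual (isCoh_tensorPow hcoh n))
    | negSucc n => exact RefOne.isCoh_dual (RefOne.isCoh_dual (isCoh_tensorPow (RefOne.isCoh_dual hcoh) (n + 1)))
  have hQ : Coh.IsCoh ((Scheme.Modules.pullback p).obj P) := PullbackMod.isCoh_pullback p _ hPcoh
  have hdep : ∀ z : Y', z ∉ U' → (2 : ℕ∞) ≤ LocCoh.depth (Y'.presheaf.stalk z) (Y'.presheaf.stalk z) := fun z hz => by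
    have h := two_le_depth_baseChange hp (DevLib.isCoh_structureModule Y) U
      (fun y _ => (QGorNhdLib.oneEquiv Y y).symm.toEquiv.nontrivial) hG z (relSk_structureModule f hS _) hz
    exact h.trans_eq ((CAlgBasics.depth_congr ((DCohLib.stkF z).mapIso (AmpleLib.pullO p)).toLinearEquiv).trans
      (CAlgBasics.depth_congr (QGorNhdLib.oneEquiv Y' z).symm))
  haveI := isIso_unit_refPowZ U' hcoh' hdep m
  refine ⟨⟨key⟩, ?_, fun hSk => ?_⟩
  · haveI := isIso_unit_dual U' (RefOne.isCoh_dual hQ) hdep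
    haveI : IsIso ((Scheme.Modules.restrictAdjunction U'.ι).unit.app
        (RefHull.ddual ((Scheme.Modules.pullback p).obj P))) := by assumption
    haveI := hQ.1
    haveI := (RefOne.isCoh_dual hQ).1
    haveI := (DCohMore.isCoh_restrict' (RefOne.isCoh_dual hQ) U').1
    haveI := (DCohMore.isCoh_restrict' hQ U').1
    haveI := (RefOne.isCoh_dual (DCohMore.isCoh_restrict' hQ U')).1
    obtain ⟨d1⟩ := nonempty_dual_restrict U' (RefHull.dual ((Scheme.Modules.pullback p).obj P))
    obtain ⟨d2⟩ := nonempty_dual_restrict U' ((Scheme.Modules.pullback p).obj P)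
    obtain ⟨d3⟩ := nonempty_dual_congr d2
    obtain ⟨d4⟩ := nonempty_ddual_iso hQinv
    exact nonempty_iso_of_restrict U' (d1 ≪≫ d3 ≪≫ d4.symm ≪≫ key)
  · haveI := isIso_unit_of_depth U' hQ fun z hz =>
      two_le_depth_baseChange hp hPcoh U hnt hG z (hSk _) hz
    exact nonempty_iso_of_restrict U' key

end

end Groth.Agent.FibreDualLib
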