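import Groth.Agent.TwistShriek.TopDualPush
import Groth.Agent.DCohMore.PerfVanish
import Groth.Agent.DCohLib.Ghost

/-!
# Cohomology of direct images along affine morphisms, compatibly with multiplications
-/

set_option autoImplicit false
set_option linter.style.haveILetI false
set_option linter.unusedSectionVars false
set_option backward.isDefEq.respectTransparency false
set_option maxHeartbeats 1600000

universe u

open CategoryTheory CategoryTheory.Limits AlgebraicGeometry Pretriangulated
open Groth.Agent.DCohLib Groth.Agent.DCohMore Groth.Agent.TwistShriek Groth.Agent.SiteCmpLib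

attribute [local instance] HasDerivedCategory.standard Groth.Agent.TwistShriek.linΓ

noncomputable section

namespace Groth.Agent.FibreDualLib

variable {X Y : Scheme.{u}} (q : X ⟶ Y) [IsAffineHom q] [DCoh.HasRpush q]

/-- The multiplication by a global function on the cohomology of a direct image is the direct image of the
multiplication. -/
theorem exists_HD_rpush_iso_linear (K : DCoh.D X) (hK : DCoh.IsQCohD K) (m : ℤ) :
    ∃ E : DCoh.HD ((DCoh.Rpush q).obj K) m ≅ (Scheme.Modules.pushforward q).obj (DCoh.HD K m),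
      ∀ c : Coh.Γtop X,
        (DerivedCategory.homologyFunctor Y.Modules m).map ((DCoh.Rpush q).map (sc c K)) ≫ E.hom =
          E.hom ≫ (Scheme.Modules.pushforward q).map (c • 𝟙 (DCoh.HD K m)) := by
  haveI : HasInjectiveResolutions X.Modules := inferInstance
  haveI : SiteCmp.HasRpushD (ModSite.RMor.ofScheme q) := ‹DCoh.HasRpush q›
  obtain ⟨h₁, h₂⟩ := SiteCmpLib.exists_triangulated_rpushD (ModSite.RMor.ofScheme q)
  letI : (DCoh.Rpush q).CommShift ℤ := h₁
  haveI : (DCoh.Rpush q).IsTriangulated := h₂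
  let P := DCoh.Rpush q
  let H := DerivedCategory.homologyFunctor Y.Modules m
  let t : CategoryTheory.Triangulated.TStructure (DCoh.D X) := DerivedCategory.TStructure.t
  -- truncation from below
  let L := (t.truncGE m).obj K
  have ha : IsIso (H.map (P.map ((t.truncGEπ m).app K))) := by
    have hT := P.map_distinguished _ (t.triangleLTGE_distinguished m K)
    let T := P.mapTriangle.obj ((t.triangleLTGE m).obj K)
    have hz : ∀ i, m ≤ i → IsZero ((DerivedCategory.homologyFunctor Y.Modules i).obj T.obj₁) := fun i hi => by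
      have hA : DCoh.IsQCohD ((t.truncLT m).obj K) := isQCohD_truncLT hK m
      obtain ⟨e⟩ := nonempty_HD_rpush_affine q ((t.truncLT m).obj K) hA i
      refine IsZero.of_iso ((Scheme.Modules.pushforward q).map_isZero ?_) e
      haveI : ((t.truncLT m).obj K).IsLE (m - 1) := t.isLE_truncLT_obj K m (m - 1) (by omega)
      exact DerivedCategory.isZero_of_isLE _ (m - 1) i (by omega)
    haveI : Epi (H.map T.mor₂) :=
      (DerivedCategory.HomologySequence.epi_homologyMap_mor₂_iff _ hT m (m + 1) rfl).2
        ((hz (m + 1) (by omega)).eq_of_tgt _ _)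
    haveI : Mono (H.map T.mor₂) :=
      (DerivedCategory.HomologySequence.mono_homologyMap_mor₂_iff _ hT m).2
        ((hz m le_rfl).eq_of_src _ _)
    exact isIso_of_mono_of_epi (H.map T.mor₂)
  -- truncation from above
  have hb := SiteCmpLib.isIso_homology_map_truncLTι (DCoh.Rpush q)
    (isLeftExact_rpushD (ModSite.RMor.ofScheme q)) L (m + 1) m (by omega)
  let L₀ := (t.truncLT (m + 1)).obj L
  haveI : L.IsGE m := inferInstanceAs (t.IsGE ((t.truncGE m).obj K) m)
  haveI : L₀.IsLE m := t.isLE_truncLT_obj L (m + 1) m (by omega)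
  haveI : L₀.IsGE m := SiteCmpLib.isGE_truncLT L m (m + 1)
  obtain ⟨N, ⟨e⟩⟩ := L₀.exists_iso_singleFunctor_obj_of_isGE_of_isLE m
  let eN : N ≅ DCoh.HD K m :=
    ((DerivedCategory.singleFunctorCompHomologyFunctorIso X.Modules m).app N).symm ≪≫
      (DerivedCategory.homologyFunctor X.Modules m).mapIso e.symm ≪≫
      @asIso _ _ _ _ _ (DCohLib.isIso_homology_truncLTι L (m + 1) m (by omega)) ≪≫
      (@asIso _ _ _ _ _ (DCohLib.isIso_homology_truncGEπ K m m le_rfl)).symm
  haveI : Coh.IsQCoh N := isQCoh_of_iso' eN.symm (hK m)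
  -- the single object
  let S := shiftFunctor (DCoh.D X) (-m)
  let S' := shiftFunctor (DCoh.D Y) (-m)
  let d : (DerivedCategory.singleFunctor X.Modules m).obj N ≅ S.obj (DCoh.inD X N) :=
    (((CategoryTheory.SingleFunctors.shiftIso (DerivedCategory.singleFunctors X.Modules) (-m) m 0 (by omega))).app N).symm
  haveI : IsIso ((DCohMore.PushZero.eta q).app N) := TwistShriek.isIso_eta q N
  let Q := (Scheme.Modules.pushforward q).obj N
  let g : H.obj (S'.obj (DCoh.inD Y Q)) ≅ Q :=
    ((DerivedCategory.homologyFunctor Y.Modules 0).shiftIso (-m) m 0 (by omega)).app _ ≪≫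
      (DerivedCategory.singleFunctorCompHomologyFunctorIso Y.Modules 0).app Q
  let x : K ⟶ L := (t.truncGEπ m).app K
  let y : L₀ ⟶ L := (t.truncLTι (m + 1)).app L
  let z : S.obj (DCoh.inD X N) ⟶ L₀ := d.inv ≫ e.inv
  let w : H.obj (P.obj (S.obj (DCoh.inD X N))) ≅ Q :=
    H.mapIso ((P.commShiftIso (-m)).app (DCoh.inD X N) ≪≫ S'.mapIso (asIso ((DCohMore.PushZero.eta q).app N)).symm) ≪≫ g
  haveI : IsIso (H.map (P.map x)) := ha
  haveI : IsIso (H.map (P.map y)) := hb
  let E₀ : DCoh.HD (P.obj K) m ≅ H.obj (P.obj (S.obj (DCoh.inD X N))) :=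
    asIso (H.map (P.map x)) ≪≫ (asIso (H.map (P.map y))).symm ≪≫ (H.mapIso (P.mapIso (d.symm ≪≫ e.symm))).symm
  refine ⟨E₀ ≪≫ w ≪≫ (Scheme.Modules.pushforward q).mapIso eN, fun c => ?_⟩
  have h1 : H.map (P.map (sc c K)) ≫ E₀.hom = E₀.hom ≫ H.map (P.map (sc c (S.obj (DCoh.inD X N)))) := by
    have e1 : H.map (P.map (sc c K)) ≫ H.map (P.map x) = H.map (P.map x) ≫ H.map (P.map (sc c L)) := by
      rw [← Functor.map_comp, ← Functor.map_comp, ← Functor.map_comp, ← Functor.map_comp, sc_natural]
    have e2 : H.map (P.map y) ≫ H.map (P.map (sc c L)) = H.map (P.map (sc c L₀)) ≫ H.map (P.map y) := by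
      rw [← Functor.map_comp, ← Functor.map_comp, ← Functor.map_comp, ← Functor.map_comp, sc_natural]
    have e3 : H.map (P.map (sc c (S.obj (DCoh.inD X N)))) ≫ H.map (P.map z) =
        H.map (P.map z) ≫ H.map (P.map (sc c L₀)) := by
      rw [← Functor.map_comp, ← Functor.map_comp, ← Functor.map_comp, ← Functor.map_comp, sc_natural]
    show _ ≫ H.map (P.map x) ≫ inv (H.map (P.map y)) ≫ (H.mapIso (P.mapIso (d.symm ≪≫ e.symm))).inv =
      (H.map (P.map x) ≫ inv (H.map (P.map y)) ≫ (H.mapIso (P.mapIso (d.symm ≪≫ e.symm))).inv) ≫ _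
    rw [← Category.assoc, e1, Category.assoc, Category.assoc]
    refine congrArg (H.map (P.map x) ≫ ·) ?_
    rw [← cancel_epi (H.map (P.map y)), ← Category.assoc, e2, Category.assoc]
    simp only [IsIso.hom_inv_id_assoc, Category.assoc]
    rw [← cancel_mono (H.mapIso (P.mapIso (d.symm ≪≫ e.symm))).hom, Category.assoc, Iso.inv_hom_id, Category.comp_id,
      Category.assoc, show (H.mapIso (P.mapIso (d.symm ≪≫ e.symm))).hom = H.map (P.map z) from rfl, e3,
      show H.map (P.map z) = (H.mapIso (P.mapIso (d.symm ≪≫ e.symm))).hom from rfl, Iso.inv_hom_id_assoc]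
  have h2 : H.map (P.map (sc c (S.obj (DCoh.inD X N)))) ≫ w.hom =
      w.hom ≫ (Scheme.Modules.pushforward q).map (c • 𝟙 N) := by
    have s1 : sc c (S.obj (DCoh.inD X N)) = S.map ((DerivedCategory.singleFunctor X.Modules 0).map (c • 𝟙 N)) := by
      rw [Functor.map_smul, Functor.map_smul, CategoryTheory.Functor.map_id, CategoryTheory.Functor.map_id]
      rfl
    have s2 : P.map (S.map ((DerivedCategory.singleFunctor X.Modules 0).map (c • 𝟙 N))) ≫
        (P.commShiftIso (-m)).hom.app (DCoh.inD X N) =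
        (P.commShiftIso (-m)).hom.app (DCoh.inD X N) ≫ S'.map (P.map ((DerivedCategory.singleFunctor X.Modules 0).map (c • 𝟙 N))) :=
      (P.commShiftIso (-m)).hom.naturality ((DerivedCategory.singleFunctor X.Modules 0).map (c • 𝟙 N))
    have s3 : P.map ((DerivedCategory.singleFunctor X.Modules 0).map (c • 𝟙 N)) ≫ inv ((DCohMore.PushZero.eta q).app N) =
        inv ((DCohMore.PushZero.eta q).app N) ≫
          (DerivedCategory.singleFunctor Y.Modules 0).map ((Scheme.Modules.pushforward q).map (c • 𝟙 N)) := by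
      rw [IsIso.comp_inv_eq, Category.assoc, IsIso.eq_inv_comp]
      exact ((DCohMore.PushZero.eta q).naturality (c • 𝟙 N)).symm
    have s4 := (((DerivedCategory.homologyFunctor Y.Modules 0).shiftIso (-m) m 0 (by omega)).hom.naturality
      ((DerivedCategory.singleFunctor Y.Modules 0).map ((Scheme.Modules.pushforward q).map (c • 𝟙 N))))
    have s5 := (DerivedCategory.singleFunctorCompHomologyFunctorIso Y.Modules 0).hom.naturality
      ((Scheme.Modules.pushforward q).map (c • 𝟙 N))
    show _ ≫ H.map ((P.commShiftIso (-m)).hom.app (DCoh.inD X N) ≫ S'.map (inv ((DCohMore.PushZero.eta q).app N))) ≫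
      g.hom = _
    rw [s1, ← Category.assoc, ← Functor.map_comp, reassoc_of% s2, ← Functor.map_comp, s3]
    simp only [Functor.map_comp, Category.assoc]
    have s6 : H.map (S'.map ((DerivedCategory.singleFunctor Y.Modules 0).map ((Scheme.Modules.pushforward q).map (c • 𝟙 N)))) ≫ g.hom =
        g.hom ≫ (Scheme.Modules.pushforward q).map (c • 𝟙 N) := by
      show _ ≫ _ ≫ (DerivedCategory.singleFunctorCompHomologyFunctorIso Y.Modules 0).hom.app Q =
        (_ ≫ (DerivedCategory.singleFunctorCompHomologyFunctorIso Y.Modules 0).hom.app Q) ≫ _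
      rw [← Category.assoc]
      erw [s4]
      rw [Category.assoc, Category.assoc]
      erw [s5]
      rfl
    rw [s6]
    show _ = (H.map ((P.commShiftIso (-m)).hom.app (DCoh.inD X N) ≫ S'.map (inv ((DCohMore.PushZero.eta q).app N))) ≫
      g.hom) ≫ _
    simp only [Functor.map_comp, Category.assoc]
  have h3 : (Scheme.Modules.pushforward q).map (c • 𝟙 N) ≫ (Scheme.Modules.pushforward q).map eN.hom =
      (Scheme.Modules.pushforward q).map eN.hom ≫ (Scheme.Modules.pushforward q).map (c • 𝟙 (DCoh.HD K m)) := by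
    rw [← Functor.map_comp, ← Functor.map_comp, Linear.smul_comp, Linear.comp_smul, Category.id_comp, Category.comp_id]
  show _ ≫ E₀.hom ≫ w.hom ≫ (Scheme.Modules.pushforward q).map eN.hom =
    (E₀.hom ≫ w.hom ≫ (Scheme.Modules.pushforward q).map eN.hom) ≫ _
  rw [← Category.assoc, h1, Category.assoc, ← Category.assoc (H.map _), h2]
  simp only [Category.assoc]
  rw [h3]

end Groth.Agent.FibreDualLib
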