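import Groth.Agent.FibreDualLib.Main
import Groth.Agent.FibreDualLib.BCPushLin
import Groth.Agent.FibreDualLib.BCLinDescent
import Groth.Agent.DCohMore.FinHom

/-!
# The upper shriek of an affine base change, compatibly with the functions on the base
-/

set_option autoImplicit false
set_option linter.style.haveILetI false
set_option linter.unusedSectionVars false
set_option backward.isDefEq.respectTransparency false
set_option maxHeartbeats 1600000

universe u

open CategoryTheory CategoryTheory.Limits AlgebraicGeometry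
open Groth.Agent.DCohLib Groth.Agent.DCohMore Groth.Agent.TwistShriek Groth.Agent.ShriekBridge Groth.Agent.FMKLib

attribute [local instance] HasDerivedCategory.standard Groth.Agent.TwistShriek.linΓ

noncomputable section

namespace Groth.Agent.FibreDualLib

/-- Pasting of five commutative squares. -/
theorem paste5 {C : Type*} [Category C] {x₀ x₁ x₂ x₃ x₄ x₅ y₀ y₁ y₂ y₃ y₄ y₅ : C}
    {a₀ : x₀ ⟶ y₀} {a₁ : x₁ ⟶ y₁} {a₂ : x₂ ⟶ y₂} {a₃ : x₃ ⟶ y₃} {a₄ : x₄ ⟶ y₄} {a₅ : x₅ ⟶ y₅}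
    {p₀ : x₀ ⟶ x₁} {p₁ : x₁ ⟶ x₂} {p₂ : x₂ ⟶ x₃} {p₃ : x₃ ⟶ x₄} {p₄ : x₄ ⟶ x₅}
    {q₀ : y₀ ⟶ y₁} {q₁ : y₁ ⟶ y₂} {q₂ : y₂ ⟶ y₃} {q₃ : y₃ ⟶ y₄} {q₄ : y₄ ⟶ y₅}
    (h₀ : a₀ ≫ q₀ = p₀ ≫ a₁) (h₁ : a₁ ≫ q₁ = p₁ ≫ a₂) (h₂ : a₂ ≫ q₂ = p₂ ≫ a₃) (h₃ : a₃ ≫ q₃ = p₃ ≫ a₄)
    (h₄ : a₄ ≫ q₄ = p₄ ≫ a₅) :
    a₀ ≫ q₀ ≫ q₁ ≫ q₂ ≫ q₃ ≫ q₄ = (p₀ ≫ p₁ ≫ p₂ ≫ p₃ ≫ p₄) ≫ a₅ := by
  rw [reassoc_of% h₀, reassoc_of% h₁, reassoc_of% h₂, reassoc_of% h₃, h₄]
  simp only [Category.assoc]

section Scalars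

variable {X : Scheme.{u}}

theorem tensorCx_map_smulΓ (P E : CochainComplex X.Modules ℤ) (c : Coh.Γtop X) :
    ((DCoh.tensorCx (X := X)).map (c • 𝟙 P)).app E = c • 𝟙 ((DCoh.tensorCx.obj P).obj E) := by
  have h : ∀ M N : X.Modules, ((DCoh.tensorBi (X := X)).map (c • 𝟙 M)).app N =
      c • 𝟙 (((DCoh.tensorBi (X := X)).obj M).obj N) := fun M N => by
    rw [smul_id_eq, smul_id_eq]
    exact Groth.Agent.BCLib.tensorRightMod_map_smulModΓ N M _
  refine HomologicalComplex.hom_ext _ _ fun n => ?_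
  refine HomologicalComplex.mapBifunctor.hom_ext fun i j hij => ?_
  rw [HomologicalComplex.smul_f_apply, HomologicalComplex.id_f, Linear.comp_smul]
  erw [Category.comp_id]
  show HomologicalComplex.ιMapBifunctor P E (DCoh.tensorBi (X := X)) (ComplexShape.up ℤ) i j n hij ≫
    (HomologicalComplex.mapBifunctorMap (c • 𝟙 P) (𝟙 E) (DCoh.tensorBi (X := X)) (ComplexShape.up ℤ)).f n = _
  rw [HomologicalComplex.ι_mapBifunctorMap, HomologicalComplex.id_f, CategoryTheory.Functor.map_id,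
    Category.id_comp, HomologicalComplex.smul_f_apply, HomologicalComplex.id_f, h,
    Linear.smul_comp, Category.id_comp]

/-- Derived tensor products commute with multiplications by global functions. -/
theorem lTensor_sc (L : CochainComplex X.Modules ℤ) [DCoh.HasLTensorCx L] (c : Coh.Γtop X) (K : DCoh.D X) :
    (DCoh.LTensorCx L).map (sc c K) = sc c ((DCoh.LTensorCx L).obj K) := by
  let N := (resX X).obj L
  have hN : DCoh.IsKFlat N := isKFlat_resX L
  haveI : IsIso (DerivedCategory.Q.map ((resXπ X).app L)) := isIso_Q_resXπ L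
  haveI : DCoh.HasLTensorCx N := DCohLib.hasLTensorCx _
  obtain ⟨t⟩ := nonempty_lTensor_of_iso (E := L) (E' := N) (asIso (DerivedCategory.Q.map ((resXπ X).app L)))
  obtain ⟨P, ⟨e⟩⟩ : ∃ P, Nonempty (DerivedCategory.Q.obj P ≅ K) := ⟨_, ⟨DerivedCategory.Q.objObjPreimageIso K⟩⟩
  suffices h : (DCoh.LTensorCx N).map (sc c (DerivedCategory.Q.obj P)) =
      sc c ((DCoh.LTensorCx N).obj (DerivedCategory.Q.obj P)) by
    rw [← cancel_epi ((DCoh.LTensorCx L).map e.hom), ← Functor.map_comp, sc_natural, Functor.map_comp, sc_natural]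
    refine congrArg (· ≫ _) ?_
    rw [← cancel_epi (t.hom.app _), ← t.hom.naturality, h, sc_natural]
  haveI := isIso_lTensorCounit_app_of_isKFlat N hN P
  rw [← cancel_mono ((lTensorCounit N).app P), sc_Q]
  refine ((lTensorCounit N).naturality (c • 𝟙 P)).trans ?_
  show (lTensorCounit N).app P ≫ DerivedCategory.Q.map (((DCoh.tensorCx (X := X)).map (c • 𝟙 P)).app N) = _
  rw [tensorCx_map_smulΓ]
  exact ((congrArg (_ ≫ ·) (sc_Q c _)).symm).trans (sc_natural c _)

variable {Y : Scheme.{u}} (f : X ⟶ Y)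

/-- Derived inverse images commute with multiplications by global functions. -/
theorem lpull_sc' [DCoh.HasRpush f] [DCoh.HasLpull f] (b : Coh.Γtop Y) (K : DCoh.D Y) :
    (DCoh.Lpull f).map (sc b K) = sc (fa f b) ((DCoh.Lpull f).obj K) := by
  refine ((lpullRpushAdj f).homEquiv _ _).injective ?_
  rw [Adjunction.homEquiv_unit, Adjunction.homEquiv_unit, rpush_sc]
  exact ((lpullRpushAdj f).unit.naturality (sc b K)).symm.trans (sc_natural b _).symm

/-- Twisted inverse images commute with multiplications by functions on the base. -/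
theorem shriek_sc [DCoh.HasRpush f] {hf : DCoh.RpushPreservesQCoh f} {a : DCoh.DQCoh Y ⥤ DCoh.DQCoh X}
    (adj : DCoh.RpushQ f hf ⊣ a) (b : Coh.Γtop Y) (K : DCoh.DQCoh Y) :
    a.map (ObjectProperty.homMk (sc b K.obj) : K ⟶ K) = ObjectProperty.homMk (sc (fa f b) (a.obj K).obj) := by
  refine (adj.homEquiv _ _).symm.injective ?_
  rw [Adjunction.homEquiv_counit, Adjunction.homEquiv_counit]
  refine (adj.counit.naturality _).trans ?_
  refine (ObjectProperty.ι (DCoh.IsQCohD (X := Y))).map_injective ?_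
  show (adj.counit.app K).hom ≫ sc b K.obj =
    (DCoh.Rpush f).map (sc (fa f b) (a.obj K).obj) ≫ (adj.counit.app K).hom
  rw [rpush_sc]
  exact sc_natural b _

end Scalars

variable {X S X' T : Scheme.{u}} {f : X ⟶ S} {g : T ⟶ S} {f' : X' ⟶ T} {q : X' ⟶ X}
  [IsNoetherian S] [IsNoetherian T] [IsProper f] [Flat f] [IsAffineHom g]
  [DCoh.HasRpush f] {hf : DCoh.RpushPreservesQCoh f} {a : DCoh.DQCoh S ⥤ DCoh.DQCoh X}
  [DCoh.HasRpush f'] {hf' : DCoh.RpushPreservesQCoh f'} {a' : DCoh.DQCoh T ⥤ DCoh.DQCoh X'}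
  [DCoh.HasRpush q] [DCoh.HasLpull q]

/-- The comparison after direct image respects the functions on the base. -/
theorem exists_rpush_shriek_iso_linear (hsq : IsPullback q f' f g) (adj : DCoh.RpushQ f hf ⊣ a)
    (adj' : DCoh.RpushQ f' hf' ⊣ a') (OS : DCoh.DQCoh S)
    (hOS : Nonempty (OS.obj ≅ DCoh.inD S (Coh.structureModule S))) (OT : DCoh.DQCoh T)
    (hOT : Nonempty (OT.obj ≅ DCoh.inD T (Coh.structureModule T))) :
    ∃ θ : (DCoh.Rpush q).obj (a'.obj OT).obj ≅ (DCoh.Rpush q).obj ((DCoh.Lpull q).obj (a.obj OS).obj),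
      ∀ b : Coh.Γtop T, (DCoh.Rpush q).map (sc (fa f' b) (a'.obj OT).obj) ≫ θ.hom =
        θ.hom ≫ (DCoh.Rpush q).map (sc (fa f' b) ((DCoh.Lpull q).obj (a.obj OS).obj)) := by
  haveI : LocallyOfFinitePresentation f := S14008.lfp_of_lft f
  haveI : IsProper f' := MorphismProperty.of_isPullback (P := @IsProper) hsq ‹IsProper f›
  haveI : Flat f' := MorphismProperty.of_isPullback (P := @Flat) hsq ‹Flat f›
  haveI : IsAffineHom q := MorphismProperty.of_isPullback (P := @IsAffineHom) hsq.flip ‹IsAffineHom g›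
  haveI : CompactSpace X := QuasiCompact.compactSpace_of_compactSpace f
  haveI : IsLocallyNoetherian X := LocallyOfFiniteType.isLocallyNoetherian f
  haveI : CompactSpace X' := QuasiCompact.compactSpace_of_compactSpace f'
  haveI : IsLocallyNoetherian X' := LocallyOfFiniteType.isLocallyNoetherian f'
  haveI : IsNoetherian X := {}
  haveI : IsNoetherian X' := {}
  haveI := hasLpull f; haveI := hasLpull f'; haveI := hasLpull g; haveI := BC.hasRpush g
  obtain ⟨e, hξ⟩ := exists_isIso_xi (hg := rpushQC g) (hg' := rpushQC q) hsq BC.TI.of_flat_left adj adj'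
  have hξnat : ∀ {N N' : DCoh.DQCoh T} (φ : N ⟶ N'),
      (DCoh.RpushQ q (rpushQC q)).map (a'.map φ) ≫ Dual3.xi adj adj' e N' =
        Dual3.xi adj adj' e N ≫ a.map ((DCoh.RpushQ g (rpushQC g)).map φ) := fun {N N'} φ => by
    unfold Dual3.xi
    rw [← adj.homEquiv_naturality_left, ← adj.homEquiv_naturality_right, Category.assoc, ← Functor.map_comp,
      show adj'.counit.app N ≫ φ = (DCoh.RpushQ f' hf').map (a'.map φ) ≫ adj'.counit.app N' from
        (adj'.counit.naturality φ).symm, Functor.map_comp, ← Category.assoc, ← Category.assoc]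
    exact congrArg (fun z => adj.homEquiv _ _ (z ≫ _)) (e.hom.naturality (a'.map φ))
  -- the functor as a tensor product
  let E := DerivedCategory.Q.objPreimage (a.obj OS).obj
  let eE : DerivedCategory.Q.obj E ≅ (a.obj OS).obj := DerivedCategory.Q.objObjPreimageIso _
  haveI : DCoh.HasLTensorCx E := DCohLib.hasLTensorCx _
  obtain ⟨ea⟩ := S7865.result X S f hf a adj (fun J => S3600.result X S f hf a adj J) OS hOS E ⟨eE⟩
  -- base change along the flat morphism
  obtain ⟨e₂, he₂⟩ := BC.exists_iso_baseChange g f q f' hsq.flip BC.TI.of_flat (lpullRpushAdj f) (lpullRpushAdj f')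
  have hbnat : ∀ {K K' : DCoh.D T} (φ : K ⟶ K'),
      (DCoh.Lpull f).map ((DCoh.Rpush g).map φ) ≫ DCoh.baseChangeApp (lpullRpushAdj f) (lpullRpushAdj f') e₂ K' =
        DCoh.baseChangeApp (lpullRpushAdj f) (lpullRpushAdj f') e₂ K ≫
          (DCoh.Rpush q).map ((DCoh.Lpull f').map φ) := fun {K K'} φ => by
    unfold DCoh.baseChangeApp
    rw [← Adjunction.homEquiv_naturality_left_symm, ← Adjunction.homEquiv_naturality_right_symm,
      ← Category.assoc, ← Functor.map_comp,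
      show φ ≫ (lpullRpushAdj f').unit.app K' =
        (lpullRpushAdj f').unit.app K ≫ (DCoh.Rpush f').map ((DCoh.Lpull f').map φ) from
          (lpullRpushAdj f').unit.naturality φ, Functor.map_comp, Category.assoc, Category.assoc]
    exact congrArg (fun z => ((lpullRpushAdj f).homEquiv _ _).symm (_ ≫ z)) (e₂.hom.naturality _)
  -- the projection formula
  let L := DerivedCategory.Q.objPreimage ((DCoh.Lpull q).obj (a.obj OS).obj)
  let eL : DerivedCategory.Q.obj L ≅ (DCoh.Lpull q).obj (a.obj OS).obj := DerivedCategory.Q.objObjPreimageIso _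
  haveI : DCoh.HasLTensorCx L := DCohLib.hasLTensorCx _
  obtain ⟨pj⟩ := FMKLib.nonempty_proj_left q E (TildeD.isQCohD_of_iso eE.symm (a.obj OS).property) L
    (eL ≪≫ (DCoh.Lpull q).mapIso eE.symm)
  haveI := hξ OT
  haveI := he₂ OT.obj OT.property
  obtain ⟨eOT⟩ := hOT
  obtain ⟨u⟩ := TwistFam.nonempty_lpull_structure f'
  obtain ⟨v⟩ := TwistShriek.nonempty_lTensor_inD_structure L
  let ι' := ObjectProperty.ι (DCoh.IsQCohD (X := X))
  let N : DCoh.DQCoh X' := ⟨(DCoh.Lpull f').obj OT.obj, TildeD.isQCohD_lpull f' OT.obj OT.property⟩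
  let w := (DCoh.LTensorCx L).mapIso ((DCoh.Lpull f').mapIso eOT ≪≫ u) ≪≫ v ≪≫ eL
  refine ⟨ι'.mapIso (asIso (Dual3.xi adj adj' e OT)) ≪≫ ea.app ((DCoh.RpushQ g (rpushQC g)).obj OT) ≪≫
    (DCoh.LTensorCx E).mapIso (asIso (DCoh.baseChangeApp (lpullRpushAdj f) (lpullRpushAdj f') e₂ OT.obj)) ≪≫
    pj.app N ≪≫ (DCoh.Rpush q).mapIso w, fun b => ?_⟩
  let φ : OT ⟶ OT := ObjectProperty.homMk (sc b OT.obj)
  let φN : N ⟶ N := ObjectProperty.homMk ((DCoh.Lpull f').map (sc b OT.obj))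
  have h1 : (DCoh.Rpush q).map (sc (fa f' b) (a'.obj OT).obj) ≫ (Dual3.xi adj adj' e OT).hom =
      (Dual3.xi adj adj' e OT).hom ≫ (a.map ((DCoh.RpushQ g (rpushQC g)).map φ)).hom := by
    have h := congrArg ι'.map (hξnat φ)
    rw [shriek_sc f' adj' b OT] at h
    exact h
  have h2 : (a.map ((DCoh.RpushQ g (rpushQC g)).map φ)).hom ≫ ea.hom.app ((DCoh.RpushQ g (rpushQC g)).obj OT) =
      ea.hom.app ((DCoh.RpushQ g (rpushQC g)).obj OT) ≫
        (DCoh.LTensorCx E).map ((DCoh.Lpull f).map ((DCoh.Rpush g).map (sc b OT.obj))) :=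
    ea.hom.naturality ((DCoh.RpushQ g (rpushQC g)).map φ)
  have h3 := congrArg (DCoh.LTensorCx E).map (hbnat (sc b OT.obj))
  rw [Functor.map_comp, Functor.map_comp] at h3
  have h4 : (DCoh.LTensorCx E).map ((DCoh.Rpush q).map ((DCoh.Lpull f').map (sc b OT.obj))) ≫ pj.hom.app N =
      pj.hom.app N ≫ (DCoh.Rpush q).map ((DCoh.LTensorCx L).map ((DCoh.Lpull f').map (sc b OT.obj))) :=
    pj.hom.naturality φN
  have h5 : (DCoh.Rpush q).map ((DCoh.LTensorCx L).map ((DCoh.Lpull f').map (sc b OT.obj))) ≫ (DCoh.Rpush q).map w.hom =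
      (DCoh.Rpush q).map w.hom ≫ (DCoh.Rpush q).map (sc (fa f' b) ((DCoh.Lpull q).obj (a.obj OS).obj)) := by
    rw [← Functor.map_comp, ← Functor.map_comp, lpull_sc', lTensor_sc, sc_natural]
  exact paste5 h1 h2 h3 h4 h5

/-- The cohomology of the upper shriek of an affine base change is that of the inverse image. -/
theorem nonempty_HD_shriek_lpull_iso [IsAffine S] [IsAffine T] (hsq : IsPullback q f' f g) (adj : DCoh.RpushQ f hf ⊣ a)
    (adj' : DCoh.RpushQ f' hf' ⊣ a') (OS : DCoh.DQCoh S)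
    (hOS : Nonempty (OS.obj ≅ DCoh.inD S (Coh.structureModule S))) (OT : DCoh.DQCoh T)
    (hOT : Nonempty (OT.obj ≅ DCoh.inD T (Coh.structureModule T))) (m : ℤ) :
    Nonempty (DCoh.HD (a'.obj OT).obj m ≅ DCoh.HD ((DCoh.Lpull q).obj (a.obj OS).obj) m) := by
  haveI : IsAffineHom q := MorphismProperty.of_isPullback (P := @IsAffineHom) hsq.flip ‹IsAffineHom g›
  obtain ⟨θ, hθ⟩ := exists_rpush_shriek_iso_linear hsq adj adj' OS hOS OT hOT
  have hL : DCoh.IsQCohD ((DCoh.Lpull q).obj (a.obj OS).obj) := TildeD.isQCohD_lpull q _ (a.obj OS).property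
  haveI : Coh.IsQCoh (DCoh.HD (a'.obj OT).obj m) := (a'.obj OT).property m
  haveI : Coh.IsQCoh (DCoh.HD ((DCoh.Lpull q).obj (a.obj OS).obj) m) := hL m
  obtain ⟨E₁, hE₁⟩ := exists_HD_rpush_iso_linear q (a'.obj OT).obj (a'.obj OT).property m
  obtain ⟨E₂, hE₂⟩ := exists_HD_rpush_iso_linear q _ hL m
  let H := DerivedCategory.homologyFunctor X.Modules m
  refine nonempty_iso_of_linear hsq (E₁.symm ≪≫ H.mapIso θ ≪≫ E₂) fun b => ?_
  simp only [Iso.trans_hom, Iso.symm_hom, Functor.mapIso_hom, Category.assoc]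
  rw [← cancel_epi E₁.hom, Iso.hom_inv_id_assoc, ← reassoc_of% (hE₁ (fa f' b)), Iso.hom_inv_id_assoc,
    ← hE₂ (fa f' b), ← Category.assoc, ← Category.assoc, ← H.map_comp, ← H.map_comp, hθ]

end Groth.Agent.FibreDualLib
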