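import Groth.Agent.FibreDualLib.Main
import Groth.Agent.RelDualCMLib.Iff
import Groth.Agent.TwistShriek.PairCoh
import Groth.Agent.S3637
import Groth.Agent.S5761
import Groth.Agent.SuppLib.Basic
import Groth.Agent.ProjSerreLib.Codim
import Groth.Agent.FibreVanishQC.Main
import Groth.Agent.ShriekBridge.Gor
import Groth.Prelude.Def_RelCanon

/-!
# The relative dualizing sheaf of a proper Cohen–Macaulay morphism
-/

set_option autoImplicit false
set_option linter.style.haveILetI false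
set_option linter.unusedSectionVars false
set_option backward.isDefEq.respectTransparency false
set_option maxHeartbeats 1600000

universe u

open CategoryTheory CategoryTheory.Limits AlgebraicGeometry
open Groth.Agent.DCohLib Groth.Agent.DCohMore Groth.Agent.TwistShriek Groth.Agent.CohBase

attribute [local instance] HasDerivedCategory.standard

noncomputable section

namespace Groth.Agent.FibreDualLib

/-- The trivial compactification of a proper morphism. -/
def idComp {Y T : Scheme.{u}} (f : Y ⟶ T) [IsProper f] : DEt.Compactification f :=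
  { Xbar := Y, j := 𝟙 Y, fbar := f, isOpenImmersion := inferInstance, isProper := ‹_›, fac := Category.id_comp f }

/-- The fibres of a morphism of pure relative dimension have that dimension. -/
theorem dim_fiber_le {Y T : Scheme.{u}} (f : Y ⟶ T) (d : ℕ) (hd : Cyc.HasRelDim f d) (t : T) :
    topologicalKrullDim ↥(f.fiber t) ≤ (d : WithBot ℕ∞) :=
  ProjSerreLib.topologicalKrullDim_le_of_irreducibleComponents _ fun Z hZ => (hd t Z hZ).le

theorem isCohenMacaulayModule_congr {R M N : Type u} [CommRing R] [IsLocalRing R] [AddCommGroup M] [Module R M]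
    [AddCommGroup N] [Module R N] (e : M ≃ₗ[R] N) :
    LocCoh.IsCohenMacaulayModule R M ↔ LocCoh.IsCohenMacaulayModule R N := by
  unfold LocCoh.IsCohenMacaulayModule
  rw [Module.supportDim_eq_of_equiv e, Depth.depth_congr e]

theorem isZero_HD_inD_shift {Z : Scheme.{u}} (F : Z.Modules) (n i : ℤ) (h : n + i ≠ 0) :
    IsZero (DCoh.HD ((DCoh.inD Z F)⟦n⟧) i) :=
  (DCohLib.isZero_HD_inD F h).of_iso
    (((DerivedCategory.homologyFunctor Z.Modules 0).shiftIso n i (n + i) rfl).app (DCoh.inD Z F))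

/-- A complex with one cohomology sheaf is invertible near a point iff that sheaf is. -/
theorem invertibleD_iff_invertibleAt {Y : Scheme.{u}}
    [∀ (U V : Scheme.{u}) (j : U ⟶ V) [IsOpenImmersion j], PreservesFiniteLimits (Scheme.Modules.restrictFunctor j)]
    (M : DCoh.D Y) (d : ℕ) [M.IsGE (-(d : ℤ))] [M.IsLE (-(d : ℤ))] (ω : Y.Modules)
    (e : DCoh.HD M (-(d : ℤ)) ≅ ω) (hnt : ∀ y : Y, ¬ Subsingleton (ω.presheaf.stalk y)) (y : Y) :
    (∃ U : Y.Opens, y ∈ U ∧ Dual3.IsInvertibleD ((DCoh.restrictD U.ι).obj M)) ↔ RelCanon.InvertibleAt ω y := by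
  obtain ⟨N, ⟨eN⟩⟩ := DerivedCategory.exists_iso_singleFunctor_obj_of_isGE_of_isLE M (-(d : ℤ))
  let eω : N ≅ ω :=
    ((DerivedCategory.singleFunctorCompHomologyFunctorIso Y.Modules (-(d : ℤ))).app N).symm ≪≫
      (DerivedCategory.homologyFunctor Y.Modules (-(d : ℤ))).mapIso eN.symm ≪≫ e
  let sh : ∀ {Z : Scheme.{u}} (F : Z.Modules),
      (DerivedCategory.singleFunctor Z.Modules (-(d : ℤ))).obj F ≅ (DCoh.inD Z F)⟦(d : ℤ)⟧ := fun {Z} F =>
    (((DerivedCategory.singleFunctors Z.Modules).shiftIso (d : ℤ) (-(d : ℤ)) 0 (by omega)).app F).symm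
  constructor
  · rintro ⟨U, hyU, hinv⟩
    obtain ⟨W, n, hW, ⟨i⟩⟩ := hinv ⟨y, hyU⟩
    let R₁ := Scheme.Modules.restrictFunctor U.ι
    let R₂ := Scheme.Modules.restrictFunctor W.ι
    let iH : R₂.obj (R₁.obj (DCoh.HD M (-(d : ℤ)))) ≅
        DCoh.HD ((DCoh.inD (W : Scheme.{u}) (Coh.structureModule (W : Scheme.{u})))⟦n⟧) (-(d : ℤ)) :=
      R₂.mapIso (((TildeD.nu R₁ (-(d : ℤ))).app M).symm) ≪≫
        ((TildeD.nu R₂ (-(d : ℤ))).app ((DCoh.restrictD U.ι).obj M)).symm ≪≫
        (DerivedCategory.homologyFunctor _ (-(d : ℤ))).mapIso i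
    let iω : R₂.obj (R₁.obj ω) ≅
        DCoh.HD ((DCoh.inD (W : Scheme.{u}) (Coh.structureModule (W : Scheme.{u})))⟦n⟧) (-(d : ℤ)) :=
      R₂.mapIso (R₁.mapIso e.symm) ≪≫ iH
    let y₁ : (W : Scheme.{u}) := ⟨⟨y, hyU⟩, hW⟩
    by_cases hn : n = (d : ℤ)
    · subst hn
      let V : Y.Opens := (W.ι ≫ U.ι).opensRange
      let i₀ : R₂.obj (R₁.obj ω) ≅ Coh.structureModule (W : Scheme.{u}) :=
        iω ≪≫ ((DerivedCategory.homologyFunctor _ 0).shiftIso (d : ℤ) (-(d : ℤ)) 0 (by omega)).app _ ≪≫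
          (DerivedCategory.singleFunctorCompHomologyFunctorIso _ 0).app _
      refine ⟨V, ⟨y₁, rfl⟩, ⟨?_⟩⟩
      let s := (W.ι ≫ U.ι).isoOpensRange.inv
      exact (Scheme.Modules.restrictFunctorCongr
          (show V.ι = s ≫ W.ι ≫ U.ι from ((W.ι ≫ U.ι).isoOpensRange_inv_comp).symm)).app ω ≪≫
        (Scheme.Modules.restrictFunctorComp s (W.ι ≫ U.ι)).app ω ≪≫
        (Scheme.Modules.restrictFunctor s).mapIso ((Scheme.Modules.restrictFunctorComp W.ι U.ι).app ω ≪≫ i₀) ≪≫
        DCohLib.restrictUnit s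
    · exfalso
      have hz : IsZero (R₂.obj (R₁.obj ω)) := (isZero_HD_inD_shift _ n _ (by omega)).of_iso iω
      have h1 := DCohLib.subsingleton_stalk_of_isZero hz y₁
      have h2 : Subsingleton ((R₁.obj ω).presheaf.stalk (W.ι y₁)) := @Equiv.subsingleton _ _
        ((Scheme.Modules.restrictStalkNatIso W.ι y₁).app (R₁.obj ω)).addCommGroupIsoToAddEquiv.toEquiv.symm h1
      exact hnt y (@Equiv.subsingleton _ _
        ((Scheme.Modules.restrictStalkNatIso U.ι (W.ι y₁)).app ω).addCommGroupIsoToAddEquiv.toEquiv.symm h2)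
  · rintro ⟨U, hyU, ⟨i⟩⟩
    let R₁ := Scheme.Modules.restrictFunctor U.ι
    let iU : (DCoh.restrictD U.ι).obj M ≅
        (DCoh.inD (U : Scheme.{u}) (Coh.structureModule (U : Scheme.{u})))⟦(d : ℤ)⟧ :=
      (DCoh.restrictD U.ι).mapIso eN ≪≫ (R₁.mapDerivedCategorySingleFunctor (-(d : ℤ))).app N ≪≫
        (DerivedCategory.singleFunctor _ (-(d : ℤ))).mapIso (R₁.mapIso eω ≪≫ i) ≪≫ sh _
    exact ⟨U, hyU, fun _ => ⟨⊤, (d : ℤ), trivial,
      ⟨(DCoh.restrictD _).mapIso iU ≪≫ DualCxLib.restrictStructureShift _ _⟩⟩⟩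

variable {A : Type u} [CommRing A] [IsNoetherianRing A] {Y : Scheme.{u}}

/-- The cohomology dualizes: everything about the relative dualizing sheaf of a proper Cohen–Macaulay morphism. -/
theorem facts [Y.Over (Spec (CommRingCat.of A))] [IsProper (Y ↘ Spec (CommRingCat.of A))] (d : ℕ)
    (hCM : ∀ y : Y, MoreMor.IsCMAt (Y ↘ Spec (CommRingCat.of A)) y)
    (hd : Cyc.HasRelDim (Y ↘ Spec (CommRingCat.of A)) d) (ω : Y.Modules) (hω : RelCanon.IsDualizingSheaf A Y d ω) :
    Coh.IsCoh ω ∧ FlatMod.IsFlatOver (Y ↘ Spec (CommRingCat.of A)) ω ∧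
      (∀ y : Y, ¬ Subsingleton (ω.presheaf.stalk y)) ∧
      (∀ t : Spec (CommRingCat.of A), RelCanon.IsDualizingSheafFib (Y ↘ Spec (CommRingCat.of A)) d ω t ∧
        ∀ z : ↥((Y ↘ Spec (CommRingCat.of A)).fiber t),
          LocCoh.IsCohenMacaulayModule (((Y ↘ Spec (CommRingCat.of A)).fiber t).presheaf.stalk z)
            (((Scheme.Modules.pullback ((Y ↘ Spec (CommRingCat.of A)).fiberι t)).obj ω).presheaf.stalk z)) ∧
      (∀ y : Y, Dual3.IsGorensteinAt (Y ↘ Spec (CommRingCat.of A)) y ↔ RelCanon.InvertibleAt ω y) := by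
  let f := Y ↘ Spec (CommRingCat.of A)
  let S := Spec (CommRingCat.of A)
  haveI : ∀ (R : CommRingCat.{u}), PreservesFiniteLimits (tilde.functor R) := fun R =>
    TildeD.preservesFiniteLimits_tilde
  haveI : IsNoetherianRing (CommRingCat.of A) := inferInstanceAs (IsNoetherianRing A)
  haveI : IsLocallyNoetherian Y := LocallyOfFiniteType.isLocallyNoetherian f
  haveI : CompactSpace Y := QuasiCompact.compactSpace_of_compactSpace f
  haveI : IsNoetherian Y := {}
  haveI : Flat f := RelDualCMLib.flat_of_isCMAt f hCM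
  have hdim := (RelDimLib.hasRelDim_iff f d).1 hd
  have hfib := dim_fiber_le f d hd
  haveI := BC.hasRpush f
  have h : DCoh.RpushPreservesQCoh f := rpushQC f
  haveI := isLeftAdjoint_rpushQ' f
  let a := (DCoh.RpushQ f h).rightAdjoint
  let adj : DCoh.RpushQ f h ⊣ a := Adjunction.ofIsLeftAdjoint (DCoh.RpushQ f h)
  let O : DCoh.DQCoh S := oQ S
  have hO : Nonempty (O.obj ≅ DCoh.inD S (Coh.structureModule S)) := ⟨Iso.refl _⟩
  haveI : O.obj.IsGE 0 := inferInstanceAs ((DCoh.inD S (Coh.structureModule S)).IsGE 0)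
  let cp := idComp f
  haveI : DCoh.HasRpush cp.fbar := ‹DCoh.HasRpush f›
  let adjc : DCoh.RpushQ cp.fbar h ⊣ a := adj
  have hst := fun y => RelDualCMLib.stalks_of_cm (cp := cp) adjc O hO (hCM y) d (hdim y)
  let M := (Dual3.shriekC cp a).obj O
  let eM : M ≅ (a.obj O).obj := (restrictDId (X := Y)).app (a.obj O).obj
  have hzero : ∀ i : ℤ, i ≠ -(d : ℤ) → IsZero (DCoh.HD (a.obj O).obj i) := fun i hi =>
    (DCohLib.isZero_of_stalks fun y => (hst y).1 i hi).of_iso
      ((DerivedCategory.homologyFunctor Y.Modules i).mapIso eM.symm)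
  haveI hGE : (a.obj O).obj.IsGE (-(d : ℤ)) := (DerivedCategory.isGE_iff _ _).2 fun i hi => hzero i (by omega)
  haveI hLE : (a.obj O).obj.IsLE (-(d : ℤ)) := (DerivedCategory.isLE_iff _ _).2 fun i hi => hzero i (by omega)
  haveI : M.IsGE (-(d : ℤ)) := DerivedCategory.TStructure.t.isGE_of_iso eM.symm _
  haveI : M.IsLE (-(d : ℤ)) := DerivedCategory.TStructure.t.isLE_of_iso eM.symm _
  obtain ⟨tr₀, htr₀⟩ := exists_isRDualOver_adjoint A Y h a adj O (Iso.refl _) d hGE
    (fun F hF j hj => by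
      haveI := hF
      obtain ⟨p, rfl⟩ : ∃ p, j = p + 1 := ⟨j - 1, by omega⟩
      exact subsingleton_HH _ _ (FibreVanishQC.subsingleton_HU_affine f d hfib F p (by omega)))
    (Iso.refl _)
  obtain ⟨tr, htr⟩ := hω
  obtain ⟨e₀⟩ := nonempty_iso_of_isRDualOver_ring A htr₀ htr
  let e : DCoh.HD M (-(d : ℤ)) ≅ ω := (DerivedCategory.homologyFunctor Y.Modules (-(d : ℤ))).mapIso eM ≪≫ e₀
  have hcoh : Coh.IsCoh ω := isCoh_of_pair A d hfib htr
  have hnt : ∀ y : Y, ¬ Subsingleton (ω.presheaf.stalk y) := fun y hs => by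
    obtain ⟨i, hi⟩ := RelDualCMLib.exists_nontrivial_stalk (cp := cp) adjc O hO y
    by_cases hie : i = -(d : ℤ)
    · subst hie
      haveI := hs
      exact hi (@Equiv.subsingleton _ _ ((DCohLib.stkF y).mapIso e).toLinearEquiv.toEquiv hs)
    · exact hi ((hst y).1 i hie)
  refine ⟨hcoh, DCohMore.isFlatOver_of_iso f e fun y => (hst y).2, hnt, fun t => ?_, fun y => ?_⟩
  · let κ := S.residueField t
    let g := S.fromSpecResidueField t
    let Yt := f.fiber t
    let f' : Yt ⟶ Spec κ := f.fiberToSpecResidueField t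
    letI : Yt.Over (Spec (CommRingCat.of κ)) := ⟨f'⟩
    haveI : IsProper f' := MorphismProperty.pullback_snd (P := @IsProper) _ _ ‹IsProper f›
    haveI : IsProper (Yt ↘ Spec (CommRingCat.of κ)) := ‹IsProper f'›
    haveI : IsLocallyNoetherian Yt := LocallyOfFiniteType.isLocallyNoetherian f'
    haveI : CompactSpace Yt := QuasiCompact.compactSpace_of_compactSpace f'
    haveI : IsNoetherian Yt := {}
    have hsq : IsPullback (f.fiberι t) f' f g := IsPullback.of_hasPullback _ _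
    haveI : IsAffineHom g := inferInstance
    haveI : IsAffineHom (f.fiberι t) :=
      MorphismProperty.of_isPullback (P := @IsAffineHom) hsq.flip inferInstance
    haveI := BC.hasRpush (Yt ↘ Spec (CommRingCat.of κ)); haveI := BC.hasRpush f'
    haveI := BC.hasRpush (f.fiberι t); haveI := hasLpull (f.fiberι t)
    have h' : DCoh.RpushPreservesQCoh f' := rpushQC f'
    haveI := isLeftAdjoint_rpushQ' f'
    let a' := (DCoh.RpushQ f' h').rightAdjoint
    let adj' : DCoh.RpushQ f' h' ⊣ a' := Adjunction.ofIsLeftAdjoint (DCoh.RpushQ f' h')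
    let O' : DCoh.DQCoh (Spec (CommRingCat.of κ)) := oQ _
    have hdk : ∀ Z : Set ↥Yt, Z ∈ irreducibleComponents ↥Yt → topologicalKrullDim ↥Z = (d : WithBot ℕ∞) := hd t
    have hCMk : ∀ z : Yt, LocCoh.IsCohenMacaulayLocalRing (Yt.presheaf.stalk z) := fun z =>
      (CMFlatLib.cm_fibre_stalk_iff f t z).2 ((CMFlatLib.isCMAt_iff f _).1 (hCM (f.fiberι t z))).2
    obtain ⟨hz', -, hcm'⟩ := S3637.result κ Yt f' hCMk d hdk h' a' adj' O' ⟨Iso.refl _⟩
    obtain ⟨eH⟩ := nonempty_HD_shriek_iso hsq adj adj' O hO O' ⟨Iso.refl _⟩ (-(d : ℤ))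
    let i₂ : DCoh.HD (a'.obj O').obj (-(d : ℤ)) ≅ (Scheme.Modules.pullback (f.fiberι t)).obj ω :=
      eH ≪≫ (Scheme.Modules.pullback (f.fiberι t)).mapIso e₀
    refine ⟨?_, fun z => ?_⟩
    · exact exists_isRDualOver_adjoint κ Yt h' a' adj' O' (Iso.refl _) d
        ((DerivedCategory.isGE_iff _ _).2 fun i hi => hz' i (by omega))
        (fun F hF j hj => by
          haveI := hF
          obtain ⟨p, rfl⟩ : ∃ p, j = p + 1 := ⟨j - 1, by omega⟩
          refine subsingleton_HH _ _ (FibreVanishQC.subsingleton_HU_affine f' d (fun y => ?_) F p (by omega))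
          exact ((f'.fiberι y).isEmbedding.isInducing.topologicalKrullDim_le).trans (hfib t))
        i₂
    · let L := (DCohLib.stkF z).mapIso i₂
      exact (isCohenMacaulayModule_congr L.toLinearEquiv).1 (hcm' z).2
  · rw [ShriekBridge.gorensteinAt_iff_invertible (cp := cp) adjc O hO y]
    exact invertibleD_iff_invertibleAt M d ω e hnt y

end Groth.Agent.FibreDualLib
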