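import Groth.Agent.FibreDualLib.Powers
import Groth.Agent.S18726
import Groth.Agent.S18709

/-!
# Deformations of reflexive modules with deep fibre
-/

set_option autoImplicit false
set_option linter.style.haveILetI false
set_option linter.unusedSectionVars false
set_option backward.isDefEq.respectTransparency false
set_option backward.isDefEq.respectTransparency.types false
set_option maxHeartbeats 1600000

universe u

open CategoryTheory CategoryTheory.Limits AlgebraicGeometry IsLocalRing TopologicalSpace TensorProduct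

noncomputable section

namespace Groth.Agent.FibreDualLib

/-- Depth at most three along the complement of an open set, using only generisations of the point. -/
theorem le_idealDepth_of_skAt_near {Z : Scheme.{u}} [IsLocallyNoetherian Z] {F : Z.Modules} (hF : Coh.IsCoh F)
    (U : Z.Opens) (w : Z) (k : ℕ) (hk : 0 < k) (h : RelCanon.SkAt k F w) (hU : ∀ v : Z, v ⤳ w → v ∈ U → Nontrivial (F.presheaf.stalk v))
    (hdim : ∀ v : Z, v ⤳ w → v ∉ U → (k : WithBot ℕ∞) ≤ ringKrullDim (Z.presheaf.stalk v)) :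
    (k : ℕ∞) ≤ LocCoh.idealDepth (idealOff U w) (F.presheaf.stalk w) := by
  haveI := hF.1
  haveI := PullbackMod.finite_stalk_of_isFT hF.2 w
  rw [QGorLib.le_idealDepth_iff_forall]
  intro P hP
  obtain ⟨ψ, e, he⟩ := exists_generization_equiv F w P
  have hh : FibreDepth.FibIso (Localization.AtPrime P.asIdeal)
      (LocalizedModule P.asIdeal.primeCompl (F.presheaf.stalk w)) (Z.presheaf.stalk (Z.fromSpecStalk w P))
      (F.presheaf.stalk (Z.fromSpecStalk w P)) := ⟨ψ.toRingHom, ψ.surjective, e, he⟩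
  let v := Z.fromSpecStalk w P
  haveI : Module.Finite (Z.presheaf.stalk v) (F.presheaf.stalk v) := PullbackMod.finite_stalk_of_isFT hF.2 v
  have hvw : v ⤳ w := by
    have : Z.fromSpecStalk w P ∈ Set.range (Z.fromSpecStalk w) := ⟨P, rfl⟩
    rwa [Scheme.range_fromSpecStalk] at this
  have hd : Module.supportDim (Z.presheaf.stalk v) (F.presheaf.stalk v) = ringKrullDim (Z.presheaf.stalk v) :=
    supportDim_stalk_eq F v fun v' hv'v hv' => hU v' (hv'v.trans hvw) (by
      by_contra hvU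
      exact absurd (hv' ▸ hdim v' (hv'v.trans hvw) hvU) (not_le.2 (by exact_mod_cast hk)))
  have h2 := h P.asIdeal
  rw [hh.supportDim_eq, hd, min_eq_left (hdim v hvw ((idealOff_le_iff U w P).1 hP))] at h2
  exact WithBot.coe_le_coe.1 h2

/-- Vanishing of `H²_J` passes along a map that is an isomorphism off `J`. -/
theorem subsingleton_H_two_of_killed {B X Y : Type u} [CommRing B] [IsNoetherianRing B] [AddCommGroup X] [Module B X]
    [AddCommGroup Y] [Module B Y] (J : Ideal B) (f : X →ₗ[B] Y)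
    (hk : ∀ q : PrimeSpectrum B, ¬ J ≤ q.asIdeal →
      (∀ x, f x = 0 → ∃ a ∉ q.asIdeal, a • x = 0) ∧ ∀ y, ∃ a ∉ q.asIdeal, ∃ x, a • y = f x)
    (hY : Subsingleton (LocCoh.H J 2 Y)) : Subsingleton (LocCoh.H J 2 X) := by
  have h1 : LocCoh.IsPowerTorsion J (LinearMap.ker f) := FibDepthLib.isPowerTorsion_of_killed_off fun x q hq => by
    obtain ⟨a, ha, hax⟩ := (hk q hq).1 x.1 x.2
    exact ⟨a, ha, Subtype.ext hax⟩
  have h2 : LocCoh.IsPowerTorsion J (Y ⧸ LinearMap.range f) := FibDepthLib.isPowerTorsion_of_killed_off fun z q hq => by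
    obtain ⟨z, rfl⟩ := Submodule.Quotient.mk_surjective _ z
    obtain ⟨a, ha, x, hx⟩ := (hk q hq).2 z
    exact ⟨a, ha, by rw [← Submodule.Quotient.mk_smul, Submodule.Quotient.mk_eq_zero]; exact ⟨x, hx.symm⟩⟩
  have hR : Subsingleton (LocCoh.H J 2 (X ⧸ LinearMap.ker f)) :=
    FibDepthLib.subsingleton_H_of_linearEquiv 2 f.quotKerEquivRange.symm
      (LocCohLib.subsingleton_left J (LocCohLib.subSeq_shortExact Y (LinearMap.range f)) 1
        (LocCohLib.subsingleton_of_torsion (ModuleCat.of B (Y ⧸ LinearMap.range f)) h2 0) hY)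
  exact LocCohLib.subsingleton_mid J (LocCohLib.subSeq_shortExact X (LinearMap.ker f)) 2
    (LocCohLib.subsingleton_of_torsion (ModuleCat.of B (LinearMap.ker f)) h1 1) hR

variable {A : Type u} [CommRing A] [IsNoetherianRing A] {Y : Scheme.{u}} [Y.Over (Spec (CommRingCat.of A))]
  [IsProper (Y ↘ Spec (CommRingCat.of A))]

local notation3 "S₀" => Spec (CommRingCat.of A)

/-- A module whose fibre has a double dual of depth three along the bad set is relatively `(S₂)`, and it is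
invertible if that double dual is. -/
theorem relSkAt_of_fibre_depth_three (hS : RelCanon.IsSkMor (Y ↘ S₀) 2) (U : Y.Opens) {G : Y.Modules} (hG : Coh.IsCoh G)
    (hGinv : ∀ v : Y, v ∈ U → RelCanon.InvertibleAt G v) (t : (Spec (CommRingCat.of A)))
    (w : (Y ↘ S₀).fiber t)
    (hdim : ∀ v : Y, (Y ↘ S₀) v = (Y ↘ S₀) ((Y ↘ S₀).fiberι t w) → v ⤳ (Y ↘ S₀).fiberι t w → v ∉ U →
      (2 : WithBot ℕ∞) ≤ ringKrullDim (((Y ↘ S₀).fiber ((Y ↘ S₀) v)).presheaf.stalk ((Y ↘ S₀).asFiber v)))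
    (hG2 : 2 ≤ LocCoh.idealDepth (idealOff U ((Y ↘ S₀).fiberι t w)) (G.presheaf.stalk ((Y ↘ S₀).fiberι t w)))
    (hDD : (3 : ℕ∞) ≤ LocCoh.idealDepth (idealOff (((Y ↘ S₀).fiberι t) ⁻¹ᵁ U) w)
      ((RefHull.ddual ((Scheme.Modules.pullback ((Y ↘ S₀).fiberι t)).obj G)).presheaf.stalk w)) :
    RelCanon.RelSkAt (Y ↘ S₀) 2 G ((Y ↘ S₀).fiberι t w) ∧
      (RelCanon.InvertibleAt (RefHull.ddual ((Scheme.Modules.pullback ((Y ↘ S₀).fiberι t)).obj G)) w →
        RelCanon.InvertibleAt G ((Y ↘ S₀).fiberι t w)) := by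
  let f₀ := Y ↘ S₀
  haveI : IsNoetherianRing (CommRingCat.of A) := inferInstanceAs (IsNoetherianRing A)
  haveI : IsLocallyNoetherian Y := LocallyOfFiniteType.isLocallyNoetherian f₀
  haveI := hS.1
  haveI := hS.2.1
  haveI : LocallyOfFiniteType (f₀.fiberToSpecResidueField t) := MorphismProperty.pullback_snd _ _ hS.2.1
  haveI : IsLocallyNoetherian (f₀.fiber t) := LocallyOfFiniteType.isLocallyNoetherian (f₀.fiberToSpecResidueField t)
  haveI := hG.1
  let ι₀ := f₀.fiberι t
  let y := ι₀ w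
  let R := (Spec (CommRingCat.of A)).presheaf.stalk (f₀ y)
  let B := Y.presheaf.stalk y
  let S := (f₀.fiber t).presheaf.stalk w
  let F := G.presheaf.stalk y
  let J := idealOff U y
  let Q := (Scheme.Modules.pullback ι₀).obj G
  have hQ : Coh.IsCoh Q := PullbackMod.isCoh_pullback ι₀ _ hG
  let N := Q.presheaf.stalk w
  letI : Algebra R B := (f₀.stalkMap y).hom.toAlgebra
  haveI : Module.Flat R B := Flat.stalkMap f₀ y
  haveI : IsLocalHom (algebraMap R B) := inferInstanceAs (IsLocalHom (f₀.stalkMap y).hom)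
  letI : Module R F := FlatMod.moduleStalkOver f₀ G y
  haveI : IsScalarTower R B F := .of_algebraMap_smul fun _ _ => rfl
  haveI : Module.Finite B F := PullbackMod.finite_stalk_of_isFT hG.2 y
  letI : Algebra B S := (ι₀.stalkMap w).hom.toAlgebra
  haveI : Module.Finite S N := PullbackMod.finite_stalk_of_isFT hQ.2 w
  letI : Module B N := Module.compHom N (ι₀.stalkMap w).hom
  haveI : IsScalarTower B S N := .of_algebraMap_smul fun _ _ => rfl
  have hbc : IsBaseChange S (PullbackMod.pullStalkL ι₀ G w) := PullbackMod.isBaseChange_pullStalkL ι₀ G w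
  have hSsurj : Function.Surjective (algebraMap B S) := FlatLocus.fiberι_stalkMap_surjective f₀ t w
  have hSker : RingHom.ker (algebraMap B S) = EGA4.mB R B := FlatLocus.ker_fiberι_stalkMap f₀ t w
  haveI : Module.Finite B S := Module.Finite.of_surjective (Algebra.linearMap B S) hSsurj
  have hB0 : 2 ≤ LocCoh.idealDepth J (EGA4.FibMod R B B) := two_le_idealDepth_fibMod_self_near hS U y hdim
  have hB2 : 2 ≤ LocCoh.idealDepth J B := two_le_idealDepth_of_fibre_ideal (R := R) J hB0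
  have hS2 : 2 ≤ LocCoh.idealDepth (J.map (algebraMap B S)) S := by
    rw [idealDepth_map_of_surjective hSsurj]
    exact hB0.trans_eq (CAlgBasics.idealDepth_congr
      ((Submodule.quotEquivOfEq _ _ (show (EGA4.mB R B • ⊤ : Submodule B B) = LinearMap.ker (Algebra.linearMap B S) by
        rw [smul_eq_mul, Ideal.mul_top]; exact hSker.symm)).trans
          ((Algebra.linearMap B S).quotKerEquivOfSurjective hSsurj)))
  have hFU : ∀ q : PrimeSpectrum B, ¬ J ≤ q.asIdeal →
      Module.Free (Localization.AtPrime q.asIdeal) (LocalizedModule q.asIdeal.primeCompl F) :=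
    free_localization_stalk U y hGinv
  haveI := Module.finitePresentation_of_finite B F
  haveI : Module.Finite B (Module.Dual B F) := inferInstance
  haveI := Module.finitePresentation_of_finite B (Module.Dual B F)
  haveI : Module.Finite B (Module.Dual B (Module.Dual B F)) := inferInstance
  haveI : Module.IsReflexive B F := ⟨FibDepthLib.bijective_of_isoOff (FibDepthLib.isoOff_eval F hFU) hG2
    (le_trans one_le_two (FibDepthLib.two_le_idealDepth_dual hB2 _))⟩
  have hNU : ∀ P : PrimeSpectrum S, ¬ J.map (algebraMap B S) ≤ P.asIdeal →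
      Module.Free (Localization.AtPrime P.asIdeal) (LocalizedModule P.asIdeal.primeCompl N) := by
    intro P hP
    have hP' : ¬ J ≤ (PrimeSpectrum.comap (algebraMap B S) P).asIdeal := fun h => hP (Ideal.map_le_iff_le_comap.mpr h)
    have h : P ∈ Module.freeLocus S (S ⊗[B] F) := Module.comap_freeLocus_le (R := B) (M := F) (A := S)
      (show P ∈ PrimeSpectrum.comap (algebraMap B S) ⁻¹' Module.freeLocus B F from hFU _ hP')
    rwa [Module.freeLocus_congr hbc.equiv] at h
  haveI := Module.finitePresentation_of_finite S N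
  haveI : Module.Finite S (Module.Dual S N) := inferInstance
  haveI := Module.finitePresentation_of_finite S (Module.Dual S N)
  let D := Module.Dual S (Module.Dual S N)
  haveI : Module.Finite S D := inferInstance
  haveI : Module.Finite B D := Module.Finite.trans S D
  obtain ⟨eN⟩ := exists_stalk_ddual_equiv hQ w
  have hD3 : (3 : ℕ∞) ≤ LocCoh.idealDepth J D := by
    rw [← idealDepth_map_of_surjective hSsurj]
    refine le_idealDepth_of_le (fun P hP => ?_) 3 (hDD.trans_eq (CAlgBasics.idealDepth_congr eN))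
    rw [idealOff_le_iff]
    have hP' : J ≤ (PrimeSpectrum.comap (algebraMap B S) P).asIdeal := Ideal.map_le_iff_le_comap.1 hP
    rw [idealOff_le_iff] at hP'
    intro hv
    apply hP'
    have hsq : Y.fromSpecStalk y (Spec.map (ι₀.stalkMap w) P) = ι₀ ((f₀.fiber t).fromSpecStalk w P) := by
      rw [← Scheme.Hom.comp_apply, ← Scheme.Hom.comp_apply, Scheme.SpecMap_stalkMap_fromSpecStalk]
    exact hsq ▸ hv
  obtain ⟨E0⟩ := FibreDepth.exists_quot_equiv hSsurj _ hbc
  let E1 : N ≃ₗ[B] EGA4.FibMod R B F := E0.trans (Submodule.quotEquivOfEq _ _ (by rw [hSker]))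
  have hH2 : Subsingleton (LocCoh.H J 2 (EGA4.FibMod R B F)) := by
    refine subsingleton_H_two_of_killed J (((Module.Dual.eval S N).restrictScalars B).comp E1.symm.toLinearMap)
      (fun q hq => ?_) ((FibDepthLib.natCast_le_idealDepth_iff_H (M := D) (J := J) 3).1 hD3 2 (by norm_num))
    by_cases hqS : RingHom.ker (algebraMap B S) ≤ q.asIdeal
    · let q' : PrimeSpectrum S := ⟨q.asIdeal.map (algebraMap B S), Ideal.map_isPrime_of_surjective hSsurj hqS⟩
      have hcomap : q'.asIdeal.comap (algebraMap B S) = q.asIdeal := by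
        show (q.asIdeal.map (algebraMap B S)).comap (algebraMap B S) = q.asIdeal
        rw [Ideal.comap_map_of_surjective _ hSsurj]
        exact sup_eq_left.2 hqS
      have hq' : ¬ J.map (algebraMap B S) ≤ q'.asIdeal := fun h => hq (hcomap ▸ Ideal.map_le_iff_le_comap.1 h)
      obtain ⟨c, hc, χ, hχ1, hχ2⟩ := FibDepthLib.isoOff_eval (J := J.map (algebraMap B S)) N hNU q' hq'
      obtain ⟨a, rfl⟩ := hSsurj c
      have ha : a ∉ q.asIdeal := fun h => hc (Ideal.mem_map_of_mem _ h)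
      refine ⟨fun x hx => ⟨a, ha, E1.symm.injective ?_⟩, fun d => ⟨a, ha, E1 (χ d), ?_⟩⟩
      · have h := LinearMap.congr_fun hχ2 (E1.symm x)
        simp only [LinearMap.coe_comp, Function.comp_apply, LinearMap.smul_apply, LinearMap.id_apply,
          algebraMap_smul] at h
        rw [map_zero, map_smul, ← h, show Module.Dual.eval S N (E1.symm x) = 0 from hx, map_zero]
      · have h := LinearMap.congr_fun hχ1 d
        simp only [LinearMap.coe_comp, Function.comp_apply, LinearMap.smul_apply, LinearMap.id_apply,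
          algebraMap_smul] at h
        show a • d = Module.Dual.eval S N (E1.symm (E1 (χ d)))
        rw [LinearEquiv.symm_apply_apply]
        exact h.symm
    · obtain ⟨a, ha, haq⟩ := Set.not_subset.1 hqS
      refine ⟨fun x _ => ⟨a, haq, E1.symm.injective ?_⟩, fun d => ⟨a, haq, 0, ?_⟩⟩
      · rw [map_zero, map_smul, ← algebraMap_smul S a (E1.symm x), RingHom.mem_ker.1 ha, zero_smul]
      · rw [map_zero, ← algebraMap_smul S a d, RingHom.mem_ker.1 ha, zero_smul]
  obtain ⟨nn, mm, g, h, hg, hgh, hGU⟩ := S18709.result B J F hFU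
  let G0 := (Fin mm → B) ⧸ LinearMap.range h
  let v : (Fin mm → B) →ₗ[B] G0 := (LinearMap.range h).mkQ
  have hGflat : ∀ q : PrimeSpectrum B, ¬ J ≤ q.asIdeal → FlatCA.FlatAt R q.asIdeal G0 := fun q hq =>
    FibDepthLib.flatAt_of_flatAt_self q (FibDepthLib.flatAt_self_of_free q (hGU q hq))
  haveI : Module.Flat R (Fin nn → B) := Module.Flat.trans R B _
  haveI : Module.Flat R (Fin mm → B) := Module.Flat.trans R B _
  have hfree : ∀ l : ℕ, 2 ≤ LocCoh.idealDepth J (EGA4.FibMod R B (Fin l → B)) := by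
    intro l
    let K := EGA4.mB R B
    let e : ((Fin l → B) ⧸ (K • ⊤ : Submodule B (Fin l → B))) ≃ₗ[B] (Fin l → B ⧸ K) :=
      (TensorProduct.quotTensorEquivQuotSMul (Fin l → B) K).symm.trans
        ((TensorProduct.piScalarRight B B (B ⧸ K) (Fin l)).restrictScalars B)
    rw [CAlgBasics.idealDepth_congr e, ← idealDepth_map_of_surjective (R := B ⧸ K) Ideal.Quotient.mk_surjective]
    refine FibDepthLib.le_idealDepth_of_flat (R := B ⧸ K) 2 ?_
    rw [idealDepth_map_of_surjective (R := B ⧸ K) Ideal.Quotient.mk_surjective,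
      ← CAlgBasics.idealDepth_congr (Submodule.quotEquivOfEq _ _ (show (K • ⊤ : Submodule B B) = K by
        rw [smul_eq_mul, Ideal.mul_top]))]
    exact hB0
  obtain ⟨hfl, -, hdep⟩ := S18726.result R B J F (Fin nn → B) (Fin mm → B) G0 g h v hg hgh
    (fun _ => Submodule.Quotient.mk_eq_zero _) (Submodule.mkQ_surjective _) hGflat (hfree nn)
    (le_trans one_le_two (hfree mm)) hH2
  refine ⟨relSkAt_of_flat_depth hS U hG hGinv y hfl hdep, fun h0 => ?_⟩
  obtain ⟨lN⟩ := exists_stalk_equiv_of_invertibleAt h0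
  have hN2 : 2 ≤ LocCoh.idealDepth (J.map (algebraMap B S)) N := by
    rw [idealDepth_map_of_surjective hSsurj]
    exact hdep.trans_eq (CAlgBasics.idealDepth_congr E1.symm)
  let eNS : N ≃ₗ[S] S := (LinearEquiv.ofBijective _
    (FibDepthLib.bijective_of_isoOff (FibDepthLib.isoOff_eval N hNU) hN2
      (le_trans one_le_two (FibDepthLib.two_le_idealDepth_dual hS2 _)))).trans (eN.symm.trans lN.symm)
  exact invertibleAt_of_fibre f₀ hG t w hfl (invertibleAt_of_stalk_equiv hQ eNS.symm)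

/-- The previous theorem at a point of the total space. -/
theorem relSkAt_of_fibre_depth_three' (hS : RelCanon.IsSkMor (Y ↘ S₀) 2) (U : Y.Opens) {G : Y.Modules} (hG : Coh.IsCoh G)
    (hGinv : ∀ v : Y, v ∈ U → RelCanon.InvertibleAt G v) (y : Y)
    (hdim : ∀ v : Y, (Y ↘ S₀) v = (Y ↘ S₀) y → v ⤳ y → v ∉ U →
      (2 : WithBot ℕ∞) ≤ ringKrullDim (((Y ↘ S₀).fiber ((Y ↘ S₀) v)).presheaf.stalk ((Y ↘ S₀).asFiber v)))
    (hG2 : 2 ≤ LocCoh.idealDepth (idealOff U y) (G.presheaf.stalk y))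
    (hDD : (3 : ℕ∞) ≤ LocCoh.idealDepth (idealOff (((Y ↘ S₀).fiberι ((Y ↘ S₀) y)) ⁻¹ᵁ U) ((Y ↘ S₀).asFiber y))
      ((RefHull.ddual ((Scheme.Modules.pullback ((Y ↘ S₀).fiberι ((Y ↘ S₀) y))).obj G)).presheaf.stalk
        ((Y ↘ S₀).asFiber y))) :
    RelCanon.RelSkAt (Y ↘ S₀) 2 G y ∧
      (RelCanon.InvertibleAt (RefHull.ddual ((Scheme.Modules.pullback ((Y ↘ S₀).fiberι ((Y ↘ S₀) y))).obj G))
        ((Y ↘ S₀).asFiber y) → RelCanon.InvertibleAt G y) := by
  have gen : ∀ (t : (Spec (CommRingCat.of A))) (w : (Y ↘ S₀).fiber t) (y' : Y), (Y ↘ S₀).fiberι t w = y' →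
      (∀ v : Y, (Y ↘ S₀) v = (Y ↘ S₀) y' → v ⤳ y' → v ∉ U →
        (2 : WithBot ℕ∞) ≤ ringKrullDim (((Y ↘ S₀).fiber ((Y ↘ S₀) v)).presheaf.stalk ((Y ↘ S₀).asFiber v))) →
      2 ≤ LocCoh.idealDepth (idealOff U y') (G.presheaf.stalk y') →
      (3 : ℕ∞) ≤ LocCoh.idealDepth (idealOff (((Y ↘ S₀).fiberι t) ⁻¹ᵁ U) w)
        ((RefHull.ddual ((Scheme.Modules.pullback ((Y ↘ S₀).fiberι t)).obj G)).presheaf.stalk w) →
      RelCanon.RelSkAt (Y ↘ S₀) 2 G y' ∧
        (RelCanon.InvertibleAt (RefHull.ddual ((Scheme.Modules.pullback ((Y ↘ S₀).fiberι t)).obj G)) w →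
          RelCanon.InvertibleAt G y') := by
    rintro t w _ rfl h1 h2 h3
    exact relSkAt_of_fibre_depth_three hS U hG hGinv t w h1 h2 h3
  exact gen _ ((Y ↘ S₀).asFiber y) y ((Y ↘ S₀).fiberι_asFiber y) hdim hG2 hDD

/-- A reflexive power of the relative canonical module is relatively `(S₂)` where its fibre is `(S₃)` and the
fibre is Gorenstein in codimension two; it is invertible if the power on the fibre is. -/
theorem relSkAt_refPowZ_of_fibre_skAt_three (d : ℕ) (hS : RelCanon.IsSkMor (Y ↘ S₀) 2) (hd : Cyc.HasRelDim (Y ↘ S₀) d)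
    (ω : Y.Modules) (hω : RelCanon.IsDualizingSheaf A Y d ω) (U : Y.Opens)
    (hU : (U : Set Y) ⊆ RelCanon.gorLocus (Y ↘ S₀))
    (hG : ∀ v : Y, v ∉ U →
      (2 : WithBot ℕ∞) ≤ ringKrullDim (((Y ↘ S₀).fiber ((Y ↘ S₀) v)).presheaf.stalk ((Y ↘ S₀).asFiber v)))
    (y : Y) (h2 : ∀ v : Y, (Y ↘ S₀) v = (Y ↘ S₀) y → v ⤳ y → v ∉ U →
      (3 : WithBot ℕ∞) ≤ ringKrullDim (((Y ↘ S₀).fiber ((Y ↘ S₀) v)).presheaf.stalk ((Y ↘ S₀).asFiber v)))
    (ωy : ((Y ↘ S₀).fiber ((Y ↘ S₀) y)).Modules)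
    (hωy : @RelCanon.IsDualizingSheaf ((Spec (CommRingCat.of A)).residueField ((Y ↘ S₀) y)) _
      ((Y ↘ S₀).fiber ((Y ↘ S₀) y)) ⟨(Y ↘ S₀).fiberToSpecResidueField ((Y ↘ S₀) y)⟩ d ωy)
    (m : ℤ) (h3 : RelCanon.SkAt 3 (RelCanon.refPowZ ωy m) ((Y ↘ S₀).asFiber y)) :
    RelCanon.RelSkAt (Y ↘ S₀) 2 (RelCanon.refPowZ ω m) y ∧
      (RelCanon.InvertibleAt (RelCanon.refPowZ ωy m) ((Y ↘ S₀).asFiber y) →
        RelCanon.InvertibleAt (RelCanon.refPowZ ω m) y) := by
  let f₀ := Y ↘ S₀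
  haveI : IsNoetherianRing (CommRingCat.of A) := inferInstanceAs (IsNoetherianRing A)
  haveI : IsLocallyNoetherian Y := LocallyOfFiniteType.isLocallyNoetherian f₀
  let t := f₀ y
  let k := (Spec (CommRingCat.of A)).residueField t
  let Yt := f₀.fiber t
  letI : Yt.Over (Spec (CommRingCat.of k)) := ⟨f₀.fiberToSpecResidueField t⟩
  haveI : IsNoetherianRing (CommRingCat.of k) := inferInstanceAs (IsNoetherianRing k)
  obtain ⟨φ, hp⟩ := exists_fibre_hom f₀ t
  haveI : IsProper (Yt ↘ Spec (CommRingCat.of k)) := MorphismProperty.of_isPullback (P := @IsProper) hp ‹_›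
  haveI : IsLocallyNoetherian Yt := LocallyOfFiniteType.isLocallyNoetherian (Yt ↘ Spec (CommRingCat.of k))
  obtain ⟨hS', hd'⟩ := isSkMor_baseChange hp 2 d hS hd
  let Ut := (f₀.fiberι t) ⁻¹ᵁ U
  let w := f₀.asFiber y
  obtain ⟨-, hωtcoh, hpowt⟩ := refPowZ_restrict_gor (A := k) (Y := Yt) d hS' hd' ωy hωy Ut
    (fun v hv => preimage_gor_subset hp rfl (hU hv))
  obtain ⟨-, hωcoh, hpow⟩ := refPowZ_restrict_gor d hS hd ω hω U hU
  obtain ⟨H, hH, hGH⟩ := exists_eq_ddual hωcoh m
  have hGcoh : Coh.IsCoh (RelCanon.refPowZ ω m) := by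
    rw [hGH]; exact RefOne.isCoh_dual (RefOne.isCoh_dual hH)
  obtain ⟨T, hT, hPT⟩ := exists_eq_ddual hωtcoh m
  have hPcoh : Coh.IsCoh (RelCanon.refPowZ ωy m) := by
    rw [hPT]; exact RefOne.isCoh_dual (RefOne.isCoh_dual hT)
  have hdim : ∀ v : Y, f₀ v = f₀ y → v ⤳ y → v ∉ U →
      (2 : WithBot ℕ∞) ≤ ringKrullDim ((f₀.fiber (f₀ v)).presheaf.stalk (f₀.asFiber v)) := fun v _ _ hv => hG v hv
  have hG2 : 2 ≤ LocCoh.idealDepth (idealOff U y) ((RelCanon.refPowZ ω m).presheaf.stalk y) := by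
    rw [hGH]; exact two_le_idealDepth_ddual U hH y (two_le_idealDepth_stalk_near hS U y hdim)
  have hdim3 : ∀ v : Yt, v ⤳ w → v ∉ Ut → (3 : WithBot ℕ∞) ≤ ringKrullDim (Yt.presheaf.stalk v) := by
    have h := forall_fiber f₀ (P := fun s z => s = t → f₀.fiberι s z ⤳ y → f₀.fiberι s z ∉ U →
      (3 : WithBot ℕ∞) ≤ ringKrullDim ((f₀.fiber s).presheaf.stalk z)) (fun x hx hxy hxo => by
        rw [f₀.fiberι_asFiber] at hxy hxo
        exact h2 x hx hxy hxo) t
    exact fun v hvw hv => h v rfl ((hvw.map (f₀.fiberι t).continuous).trans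
      (specializes_of_eq (f₀.fiberι_asFiber y))) hv
  have hP3 := le_idealDepth_of_skAt_near hPcoh Ut w 3 (by norm_num) h3 (fun v _ hv => (hpowt m).2.2 v hv) hdim3
  obtain ⟨e⟩ := (refPowZ_baseChange d hS hd ω hω U hU hG φ (f₀.fiberι t) hp ωy hωy m).2.1
  let ε := ((DCohLib.stkF w).mapIso e).toLinearEquiv
  obtain ⟨hrel, hinv⟩ := relSkAt_of_fibre_depth_three' hS U hGcoh
    (fun v hv => invertibleAt_of_restrict U (hpow m).2.1 hv) y hdim hG2
    (hP3.trans_eq (CAlgBasics.idealDepth_congr ε.symm))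
  exact ⟨hrel, fun h0 => hinv (invertibleAt_of_iso e.symm h0)⟩

end Groth.Agent.FibreDualLib
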