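import Groth.Agent.FibreDualLib.CMField
import Groth.Agent.FibreDualLib.DepthThree
import Groth.Agent.GenBCLib.Helpers
import Groth.Agent.CurveLib.TensorDeg

/-!
# The Cohen–Macaulay criterion for the relative canonical sheaf along a fibre
-/

set_option autoImplicit false
set_option linter.style.haveILetI false
set_option linter.unusedSectionVars false
set_option backward.isDefEq.respectTransparency false
set_option backward.isDefEq.respectTransparency.types false
set_option maxHeartbeats 1600000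

universe u

open CategoryTheory CategoryTheory.Limits AlgebraicGeometry IsLocalRing TopologicalSpace
open Groth.Agent.PullbackMod Groth.Agent.ModTensor Groth.Agent.DCohLib
open scoped TensorProduct

noncomputable section

namespace Groth.Agent.FibreDualLib

section General

variable {X : Scheme.{u}}

/-- A morphism bijective on the stalks over an open set restricts to an isomorphism. -/
theorem isIso_restrict_of_bijective (U : X.Opens) {F G : X.Modules} (φ : F ⟶ G)
    (h : ∀ x ∈ U, Function.Bijective (PullbackMod.stalkLin φ x)) :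
    IsIso ((Scheme.Modules.restrictFunctor U.ι).map φ) := by
  refine (PullbackMod.isIso_iff_stalk _).2 fun z => ?_
  have nat := (Scheme.Modules.restrictStalkNatIso U.ι z).hom.naturality φ
  let a := ((Scheme.Modules.restrictStalkNatIso U.ι z).app F).addCommGroupIsoToAddEquiv
  let b := ((Scheme.Modules.restrictStalkNatIso U.ι z).app G).addCommGroupIsoToAddEquiv
  have hc : ∀ v, b (PullbackMod.stalkLin ((Scheme.Modules.restrictFunctor U.ι).map φ) z v) =
      PullbackMod.stalkLin φ (U.ι z) (a v) := fun v => ConcreteCategory.congr_hom nat v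
  have : ⇑(PullbackMod.stalkLin ((Scheme.Modules.restrictFunctor U.ι).map φ) z) =
      b.symm ∘ PullbackMod.stalkLin φ (U.ι z) ∘ a :=
    funext fun v => by rw [Function.comp_apply, Function.comp_apply, ← hc, b.symm_apply_apply]
  rw [this]
  exact b.symm.bijective.comp ((h _ z.2).comp a.bijective)

variable [IsLocallyNoetherian X]

/-- If two modules have isomorphic stalks with scalar endomorphisms then their sheaf of homomorphisms is invertible at
the point and evaluation is bijective there. -/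
theorem homSh_invertibleAt_of_stalk_equiv {L ω : X.Modules} (hL : Coh.IsCoh L) (hω : Coh.IsCoh ω) (y : X)
    (hE : Function.Bijective fun r : X.presheaf.stalk y =>
      r • (LinearMap.id : ω.presheaf.stalk y →ₗ[X.presheaf.stalk y] ω.presheaf.stalk y))
    (σ : L.presheaf.stalk y ≃ₗ[X.presheaf.stalk y] ω.presheaf.stalk y) :
    RelCanon.InvertibleAt (RefHull.homSh L ω) y ∧ Function.Bijective (PullbackMod.stalkLin (evMor L ω) y) := by
  let B := X.presheaf.stalk y
  have hM : Coh.IsCoh (RefHull.homSh L ω) := HomLib.isCoh_homSh hL hω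
  let l : B ≃ₗ[B] (L.presheaf.stalk y →ₗ[B] ω.presheaf.stalk y) :=
    LinearEquiv.ofBijective (LinearMap.toSpanSingleton B _ σ.toLinearMap) (bijective_smul_equiv hE σ)
  let l' : B ≃ₗ[B] (RefHull.homSh L ω).presheaf.stalk y := l ≪≫ₗ (RefOne.homStalk hL hω.1 y).symm
  refine ⟨invertibleAt_of_stalk_equiv hM l', ?_⟩
  obtain ⟨g, hg⟩ := (RefOne.evalStalk_bijective hL hω.1 y).2 σ.toLinearMap
  have hgb : Function.Bijective fun r : B => r • g := by
    refine (Function.Bijective.of_comp_iff' (RefOne.evalStalk_bijective hL hω.1 y) _).1 ?_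
    have : RefHull.evalStalk L ω y ∘ (fun r : B => r • g) = fun r => r • σ.toLinearMap :=
      funext fun r => by rw [Function.comp_apply, map_smul, hg]
    rw [this]
    exact bijective_smul_equiv hE σ
  have h2 : ⇑(PullbackMod.stalkLin (evMor L ω) y) ∘ (stalkTensor y L (RefHull.homSh L ω) ∘
      fun v => v ⊗ₜ[B] g) = σ := funext fun v => by
    refine (evMor_stalk L ω y v g).trans ?_
    rw [hg]; rfl
  refine (Function.Bijective.of_comp_iff _ ((stalkTensor y L (RefHull.homSh L ω)).bijective.comp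
    (bijective_tmul_gen hgb))).1 ?_
  rw [h2]
  exact σ.bijective

end General

variable {A : Type u} [CommRing A] [IsNoetherianRing A] {Y : Scheme.{u}} [Y.Over (Spec (CommRingCat.of A))]
  [IsProper (Y ↘ Spec (CommRingCat.of A))]

local notation3 "S₀" => Spec (CommRingCat.of A)

/-- The open set on which a deformation of the canonical sheaf of a fibre agrees with the relative canonical sheaf. -/
theorem exists_crit_open (d : ℕ) (hS : RelCanon.IsSkMor (Y ↘ S₀) 2) (hd : Cyc.HasRelDim (Y ↘ S₀) d) (ω : Y.Modules)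
    (hω : RelCanon.IsDualizingSheaf A Y d ω) (L : Y.Modules) (hL : Coh.IsCoh L)
    (hLf : FlatMod.IsFlatOver (Y ↘ S₀) L) (t : (Spec (CommRingCat.of A)))
    (h2 : RelCanon.IsDualizingSheafFib (Y ↘ S₀) d L t) :
    ∃ U : Y.Opens,
      (∀ v ∈ U, RelCanon.InvertibleAt (RefHull.homSh L ω) v ∧ Function.Bijective (PullbackMod.stalkLin (evMor L ω) v)) ∧
      (∀ v : Y, (Y ↘ S₀) v = t → v ∉ U →
        (3 : WithBot ℕ∞) ≤ ringKrullDim (((Y ↘ S₀).fiber ((Y ↘ S₀) v)).presheaf.stalk ((Y ↘ S₀).asFiber v))) ∧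
      ∀ (ωt : ((Y ↘ S₀).fiber t).Modules),
        @RelCanon.IsDualizingSheaf ((Spec (CommRingCat.of A)).residueField t) _
          ((Y ↘ S₀).fiber t) ⟨(Y ↘ S₀).fiberToSpecResidueField t⟩ d ωt →
        Nonempty (((Scheme.Modules.pullback ((Y ↘ S₀).fiberι t)).obj ω).restrict (((Y ↘ S₀).fiberι t) ⁻¹ᵁ U).ι ≅
          ωt.restrict (((Y ↘ S₀).fiberι t) ⁻¹ᵁ U).ι) := by
  let f := Y ↘ S₀
  haveI : IsNoetherianRing (CommRingCat.of A) := inferInstanceAs (IsNoetherianRing A)
  haveI : IsLocallyNoetherian Y := LocallyOfFiniteType.isLocallyNoetherian f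
  obtain ⟨hω', -, -⟩ := relCanonical_model d hS hd ω hω
  obtain ⟨V, hV, hVfl, hVres⟩ := cm_model d hS hd ω hω
  let M := RefHull.homSh L ω
  have hM : Coh.IsCoh M := HomLib.isCoh_homSh hL hω'
  have hT : Coh.IsCoh (tmod L M) := CurveLib.isCoh_tmod hL hM
  haveI := hT.1
  haveI := hω'.1
  let U1 : Y.Opens := ⟨{v | RelCanon.InvertibleAt M v}, isOpen_iff_forall_mem_open.2 fun v hv => by
    obtain ⟨W, hvW, hW⟩ := hv
    exact ⟨W, fun w hw => ⟨W, hw, hW⟩, W.2, hvW⟩⟩
  let U2 : Y.Opens := ⟨{v | Function.Bijective (PullbackMod.stalkLin (evMor L ω) v)},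
    PullbackMod.isOpen_stalk_bijective _ hT.2 ((QCohLib.isCoh_iff_isFP _).mp hω')⟩
  let U := U1 ⊓ U2 ⊓ V
  refine ⟨U, fun v hv => ⟨hv.1.1, hv.1.2⟩, fun v hv hvU => ?_, fun ωt hωt => ?_⟩
  · refine three_le_dim_fibre_of_not_cm f hS v fun hcm => hvU ?_
    obtain ⟨w, rfl⟩ : ∃ w : f.fiber t, f.fiberι t w = v := by
      subst hv; exact ⟨f.asFiber v, f.fiberι_asFiber v⟩
    obtain ⟨σ⟩ := (cm_stalk_facts d hS hd ω hω t w hcm).1 hL (hLf _) h2
    obtain ⟨a, b⟩ := homSh_invertibleAt_of_stalk_equiv hL hω' _ (scalar_end_relCanonical d hS hd ω hω _) σ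
    exact ⟨⟨a, b⟩, (hV _).2 hcm⟩
  · obtain ⟨i⟩ := hVres t ωt hωt
    have hle : (f.fiberι t) ⁻¹ᵁ U ≤ (f.fiberι t) ⁻¹ᵁ V := fun w hw => hw.2
    exact ⟨GenBCLib.restrictLEIso _ hle ≪≫ (Scheme.Modules.restrictFunctor _).mapIso i ≪≫
      (GenBCLib.restrictLEIso _ hle).symm⟩

/-- The restriction to the fibre of the sheaf of homomorphisms is trivial off the bad set. -/
theorem nonempty_pullback_homSh_restrict (d : ℕ) (hS : RelCanon.IsSkMor (Y ↘ S₀) 2) (hd : Cyc.HasRelDim (Y ↘ S₀) d)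
    (ω : Y.Modules) (L : Y.Modules) (t : (Spec (CommRingCat.of A)))
    (h2 : RelCanon.IsDualizingSheafFib (Y ↘ S₀) d L t) (U : Y.Opens)
    (hU : ∀ v ∈ U, RelCanon.InvertibleAt (RefHull.homSh L ω) v ∧ Function.Bijective (PullbackMod.stalkLin (evMor L ω) v))
    (hres : ∀ (ωt : ((Y ↘ S₀).fiber t).Modules),
        @RelCanon.IsDualizingSheaf ((Spec (CommRingCat.of A)).residueField t) _
          ((Y ↘ S₀).fiber t) ⟨(Y ↘ S₀).fiberToSpecResidueField t⟩ d ωt →
        Nonempty (((Scheme.Modules.pullback ((Y ↘ S₀).fiberι t)).obj ω).restrict (((Y ↘ S₀).fiberι t) ⁻¹ᵁ U).ι ≅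
          ωt.restrict (((Y ↘ S₀).fiberι t) ⁻¹ᵁ U).ι)) :
    Nonempty (((Scheme.Modules.pullback ((Y ↘ S₀).fiberι t)).obj (RefHull.homSh L ω)).restrict
        (((Y ↘ S₀).fiberι t) ⁻¹ᵁ U).ι ≅
      Coh.structureModule ((((Y ↘ S₀).fiberι t) ⁻¹ᵁ U : ((Y ↘ S₀).fiber t).Opens) : Scheme.{u})) := by
  let f := Y ↘ S₀
  haveI : IsNoetherianRing (CommRingCat.of A) := inferInstanceAs (IsNoetherianRing A)
  let κ := (Spec (CommRingCat.of A)).residueField t
  let Yt := f.fiber t
  letI : Yt.Over (Spec (CommRingCat.of κ)) := ⟨f.fiberToSpecResidueField t⟩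
  haveI : IsNoetherianRing (CommRingCat.of κ) := inferInstanceAs (IsNoetherianRing κ)
  obtain ⟨φ, hp⟩ := exists_fibre_hom f t
  haveI : IsProper (Yt ↘ Spec (CommRingCat.of κ)) := MorphismProperty.of_isPullback (P := @IsProper) hp ‹_›
  haveI : IsLocallyNoetherian Yt := LocallyOfFiniteType.isLocallyNoetherian (Yt ↘ Spec (CommRingCat.of κ))
  obtain ⟨hS', hd'⟩ := isSkMor_baseChange hp 2 d hS hd
  let ι₀ := f.fiberι t
  let M := RefHull.homSh L ω
  let K₀ := (Scheme.Modules.pullback ι₀).obj L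
  obtain ⟨hK, -, -⟩ := relCanonical_model (A := κ) (Y := Yt) d hS' hd' K₀ h2
  obtain ⟨i⟩ := hres K₀ h2
  let Ut := ι₀ ⁻¹ᵁ U
  haveI : IsLocallyNoetherian (Ut : Scheme.{u}) := isLocallyNoetherian_of_isOpenImmersion Ut.ι
  have hK' : Coh.IsCoh (K₀.restrict Ut.ι) := DCohMore.isCoh_restrict' hK Ut
  have hEnd : Nonempty (RefHull.homSh (K₀.restrict Ut.ι) (K₀.restrict Ut.ι) ≅ Coh.structureModule (Ut : Scheme.{u})) :=
    nonempty_homSh_self_iso _ hK' fun z => toEnd_bijective_restrict Ut K₀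
      (fun x _ => scalar_end_relCanonical (A := κ) (Y := Yt) d hS' hd' K₀ h2 x) z
  haveI : IsIso ((Scheme.Modules.restrictFunctor U.ι).map (evMor L ω)) :=
    isIso_restrict_of_bijective U _ fun x hx => (hU x hx).2
  let Q := (Scheme.Modules.pullback ι₀).obj M
  have hP : PicF.IsInvertible (Q.restrict Ut.ι) :=
    isInvertible_restrict_of_forall Ut fun v hv => invertibleAt_pullback ι₀ (hU _ hv).1
  refine nonempty_iso_of_pairing hK' hK' hK'.1 hEnd hEnd hP ?_
  exact (AmpleLib.restrictTensor Ut.ι K₀ Q).symm ≪≫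
    (Scheme.Modules.restrictFunctor Ut.ι).mapIso (AmpleLib.pullTensor ι₀ L M).symm ≪≫
    pullbackRestrict ι₀ U (CohB1.tensorMod L M) ≪≫
    (Scheme.Modules.pullback (ι₀ ∣_ U)).mapIso (asIso ((Scheme.Modules.restrictFunctor U.ι).map (evMor L ω))) ≪≫
    (pullbackRestrict ι₀ U ω).symm ≪≫ i

/-- Triviality of the power of the sheaf of homomorphisms near a point where the powers are trivial. -/
theorem invertibleAt_ddual_pow (d : ℕ) (hS : RelCanon.IsSkMor (Y ↘ S₀) 2) (hd : Cyc.HasRelDim (Y ↘ S₀) d)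
    (ω : Y.Modules) (hω : RelCanon.IsDualizingSheaf A Y d ω) (L : Y.Modules) (hL : Coh.IsCoh L) (U : Y.Opens)
    (hU : ∀ v ∈ U, RelCanon.InvertibleAt (RefHull.homSh L ω) v ∧ Function.Bijective (PullbackMod.stalkLin (evMor L ω) v))
    (y : Y) (hdim : ∀ v : Y, (Y ↘ S₀) v = (Y ↘ S₀) y → v ⤳ y → v ∉ U →
      (2 : WithBot ℕ∞) ≤ ringKrullDim (((Y ↘ S₀).fiber ((Y ↘ S₀) v)).presheaf.stalk ((Y ↘ S₀).asFiber v)))
    (r : ℕ) (hLr : RelCanon.InvertibleAt (RelCanon.refPowZ L r) y)
    (hωr : RelCanon.InvertibleAt (RelCanon.refPowZ ω r) y) :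
    RelCanon.InvertibleAt (RefHull.ddual (CohB1.tensorPow (RefHull.homSh L ω) r)) y := by
  let f := Y ↘ S₀
  haveI : IsNoetherianRing (CommRingCat.of A) := inferInstanceAs (IsNoetherianRing A)
  haveI : IsLocallyNoetherian Y := LocallyOfFiniteType.isLocallyNoetherian f
  obtain ⟨hω', -, -⟩ := relCanonical_model d hS hd ω hω
  let M := RefHull.homSh L ω
  have hM : Coh.IsCoh M := HomLib.isCoh_homSh hL hω'
  obtain ⟨W1, hy1, ⟨i1⟩⟩ := hLr
  obtain ⟨W2, hy2, ⟨i2⟩⟩ := hωr
  let U' := U ⊓ (W1 ⊓ W2)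
  haveI : IsLocallyNoetherian (U' : Scheme.{u}) := isLocallyNoetherian_of_isOpenImmersion U'.ι
  have hdim' : ∀ v : Y, f v = f y → v ⤳ y → v ∉ U' →
      (2 : WithBot ℕ∞) ≤ ringKrullDim ((f.fiber (f v)).presheaf.stalk (f.asFiber v)) := fun v h1 h2 hv =>
    hdim v h1 h2 fun hvU => hv ⟨hvU, h2.mem_open (W1 ⊓ W2).2 ⟨hy1, hy2⟩⟩
  have hDD : ∀ {G : Y.Modules}, Coh.IsCoh G → ∀ {W : Y.Opens}, U' ≤ W →
      ((RelCanon.refPowZ G r).restrict W.ι ≅ Coh.structureModule (W : Scheme.{u})) →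
      Nonempty (RefHull.dual (CohB1.tensorPow (G.restrict U'.ι) r) ≅ Coh.structureModule (U' : Scheme.{u})) := by
    intro G hG W hW i
    have hT := isCoh_tensorPow hG r
    haveI := hT.1
    haveI := (RefOne.isCoh_dual hT).1
    haveI := (DCohMore.isCoh_restrict' hT U').1
    haveI := (DCohMore.isCoh_restrict' (RefOne.isCoh_dual hT) U').1
    haveI := (RefOne.isCoh_dual (DCohMore.isCoh_restrict' hT U')).1
    have hX := isCoh_tensorPow (DCohMore.isCoh_restrict' hG U') r
    haveI := hX.1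
    haveI := (RefOne.isCoh_dual hX).1
    refine nonempty_dual_iso_of_ddual hX ?_
    obtain ⟨d1⟩ := nonempty_dual_restrict U' (RefHull.dual (CohB1.tensorPow G r))
    obtain ⟨d2⟩ := nonempty_dual_restrict U' (CohB1.tensorPow G r)
    obtain ⟨d3⟩ := nonempty_dual_congr d2
    obtain ⟨d4⟩ := nonempty_dual_congr (tensorPowRestrict U' G r)
    obtain ⟨d5⟩ := nonempty_dual_congr d4
    let a : (RefHull.ddual (CohB1.tensorPow G r)).restrict U'.ι ≅ Coh.structureModule (U' : Scheme.{u}) :=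
      GenBCLib.restrictLEIso _ hW ≪≫ (Scheme.Modules.restrictFunctor (Y.homOfLE hW)).mapIso i ≪≫
        DCohLib.restrictUnit (Y.homOfLE hW)
    exact ⟨(d1 ≪≫ d3 ≪≫ d5).symm ≪≫ a⟩
  obtain ⟨eL⟩ := hDD hL (show U' ≤ W1 from fun v hv => hv.2.1) i1
  obtain ⟨eω⟩ := hDD hω' (show U' ≤ W2 from fun v hv => hv.2.2) i2
  haveI : IsIso ((Scheme.Modules.restrictFunctor U'.ι).map (evMor L ω)) :=
    isIso_restrict_of_bijective U' _ fun x hx => (hU x hx.1).2
  have hT := isCoh_tensorPow hM r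
  have hP : PicF.IsInvertible (CohB1.tensorPow (M.restrict U'.ι) r) :=
    AmpleLib.isInvertible_tensorPow (isInvertible_restrict_of_forall U' fun v hv => (hU v hv.1).1) r
  obtain ⟨p⟩ := nonempty_iso_of_pairing (isCoh_tensorPow (DCohMore.isCoh_restrict' hL U') r)
    (isCoh_tensorPow (DCohMore.isCoh_restrict' hω' U') r) (inferInstance : Coh.IsQCoh (Coh.structureModule _))
    ⟨eL⟩ ⟨eω⟩ hP
    ((AmpleLib.powTensor _ _ r).symm ≪≫ AmpleLib.powCongr ((AmpleLib.restrictTensor U'.ι L M).symm ≪≫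
      asIso ((Scheme.Modules.restrictFunctor U'.ι).map (evMor L ω))) r)
  have hO := DevLib.isCoh_structureModule Y
  have hOi : PicF.IsInvertible ((Coh.structureModule Y).restrict U'.ι) :=
    ParaFLib.isInvertible_of_iso (DCohLib.restrictUnit U'.ι).symm ParaFLib.isInvertible_structureModule
  obtain ⟨a⟩ := nonempty_ddual_restrict U' hO hOi
  obtain ⟨b⟩ := nonempty_ddual_restrict U' hT (ParaFLib.isInvertible_of_iso (tensorPowRestrict U' M r).symm hP)
  refine invertibleAt_ddual_congr U' hO hT y (two_le_idealDepth_stalk_near hS U' y hdim')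
    (a ≪≫ DCohLib.restrictUnit U'.ι ≪≫ (tensorPowRestrict U' M r ≪≫ p).symm ≪≫ b.symm) ?_
  obtain ⟨c⟩ := nonempty_ddual_iso (ParaFLib.isInvertible_structureModule (X := Y))
  exact ParaFLib.isInvertible_of_iso c ParaFLib.isInvertible_structureModule y

end Groth.Agent.FibreDualLib
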