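import Groth.Agent.FibreDualLib.CMCrit

/-!
# The criterion for commutation of the relative canonical sheaf with restriction to a fibre
-/

set_option autoImplicit false
set_option linter.style.haveILetI false
set_option linter.unusedSectionVars false
set_option backward.isDefEq.respectTransparency false
set_option backward.isDefEq.respectTransparency.types false
set_option maxHeartbeats 1600000

universe u

open CategoryTheory CategoryTheory.Limits AlgebraicGeometry IsLocalRing TopologicalSpace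
open Groth.Agent.PullbackMod Groth.Agent.ModTensor Groth.Agent.DCohLib
open scoped TensorProduct

noncomputable section

namespace Groth.Agent.FibreDualLib

variable {A : Type u} [CommRing A] [IsNoetherianRing A] {Y : Scheme.{u}} [Y.Over (Spec (CommRingCat.of A))]
  [IsProper (Y ↘ Spec (CommRingCat.of A))]

local notation3 "S₀" => Spec (CommRingCat.of A)

/-- Depth along the preimage of a closed set passes from the fibre to a flat module. -/
theorem two_le_idealDepth_of_fibre_stalk {G : Y.Modules} (hG : Coh.IsCoh G) (U : Y.Opens)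
    (t : (Spec (CommRingCat.of A))) (w : (Y ↘ S₀).fiber t)
    (hfl : FlatMod.IsFlatOverAt (Y ↘ S₀) G ((Y ↘ S₀).fiberι t w))
    (h : 2 ≤ LocCoh.idealDepth (idealOff (((Y ↘ S₀).fiberι t) ⁻¹ᵁ U) w)
      (((Scheme.Modules.pullback ((Y ↘ S₀).fiberι t)).obj G).presheaf.stalk w)) :
    2 ≤ LocCoh.idealDepth (idealOff U ((Y ↘ S₀).fiberι t w)) (G.presheaf.stalk ((Y ↘ S₀).fiberι t w)) := by
  let f₀ := Y ↘ S₀
  haveI : IsNoetherianRing (CommRingCat.of A) := inferInstanceAs (IsNoetherianRing A)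
  haveI : IsLocallyNoetherian Y := LocallyOfFiniteType.isLocallyNoetherian f₀
  haveI : LocallyOfFiniteType (f₀.fiberToSpecResidueField t) :=
    MorphismProperty.pullback_snd _ _ (inferInstance : LocallyOfFiniteType f₀)
  haveI : IsLocallyNoetherian (f₀.fiber t) := LocallyOfFiniteType.isLocallyNoetherian (f₀.fiberToSpecResidueField t)
  let ι₀ := f₀.fiberι t
  let y := ι₀ w
  let R := (Spec (CommRingCat.of A)).presheaf.stalk (f₀ y)
  let B := Y.presheaf.stalk y
  let S := (f₀.fiber t).presheaf.stalk w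
  let F := G.presheaf.stalk y
  let J := idealOff U y
  let Q := (Scheme.Modules.pullback ι₀).obj G
  have hQ : Coh.IsCoh Q := PullbackMod.isCoh_pullback ι₀ _ hG
  haveI := hG.1
  haveI := hQ.1
  let N := Q.presheaf.stalk w
  letI : Algebra R B := (f₀.stalkMap y).hom.toAlgebra
  haveI : IsLocalHom (algebraMap R B) := inferInstanceAs (IsLocalHom (f₀.stalkMap y).hom)
  letI : Module R F := FlatMod.moduleStalkOver f₀ G y
  haveI : IsScalarTower R B F := .of_algebraMap_smul fun _ _ => rfl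
  haveI : Module.Finite B F := PullbackMod.finite_stalk_of_isFT hG.2 y
  haveI : Module.Flat R F := hfl
  letI : Algebra B S := (ι₀.stalkMap w).hom.toAlgebra
  haveI : Module.Finite S N := PullbackMod.finite_stalk_of_isFT hQ.2 w
  letI : Module B N := Module.compHom N (ι₀.stalkMap w).hom
  haveI : IsScalarTower B S N := .of_algebraMap_smul fun _ _ => rfl
  have hbc : IsBaseChange S (PullbackMod.pullStalkL ι₀ G w) := PullbackMod.isBaseChange_pullStalkL ι₀ G w
  have hSsurj : Function.Surjective (algebraMap B S) := FlatLocus.fiberι_stalkMap_surjective f₀ t w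
  have hSker : RingHom.ker (algebraMap B S) = EGA4.mB R B := FlatLocus.ker_fiberι_stalkMap f₀ t w
  obtain ⟨E0⟩ := FibreDepth.exists_quot_equiv hSsurj _ hbc
  refine two_le_idealDepth_of_fibre_ideal (R := R) J ?_
  rw [← CAlgBasics.idealDepth_congr (E0.trans (Submodule.quotEquivOfEq _ _ (by rw [hSker]))),
    ← idealDepth_map_of_surjective hSsurj]
  refine le_idealDepth_of_le (fun P hP => ?_) 2 h
  rw [idealOff_le_iff]
  have hP' : J ≤ (PrimeSpectrum.comap (algebraMap B S) P).asIdeal := Ideal.map_le_iff_le_comap.1 hP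
  rw [idealOff_le_iff] at hP'
  intro hv
  apply hP'
  have hsq : Y.fromSpecStalk y (Spec.map (ι₀.stalkMap w) P) = ι₀ ((f₀.fiber t).fromSpecStalk w P) := by
    rw [← Scheme.Hom.comp_apply, ← Scheme.Hom.comp_apply, Scheme.SpecMap_stalkMap_fromSpecStalk]
  exact hsq ▸ hv

/-- The deformation of the canonical sheaf agrees with the relative canonical sheaf along the fibre. -/
theorem crit_at_point (d : ℕ) (hS : RelCanon.IsSkMor (Y ↘ S₀) 2) (hd : Cyc.HasRelDim (Y ↘ S₀) d)
    (ω : Y.Modules) (hω : RelCanon.IsDualizingSheaf A Y d ω) (L : Y.Modules) (hL : Coh.IsCoh L)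
    (hLf : FlatMod.IsFlatOver (Y ↘ S₀) L) (t : (Spec (CommRingCat.of A)))
    (h2 : RelCanon.IsDualizingSheafFib (Y ↘ S₀) d L t)
    (U : Y.Opens)
    (hU : ∀ v ∈ U, RelCanon.InvertibleAt (RefHull.homSh L ω) v ∧ Function.Bijective (PullbackMod.stalkLin (evMor L ω) v))
    (hU3 : ∀ v : Y, (Y ↘ S₀) v = t → v ∉ U →
        (3 : WithBot ℕ∞) ≤ ringKrullDim (((Y ↘ S₀).fiber ((Y ↘ S₀) v)).presheaf.stalk ((Y ↘ S₀).asFiber v)))
    (hres : ∀ (ωt : ((Y ↘ S₀).fiber t).Modules),
        @RelCanon.IsDualizingSheaf ((Spec (CommRingCat.of A)).residueField t) _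
          ((Y ↘ S₀).fiber t) ⟨(Y ↘ S₀).fiberToSpecResidueField t⟩ d ωt →
        Nonempty (((Scheme.Modules.pullback ((Y ↘ S₀).fiberι t)).obj ω).restrict (((Y ↘ S₀).fiberι t) ⁻¹ᵁ U).ι ≅
          ωt.restrict (((Y ↘ S₀).fiberι t) ⁻¹ᵁ U).ι))
    (w : (Y ↘ S₀).fiber t)
    (h3 : RelCanon.SkAt 3 (Coh.structureModule ((Y ↘ S₀).fiber t)) w ∨
      ∃ r : ℕ, 0 < r ∧ (r : (Spec (CommRingCat.of A)).residueField t) ≠ 0 ∧
        RelCanon.InvertibleAt (RelCanon.refPowZ L r) ((Y ↘ S₀).fiberι t w) ∧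
        RelCanon.InvertibleAt (RelCanon.refPowZ ω r) ((Y ↘ S₀).fiberι t w)) :
    RelCanon.InvertibleAt (RefHull.homSh L ω) ((Y ↘ S₀).fiberι t w) ∧
      Function.Bijective (PullbackMod.stalkLin (evMor L ω) ((Y ↘ S₀).fiberι t w)) ∧
      Nonempty (L.presheaf.stalk ((Y ↘ S₀).fiberι t w) ≃ₗ[Y.presheaf.stalk ((Y ↘ S₀).fiberι t w)]
        ω.presheaf.stalk ((Y ↘ S₀).fiberι t w)) := by
  let f := Y ↘ S₀
  haveI : IsNoetherianRing (CommRingCat.of A) := inferInstanceAs (IsNoetherianRing A)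
  haveI : IsLocallyNoetherian Y := LocallyOfFiniteType.isLocallyNoetherian f
  let κ := (Spec (CommRingCat.of A)).residueField t
  let Yt := f.fiber t
  letI : Yt.Over (Spec (CommRingCat.of κ)) := ⟨f.fiberToSpecResidueField t⟩
  haveI : IsNoetherianRing (CommRingCat.of κ) := inferInstanceAs (IsNoetherianRing κ)
  obtain ⟨φ, hp⟩ := exists_fibre_hom f t
  haveI : IsProper (Yt ↘ Spec (CommRingCat.of κ)) := MorphismProperty.of_isPullback (P := @IsProper) hp ‹_›
  haveI : IsLocallyNoetherian Yt := LocallyOfFiniteType.isLocallyNoetherian (Yt ↘ Spec (CommRingCat.of κ))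
  obtain ⟨hS', hd'⟩ := isSkMor_baseChange hp 2 d hS hd
  let ι₀ := f.fiberι t
  let y := ι₀ w
  let B := Y.presheaf.stalk y
  let S := Yt.presheaf.stalk w
  let Ut := ι₀ ⁻¹ᵁ U
  have hy : f y = t := by
    have : y ∈ f ⁻¹' {t} := by rw [← f.range_fiberι t]; exact ⟨w, rfl⟩
    exact this
  obtain ⟨hω', -, -⟩ := relCanonical_model d hS hd ω hω
  let M := RefHull.homSh L ω
  have hM : Coh.IsCoh M := HomLib.isCoh_homSh hL hω'
  have h23 : ((2 : ℕ) : WithBot ℕ∞) ≤ ((3 : ℕ) : WithBot ℕ∞) := by norm_num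
  have hdim : ∀ v : Y, f v = f y → v ⤳ y → v ∉ U →
      (2 : WithBot ℕ∞) ≤ ringKrullDim ((f.fiber (f v)).presheaf.stalk (f.asFiber v)) := fun v hv _ hvU =>
    le_trans h23 (hU3 v (hv.trans hy) hvU)
  have hB2 : 2 ≤ LocCoh.idealDepth (idealOff U y) B := two_le_idealDepth_stalk_near hS U y hdim
  have hω2 : 2 ≤ LocCoh.idealDepth (idealOff U y) (ω.presheaf.stalk y) :=
    two_le_idealDepth_relCanonical d hS hd ω hω U y (le_dim_of_generization hS U y hdim)
  haveI := hL.1
  haveI := hω'.1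
  haveI := hM.1
  haveI : Module.Finite B (L.presheaf.stalk y) := PullbackMod.finite_stalk_of_isFT hL.2 y
  haveI : Module.Finite B (ω.presheaf.stalk y) := PullbackMod.finite_stalk_of_isFT hω'.2 y
  have hM2 : 2 ≤ LocCoh.idealDepth (idealOff U y) (M.presheaf.stalk y) := by
    rw [CAlgBasics.idealDepth_congr (RefOne.homStalk hL hω'.1 y)]
    exact two_le_idealDepth_hom hω2
  -- on the fibre
  have hdimt : ∀ v : Yt, v ∉ Ut → (3 : WithBot ℕ∞) ≤ ringKrullDim (Yt.presheaf.stalk v) := by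
    have h := forall_fiber f (P := fun s z => s = t → f.fiberι s z ∉ U →
      (3 : WithBot ℕ∞) ≤ ringKrullDim ((f.fiber s).presheaf.stalk z)) (fun x hx hxo => by
        rw [f.fiberι_asFiber] at hxo
        exact hU3 x hx hxo) t
    exact fun v hv => h v rfl hv
  have hO : ∀ v : Yt, RelCanon.SkAt 2 (Coh.structureModule Yt) v :=
    forall_fiber f (P := fun s z => RelCanon.SkAt 2 (Coh.structureModule (f.fiber s)) z) hS.2.2 t
  have hS2 : 2 ≤ LocCoh.idealDepth (idealOff Ut w) S :=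
    (two_le_idealDepth_of_skAt_near (DevLib.isCoh_structureModule Yt) Ut w (hO w)
      (fun v _ _ => (RefOne.oEquiv v).toEquiv.symm.nontrivial)
      (fun v _ hv => le_trans h23 (hdimt v hv))).trans_eq (CAlgBasics.idealDepth_congr (RefOne.oEquiv w).symm)
  have hO2 : 2 ≤ LocCoh.idealDepth (idealOff Ut w) ((Coh.structureModule Yt).presheaf.stalk w) :=
    hS2.trans_eq (CAlgBasics.idealDepth_congr (RefOne.oEquiv w))
  obtain ⟨q⟩ := nonempty_pullback_homSh_restrict d hS hd ω L t h2 U hU hres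
  let Q := (Scheme.Modules.pullback ι₀).obj M
  have hQ : Coh.IsCoh Q := PullbackMod.isCoh_pullback ι₀ _ hM
  have hDQ : Coh.IsCoh (RefHull.ddual Q) := RefOne.isCoh_dual (RefOne.isCoh_dual hQ)
  obtain ⟨q'⟩ := nonempty_ddual_restrict Ut hQ (ParaFLib.isInvertible_of_iso q.symm ParaFLib.isInvertible_structureModule)
  obtain ⟨eQ⟩ := stalk_iso_of_restrict Ut hDQ (DevLib.isCoh_structureModule Yt)
    (q' ≪≫ q ≪≫ (DCohLib.restrictUnit Ut.ι).symm) w (two_le_idealDepth_ddual Ut hQ w hS2) hO2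
  have hDinv : RelCanon.InvertibleAt (RefHull.ddual Q) w :=
    invertibleAt_of_stalk_equiv hDQ (RefOne.oEquiv w ≪≫ₗ eQ.symm)
  have hMinv : RelCanon.InvertibleAt M y := by
    rcases h3 with h3 | ⟨r, hr, hrt, hLr, hωr⟩
    · refine (relSkAt_of_fibre_depth_three hS U hM (fun v hv => (hU v hv).1) t w hdim hM2 ?_).2 hDinv
      exact (le_idealDepth_of_skAt_near (DevLib.isCoh_structureModule Yt) Ut w 3 (by norm_num) h3
        (fun v _ _ => (RefOne.oEquiv v).toEquiv.symm.nontrivial)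
        (fun v _ hv => hdimt v hv)).trans_eq (CAlgBasics.idealDepth_congr eQ.symm)
    · have hrk : (r : (Spec (CommRingCat.of A)).residueField (f y)) ≠ 0 := by
        have key : ∀ s, s = t → (r : (Spec (CommRingCat.of A)).residueField s) ≠ 0 := by rintro s rfl; exact hrt
        exact key _ hy
      exact invertibleAt_of_pow_fibre hS U hM (fun v hv => (hU v hv).1) t w hdim hM2 r hr hrk
        (invertibleAt_ddual_pow d hS hd ω hω L hL U hU y hdim r hLr hωr) hDinv
  -- evaluation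
  obtain ⟨lM⟩ := exists_stalk_equiv_of_invertibleAt hMinv
  have hg : Function.Bijective fun r : B => r • lM 1 := by
    have : (fun r : B => r • lM 1) = lM := funext fun r => by rw [← map_smul, smul_eq_mul, mul_one]
    rw [this]
    exact lM.bijective
  let eT : L.presheaf.stalk y ≃ₗ[B] (tmod L M).presheaf.stalk y :=
    (LinearEquiv.ofBijective ((TensorProduct.mk B (L.presheaf.stalk y) (M.presheaf.stalk y)).flip (lM 1))
      (bijective_tmul_gen hg)) ≪≫ₗ stalkTensor y L M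
  haveI : IsIso ((Scheme.Modules.restrictFunctor U.ι).map (evMor L ω)) :=
    isIso_restrict_of_bijective U _ fun x hx => (hU x hx).2
  have hL2 : 2 ≤ LocCoh.idealDepth (idealOff U y) (L.presheaf.stalk y) := by
    refine two_le_idealDepth_of_fibre_stalk hL U t w (hLf y) ?_
    let K₀ := (Scheme.Modules.pullback ι₀).obj L
    obtain ⟨hK, -, -⟩ := relCanonical_model (A := κ) (Y := Yt) d hS' hd' K₀ h2
    exact two_le_idealDepth_of_skAt_near hK Ut w (skAt_two_dualizing (k := κ) (Z := Yt) d hS' hd' K₀ h2 w)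
      (fun v _ _ => by
        by_contra hn
        rw [not_nontrivial_iff_subsingleton] at hn
        exact one_ne_zero ((scalar_end_relCanonical (A := κ) (Y := Yt) d hS' hd' K₀ h2 v).1
          (show (1 : Yt.presheaf.stalk v) • LinearMap.id = (0 : Yt.presheaf.stalk v) • LinearMap.id from
            LinearMap.ext fun m => hn.elim _ _)))
      (fun v _ hv => le_trans h23 (hdimt v hv))
  obtain ⟨σ'⟩ := stalk_iso_of_restrict U (CurveLib.isCoh_tmod hL hM) hω'
    (asIso ((Scheme.Modules.restrictFunctor U.ι).map (evMor L ω))) y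
    (hL2.trans_eq (CAlgBasics.idealDepth_congr eT)) hω2
  obtain ⟨a, b⟩ := homSh_invertibleAt_of_stalk_equiv hL hω' y (scalar_end_relCanonical d hS hd ω hω y) (eT ≪≫ₗ σ')
  exact ⟨a, b, ⟨eT ≪≫ₗ σ'⟩⟩

/-- The criterion for commutation of the relative canonical sheaf with restriction to a fibre. -/
theorem crit_fibre (d : ℕ) (hS : RelCanon.IsSkMor (Y ↘ S₀) 2) (hd : Cyc.HasRelDim (Y ↘ S₀) d)
    (ω : Y.Modules) (hω : RelCanon.IsDualizingSheaf A Y d ω) (L : Y.Modules) (hL : Coh.IsCoh L)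
    (hLf : FlatMod.IsFlatOver (Y ↘ S₀) L) (t : (Spec (CommRingCat.of A)))
    (h2 : RelCanon.IsDualizingSheafFib (Y ↘ S₀) d L t)
    (h3 : (∀ w : (Y ↘ S₀).fiber t, RelCanon.SkAt 3 (Coh.structureModule ((Y ↘ S₀).fiber t)) w) ∨
      ∃ r : ℕ, 0 < r ∧ (r : (Spec (CommRingCat.of A)).residueField t) ≠ 0 ∧ ∀ w : (Y ↘ S₀).fiber t,
        RelCanon.InvertibleAt (RelCanon.refPowZ L r) ((Y ↘ S₀).fiberι t w) ∧
        RelCanon.InvertibleAt (RelCanon.refPowZ ω r) ((Y ↘ S₀).fiberι t w)) :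
    (∀ y : Y, (Y ↘ S₀) y = t → RelCanon.InvertibleAt (RefHull.homSh L ω) y ∧
      Function.Bijective (PullbackMod.stalkLin (evMor L ω) y) ∧ RelCanon.RelSkAt (Y ↘ S₀) 2 ω y ∧
      Nonempty (L.presheaf.stalk y ≃ₗ[Y.presheaf.stalk y] ω.presheaf.stalk y)) ∧
    Nonempty ((Scheme.Modules.pullback ((Y ↘ S₀).fiberι t)).obj (RefHull.homSh L ω) ≅
      Coh.structureModule ((Y ↘ S₀).fiber t)) ∧
    RelCanon.IsDualizingSheafFib (Y ↘ S₀) d ω t := by
  let f := Y ↘ S₀
  haveI : IsNoetherianRing (CommRingCat.of A) := inferInstanceAs (IsNoetherianRing A)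
  haveI : IsLocallyNoetherian Y := LocallyOfFiniteType.isLocallyNoetherian f
  let κ := (Spec (CommRingCat.of A)).residueField t
  let Yt := f.fiber t
  letI : Yt.Over (Spec (CommRingCat.of κ)) := ⟨f.fiberToSpecResidueField t⟩
  haveI : IsNoetherianRing (CommRingCat.of κ) := inferInstanceAs (IsNoetherianRing κ)
  obtain ⟨φ, hp⟩ := exists_fibre_hom f t
  haveI : IsProper (Yt ↘ Spec (CommRingCat.of κ)) := MorphismProperty.of_isPullback (P := @IsProper) hp ‹_›
  haveI : IsLocallyNoetherian Yt := LocallyOfFiniteType.isLocallyNoetherian (Yt ↘ Spec (CommRingCat.of κ))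
  obtain ⟨hS', hd'⟩ := isSkMor_baseChange hp 2 d hS hd
  obtain ⟨U, hU, hU3, hres⟩ := exists_crit_open d hS hd ω hω L hL hLf t h2
  have hpt := fun w : Yt => crit_at_point d hS hd ω hω L hL hLf t h2 U hU hU3 hres w (h3.imp (fun h => h w)
    (fun ⟨r, hr, hrt, h⟩ => ⟨r, hr, hrt, (h w).1, (h w).2⟩))
  let ι₀ := f.fiberι t
  let Ut := ι₀ ⁻¹ᵁ U
  let K₀ := (Scheme.Modules.pullback ι₀).obj L
  obtain ⟨hK, -, -⟩ := relCanonical_model (A := κ) (Y := Yt) d hS' hd' K₀ h2
  obtain ⟨hω', -, -⟩ := relCanonical_model d hS hd ω hω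
  let M := RefHull.homSh L ω
  have hM : Coh.IsCoh M := HomLib.isCoh_homSh hL hω'
  let W₀ := (Scheme.Modules.pullback ι₀).obj ω
  have hW : Coh.IsCoh W₀ := PullbackMod.isCoh_pullback ι₀ _ hω'
  let Q := (Scheme.Modules.pullback ι₀).obj M
  have hQ : Coh.IsCoh Q := PullbackMod.isCoh_pullback ι₀ _ hM
  have hdimt : ∀ v : Yt, v ∉ Ut → (2 : WithBot ℕ∞) ≤ ringKrullDim (Yt.presheaf.stalk v) := by
    have h := forall_fiber f (P := fun s z => s = t → f.fiberι s z ∉ U →
      (2 : WithBot ℕ∞) ≤ ringKrullDim ((f.fiber s).presheaf.stalk z)) (fun x hx hxo => by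
        rw [f.fiberι_asFiber] at hxo
        exact le_trans (by norm_num) (hU3 x hx hxo)) t
    exact fun v hv => h v rfl hv
  have hO2 : ∀ v : Yt, v ∉ Ut → (2 : ℕ∞) ≤ LocCoh.depth (Yt.presheaf.stalk v) (Yt.presheaf.stalk v) := fun v hv =>
    two_le_depth_of_hasSk _ ((QGorNhdLib.skAt_structureModule_iff _ _ 2).1
      (forall_fiber f (P := fun s z => RelCanon.SkAt 2 (Coh.structureModule (f.fiber s)) z) hS.2.2 t v)) (hdimt v hv)
  haveI := hL.1
  haveI := hω'.1
  -- the restriction of the canonical sheaf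
  have hKW : ∀ z : Yt, Nonempty (K₀.presheaf.stalk z ≃ₗ[Yt.presheaf.stalk z] W₀.presheaf.stalk z) := fun z => by
    obtain ⟨-, -, ⟨σ⟩⟩ := hpt z
    let Bz := Y.presheaf.stalk (ι₀ z)
    let Sz := Yt.presheaf.stalk z
    letI : Algebra Bz Sz := (ι₀.stalkMap z).hom.toAlgebra
    letI : Module Bz (K₀.presheaf.stalk z) := Module.compHom _ (ι₀.stalkMap z).hom
    haveI : IsScalarTower Bz Sz (K₀.presheaf.stalk z) := .of_algebraMap_smul fun _ _ => rfl
    letI : Module Bz (W₀.presheaf.stalk z) := Module.compHom _ (ι₀.stalkMap z).hom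
    haveI : IsScalarTower Bz Sz (W₀.presheaf.stalk z) := .of_algebraMap_smul fun _ _ => rfl
    have h1 : IsBaseChange Sz (PullbackMod.pullStalkL ι₀ L z) := PullbackMod.isBaseChange_pullStalkL ι₀ L z
    have h2 : IsBaseChange Sz (PullbackMod.pullStalkL ι₀ ω z) := PullbackMod.isBaseChange_pullStalkL ι₀ ω z
    exact ⟨h1.equiv.symm ≪≫ₗ TensorProduct.AlgebraTensorModule.congr (LinearEquiv.refl Sz Sz) σ ≪≫ₗ h2.equiv⟩
  haveI : IsIso ((Scheme.Modules.restrictAdjunction Ut.ι).unit.app K₀) := isIso_unit_of_depth Ut hK fun v hv =>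
    two_le_depth_dualizing_field (k := κ) (Z := Yt) d hS' hd' K₀ h2 v (hdimt v hv)
  haveI : IsIso ((Scheme.Modules.restrictAdjunction Ut.ι).unit.app W₀) := isIso_unit_of_depth Ut hW fun v hv => by
    obtain ⟨e⟩ := hKW v
    rw [← CAlgBasics.depth_congr e]
    exact two_le_depth_dualizing_field (k := κ) (Z := Yt) d hS' hd' K₀ h2 v (hdimt v hv)
  obtain ⟨i⟩ := hres K₀ h2
  obtain ⟨iW⟩ := nonempty_iso_of_restrict Ut i
  -- triviality
  haveI : IsIso ((Scheme.Modules.restrictAdjunction Ut.ι).unit.app Q) := isIso_unit_of_depth Ut hQ fun v hv => by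
    obtain ⟨l⟩ := exists_stalk_equiv_of_invertibleAt (invertibleAt_pullback ι₀ (hpt v).1)
    rw [← CAlgBasics.depth_congr l]
    exact hO2 v hv
  haveI : IsIso ((Scheme.Modules.restrictAdjunction Ut.ι).unit.app (Coh.structureModule Yt)) :=
    isIso_unit_of_depth Ut (DevLib.isCoh_structureModule Yt) fun v hv => by
      rw [← CAlgBasics.depth_congr (RefOne.oEquiv v)]
      exact hO2 v hv
  obtain ⟨q⟩ := nonempty_pullback_homSh_restrict d hS hd ω L t h2 U hU hres
  obtain ⟨iQ⟩ := nonempty_iso_of_restrict Ut (q ≪≫ (DCohLib.restrictUnit Ut.ι).symm)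
  have hdual : RelCanon.IsDualizingSheafFib f d ω t := by
    obtain ⟨tr, htr⟩ := h2
    exact TwistShriek.exists_isRDualOver_of_iso κ Yt d iW.symm tr htr
  refine ⟨fun y hy => ?_, ⟨iQ⟩, hdual⟩
  subst hy
  have key : ∀ y' : Y, y' = y → (RelCanon.InvertibleAt M y' ∧ Function.Bijective (PullbackMod.stalkLin (evMor L ω) y') ∧
        Nonempty (L.presheaf.stalk y' ≃ₗ[Y.presheaf.stalk y'] ω.presheaf.stalk y')) →
      (RelCanon.InvertibleAt M y ∧ Function.Bijective (PullbackMod.stalkLin (evMor L ω) y) ∧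
        Nonempty (L.presheaf.stalk y ≃ₗ[Y.presheaf.stalk y] ω.presheaf.stalk y)) := by
    rintro y' rfl h; exact h
  obtain ⟨a, b, ⟨σ⟩⟩ := key _ (f.fiberι_asFiber y) (hpt (f.asFiber y))
  refine ⟨a, b, ⟨?_, skAt_two_dualizing (k := κ) (Z := Yt) d hS' hd' W₀ hdual (f.asFiber y)⟩, ⟨σ⟩⟩
  letI : Algebra ((Spec (CommRingCat.of A)).presheaf.stalk (f y)) (Y.presheaf.stalk y) := (f.stalkMap y).hom.toAlgebra
  letI := FlatMod.moduleStalkOver f L y
  letI := FlatMod.moduleStalkOver f ω y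
  haveI : IsScalarTower ((Spec (CommRingCat.of A)).presheaf.stalk (f y)) (Y.presheaf.stalk y) (L.presheaf.stalk y) :=
    .of_algebraMap_smul fun _ _ => rfl
  haveI : IsScalarTower ((Spec (CommRingCat.of A)).presheaf.stalk (f y)) (Y.presheaf.stalk y) (ω.presheaf.stalk y) :=
    .of_algebraMap_smul fun _ _ => rfl
  haveI : Module.Flat ((Spec (CommRingCat.of A)).presheaf.stalk (f y)) (L.presheaf.stalk y) := hLf y
  exact Module.Flat.of_linearEquiv (σ.restrictScalars ((Spec (CommRingCat.of A)).presheaf.stalk (f y))).symm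

end Groth.Agent.FibreDualLib
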