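import Groth.Agent.FibreDualLib.ArtinPrime
import Groth.Agent.EGA4Dim.SnFormal
import Groth.Agent.EGA4Dim.TensorSk
import Groth.Agent.FibDepthLib.BaseChange
import Groth.Agent.CMCat.Local
import Groth.Agent.QGorLib.FlatDepth

/-!
# The step of the infinitesimal criterion over an arbitrary local base change
-/

set_option autoImplicit false
set_option backward.isDefEq.respectTransparency false
set_option backward.isDefEq.respectTransparency.types false
set_option linter.style.haveILetI false
set_option linter.unusedSectionVars false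
set_option maxHeartbeats 1000000

universe u

open IsLocalRing TensorProduct
open scoped Pointwise

namespace Groth.Agent.FibreDualLib

open Groth.Agent.FibDepthLib

/-- Depth two along an ideal lifts from the closed fibre of a flat module. -/
theorem two_le_idealDepth_of_fibre_ideal {R S : Type u} [CommRing R] [CommRing S] [IsLocalRing R] [IsLocalRing S]
    [IsNoetherianRing R] [IsNoetherianRing S] [Algebra R S] [IsLocalHom (algebraMap R S)] {M : Type u} [AddCommGroup M]
    [Module R M] [Module S M] [IsScalarTower R S M] [Module.Finite S M] [Module.Flat R M] (J : Ideal S)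
    (h : 2 ≤ LocCoh.idealDepth J (EGA4.FibMod R S M)) : 2 ≤ LocCoh.idealDepth J M := by
  by_cases hJM : J • (⊤ : Submodule S M) = ⊤
  · rw [LocCoh.idealDepth, if_pos hJM]
    exact le_top
  set P : Submodule S M := EGA4.mB R S • ⊤
  have hne : J • (⊤ : Submodule S (M ⧸ P)) ≠ ⊤ := by
    intro htop
    rcases eq_or_ne J ⊤ with rfl | hJ
    · exact hJM (Submodule.top_smul _)
    rcases subsingleton_or_nontrivial M with hM | hM
    · exact hJM (Subsingleton.elim _ _)
    haveI : Nontrivial (M ⧸ P) := Submodule.Quotient.nontrivial_iff.mpr fun hP =>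
      CAlgBasics.maximalIdeal_smul_top_ne_top (R := S) (M := M)
        (eq_top_iff.mpr (hP.ge.trans (Submodule.smul_mono_left (IsLocalRing.map_maximalIdeal_le (algebraMap R S)))))
    exact CAlgBasics.maximalIdeal_smul_top_ne_top (R := S) (M := M ⧸ P)
      (top_le_iff.1 (htop.ge.trans (Submodule.smul_mono_left (IsLocalRing.le_maximalIdeal hJ))))
  obtain ⟨rs, hl, hm, hw⟩ := (Depth.le_idealDepth_iff hne 2).mp h
  obtain ⟨r, t, rfl⟩ := List.length_eq_two.mp hl
  rw [RingTheory.Sequence.isWeaklyRegular_cons_iff, RingTheory.Sequence.isWeaklyRegular_cons_iff] at hw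
  obtain ⟨hwr, hwt, -⟩ := hw
  obtain ⟨hreg, hflat⟩ := QGorLib.regular_and_flat_of_fibre (R := R) (M := M) r fun x hx => by
    rw [← Submodule.Quotient.mk_eq_zero] at hx ⊢
    exact hwr.right_eq_zero_of_smul hx
  haveI := hflat
  have hP : Submodule.map (Submodule.mkQ (r • ⊤ : Submodule S M)) P = EGA4.mB R S • ⊤ := by
    rw [Submodule.map_smul'', Submodule.map_top, Submodule.range_mkQ]
  obtain ⟨htreg, -⟩ := QGorLib.regular_and_flat_of_fibre (R := R) t (M := QuotSMulTop r M) fun x hx => by
    obtain ⟨x, rfl⟩ := Submodule.Quotient.mk_surjective _ x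
    rw [← hP, ← Submodule.Quotient.mk_smul, Submodule.mem_map] at hx
    obtain ⟨y, hy, hxy⟩ := hx
    rw [Submodule.mkQ_apply, Submodule.Quotient.eq, Submodule.mem_smul_pointwise_iff_exists] at hxy
    obtain ⟨z, -, hz⟩ := hxy
    have h0 : (Submodule.Quotient.mk (Submodule.Quotient.mk x : M ⧸ P) : QuotSMulTop r (M ⧸ P)) = 0 := by
      refine hwt.right_eq_zero_of_smul ?_
      rw [← Submodule.Quotient.mk_smul, Submodule.Quotient.mk_eq_zero, Submodule.mem_smul_pointwise_iff_exists]
      refine ⟨Submodule.Quotient.mk (-z), trivial, ?_⟩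
      rw [← Submodule.Quotient.mk_smul, ← Submodule.Quotient.mk_smul, Submodule.Quotient.eq, smul_neg, hz]
      convert P.neg_mem hy using 1
      abel
    rw [Submodule.Quotient.mk_eq_zero, Submodule.mem_smul_pointwise_iff_exists] at h0
    obtain ⟨v, -, hv⟩ := h0
    obtain ⟨v, rfl⟩ := Submodule.Quotient.mk_surjective _ v
    rw [← Submodule.Quotient.mk_smul, Submodule.Quotient.eq] at hv
    rw [← hP, Submodule.mem_map]
    refine ⟨x - r • v, ?_, ?_⟩
    · convert P.neg_mem hv using 1
      abel
    · rw [Submodule.mkQ_apply, Submodule.Quotient.eq, sub_sub_cancel_left]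
      exact Submodule.neg_mem _ (Submodule.smul_mem_pointwise_smul _ _ _ trivial)
  rw [← Nat.cast_ofNat, Depth.le_idealDepth_iff hJM]
  refine ⟨[r, t], rfl, hm, ?_⟩
  rw [RingTheory.Sequence.isWeaklyRegular_cons_iff, RingTheory.Sequence.isWeaklyRegular_cons_iff]
  exact ⟨hreg, htreg, RingTheory.Sequence.IsWeaklyRegular.nil _ _⟩

/-- `(S₂)` of a module that is free off `V(J)` over a ring of depth two along `J` gives depth two along `J`. -/
theorem two_le_idealDepth_of_hasSk_free {T : Type u} [CommRing T] [IsNoetherianRing T] (J : Ideal T)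
    (hT : 2 ≤ LocCoh.idealDepth J T) (X : Type u) [AddCommGroup X] [Module T X] [Module.Finite T X]
    (h1 : 1 ≤ LocCoh.idealDepth J X) (hsk : LocCoh.HasSk 2 T X)
    (hfree : ∀ q : PrimeSpectrum T, ¬ J ≤ q.asIdeal →
      Module.Free (Localization.AtPrime q.asIdeal) (LocalizedModule q.asIdeal.primeCompl X)) :
    2 ≤ LocCoh.idealDepth J X := by
  rw [← Nat.cast_one, QGorLib.le_idealDepth_iff_forall] at h1
  rw [← Nat.cast_ofNat, QGorLib.le_idealDepth_iff_forall] at hT ⊢
  intro P hP
  let TP := Localization.AtPrime P.asIdeal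
  let XP := LocalizedModule P.asIdeal.primeCompl X
  rcases subsingleton_or_nontrivial XP with hX | hX
  · rw [CAlgBasics.depth_eq_top]; exact le_top
  have hann : Module.annihilator T X ≤ P.asIdeal :=
    Module.mem_support_iff_of_finite.1 (Module.mem_support_iff.2 hX)
  obtain ⟨Q, hQmin, hQP⟩ := Ideal.exists_minimalPrimes_le hann
  haveI hQp : Q.IsPrime := hQmin.1.1
  have hJQ : ¬ J ≤ Q := by
    intro hJQ
    let TQ := Localization.AtPrime Q
    let XQ := LocalizedModule Q.primeCompl X
    have h := h1 ⟨Q, hQp⟩ hJQ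
    rw [Nat.cast_one, CAlgBasics.one_le_depth_iff] at h
    haveI : Nontrivial XQ :=
      Module.mem_support_iff.1 ((Module.mem_support_iff_of_finite (p := ⟨Q, hQp⟩)).2 hQmin.1.2)
    obtain ⟨r, hr, hreg⟩ := h.exists_isSMulRegular
    have hm : IsLocalRing.maximalIdeal TQ ∈ associatedPrimes TQ XQ := by
      refine Module.associatedPrimes.mem_associatedPrimes_of_comap_mem_associatedPrimes_of_isLocalizedModule
        Q.primeCompl (LocalizedModule.mkLinearMap Q.primeCompl X) _ ?_
      rw [show Ideal.comap (algebraMap T TQ) (IsLocalRing.maximalIdeal TQ) = Q from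
        IsLocalization.AtPrime.under_maximalIdeal TQ Q]
      exact Module.associatedPrimes.minimalPrimes_annihilator_subset_associatedPrimes T X hQmin
    exact ((biUnion_associatedPrimes_eq_compl_regular TQ XQ).le (Set.mem_biUnion hm hr)) hreg
  have hfQ := hfree ⟨Q, hQp⟩ hJQ
  have hQ0 : Q ∈ minimalPrimes T := by
    obtain ⟨Q0, hQ0, hle⟩ := Ideal.exists_minimalPrimes_le (bot_le (a := Q))
    haveI := hQ0.1.1
    haveI := hfQ
    haveI : Nontrivial (LocalizedModule Q.primeCompl X) :=
      Module.mem_support_iff.1 (Module.mem_support_iff_of_finite (p := ⟨Q, hQp⟩) |>.2 hQmin.1.2)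
    have hsub : Module.annihilator T X ≤ Q0 := by
      intro a ha
      let S := Localization.AtPrime Q
      let b := Module.Free.chooseBasis S (LocalizedModule Q.primeCompl X)
      obtain ⟨i⟩ := b.index_nonempty
      have hz : algebraMap T S a • b i = 0 := by
        show algebraMap T S a • b i = 0
        rw [algebraMap_smul]
        obtain ⟨⟨w, s⟩, hw⟩ := IsLocalizedModule.mk'_surjective Q.primeCompl
          (LocalizedModule.mkLinearMap Q.primeCompl X) (b i)
        rw [← hw, Function.uncurry_apply_pair, ← IsLocalizedModule.mk'_smul, Module.mem_annihilator.1 ha w,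
          IsLocalizedModule.mk'_zero]
      have h0 : algebraMap T S a = 0 := by
        have := congrArg (fun v => b.repr v i) hz
        rw [map_smul, map_zero, Module.Basis.repr_self, Finsupp.smul_apply, Finsupp.single_eq_same, smul_eq_mul,
          mul_one, Finsupp.zero_apply] at this
        exact this
      obtain ⟨c, hc⟩ := (IsLocalization.map_eq_zero_iff Q.primeCompl S a).1 h0
      exact (hQ0.1.1.mem_or_mem (hc ▸ Q0.zero_mem : (c : T) * a ∈ Q0)).resolve_left fun h => c.2 (hle h)
    have : Q ≤ Q0 := hQmin.2 ⟨hQ0.1.1, hsub⟩ hle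
    rwa [le_antisymm this hle]
  have hd : ((2 : ℕ) : WithBot ℕ∞) ≤ Module.supportDim TP XP := by
    have hdis : Disjoint (P.asIdeal.primeCompl : Set T) Q := Set.disjoint_left.2 fun a ha haQ => ha (hQP haQ)
    let Q' := Q.map (algebraMap T TP)
    haveI hQ'p : Q'.IsPrime := IsLocalization.isPrime_of_isPrime_disjoint P.asIdeal.primeCompl TP Q hQp hdis
    have hc : Q'.comap (algebraMap T TP) = Q :=
      IsLocalization.comap_map_of_isPrime_disjoint P.asIdeal.primeCompl TP hQp hdis
    have hass : Q' ∈ associatedPrimes TP TP := by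
      have hmin : Q' ∈ minimalPrimes TP := by
        refine ⟨⟨hQ'p, bot_le⟩, fun p hp hle => ?_⟩
        haveI := hp.1
        have h2 : Q ≤ p.comap (algebraMap T TP) := hQ0.2 ⟨Ideal.IsPrime.comap _, bot_le⟩ ((Ideal.comap_mono hle).trans hc.le)
        exact (Ideal.map_mono h2).trans Ideal.map_comap_le
      refine Module.associatedPrimes.minimalPrimes_annihilator_subset_associatedPrimes TP TP ?_
      rwa [Module.annihilator_eq_bot.2 inferInstance]
    obtain ⟨d, hd⟩ : ∃ d : ℕ, LocCoh.depth TP TP = d := by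
      have h := (QGorLib.depth_le_supportDim TP).trans_eq (Module.supportDim_self_eq_ringKrullDim (R := TP))
      rcases eq_or_ne (LocCoh.depth TP TP) ⊤ with he | he
      · exfalso
        rw [he] at h
        exact absurd (top_le_iff.1 h) (ne_of_lt (ringKrullDim_lt_top (R := TP)))
      · exact ⟨_, (ENat.coe_toNat he).symm⟩
    have h2d : 2 ≤ d := by
      have h := hT P hP
      rw [QGorLib.depth_localizedSelf_eq, hd] at h
      exact_mod_cast h
    refine le_trans ?_ ((CMCat.depth_le_ringKrullDim_quotient hd hass).trans ?_)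
    · exact_mod_cast h2d
    have hsupp : (⟨Q', hQ'p⟩ : PrimeSpectrum TP) ∈ Module.support TP XP := by
      have hQsupp : (⟨Q, hQp⟩ : PrimeSpectrum T) ∈ Module.support T X :=
        (Module.mem_support_iff_of_finite).2 hQmin.1.2
      rw [Module.mem_support_iff'] at hQsupp ⊢
      obtain ⟨x, hx⟩ := hQsupp
      refine ⟨LocalizedModule.mkLinearMap P.asIdeal.primeCompl X x, fun r hr hz => ?_⟩
      obtain ⟨⟨a, s⟩, has⟩ := IsLocalization.surj P.asIdeal.primeCompl r
      have hga : LocalizedModule.mkLinearMap P.asIdeal.primeCompl X (a • x) = 0 := by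
        rw [map_smul, ← algebraMap_smul TP a, ← has, mul_comm, mul_smul, hz, smul_zero]
      obtain ⟨c, hc'⟩ := (IsLocalizedModule.eq_zero_iff P.asIdeal.primeCompl _).1 hga
      rw [Submonoid.smul_def, smul_smul] at hc'
      refine hx _ (fun hin => ?_) hc'
      rcases hQp.mem_or_mem hin with hc'' | ha
      · exact c.2 (hQP hc'')
      · have h := Ideal.mem_map_of_mem (algebraMap T TP) ha
        rw [← has] at h
        exact (hQ'p.mem_or_mem h).elim hr fun h' =>
          hQ'p.ne_top (Ideal.eq_top_of_isUnit_mem _ h' (IsLocalization.map_units TP s))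
    exact Order.krullDim_le_of_strictMono
      (fun p : PrimeSpectrum (TP ⧸ Q') => (⟨PrimeSpectrum.comap (Ideal.Quotient.mk Q') p, Module.mem_support_mono (p := ⟨Q', hQ'p⟩)
        (fun a ha => by
          show Ideal.Quotient.mk Q' a ∈ p.asIdeal
          rw [Ideal.Quotient.eq_zero_iff_mem.2 ha]; exact p.asIdeal.zero_mem) hsupp⟩ : Module.support TP XP))
      (fun p p' hpp' => (Monotone.strictMono_of_injective (f := PrimeSpectrum.comap (Ideal.Quotient.mk Q'))
        (fun a b hab => Ideal.comap_mono hab)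
        (PrimeSpectrum.comap_injective_of_surjective _ Ideal.Quotient.mk_surjective)) hpp')
  have h2 := hsk P.asIdeal
  rw [min_eq_left hd] at h2
  exact WithBot.coe_le_coe.1 h2

/-- Flatness of the cokernel after a local base change, from the depth of the reflexive hull on the closed fibre. -/
theorem flat_coker_of_dualDual {A C B : Type u} [CommRing A] [CommRing C] [CommRing B] [IsNoetherianRing A]
    [IsNoetherianRing C] [IsNoetherianRing B] [IsLocalRing A] [IsLocalRing C] [Algebra A C]
    [IsLocalHom (algebraMap A C)] [Module.Flat A C] [Algebra B C] (J : Ideal B)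
    (hC0 : 2 ≤ LocCoh.idealDepth (J.map (algebraMap B C)) (EGA4.FibMod A C C))
    (F : Type u) [AddCommGroup F] [Module B F] [Module.Finite B F]
    {n m : ℕ} (g : F →ₗ[B] (Fin n → B)) (h : (Fin n → B) →ₗ[B] (Fin m → B))
    (hg : Function.Injective g) (hgh : Function.Exact g h) (hreg : RegOff J h)
    (hGU : ∀ q : PrimeSpectrum B, ¬ J ≤ q.asIdeal →
      Module.Free (Localization.AtPrime q.asIdeal) (LocalizedModule q.asIdeal.primeCompl ((Fin m → B) ⧸ LinearMap.range h)))
    (hDD : 2 ≤ LocCoh.idealDepth (J.map (algebraMap B C))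
      (EGA4.FibMod A C (Module.Dual C (Module.Dual C (C ⊗[B] F))))) :
    Module.Flat A (C ⊗[B] ((Fin m → B) ⧸ LinearMap.range h)) := by
  let G := (Fin m → B) ⧸ LinearMap.range h
  let v : (Fin m → B) →ₗ[B] G := (LinearMap.range h).mkQ
  have hhv : Function.Exact h v := fun z => Submodule.Quotient.mk_eq_zero _
  have hv : Function.Surjective v := Submodule.mkQ_surjective _
  let JC := J.map (algebraMap B C)
  have hC2 : 2 ≤ LocCoh.idealDepth JC C := two_le_idealDepth_of_fibre_ideal (R := A) JC hC0
  have hCfree : ∀ (X : Type u) [AddCommGroup X] [Module C X] [Module.Finite C X] [Module.Flat C X],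
      2 ≤ LocCoh.idealDepth JC X := fun X _ _ _ _ => le_idealDepth_of_flat 2 hC2
  let g' : C ⊗[B] F →ₗ[C] C ⊗[B] (Fin n → B) := g.baseChange C
  let h' : C ⊗[B] (Fin n → B) →ₗ[C] C ⊗[B] (Fin m → B) := h.baseChange C
  let v' : C ⊗[B] (Fin m → B) →ₗ[C] C ⊗[B] G := v.baseChange C
  let K' := LinearMap.ker h'
  let ξ : C ⊗[B] F →ₗ[C] K' := g'.codRestrict K' fun z => by
    show (h.baseChange C ∘ₗ g.baseChange C) z = 0
    rw [← LinearMap.baseChange_comp, show h ∘ₗ g = 0 from LinearMap.ext hgh.apply_apply_eq_zero,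
      LinearMap.baseChange_zero, LinearMap.zero_apply]
  -- splittings off the closed set
  have hsplit : ∀ q : PrimeSpectrum C, ¬ JC ≤ q.asIdeal → ∃ t, t ∉ q.asIdeal ∧
      ∃ (χ : C ⊗[B] (Fin n → B) →ₗ[C] C ⊗[B] F) (σ : C ⊗[B] (Fin m → B) →ₗ[C] C ⊗[B] (Fin n → B)),
        h' ∘ₗ σ ∘ₗ h' = t • h' ∧ g' ∘ₗ χ = t • LinearMap.id - σ ∘ₗ h' ∧ χ ∘ₗ g' = t • LinearMap.id := by
    intro q hq
    obtain ⟨t, ht, σ, hσ⟩ := hreg (PrimeSpectrum.comap (algebraMap B C) q) fun hJ =>
      hq (Ideal.map_le_iff_le_comap.mpr hJ)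
    have hmem : ∀ x, (t • (LinearMap.id : (Fin n → B) →ₗ[B] (Fin n → B)) - σ ∘ₗ h) x ∈ LinearMap.range g := fun x => by
      refine (hgh _).1 ?_
      show h (t • x - σ (h x)) = 0
      rw [map_sub, map_smul, show h (σ (h x)) = t • h x from LinearMap.congr_fun hσ x, sub_self]
    let χ : (Fin n → B) →ₗ[B] F :=
      (LinearEquiv.ofInjective g hg).symm.toLinearMap ∘ₗ
        (t • (LinearMap.id : (Fin n → B) →ₗ[B] (Fin n → B)) - σ ∘ₗ h).codRestrict (LinearMap.range g) hmem
    have hgχ : g ∘ₗ χ = t • LinearMap.id - σ ∘ₗ h := LinearMap.ext fun x =>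
      LinearEquiv.ofInjective_symm_apply (h := hg) (x := ⟨_, hmem x⟩)
    have hχg : χ ∘ₗ g = t • LinearMap.id := LinearMap.ext fun x => hg <| by
      refine (LinearMap.congr_fun hgχ (g x)).trans ?_
      show t • g x - σ (h (g x)) = g (t • x)
      rw [hgh.apply_apply_eq_zero, map_zero, sub_zero, map_smul]
    refine ⟨algebraMap B C t, ht, χ.baseChange C, σ.baseChange C, ?_, ?_, ?_⟩
    · show h.baseChange C ∘ₗ σ.baseChange C ∘ₗ h.baseChange C = _
      rw [← LinearMap.baseChange_comp, ← LinearMap.baseChange_comp, hσ, LinearMap.baseChange_smul, algebraMap_smul]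
    · show g.baseChange C ∘ₗ χ.baseChange C = _ - σ.baseChange C ∘ₗ h.baseChange C
      rw [← LinearMap.baseChange_comp, hgχ, LinearMap.baseChange_sub, LinearMap.baseChange_smul,
        LinearMap.baseChange_id, algebraMap_smul, LinearMap.baseChange_comp]
    · show χ.baseChange C ∘ₗ g.baseChange C = _
      rw [← LinearMap.baseChange_comp, hχg, LinearMap.baseChange_smul, LinearMap.baseChange_id, algebraMap_smul]
  have hξ : IsoOff (X := C ⊗[B] F) (Y := K') JC ξ := fun q hq => by
    obtain ⟨t, ht, χ, σ, -, h1, h2⟩ := hsplit q hq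
    let χ' : K' →ₗ[C] C ⊗[B] F := χ.domRestrict K'
    refine ⟨t, ht, χ', LinearMap.ext fun x => ?_, LinearMap.ext fun x => ?_⟩
    · refine Subtype.ext ?_
      refine (LinearMap.congr_fun h1 (x : C ⊗[B] (Fin n → B))).trans ?_
      show t • (x : C ⊗[B] (Fin n → B)) - σ (h' x) = t • (x : C ⊗[B] (Fin n → B))
      rw [show h' x = 0 from x.2, map_zero, sub_zero]
    · show χ (g' x) = t • x
      exact LinearMap.congr_fun h2 x
  have hev : IsoOff (X := K') (Y := Module.Dual C (Module.Dual C K')) JC (Module.Dual.eval C K') := fun q hq => by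
    obtain ⟨t, ht, χ, σ, h0, h1, -⟩ := hsplit q hq
    let ρ : C ⊗[B] (Fin n → B) →ₗ[C] K' := (t • LinearMap.id - σ ∘ₗ h').codRestrict K' fun x => by
      show h' (t • x - σ (h' x)) = 0
      rw [map_sub, map_smul, show h' (σ (h' x)) = t • h' x from LinearMap.congr_fun h0 x, sub_self]
    have hρ : ρ ∘ₗ K'.subtype = t • LinearMap.id := LinearMap.ext fun x => Subtype.ext <| by
      show t • (x : C ⊗[B] (Fin n → B)) - σ (h' x) = t • (x : C ⊗[B] (Fin n → B))
      rw [show h' x = 0 from x.2, map_zero, sub_zero]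
    let ev := Module.evalEquiv C (C ⊗[B] (Fin n → B))
    refine ⟨t, ht, ρ ∘ₗ ev.symm.toLinearMap ∘ₗ K'.subtype.dualMap.dualMap, ?_, ?_⟩
    · refine LinearMap.ext fun w => LinearMap.ext fun φ => ?_
      obtain ⟨z, hz⟩ : ∃ z, ev.symm (K'.subtype.dualMap.dualMap w) = z := ⟨_, rfl⟩
      show φ (ρ (ev.symm (K'.subtype.dualMap.dualMap w))) = t • w φ
      rw [hz]
      have : ev z = K'.subtype.dualMap.dualMap w := by rw [← hz, LinearEquiv.apply_symm_apply]
      have h3 := LinearMap.congr_fun this (φ ∘ₗ ρ)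
      refine (show φ (ρ z) = ev z (φ ∘ₗ ρ) from rfl).trans (h3.trans ?_)
      show w ((φ ∘ₗ ρ) ∘ₗ K'.subtype) = t • w φ
      rw [LinearMap.comp_assoc, hρ, LinearMap.comp_smul, LinearMap.comp_id, map_smul]
    · refine LinearMap.ext fun x => ?_
      show ρ (ev.symm (K'.subtype.dualMap.dualMap (Module.Dual.eval C K' x))) = t • x
      rw [show K'.subtype.dualMap.dualMap (Module.Dual.eval C K' x) = ev (K'.subtype x) from rfl,
        LinearEquiv.symm_apply_apply]
      exact LinearMap.congr_fun hρ x
  haveI : Module.Finite C K' := Module.Finite.iff_fg.2 (IsNoetherian.noetherian K')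
  have hK2 : 2 ≤ LocCoh.idealDepth JC K' :=
    two_le_idealDepth_left K'.subtype h' (LinearMap.exact_subtype_ker_map h') Subtype.val_injective
      (hCfree _) (le_trans one_le_two (hCfree _))
  have hdual : ∀ (X : Type u) [AddCommGroup X] [Module C X] [Module.Finite C X],
      2 ≤ LocCoh.idealDepth JC (Module.Dual C X) := fun X _ _ _ => two_le_idealDepth_dual hC2 X
  have hfinD : ∀ (X : Type u) [AddCommGroup X] [Module C X] [Module.Finite C X],
      Module.Finite C (Module.Dual C X) := fun X _ _ _ => by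
    haveI : Module.FinitePresentation C X := Module.finitePresentation_of_finite C X
    infer_instance
  haveI : Module.Finite C (Module.Dual C K') := hfinD K'
  haveI : Module.Finite C (Module.Dual C (Module.Dual C K')) := hfinD (Module.Dual C K')
  haveI : Module.Finite C (Module.Dual C (C ⊗[B] F)) := hfinD (C ⊗[B] F)
  let E1 := LinearEquiv.ofBijective _ (bijective_of_isoOff hev hK2 (le_trans one_le_two (hdual (Module.Dual C K'))))
  let E2 := LinearEquiv.ofBijective _
    (bijective_of_isoOff hξ.dualMap (hdual K') (le_trans one_le_two (hdual (C ⊗[B] F))))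
  let E : Module.Dual C (Module.Dual C (C ⊗[B] F)) ≃ₗ[C] K' := E2.dualMap.trans E1.symm
  have hKdepth : 2 ≤ LocCoh.idealDepth JC (EGA4.FibMod A C K') := by
    refine hDD.trans_eq (CAlgBasics.idealDepth_congr (Submodule.Quotient.equiv _ _ E ?_))
    rw [Submodule.map_smul'', Submodule.map_top, LinearEquiv.range]
  have hGU' : ∀ q : PrimeSpectrum C, ¬ JC ≤ q.asIdeal → FlatCA.FlatAt A q.asIdeal (C ⊗[B] G) := fun q hq => by
    refine flatAt_of_flatAt_self q (flatAt_self_of_free q ?_)
    have hq' : ¬ J ≤ (PrimeSpectrum.comap (algebraMap B C) q).asIdeal := fun hJ =>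
      hq (Ideal.map_le_iff_le_comap.mpr hJ)
    exact Module.comap_freeLocus_le (R := B) (M := G) (A := C)
      (show q ∈ PrimeSpectrum.comap (algebraMap B C) ⁻¹' Module.freeLocus B G from hGU _ hq')
  haveI : ∀ l : ℕ, Module.Flat A (C ⊗[B] (Fin l → B)) := fun l => Module.Flat.trans A C _
  have hfib : ∀ l : ℕ, 2 ≤ LocCoh.idealDepth JC (EGA4.FibMod A C (C ⊗[B] (Fin l → B))) := by
    intro l
    let K := EGA4.mB A C
    let ec : (C ⊗[B] (Fin l → B)) ≃ₗ[C] (Fin l → C) := TensorProduct.piScalarRight B C C (Fin l)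
    refine le_of_le_of_eq ?_ (CAlgBasics.idealDepth_congr (Submodule.Quotient.equiv (K • ⊤ : Submodule C (Fin l → C))
      (K • ⊤ : Submodule C (C ⊗[B] (Fin l → B))) ec.symm (by
        rw [Submodule.map_smul'', Submodule.map_top, LinearEquiv.range])))
    let e : ((Fin l → C) ⧸ (K • ⊤ : Submodule C (Fin l → C))) ≃ₗ[C] (Fin l → C ⧸ K) :=
      (TensorProduct.quotTensorEquivQuotSMul (Fin l → C) K).symm.trans
        ((TensorProduct.piScalarRight C C (C ⧸ K) (Fin l)).restrictScalars C)
    rw [CAlgBasics.idealDepth_congr e, ← idealDepth_map_of_surjective (R := C ⧸ K) Ideal.Quotient.mk_surjective]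
    refine le_idealDepth_of_flat (R := C ⧸ K) 2 ?_
    rw [idealDepth_map_of_surjective (R := C ⧸ K) Ideal.Quotient.mk_surjective,
      ← CAlgBasics.idealDepth_congr (Submodule.quotEquivOfEq _ _ (show (K • ⊤ : Submodule C C) = K by
        rw [smul_eq_mul, Ideal.mul_top]))]
    exact hC0
  have h8 := S18708.result A C JC K' (C ⊗[B] (Fin n → B)) (C ⊗[B] (Fin m → B)) (C ⊗[B] G) K'.subtype h' v'
    Subtype.val_injective (LinearMap.exact_subtype_ker_map h') (lTensor_exact C hhv hv)
    (LinearMap.lTensor_surjective C hv) hGU' (hfib n) (le_trans one_le_two (hfib m))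
  exact h8.1.1 hKdepth

/-- Depth two along `V(J)` and freeness off it give `(S₂)` over an `(S₂)` ring. -/
theorem hasSk_of_depth_free {T : Type u} [CommRing T] [IsNoetherianRing T] (hT : LocCoh.HasSk 2 T T) (J : Ideal T)
    (X : Type u) [AddCommGroup X] [Module T X] [Module.Finite T X] (h2 : 2 ≤ LocCoh.idealDepth J X)
    (hfree : ∀ q : PrimeSpectrum T, ¬ J ≤ q.asIdeal →
      Module.Free (Localization.AtPrime q.asIdeal) (LocalizedModule q.asIdeal.primeCompl X)) :
    LocCoh.HasSk 2 T X := by
  intro P _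
  by_cases hP : J ≤ P
  · rw [← Nat.cast_ofNat, QGorLib.le_idealDepth_iff_forall] at h2
    exact min_le_left _ _ |>.trans (WithBot.coe_le_coe.2 (h2 ⟨P, inferInstance⟩ hP))
  · haveI : Module.Free (Localization.AtPrime P) (LocalizedModule P.primeCompl X) := hfree ⟨P, inferInstance⟩ hP
    haveI : Module.Finite (Localization.AtPrime P) (LocalizedModule P.primeCompl X) :=
      Module.Finite.of_isLocalizedModule P.primeCompl (LocalizedModule.mkLinearMap P.primeCompl X)
    exact EGA4Dim.skIneq_of_hasSk (QGorLib.hasSk_of_reflexive (LocalizedModule P.primeCompl X) le_rfl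
      (EGA4Dim.hasSk_of_isLocalization P.primeCompl 2 hT))

/-- A module free off `V(J)` keeps this property in a reduction. -/
theorem free_reduction_off {S : Type u} [CommRing S] [IsNoetherianRing S] (J I : Ideal S) (M : Type u) [AddCommGroup M]
    [Module S M] [Module.Finite S M]
    (hM : ∀ q : PrimeSpectrum S, ¬ J ≤ q.asIdeal →
      Module.Free (Localization.AtPrime q.asIdeal) (LocalizedModule q.asIdeal.primeCompl M))
    (P : PrimeSpectrum (S ⧸ I)) (hP : ¬ J.map (Ideal.Quotient.mk I) ≤ P.asIdeal) :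
    Module.Free (Localization.AtPrime P.asIdeal)
      (LocalizedModule P.asIdeal.primeCompl (M ⧸ (I • ⊤ : Submodule S M))) := by
  let Q : PrimeSpectrum S := PrimeSpectrum.comap (algebraMap S (S ⧸ I)) P
  have hQ : ¬ J ≤ Q.asIdeal := fun h => hP (Ideal.map_le_iff_le_comap.mpr h)
  have h : P ∈ Module.freeLocus (S ⧸ I) ((S ⧸ I) ⊗[S] M) := by
    haveI : Module.FinitePresentation S M := Module.finitePresentation_of_finite S M
    exact Module.comap_freeLocus_le (R := S) (M := M) (A := S ⧸ I)
      (show P ∈ PrimeSpectrum.comap (algebraMap S (S ⧸ I)) ⁻¹' Module.freeLocus S M from hM Q hQ)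
  rw [Module.freeLocus_congr (LinearEquiv.extendScalarsOfSurjective Ideal.Quotient.mk_surjective
    (TensorProduct.quotTensorEquivQuotSMul M I) : ((S ⧸ I) ⊗[S] M) ≃ₗ[S ⧸ I] (M ⧸ (I • ⊤ : Submodule S M)))] at h
  exact h

attribute [local instance] Algebra.TensorProduct.rightAlgebra in
/-- Depth along the bad set of a fibre local ring passes to base changes. -/
theorem le_idealDepth_fibLocRing_point {A B A' B' : Type u} [CommRing A] [CommRing B] [CommRing A'] [CommRing B']
    [IsNoetherianRing A] [IsNoetherianRing B] [IsNoetherianRing B'] [Algebra A B] [Algebra A A'] [Algebra B B']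
    [Algebra A' B'] [Algebra A B'] [IsScalarTower A B B'] [IsScalarTower A A' B'] [Algebra.IsPushout A B A' B']
    (J : Ideal B) (q : PrimeSpectrum B) (q' : PrimeSpectrum B') (hq : q'.asIdeal.under B = q.asIdeal) (k : ℕ)
    (h : (k : ℕ∞) ≤ LocCoh.idealDepth (J.map (algebraMap B (EGA4.FibLocRing A B q.asIdeal)))
      (EGA4.FibLocRing A B q.asIdeal)) :
    (k : ℕ∞) ≤ LocCoh.idealDepth ((J.map (algebraMap B B')).map (algebraMap B' (EGA4.FibLocRing A' B' q'.asIdeal)))
      (EGA4.FibLocRing A' B' q'.asIdeal) := by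
  haveI : Algebra.IsPushout A A' B B' := Algebra.IsPushout.symm inferInstance
  obtain ⟨ψ, hflat, -, hψ⟩ := FibreDepth.exists_flat_fibRing_hom (A := A) (A' := A') q' q hq
  obtain ⟨φ', hφ', hker'⟩ := FibreDepth.exists_surjective_fibRing (A := A') q'
  obtain ⟨φ, hφ, hker⟩ := FibreDepth.exists_surjective_fibRing (A := A) q
  let C := EGA4.FibLocRing A' B' q'.asIdeal
  let D := EGA4.FibLocRing A B q.asIdeal
  let e' : FibreDepth.FibRing A' q' ≃+* C :=
    (RingHom.quotientKerEquivOfSurjective hφ').symm.trans (Ideal.quotEquivOfEq hker')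
  let e : FibreDepth.FibRing A q ≃+* D :=
    (RingHom.quotientKerEquivOfSurjective hφ).symm.trans (Ideal.quotEquivOfEq hker)
  have he' : ∀ b, e' (algebraMap B' _ b) = algebraMap B' C b := fun b => by
    rw [← φ'.commutes]
    show (Ideal.quotEquivOfEq hker') ((RingHom.quotientKerEquivOfSurjective hφ').symm
      (φ'.toRingHom (algebraMap B' (Localization.AtPrime q'.asIdeal) b))) = _
    rw [RingHom.quotientKerEquivOfSurjective_symm_apply, Ideal.quotEquivOfEq_mk]
    rfl
  have he : ∀ b, e (algebraMap B _ b) = algebraMap B D b := fun b => by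
    rw [← φ.commutes]
    show (Ideal.quotEquivOfEq hker) ((RingHom.quotientKerEquivOfSurjective hφ).symm
      (φ.toRingHom (algebraMap B (Localization.AtPrime q.asIdeal) b))) = _
    rw [RingHom.quotientKerEquivOfSurjective_symm_apply, Ideal.quotEquivOfEq_mk]
    rfl
  let χ : D →+* C := e'.toRingHom.comp (ψ.comp e.symm.toRingHom)
  letI : Algebra D C := χ.toAlgebra
  have hχ : χ.Flat := ((RingHom.Flat.of_bijective (f := e.symm.toRingHom) e.symm.bijective).comp hflat).comp
      (RingHom.Flat.of_bijective (f := e'.toRingHom) e'.bijective)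
  haveI : Module.Flat D C := hχ
  have h2 := le_idealDepth_map_of_flat (C := C) k h
  rw [Ideal.map_map] at h2 ⊢
  have hc : (algebraMap D C).comp (algebraMap B D) = (algebraMap B' C).comp (algebraMap B B') := RingHom.ext fun b => by
    show e' (ψ (e.symm (algebraMap B D b))) = algebraMap B' C (algebraMap B B' b)
    rw [← he b, RingEquiv.symm_apply_apply, hψ, he']
  rwa [hc] at h2

end Groth.Agent.FibreDualLib
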