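import Groth.Agent.FibreDualLib.CMStalk
import Groth.Agent.FibreDualLib.DVRStep
import Groth.Agent.S19832

/-!
# Depth of the relative canonical sheaf
-/

set_option autoImplicit false
set_option linter.style.haveILetI false
set_option linter.unusedSectionVars false
set_option backward.isDefEq.respectTransparency false
set_option backward.isDefEq.respectTransparency.types false
set_option maxHeartbeats 1600000

universe u

open CategoryTheory CategoryTheory.Limits AlgebraicGeometry IsLocalRing TopologicalSpace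
open Groth.Agent.DimFormulaLib Groth.Agent.ShriekBridge Groth.Agent.TwistShriek

noncomputable section

namespace Groth.Agent.FibreDualLib

/-- A local ring with `(S₂)` of dimension at most two is Cohen–Macaulay. -/
theorem three_le_dim_of_not_cm (T : Type u) [CommRing T] [IsLocalRing T] [IsNoetherianRing T]
    (hS : LocCoh.HasSk 2 T T) (hn : ¬ LocCoh.IsCohenMacaulayLocalRing T) : (3 : WithBot ℕ∞) ≤ ringKrullDim T := by
  by_contra h
  rw [not_le] at h
  obtain ⟨d, hd⟩ : ∃ d : ℕ, ringKrullDim T = (d : WithBot ℕ∞) :=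
    RegLocal.exists_nat_ringKrullDim T
  rw [hd] at h
  have hd3 : d < 3 := by exact_mod_cast h
  let e : T ≃ₐ[T] Localization.AtPrime (maximalIdeal T) :=
    IsLocalization.atUnits T (maximalIdeal T).primeCompl fun x hx => by
      simpa [mem_maximalIdeal, IsUnit.mem_submonoid_iff] using hx
  haveI : IsNoetherianRing (Localization.AtPrime (maximalIdeal T)) := isNoetherianRing_of_ringEquiv _ e.toRingEquiv
  have h1 := (SerreLib.hasSk_localRing_iff 2).1 hS (maximalIdeal T)
  rw [← ringKrullDim_eq_of_ringEquiv e.toRingEquiv, ShriekAlgLib.depth_of_ringEquiv e.toRingEquiv, hd,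
    min_eq_right (by exact_mod_cast (by omega : d ≤ 2))] at h1
  have h2 : (d : ℕ∞) ≤ LocCoh.depth T T := WithBot.coe_le_coe.1 h1
  refine hn (@LocCoh.IsCohenMacaulayLocalRing.mk T _ ‹_› ‹_› ?_)
  rw [Module.supportDim_self_eq_ringKrullDim, hd, le_antisymm (WithBot.coe_le_coe.1 ((QGorLib.depth_le_supportDim (R := T) T).trans
    ((Module.supportDim_le_ringKrullDim T T).trans_eq hd))) h2]
  rfl

/-- The codimension of the set where the morphism is not Cohen–Macaulay. -/
theorem three_le_dim_fibre_of_not_cm {A : Type u} [CommRing A] [IsNoetherianRing A] {Y : Scheme.{u}}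
    (f : Y ⟶ Spec (CommRingCat.of A)) (hS : RelCanon.IsSkMor f 2) (y : Y) (hy : ¬ MoreMor.IsCMAt f y) :
    (3 : WithBot ℕ∞) ≤ ringKrullDim ((f.fiber (f y)).presheaf.stalk (f.asFiber y)) := by
  haveI := hS.1
  haveI := hS.2.1
  haveI : IsNoetherianRing (CommRingCat.of A) := inferInstanceAs (IsNoetherianRing A)
  haveI : LocallyOfFiniteType (f.fiberToSpecResidueField (f y)) := MorphismProperty.pullback_snd _ _ hS.2.1
  haveI : IsLocallyNoetherian (f.fiber (f y)) := LocallyOfFiniteType.isLocallyNoetherian (f.fiberToSpecResidueField (f y))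
  refine three_le_dim_of_not_cm _ ((QGorNhdLib.skAt_structureModule_iff _ _ 2).1 (hS.2.2 y)) fun h => hy ?_
  rw [CMFlatLib.isCMAt_iff]
  refine ⟨Flat.stalkMap f y, ?_⟩
  have key : ∀ y' : Y, y' = y → (CMFlatLib.CMFibre (f.stalkMap y').hom → CMFlatLib.CMFibre (f.stalkMap y).hom) := by
    rintro y' rfl; exact id
  exact key _ (f.fiberι_asFiber y) ((CMFlatLib.cm_fibre_stalk_iff f _ _).1 h)

variable {A : Type u} [CommRing A] [IsNoetherianRing A] {Y : Scheme.{u}} [Y.Over (Spec (CommRingCat.of A))]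
  [IsProper (Y ↘ Spec (CommRingCat.of A))]

local notation3 "S₀" => Spec (CommRingCat.of A)

/-- Depth of the relative canonical sheaf at a point all whose specialisations lie in codimension two of their
fibres. -/
theorem two_le_depth_dualizing (d : ℕ) (hS : RelCanon.IsSkMor (Y ↘ S₀) 2) (hd : Cyc.HasRelDim (Y ↘ S₀) d)
    (ω : Y.Modules) (hω : RelCanon.IsDualizingSheaf A Y d ω) (y : Y)
    (h : ∀ v : Y, y ⤳ v → (2 : WithBot ℕ∞) ≤ ringKrullDim (((Y ↘ S₀).fiber ((Y ↘ S₀) v)).presheaf.stalk ((Y ↘ S₀).asFiber v))) :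
    (2 : ℕ∞) ≤ LocCoh.depth (Y.presheaf.stalk y) (ω.presheaf.stalk y) := by
  let f := Y ↘ S₀
  haveI : IsNoetherianRing (CommRingCat.of A) := inferInstanceAs (IsNoetherianRing A)
  haveI : IsLocallyNoetherian Y := LocallyOfFiniteType.isLocallyNoetherian f
  obtain ⟨hcoh, -, hchart⟩ := relCanonical_model d hS hd ω hω
  obtain ⟨c, hA, hB, hfl, P, hP⟩ := hchart y
  haveI := hA; haveI := hB; haveI := hfl
  let H := Dual.HD c.B P.omega (-(d : ℤ))
  haveI : Module.Finite c.B H := (ShriekAlgLib.shriekVia_self_bounded c.A c.B P.n P.ψ P.hψ P.Rψ P.adj).2 _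
  have hH : 2 ≤ LocCoh.idealDepth c.q.asIdeal H := by
    refine RelDualCMLib.two_le_idealDepth_HD P.hψ P.adj _
      (RelDualCMLib.subsingleton_relOmega_of_lt_neg P.hψ P.adj d (fun p => (fibre_rings 2 d hS hd c p).2))
      c.q.asIdeal fun q hq => ?_
    let p := PrimeSpectrum.comap (algebraMap c.A c.B) q
    let Q := PrimeSpectrum.preimageEquivFiber c.A c.B p ⟨q, rfl⟩
    have hQ : Q.asIdeal.comap (Algebra.TensorProduct.includeRight : c.B →ₐ[c.A] p.asIdeal.Fiber c.B).toRingHom = q.asIdeal :=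
      congrArg (fun z => z.1.asIdeal) ((PrimeSpectrum.preimageEquivFiber c.A c.B p).symm_apply_apply ⟨q, rfl⟩)
    obtain ⟨t, ht⟩ := exists_nat_trdeg_quotient p.asIdeal.ResidueField (p.asIdeal.Fiber c.B) Q.asIdeal
    have hsp : y ⤳ c.j q :=
      (specializes_of_eq c.hq.symm).trans (((PrimeSpectrum.le_iff_specializes c.q q).1 hq).map c.j.continuous)
    have h2 : (2 : WithBot ℕ∞) ≤ ringKrullDim (Localization.AtPrime Q.asIdeal) := by
      suffices hQe : ∀ Q' : PrimeSpectrum (p.asIdeal.Fiber c.B),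
          Q'.asIdeal.comap (Algebra.TensorProduct.includeRight : c.B →ₐ[c.A] p.asIdeal.Fiber c.B).toRingHom = q.asIdeal →
          (2 : WithBot ℕ∞) ≤ ringKrullDim (Localization.AtPrime Q'.asIdeal) from hQe Q hQ
      intro Q' hQ'
      obtain rfl : (c.move q).Q = Q' := by
        obtain ⟨⟨q', hq'⟩, rfl⟩ := (PrimeSpectrum.preimageEquivFiber c.A c.B (c.move q).p).surjective Q'
        obtain rfl : q' = q := PrimeSpectrum.ext ((congrArg (fun z => z.1.asIdeal)
          ((PrimeSpectrum.preimageEquivFiber c.A c.B (c.move q).p).symm_apply_apply ⟨q', hq'⟩)).symm.trans hQ')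
        rfl
      exact (h (c.j q) hsp).trans_eq ((c.move q).dim_stalk_fibre.trans
        (IsLocalization.AtPrime.ringKrullDim_eq_height (c.move q).Q.asIdeal
          (Localization.AtPrime (c.move q).Q.asIdeal)).symm)
    have := RelDualCMLib.trdeg_add_two_le d ((fibre_rings 2 d hS hd c p).2) Q h2 t ht
    exact le_trans (Nat.cast_le.2 (by omega)) (RelDualCMLib.le_depth_of_fibre_trdeg P.hψ q p rfl Q hQ t ht)
  rw [← Nat.cast_ofNat, QGorLib.le_idealDepth_iff_forall] at hH
  have h1 := hH c.q le_rfl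
  obtain ⟨E, hE⟩ := hP c.q
  obtain ⟨σ, hσ⟩ := exists_semilinear_localization _ c.q.asIdeal (isLocalization_chartToStalk c.j c.q) E hE
  haveI := hcoh.1
  haveI := PullbackMod.finite_stalk_of_isFT hcoh.2 (c.j c.q)
  have hh : FibreDepth.FibIso (Y.presheaf.stalk (c.j c.q)) (ω.presheaf.stalk (c.j c.q))
      (Localization.AtPrime c.q.asIdeal) (LocalizedModule c.q.asIdeal.primeCompl H) :=
    ⟨σ.toRingHom, σ.surjective, E, hσ⟩
  rw [← hh.depth_eq] at h1
  exact c.hq ▸ h1

/-- Depth of the relative canonical sheaf along a closed set of codimension two in the fibres near a point. -/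
theorem two_le_idealDepth_relCanonical (d : ℕ) (hS : RelCanon.IsSkMor (Y ↘ S₀) 2) (hd : Cyc.HasRelDim (Y ↘ S₀) d)
    (ω : Y.Modules) (hω : RelCanon.IsDualizingSheaf A Y d ω) (U : Y.Opens) (y : Y)
    (h : ∀ v : Y, v ⤳ y → v ∉ U →
      (2 : WithBot ℕ∞) ≤ ringKrullDim (((Y ↘ S₀).fiber ((Y ↘ S₀) v)).presheaf.stalk ((Y ↘ S₀).asFiber v))) :
    2 ≤ LocCoh.idealDepth (idealOff U y) (ω.presheaf.stalk y) := by
  let f := Y ↘ S₀
  haveI : IsNoetherianRing (CommRingCat.of A) := inferInstanceAs (IsNoetherianRing A)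
  haveI : IsLocallyNoetherian Y := LocallyOfFiniteType.isLocallyNoetherian f
  haveI := hS.1
  haveI := hS.2.1
  obtain ⟨hcoh, -, -⟩ := relCanonical_model d hS hd ω hω
  haveI := hcoh.1
  haveI := PullbackMod.finite_stalk_of_isFT hcoh.2 y
  rw [← Nat.cast_ofNat, QGorLib.le_idealDepth_iff_forall]
  intro P hP
  obtain ⟨ψ, e, he⟩ := exists_generization_equiv ω y P
  have hh : FibreDepth.FibIso (Localization.AtPrime P.asIdeal) (LocalizedModule P.asIdeal.primeCompl (ω.presheaf.stalk y))
      (Y.presheaf.stalk (Y.fromSpecStalk y P)) (ω.presheaf.stalk (Y.fromSpecStalk y P)) :=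
    ⟨ψ.toRingHom, ψ.surjective, e, he⟩
  rw [hh.depth_eq]
  let v := Y.fromSpecStalk y P
  have hvy : v ⤳ y := by
    have : Y.fromSpecStalk y P ∈ Set.range (Y.fromSpecStalk y) := ⟨P, rfl⟩
    rwa [Scheme.range_fromSpecStalk] at this
  obtain ⟨V, hV, hVfl, hVres⟩ := cm_model d hS hd ω hω
  have hnd : ∀ w : Y, w ∉ V → (2 : WithBot ℕ∞) ≤ ringKrullDim ((f.fiber (f w)).presheaf.stalk (f.asFiber w)) :=
    fun w hw => le_trans (by norm_num) (three_le_dim_fibre_of_not_cm f hS w fun hc => hw ((hV w).2 hc))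
  show (2 : ℕ∞) ≤ LocCoh.depth (Y.presheaf.stalk v) (ω.presheaf.stalk v)
  by_cases hvV : v ∈ V
  swap
  · exact two_le_depth_dualizing d hS hd ω hω v fun w hw => hnd w fun hwV => hvV (hw.mem_open V.2 hwV)
  have gen : ∀ (t : S₀) (z : f.fiber t), f.fiberι t z ∈ V →
      (2 : WithBot ℕ∞) ≤ ringKrullDim ((f.fiber t).presheaf.stalk z) →
      (2 : ℕ∞) ≤ LocCoh.depth (Y.presheaf.stalk (f.fiberι t z)) (ω.presheaf.stalk (f.fiberι t z)) := by
    intro t z hzV hz2
    let κ := (Spec (CommRingCat.of A)).residueField t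
    let Yt := f.fiber t
    letI : Yt.Over (Spec (CommRingCat.of κ)) := ⟨f.fiberToSpecResidueField t⟩
    obtain ⟨φ, hp⟩ := exists_fibre_hom f t
    let f' := Yt ↘ Spec (CommRingCat.of κ)
    haveI : IsProper f' := MorphismProperty.of_isPullback (P := @IsProper) hp ‹_›
    haveI : IsProper (Yt ↘ Spec (CommRingCat.of κ)) := ‹IsProper f'›
    haveI : IsNoetherianRing (CommRingCat.of κ) := inferInstanceAs (IsNoetherianRing κ)
    haveI : IsLocallyNoetherian Yt := LocallyOfFiniteType.isLocallyNoetherian f'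
    obtain ⟨hS', hd'⟩ := isSkMor_baseChange hp 2 d hS hd
    haveI := hS'.1
    obtain ⟨ωt, hωt⟩ := exists_isDualizingSheaf (A := κ) (Y := Yt) d hS' hd'
    obtain ⟨ires⟩ := hVres t ωt hωt
    obtain ⟨hωtcoh, -, -⟩ := relCanonical_model (A := κ) (Y := Yt) d hS' hd' ωt hωt
    haveI := hωtcoh.1
    have hdK : (2 : ℕ∞) ≤ LocCoh.depth (Yt.presheaf.stalk z) (ωt.presheaf.stalk z) := by
      refine two_le_depth_dualizing (A := κ) (Y := Yt) d hS' hd' ωt hωt z fun u hu => ?_
      have hle : ringKrullDim (Yt.presheaf.stalk z) ≤ ringKrullDim (Yt.presheaf.stalk u) := by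
        obtain ⟨P', hP'⟩ : z ∈ Set.range (Yt.fromSpecStalk u) := by
          rw [Scheme.range_fromSpecStalk]; exact hu
        obtain ⟨ψ', -, -⟩ := exists_generization_equiv ωt u P'
        rw [← hP', ← ringKrullDim_eq_of_ringEquiv ψ',
          IsLocalization.AtPrime.ringKrullDim_eq_height P'.asIdeal (Localization.AtPrime P'.asIdeal)]
        exact Ideal.height_le_ringKrullDim_of_ne_top P'.2.ne_top
      refine (hz2.trans hle).trans_eq ?_
      have hu' : f'.fiberι (f' u) (f'.asFiber u) = u := f'.fiberι_asFiber u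
      have hbij : Function.Bijective ((f'.fiberι (f' u)).stalkMap (f'.asFiber u)) := by
        refine ⟨?_, FlatLocus.fiberι_stalkMap_surjective f' _ _⟩
        rw [injective_iff_map_eq_zero]
        intro x hx
        have hk := (FlatLocus.ker_fiberι_stalkMap f' (f' u) (f'.asFiber u)).le (RingHom.mem_ker.2 hx)
        let K := (Spec (CommRingCat.of κ)).presheaf.stalk (f' (f'.fiberι (f' u) (f'.asFiber u)))
        have hbot : maximalIdeal K = ⊥ := by
          let q := f' (f'.fiberι (f' u) (f'.asFiber u))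
          letI : Algebra κ K := StructureSheaf.stalkAlgebra κ q
          haveI : IsLocalization.AtPrime K q.asIdeal := StructureSheaf.IsLocalization.to_stalk κ q
          rw [← IsLocalization.AtPrime.map_eq_maximalIdeal q.asIdeal K, Ideal.eq_bot_of_prime q.asIdeal, Ideal.map_bot]
        change x ∈ (maximalIdeal K).map _ at hk
        rw [hbot, Ideal.map_bot] at hk
        exact hk
      have key : ∀ u' : Yt, u' = u → ringKrullDim (Yt.presheaf.stalk u') = ringKrullDim (Yt.presheaf.stalk u) := by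
        rintro u' rfl; rfl
      exact (key _ hu').symm.trans (ringKrullDim_eq_of_ringEquiv (RingEquiv.ofBijective _ hbij))
    let ι₀ := f.fiberι t
    let y' := ι₀ z
    let R := (Spec (CommRingCat.of A)).presheaf.stalk (f y')
    let B := Y.presheaf.stalk y'
    let S := Yt.presheaf.stalk z
    letI : Algebra R B := (f.stalkMap y').hom.toAlgebra
    haveI : IsLocalHom (algebraMap R B) := inferInstanceAs (IsLocalHom (f.stalkMap y').hom)
    letI : Algebra B S := (ι₀.stalkMap z).hom.toAlgebra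
    have hSsurj : Function.Surjective (algebraMap B S) := FlatLocus.fiberι_stalkMap_surjective f t z
    have hSker : RingHom.ker (algebraMap B S) = EGA4.mB R B := FlatLocus.ker_fiberι_stalkMap f t z
    letI : Module R (ω.presheaf.stalk y') := FlatMod.moduleStalkOver f ω y'
    haveI : IsScalarTower R B (ω.presheaf.stalk y') := .of_algebraMap_smul fun _ _ => rfl
    haveI : Module.Finite B (ω.presheaf.stalk y') := PullbackMod.finite_stalk_of_isFT hcoh.2 y'
    haveI : Module.Flat R (ω.presheaf.stalk y') := hVfl y' hzV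
    refine two_le_idealDepth_of_fibre_ideal (R := R) (maximalIdeal B) ?_
    let Q := (Scheme.Modules.pullback ι₀).obj ω
    have hQ : Coh.IsCoh Q := PullbackMod.isCoh_pullback ι₀ _ hcoh
    haveI := hQ.1
    let N := Q.presheaf.stalk z
    haveI : Module.Finite S N := PullbackMod.finite_stalk_of_isFT hQ.2 z
    haveI := PullbackMod.finite_stalk_of_isFT hωtcoh.2 z
    letI : Module B N := Module.compHom N (ι₀.stalkMap z).hom
    haveI : IsScalarTower B S N := .of_algebraMap_smul fun _ _ => rfl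
    have hbc : IsBaseChange S (PullbackMod.pullStalkL ι₀ ω z) := PullbackMod.isBaseChange_pullStalkL ι₀ ω z
    obtain ⟨E0⟩ := FibreDepth.exists_quot_equiv hSsurj _ hbc
    obtain ⟨i⟩ := stalk_iso_of_restrict (ι₀ ⁻¹ᵁ V) hQ hωtcoh ires z
      (le_idealDepth_idealOff_of_mem (show z ∈ ι₀ ⁻¹ᵁ V from hzV) _ 2)
      (le_idealDepth_idealOff_of_mem (show z ∈ ι₀ ⁻¹ᵁ V from hzV) _ 2)
    rw [← CAlgBasics.idealDepth_congr (E0.trans (Submodule.quotEquivOfEq _ _ (by rw [hSker]))),
      ← idealDepth_map_of_surjective hSsurj, CAlgBasics.idealDepth_congr i,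
      show (maximalIdeal B).map (algebraMap B S) = maximalIdeal S from IsLocalRing.map_maximalIdeal_of_surjective _ hSsurj]
    exact hdK
  have key : ∀ v' : Y, v' = v → (2 : ℕ∞) ≤ LocCoh.depth (Y.presheaf.stalk v') (ω.presheaf.stalk v') →
      (2 : ℕ∞) ≤ LocCoh.depth (Y.presheaf.stalk v) (ω.presheaf.stalk v) := by
    rintro v' rfl h; exact h
  refine key _ (f.fiberι_asFiber v) (gen _ _ ?_ (h v hvy ((idealOff_le_iff U y P).1 hP)))
  rw [f.fiberι_asFiber]; exact hvV

/-- Codimension bounds on a fibre extend to the points generalising one of its points. -/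
theorem le_dim_of_generization {c : WithBot ℕ∞} (hS : RelCanon.IsSkMor (Y ↘ S₀) 2) (U : Y.Opens) (y : Y)
    (hc : ∀ v : Y, (Y ↘ S₀) v = (Y ↘ S₀) y → v ⤳ y → v ∉ U →
      c ≤ ringKrullDim (((Y ↘ S₀).fiber ((Y ↘ S₀) v)).presheaf.stalk ((Y ↘ S₀).asFiber v))) :
    ∀ v : Y, v ⤳ y → v ∉ U →
      c ≤ ringKrullDim (((Y ↘ S₀).fiber ((Y ↘ S₀) v)).presheaf.stalk ((Y ↘ S₀).asFiber v)) := by
  intro v hvy hvU
  haveI : IsNoetherianRing (CommRingCat.of A) := inferInstanceAs (IsNoetherianRing A)
  haveI : IsLocallyNoetherian Y := LocallyOfFiniteType.isLocallyNoetherian (Y ↘ S₀)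
  haveI := hS.1
  obtain ⟨N, hyN, -, -, hN⟩ := S19832.result (Y ↘ S₀) 2 le_rfl y (hS.2.2 y) U
    (fun hy => hvU (hvy.mem_open U.2 hy)) c (fun z hz hzU hzy => hc z hz hzy hzU)
  exact hN v (hvy.mem_open N.2 hyN) hvU

end Groth.Agent.FibreDualLib
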