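import Mathlib
import Groth.Prelude.Def_EGA4b

/-!
# Maps between flat modules from the closed fibre
-/

set_option autoImplicit false
set_option linter.style.haveILetI false
set_option linter.unusedSectionVars false
set_option maxHeartbeats 800000

universe u

open IsLocalRing

namespace Groth.Agent.FibreDualLib.FlatLift

/-- A list of elements with linearly independent classes. -/
theorem exists_minimal_gens {R : Type u} [CommRing R] [IsLocalRing R] [IsNoetherianRing R] (I : Ideal R) :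
    ∃ (s : ℕ) (r : Fin s → R), Ideal.span (Set.range r) = I ∧
      ∀ c : Fin s → R, ∑ l, c l * r l = 0 → ∀ l, c l ∈ maximalIdeal R := by
  classical
  have hex : ∃ s, ∃ r : Fin s → R, Ideal.span (Set.range r) = I := by
    obtain ⟨T, hT⟩ := (isNoetherianRing_iff_ideal_fg R).1 inferInstance I
    exact ⟨T.card, fun l => (T.equivFin.symm l : R), by
      rw [show (Set.range fun l => (T.equivFin.symm l : R)) = (T : Set R) from ?_]
      · exact hT
      ext x
      exact ⟨fun ⟨l, hl⟩ => hl ▸ (T.equivFin.symm l).2, fun hx => ⟨T.equivFin ⟨x, hx⟩, by simp⟩⟩⟩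
  have drop : ∀ (n : ℕ) (r c : Fin (n + 1) → R), Ideal.span (Set.range r) = I → ∑ l, c l * r l = 0 →
      ∀ j, IsUnit (c j) → ∃ r' : Fin n → R, Ideal.span (Set.range r') = I := fun n r c hr hc j ⟨v, hv⟩ => by
    refine ⟨r ∘ j.succAbove, le_antisymm ((Ideal.span_mono (Set.range_comp_subset_range _ _)).trans hr.le) ?_⟩
    rw [← hr, Ideal.span_le]
    rintro _ ⟨i, rfl⟩
    rcases eq_or_ne i j with rfl | hj
    · rw [Fin.sum_univ_succAbove _ i] at hc
      have : r i = -(↑v⁻¹ * ∑ k, c (i.succAbove k) * r (i.succAbove k)) := by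
        rw [eq_neg_of_add_eq_zero_right hc, ← hv, mul_neg, neg_neg, Units.inv_mul_cancel_left]
      rw [this]
      exact neg_mem (Ideal.mul_mem_left _ _ (sum_mem fun k _ => Ideal.mul_mem_left _ _ (Ideal.subset_span ⟨k, rfl⟩)))
    · obtain ⟨k, rfl⟩ := Fin.exists_succAbove_eq hj
      exact Ideal.subset_span ⟨k, rfl⟩
  have key : ∀ (m : ℕ) (r c : Fin m → R), Ideal.span (Set.range r) = I → ∑ l, c l * r l = 0 → ∀ j, IsUnit (c j) →
      ∃ m' < m, ∃ r' : Fin m' → R, Ideal.span (Set.range r') = I := by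
    intro m r c hr hc j hj
    cases m with
    | zero => exact j.elim0
    | succ n => exact ⟨n, Nat.lt_succ_self n, drop n r c hr hc j hj⟩
  obtain ⟨r, hr⟩ := Nat.find_spec hex
  refine ⟨_, r, hr, fun c hc l => ?_⟩
  by_contra hl
  obtain ⟨m', hm', hm''⟩ := key _ r c hr hc l (by
    by_contra h
    exact hl ((mem_maximalIdeal _).2 h))
  exact Nat.find_min hex hm' hm''

variable {R B : Type u} [CommRing R] [CommRing B] [Algebra R B]

/-- Elements of an extended ideal times a module, through chosen generators. -/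
theorem exists_combination {M : Type u} [AddCommGroup M] [Module R M] [Module B M] [IsScalarTower R B M] {s : ℕ}
    (r : Fin s → R) (J : Ideal B) {x : M}
    (hx : x ∈ (Ideal.span (Set.range r)).map (algebraMap R B) • (J • (⊤ : Submodule B M))) :
    ∃ y : Fin s → M, (∀ l, y l ∈ J • (⊤ : Submodule B M)) ∧ x = ∑ l, r l • y l := by
  classical
  refine Submodule.smul_induction_on hx (fun b hb m hm => ?_) (fun x y ⟨a, ha, hx⟩ ⟨c, hc, hy⟩ =>
    ⟨a + c, fun l => add_mem (ha l) (hc l), by simp [hx, hy, smul_add, Finset.sum_add_distrib]⟩)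
  rw [Ideal.map_span, ← Set.range_comp] at hb
  obtain ⟨c, rfl⟩ := (Submodule.mem_span_range_iff_exists_fun B).1 hb
  refine ⟨fun l => c l • m, fun l => Submodule.smul_mem _ _ hm, ?_⟩
  rw [Finset.sum_smul]
  exact Finset.sum_congr rfl fun l _ => by
    rw [smul_assoc, smul_comm (r l), Function.comp_apply, algebraMap_smul]

variable [IsLocalRing R] [IsNoetherianRing R]

/-- The coefficients of a vanishing combination of minimal generators in a flat module. -/
theorem mem_smul_top_of_sum_eq_zero {M : Type u} [AddCommGroup M] [Module R M] [Module B M] [IsScalarTower R B M]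
    [Module.Flat R M] {s : ℕ} (r : Fin s → R) (hr : ∀ c : Fin s → R, ∑ l, c l * r l = 0 → ∀ l, c l ∈ maximalIdeal R)
    (x : Fin s → M) (h : ∑ l, r l • x l = 0) (l : Fin s) :
    x l ∈ EGA4.mB R B • (⊤ : Submodule B M) := by
  obtain ⟨k, a, z, hx, ha⟩ := Module.Flat.isTrivialRelation_of_sum_smul_eq_zero h
  rw [hx l]
  refine sum_mem fun j _ => ?_
  rw [← algebraMap_smul B (a l j)]
  refine Submodule.smul_mem_smul (Ideal.mem_map_of_mem _ (hr (fun i => a i j) ?_ l)) Submodule.mem_top
  rw [← ha j]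
  exact Finset.sum_congr rfl fun i _ => mul_comm _ _

/-- The kernel of a map onto a flat module meets the closed fibre in its own. -/
theorem mem_smul_ker {F L : Type u} [AddCommGroup F] [Module R F] [Module B F] [IsScalarTower R B F]
    [AddCommGroup L] [Module R L] [Module B L] [IsScalarTower R B L] [Module.Flat R L]
    (π : F →ₗ[B] L) (hπ : Function.Surjective π) (x : LinearMap.ker π)
    (hx : (x : F) ∈ EGA4.mB R B • (⊤ : Submodule B F)) :
    x ∈ EGA4.mB R B • (⊤ : Submodule B (LinearMap.ker π)) := by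
  classical
  obtain ⟨s, r, hr, -⟩ := exists_minimal_gens (maximalIdeal R)
  obtain ⟨y, -, hy⟩ := exists_combination r (⊤ : Ideal B) (M := F) (x := x.1) (by
    rw [hr, Submodule.top_smul]; exact hx)
  have h : ∑ l, r l • π (y l) = 0 := by
    have h1 := x.2
    rw [LinearMap.mem_ker, hy, map_sum] at h1
    simpa only [LinearMap.map_smul_of_tower] using h1
  obtain ⟨k, a, z, hz, ha⟩ := Module.Flat.isTrivialRelation_of_sum_smul_eq_zero h
  choose z' hz' using fun j => hπ (z j)
  let w : Fin s → LinearMap.ker π := fun l => ⟨y l - ∑ j, a l j • z' j, by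
    have hzl : π (y l) = ∑ j, a l j • z j := hz l
    rw [LinearMap.mem_ker, map_sub, map_sum, hzl, sub_eq_zero]
    exact Finset.sum_congr rfl fun j _ => by rw [LinearMap.map_smul_of_tower, hz']⟩
  have hxw : x = ∑ l, r l • w l := by
    apply Subtype.ext
    rw [AddSubmonoidClass.coe_finset_sum]
    show x.1 = ∑ l, r l • (y l - ∑ j, a l j • z' j)
    simp only [smul_sub, Finset.sum_sub_distrib, Finset.smul_sum, smul_smul]
    rw [Finset.sum_comm, ← hy]
    simp only [← Finset.sum_smul, ha, zero_smul, Finset.sum_const_zero, sub_zero]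
  rw [hxw]
  refine sum_mem fun l _ => ?_
  rw [← algebraMap_smul B (r l)]
  exact Submodule.smul_mem_smul (Ideal.mem_map_of_mem _ (hr ▸ Ideal.subset_span ⟨l, rfl⟩)) Submodule.mem_top

variable [IsLocalRing B] [IsNoetherianRing B] [IsLocalHom (algebraMap R B)]
  {L M : Type u} [AddCommGroup L] [Module R L] [Module B L] [IsScalarTower R B L] [Module.Flat R L] [Module.Finite B L]
  [AddCommGroup M] [Module R M] [Module B M] [IsScalarTower R B M] [Module.Flat R M] [Module.Finite B M]

variable (R) in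
/-- Extensions of the closed fibre of `L` by that of `M` split. -/
def FibreSplit (L M : Type u) [AddCommGroup L] [Module B L] [AddCommGroup M] [Module B M] : Prop :=
  ∀ (E : Type u) [AddCommGroup E] [Module B E], (∀ a ∈ EGA4.mB R B, ∀ x : E, a • x = 0) →
    ∀ (i : EGA4.FibMod R B M →ₗ[B] E) (p : E →ₗ[B] EGA4.FibMod R B L),
      Function.Injective i → Function.Exact i p → Function.Surjective p →
        ∃ s : EGA4.FibMod R B L →ₗ[B] E, p ∘ₗ s = LinearMap.id

/-- Maps from the relations into the closed fibre extend. -/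
theorem exists_extend_fibre (hsplit : FibreSplit R (B := B) L M) {a : ℕ} (π : (Fin a → B) →ₗ[B] L)
    (hπ : Function.Surjective π) (h : LinearMap.ker π →ₗ[B] EGA4.FibMod R B M) :
    ∃ g : (Fin a → B) →ₗ[B] EGA4.FibMod R B M, ∀ k, g k.1 = h k := by
  let 𝔞 := EGA4.mB R B
  let M0 := EGA4.FibMod R B M
  let F := Fin a → B
  let F0 := F ⧸ (𝔞 • ⊤ : Submodule B F)
  let j : LinearMap.ker π →ₗ[B] F0 × M0 := ((𝔞 • ⊤ : Submodule B F).mkQ ∘ₗ (LinearMap.ker π).subtype).prod (-h)
  let E := (F0 × M0) ⧸ LinearMap.range j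
  let i : M0 →ₗ[B] E := (LinearMap.range j).mkQ ∘ₗ LinearMap.inr B F0 M0
  let π0 : F0 →ₗ[B] EGA4.FibMod R B L := (𝔞 • ⊤ : Submodule B F).mapQ (𝔞 • ⊤ : Submodule B L) π (by
    rw [← Submodule.map_le_iff_le_comap, Submodule.map_smul'']
    exact Submodule.smul_mono le_rfl le_top)
  let p : E →ₗ[B] EGA4.FibMod R B L := (LinearMap.range j).liftQ (π0 ∘ₗ LinearMap.fst B F0 M0) (by
    rintro _ ⟨k, rfl⟩
    show π0 (Submodule.Quotient.mk k.1) = 0
    rw [Submodule.mapQ_apply, show π k.1 = 0 from k.2, Submodule.Quotient.mk_zero])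
  have hkill : ∀ b ∈ 𝔞, ∀ x : E, b • x = 0 := fun b hb x => by
    obtain ⟨⟨f, m⟩, rfl⟩ := Submodule.Quotient.mk_surjective _ x
    obtain ⟨f, rfl⟩ := Submodule.Quotient.mk_surjective _ f
    obtain ⟨m, rfl⟩ := Submodule.Quotient.mk_surjective _ m
    rw [← Submodule.Quotient.mk_smul, Prod.smul_mk, ← Submodule.Quotient.mk_smul, ← Submodule.Quotient.mk_smul,
      (Submodule.Quotient.mk_eq_zero _).2 (Submodule.smul_mem_smul hb Submodule.mem_top),
      (Submodule.Quotient.mk_eq_zero _).2 (Submodule.smul_mem_smul hb Submodule.mem_top)]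
    rfl
  have hi : Function.Injective i := (injective_iff_map_eq_zero _).2 fun m hm => by
    obtain ⟨k, hk⟩ := (Submodule.Quotient.mk_eq_zero _).1 hm
    have h1 : k ∈ 𝔞 • (⊤ : Submodule B (LinearMap.ker π)) :=
      mem_smul_ker π hπ k ((Submodule.Quotient.mk_eq_zero _).1 (congrArg Prod.fst hk))
    have h2 : h k = 0 := by
      refine Submodule.smul_induction_on h1 (fun b hb x _ => ?_) (fun x y hx hy => by rw [map_add, hx, hy, add_zero])
      obtain ⟨v, hv⟩ := Submodule.Quotient.mk_surjective _ (h x)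
      rw [map_smul, ← hv, ← Submodule.Quotient.mk_smul, Submodule.Quotient.mk_eq_zero]
      exact Submodule.smul_mem_smul hb Submodule.mem_top
    have h3 : -h k = m := congrArg Prod.snd hk
    rw [← h3, h2, neg_zero]
  have hp : Function.Surjective p := fun l => by
    obtain ⟨l, rfl⟩ := Submodule.Quotient.mk_surjective _ l
    obtain ⟨f, rfl⟩ := hπ l
    exact ⟨Submodule.Quotient.mk (Submodule.Quotient.mk f, 0), rfl⟩
  have hex : Function.Exact i p := fun x => by
    obtain ⟨⟨f, m⟩, rfl⟩ := Submodule.Quotient.mk_surjective _ x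
    obtain ⟨f, rfl⟩ := Submodule.Quotient.mk_surjective _ f
    constructor
    · intro hx
      change Submodule.Quotient.mk (π f) = (0 : EGA4.FibMod R B L) at hx
      rw [Submodule.Quotient.mk_eq_zero] at hx
      have hmap : (𝔞 • ⊤ : Submodule B F).map π = 𝔞 • ⊤ := by
        rw [Submodule.map_smul'', Submodule.map_top, LinearMap.range_eq_top.2 hπ]
      obtain ⟨f', hf', hff'⟩ := hmap.ge hx
      let k : LinearMap.ker π := ⟨f - f', by rw [LinearMap.mem_ker, map_sub, hff', sub_self]⟩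
      refine ⟨m + h k, (Submodule.Quotient.eq _).2 ⟨-k, ?_⟩⟩
      refine Prod.ext ?_ ?_
      · show Submodule.Quotient.mk (-(f - f')) = 0 - Submodule.Quotient.mk f
        rw [zero_sub, ← Submodule.Quotient.mk_neg, Submodule.Quotient.eq, neg_sub, sub_neg_eq_add, sub_add_cancel]
        exact hf'
      · show -h (-k) = m + h k - m
        rw [map_neg, neg_neg, add_sub_cancel_left]
    · rintro ⟨m', hm'⟩
      rw [← hm']
      exact map_zero π0
  obtain ⟨s, hs⟩ := hsplit E hkill i p hi hex hp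
  let q : F →ₗ[B] E := (LinearMap.range j).mkQ ∘ₗ LinearMap.inl B F0 M0 ∘ₗ (𝔞 • ⊤ : Submodule B F).mkQ
  let δ : F →ₗ[B] E := q - s ∘ₗ (p ∘ₗ q)
  have hδ : ∀ f, δ f ∈ LinearMap.range i := fun f => (hex _).1 (by
    show p (q f - s (p (q f))) = 0
    rw [map_sub]
    exact sub_eq_zero.2 (LinearMap.congr_fun hs (p (q f))).symm)
  refine ⟨(LinearEquiv.ofInjective i hi).symm.toLinearMap ∘ₗ δ.codRestrict (LinearMap.range i) hδ, fun k => ?_⟩
  refine (LinearEquiv.symm_apply_eq _).2 (Subtype.ext ?_)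
  show q k.1 - s (p (q k.1)) = Submodule.Quotient.mk (0, h k)
  have h0 : p (q k.1) = 0 := by
    show Submodule.Quotient.mk (π k.1) = (0 : EGA4.FibMod R B L)
    rw [show π k.1 = 0 from k.2, Submodule.Quotient.mk_zero]
  rw [h0, map_zero, sub_zero]
  refine (Submodule.Quotient.eq _).2 ⟨k, Prod.ext ?_ ?_⟩
  · exact (sub_zero _).symm
  · exact (zero_sub _).symm

variable (R) in
/-- The powers of the ideal of the closed fibre. -/
theorem mB_pow (n : ℕ) : EGA4.mB R B ^ n = (maximalIdeal R ^ n).map (algebraMap R B) :=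
  (Ideal.map_pow _ _ _).symm

/-- Maps from the relations extend, with values divisible as often. -/
theorem exists_extend (hsplit : FibreSplit R (B := B) L M) {a : ℕ} (π : (Fin a → B) →ₗ[B] L)
    (hπ : Function.Surjective π) (e : ℕ) (h : LinearMap.ker π →ₗ[B] M)
    (he : ∀ k, h k ∈ EGA4.mB R B ^ e • (⊤ : Submodule B M)) :
    ∃ g : (Fin a → B) →ₗ[B] M, (∀ x, g x ∈ EGA4.mB R B ^ e • (⊤ : Submodule B M)) ∧ ∀ k, g k.1 = h k := by
  classical
  let 𝔞 := EGA4.mB R B
  let F := Fin a → B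
  let K := LinearMap.ker π
  obtain ⟨b, κ', hκ'⟩ := Module.Finite.exists_fin' B K
  let κ : (Fin b → B) →ₗ[B] F := K.subtype ∘ₗ κ'
  let eK := κ'.quotKerEquivOfSurjective hκ'
  have hlift : ∀ χ : (Fin b → B) →ₗ[B] EGA4.FibMod R B M, LinearMap.ker κ' ≤ LinearMap.ker χ →
      ∃ g : F →ₗ[B] M, ∀ x, Submodule.Quotient.mk (g (κ x)) = χ x := fun χ hχ => by
    obtain ⟨g, hg⟩ := exists_extend_fibre hsplit π hπ ((LinearMap.ker κ').liftQ χ hχ ∘ₗ eK.symm.toLinearMap)
    obtain ⟨g', hg'⟩ := Module.projective_lifting_property (𝔞 • ⊤ : Submodule B M).mkQ g (Submodule.mkQ_surjective _)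
    refine ⟨g', fun x => (LinearMap.congr_fun hg' (κ x)).trans ((hg (κ' x)).trans ?_)⟩
    show (LinearMap.ker κ').liftQ χ hχ (eK.symm (eK (Submodule.Quotient.mk x))) = χ x
    rw [LinearEquiv.symm_apply_apply]
    rfl
  have hP : ∀ n, ∃ g : F →ₗ[B] M, (∀ x, g x ∈ 𝔞 ^ e • (⊤ : Submodule B M)) ∧
      ∀ x, h (κ' x) - g (κ x) ∈ 𝔞 ^ (e + n) • (⊤ : Submodule B M) := by
    intro n
    induction n with
    | zero => exact ⟨0, fun _ => zero_mem _, fun x => by simpa using he (κ' x)⟩
    | succ n ih =>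
      obtain ⟨g, hg, hgx⟩ := ih
      obtain ⟨s, r, hr, hrm⟩ := exists_minimal_gens (maximalIdeal R ^ (e + n))
      have hsp : (Ideal.span (Set.range r)).map (algebraMap R B) = 𝔞 ^ (e + n) := by rw [hr]; exact (mB_pow R _).symm
      have hb : ∀ i : Fin b, ∃ y : Fin s → M, h (κ' (Pi.single i 1)) - g (κ (Pi.single i 1)) = ∑ l, r l • y l := fun i => by
        obtain ⟨y, -, hy⟩ := exists_combination r (⊤ : Ideal B) (M := M) (x := h (κ' (Pi.single i 1)) - g (κ (Pi.single i 1)))
          (by rw [hsp, Submodule.top_smul]; exact hgx _)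
        exact ⟨y, hy⟩
      choose y hy using hb
      let χ : Fin s → ((Fin b → B) →ₗ[B] M) := fun l => (Pi.basisFun B (Fin b)).constr B fun i => y i l
      have hχ : ∀ x, h (κ' x) - g (κ x) = ∑ l, r l • χ l x := fun x => by
        have : h ∘ₗ κ' - g ∘ₗ κ = ∑ l, r l • χ l := (Pi.basisFun B (Fin b)).ext fun i => by
          rw [LinearMap.sum_apply]
          simp only [Pi.basisFun_apply, LinearMap.sub_apply, LinearMap.comp_apply, LinearMap.smul_apply, χ]
          rw [hy i]
          exact Finset.sum_congr rfl fun l _ => by rw [← Pi.basisFun_apply B (Fin b) i, Module.Basis.constr_basis]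
        simpa using LinearMap.congr_fun this x
      have hg' : ∀ l, ∃ gl : F →ₗ[B] M, ∀ x, χ l x - gl (κ x) ∈ 𝔞 • (⊤ : Submodule B M) := fun l => by
        obtain ⟨gl, hgl⟩ := hlift ((𝔞 • ⊤ : Submodule B M).mkQ ∘ₗ χ l) fun x hx => by
          have h0 := hχ x
          rw [show κ' x = 0 from hx, map_zero, show κ x = 0 by simp [κ, show κ' x = 0 from hx], map_zero,
            sub_zero] at h0
          exact (Submodule.Quotient.mk_eq_zero _).2 (mem_smul_top_of_sum_eq_zero r hrm (fun l => χ l x) h0.symm l)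
        exact ⟨gl, fun x => (Submodule.Quotient.eq _).1 (hgl x).symm⟩
      choose gl hgl using hg'
      have hrmem : ∀ l, algebraMap R B (r l) ∈ 𝔞 ^ (e + n) := fun l =>
        hsp ▸ Ideal.mem_map_of_mem _ (Ideal.subset_span ⟨l, rfl⟩)
      refine ⟨g + ∑ l, algebraMap R B (r l) • gl l, fun x => ?_, fun x => ?_⟩
      · rw [LinearMap.add_apply, LinearMap.sum_apply]
        refine add_mem (hg x) (sum_mem fun l _ => ?_)
        exact Submodule.smul_mono (Ideal.pow_le_pow_right (Nat.le_add_right e n)) le_rfl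
          (Submodule.smul_mem_smul (hrmem l) Submodule.mem_top)
      · rw [LinearMap.add_apply, LinearMap.sum_apply, ← sub_sub, hχ x, ← Finset.sum_sub_distrib]
        refine sum_mem fun l _ => ?_
        rw [LinearMap.smul_apply, ← algebraMap_smul B (r l) (χ l x), ← smul_sub, ← add_assoc, pow_succ, mul_smul]
        exact Submodule.smul_mem_smul (hrmem l) (hgl l x)
  -- the maps coming from the free module form a closed set
  let C := (Fin b → B) →ₗ[B] M
  let T : Submodule B C := (𝔞 ^ e • (⊤ : Submodule B (F →ₗ[B] M))).map (LinearMap.lcomp B M κ)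
  have hval : ∀ (n : ℕ) {d : ℕ} (φ : (Fin d → B) →ₗ[B] M),
      (∀ x, φ x ∈ 𝔞 ^ n • (⊤ : Submodule B M)) → φ ∈ 𝔞 ^ n • (⊤ : Submodule B ((Fin d → B) →ₗ[B] M)) := by
    intro n d φ hφ
    rw [show φ = ∑ i, (LinearMap.proj i : (Fin d → B) →ₗ[B] B).smulRight (φ (Pi.single i 1)) from
      (Pi.basisFun B (Fin d)).ext fun j => by
        rw [LinearMap.sum_apply, Finset.sum_eq_single j (fun i _ hij => by simp [Pi.basisFun_apply, hij])
          (fun h => absurd (Finset.mem_univ j) h)]
        simp [Pi.basisFun_apply]]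
    refine sum_mem fun i _ => ?_
    have h1 := Submodule.mem_map_of_mem
      (f := LinearMap.smulRightₗ (LinearMap.proj i : (Fin d → B) →ₗ[B] B)) (hφ (Pi.single i 1))
    rw [Submodule.map_smul''] at h1
    exact Submodule.smul_mono le_rfl le_top h1
  have hmem : h ∘ₗ κ' ∈ T := by
    rw [← Submodule.Quotient.mk_eq_zero, ← Submodule.mem_bot B,
      ← Ideal.iInf_pow_smul_eq_bot_of_isLocalRing 𝔞 (M := C ⧸ T) (fun h => (maximalIdeal.isMaximal B).ne_top
        (eq_top_iff.2 (h.ge.trans (map_maximalIdeal_le (algebraMap R B))))), Submodule.mem_iInf]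
    intro n
    obtain ⟨g, hg, hgx⟩ := hP n
    have h1 : h ∘ₗ κ' - g ∘ₗ κ ∈ 𝔞 ^ n • (⊤ : Submodule B C) :=
      hval n _ fun x => Submodule.smul_mono (Ideal.pow_le_pow_right (Nat.le_add_left n e)) le_rfl (hgx x)
    have h2 := Submodule.mem_map_of_mem (f := T.mkQ) h1
    rw [Submodule.map_smul''] at h2
    have h3 : T.mkQ (g ∘ₗ κ) = 0 := (Submodule.Quotient.mk_eq_zero _).2 ⟨g, hval e g hg, rfl⟩
    rw [map_sub, h3, sub_zero] at h2
    exact Submodule.smul_mono le_rfl le_top h2
  obtain ⟨g, hg, hgκ⟩ := hmem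
  refine ⟨g, fun x => ?_, fun k => ?_⟩
  · have h1 := Submodule.mem_map_of_mem (f := LinearMap.applyₗ x) hg
    rw [Submodule.map_smul''] at h1
    exact Submodule.smul_mono le_rfl le_top h1
  · obtain ⟨x, rfl⟩ := hκ' k
    exact LinearMap.congr_fun hgκ x

/-- Extensions of flat modules whose fibres have no extensions split. -/
theorem exists_section (hsplit : FibreSplit R (B := B) L M) {E : Type u} [AddCommGroup E] [Module B E]
    (i : M →ₗ[B] E) (p : E →ₗ[B] L) (hi : Function.Injective i) (hex : Function.Exact i p)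
    (hp : Function.Surjective p) : ∃ s : L →ₗ[B] E, p ∘ₗ s = LinearMap.id := by
  obtain ⟨a, π, hπ⟩ := Module.Finite.exists_fin' B L
  obtain ⟨g0, hg0⟩ := Module.projective_lifting_property p π hp
  have h0 : ∀ k : LinearMap.ker π, g0 k.1 ∈ LinearMap.range i := fun k => (hex _).1 ((LinearMap.congr_fun hg0 _).trans k.2)
  obtain ⟨g, -, hg⟩ := exists_extend hsplit π hπ 0
    ((LinearEquiv.ofInjective i hi).symm.toLinearMap ∘ₗ (g0 ∘ₗ (LinearMap.ker π).subtype).codRestrict (LinearMap.range i) h0)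
    (fun k => by rw [pow_zero, Ideal.one_eq_top, Submodule.top_smul]; exact Submodule.mem_top)
  have hker : LinearMap.ker π ≤ LinearMap.ker (g0 - i ∘ₗ g) := fun k hk => by
    rw [LinearMap.mem_ker, LinearMap.sub_apply, LinearMap.comp_apply, hg ⟨k, hk⟩, sub_eq_zero]
    exact (congrArg Subtype.val ((LinearEquiv.ofInjective i hi).apply_symm_apply ⟨g0 k, h0 ⟨k, hk⟩⟩)).symm
  refine ⟨(LinearMap.ker π).liftQ _ hker ∘ₗ (π.quotKerEquivOfSurjective hπ).symm.toLinearMap, LinearMap.ext fun l => ?_⟩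
  obtain ⟨x, rfl⟩ := hπ l
  show p ((LinearMap.ker π).liftQ _ hker ((π.quotKerEquivOfSurjective hπ).symm
    ((π.quotKerEquivOfSurjective hπ) (Submodule.Quotient.mk x)))) = π x
  rw [LinearEquiv.symm_apply_apply]
  show p (g0 x - i (g x)) = π x
  rw [map_sub, hex.apply_apply_eq_zero, sub_zero]
  exact LinearMap.congr_fun hg0 x

/-- Flat modules with the same closed fibre are isomorphic when the fibre has no self-extensions. -/
theorem nonempty_equiv (hsplit : FibreSplit R (B := B) L M)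
    (φ0 : EGA4.FibMod R B L ≃ₗ[B] EGA4.FibMod R B M) : Nonempty (L ≃ₗ[B] M) := by
  let 𝔞 := EGA4.mB R B
  obtain ⟨a, π, hπ⟩ := Module.Finite.exists_fin' B L
  let q := (𝔞 • ⊤ : Submodule B M).mkQ
  obtain ⟨g0, hg0⟩ := Module.projective_lifting_property q (φ0.toLinearMap ∘ₗ (𝔞 • ⊤ : Submodule B L).mkQ ∘ₗ π)
    (Submodule.mkQ_surjective _)
  obtain ⟨g1, hg1, hg1k⟩ := exists_extend hsplit π hπ 1 (g0 ∘ₗ (LinearMap.ker π).subtype) fun k => by
    rw [pow_one, ← Submodule.Quotient.mk_eq_zero]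
    refine (LinearMap.congr_fun hg0 k.1).trans ?_
    show φ0 (Submodule.Quotient.mk (π k.1)) = 0
    rw [show π k.1 = 0 from k.2, Submodule.Quotient.mk_zero, map_zero]
  have hker : LinearMap.ker π ≤ LinearMap.ker (g0 - g1) := fun k hk => by
    rw [LinearMap.mem_ker, LinearMap.sub_apply, hg1k ⟨k, hk⟩]
    exact sub_self _
  let φ : L →ₗ[B] M := (LinearMap.ker π).liftQ _ hker ∘ₗ (π.quotKerEquivOfSurjective hπ).symm.toLinearMap
  have hφ : ∀ l, q (φ l) = φ0 (Submodule.Quotient.mk l) := fun l => by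
    obtain ⟨x, rfl⟩ := hπ l
    show q ((LinearMap.ker π).liftQ _ hker ((π.quotKerEquivOfSurjective hπ).symm
      ((π.quotKerEquivOfSurjective hπ) (Submodule.Quotient.mk x)))) = _
    rw [LinearEquiv.symm_apply_apply]
    show q (g0 x - g1 x) = _
    rw [map_sub, show q (g1 x) = 0 from (Submodule.Quotient.mk_eq_zero _).2 (pow_one 𝔞 ▸ hg1 x), sub_zero]
    exact LinearMap.congr_fun hg0 x
  have hJ : 𝔞 ≤ Ideal.jacobson ⊥ := (map_maximalIdeal_le (algebraMap R B)).trans (maximalIdeal_le_jacobson ⊥)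
  have hs : Function.Surjective φ := by
    rw [← LinearMap.range_eq_top]
    refine top_le_iff.1 (Submodule.le_of_le_smul_of_le_jacobson_bot (I := 𝔞) Module.Finite.fg_top hJ fun m _ => ?_)
    obtain ⟨l, hl⟩ := φ0.surjective (Submodule.Quotient.mk m)
    obtain ⟨l, rfl⟩ := Submodule.Quotient.mk_surjective _ l
    rw [← hφ] at hl
    exact Submodule.mem_sup.2 ⟨φ l, ⟨l, rfl⟩, m - φ l, (Submodule.Quotient.eq _).1 hl.symm, add_sub_cancel _ _⟩
  have hk : LinearMap.ker φ = ⊥ := by
    have htop : (⊤ : Submodule B (LinearMap.ker φ)) = ⊥ := by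
      refine Submodule.eq_bot_of_le_smul_of_le_jacobson_bot 𝔞 ⊤ Module.Finite.fg_top (fun k _ => ?_) hJ
      refine mem_smul_ker φ hs k ((Submodule.Quotient.mk_eq_zero _).1 (φ0.injective ?_))
      rw [← hφ, show φ k.1 = 0 from k.2, map_zero, map_zero]
    refine eq_bot_iff.2 fun x hx => ?_
    have := htop.le (Submodule.mem_top (x := (⟨x, hx⟩ : LinearMap.ker φ)))
    exact congrArg Subtype.val ((Submodule.mem_bot B).1 this)
  exact ⟨LinearEquiv.ofBijective φ ⟨LinearMap.ker_eq_bot.1 hk, hs⟩⟩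

end Groth.Agent.FibreDualLib.FlatLift
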