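import Groth.Agent.FibreDualLib.BCCanonical
import Groth.Agent.FibreDualLib.FlatLift
import Groth.Agent.DualCxLib.FlatDual
import Groth.Agent.CMFlatLib.Locus

/-!
# The relative canonical sheaf on the relative Cohen–Macaulay locus
-/

set_option autoImplicit false
set_option linter.style.haveILetI false
set_option linter.unusedSectionVars false
set_option backward.isDefEq.respectTransparency false
set_option backward.isDefEq.respectTransparency.types false
set_option maxHeartbeats 1600000

universe u

open CategoryTheory CategoryTheory.Limits AlgebraicGeometry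
open Groth.Agent.DCohLib Groth.Agent.DCohMore Groth.Agent.TwistShriek Groth.Agent.CohBase
open Groth.Agent.DimFormulaLib Groth.Agent.ShriekBridge Groth.Agent.FMKLib

attribute [local instance] HasDerivedCategory.standard

noncomputable section

namespace Groth.Agent.FibreDualLib

/-- A dualizing complex with one cohomology module has no self-extensions in that module. -/
theorem subsingleton_ext_of_concentrated {C : Type u} [CommRing C] {W : Dual.D C} (hW : Dual.IsDualizing C W) (m : ℤ)
    (hc : ∀ i, i ≠ m → Subsingleton (Dual.HD C W i)) :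
    Subsingleton (Abelian.Ext (ModuleCat.of C (Dual.HD C W m)) (ModuleCat.of C (Dual.HD C W m)) 1) := by
  haveI : W.IsGE m := (DerivedCategory.isGE_iff _ _).2 fun i hi => by
    haveI : Subsingleton ((DerivedCategory.homologyFunctor (ModuleCat.{u} C) i).obj W) := hc i (by omega)
    exact ModuleCat.isZero_of_subsingleton _
  haveI : W.IsLE m := (DerivedCategory.isLE_iff _ _).2 fun i hi => by
    haveI : Subsingleton ((DerivedCategory.homologyFunctor (ModuleCat.{u} C) i).obj W) := hc i (by omega)
    exact ModuleCat.isZero_of_subsingleton _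
  obtain ⟨N, ⟨e⟩⟩ := DerivedCategory.exists_iso_singleFunctor_obj_of_isGE_of_isLE W m
  let eN : N ≅ ModuleCat.of C (Dual.HD C W m) :=
    ((DerivedCategory.singleFunctorCompHomologyFunctorIso (ModuleCat.{u} C) m).app N).symm ≪≫
      (DerivedCategory.homologyFunctor (ModuleCat.{u} C) m).mapIso e.symm
  let K := Dual.inD C (Dual.HD C W m)
  let eK : K ≅ W⟦m⟧ :=
    (((DerivedCategory.singleFunctors (ModuleCat.{u} C)).shiftIso m 0 m (by simp)).app _).symm ≪≫
      (shiftFunctor (Dual.D C) m).mapIso ((DerivedCategory.singleFunctor (ModuleCat.{u} C) m).mapIso eN.symm ≪≫ e.symm)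
  haveI := hW.ext_self_subsingleton 1 one_ne_zero
  have h1 : Subsingleton (W⟦m⟧ ⟶ (W⟦(1 : ℤ)⟧)⟦m⟧) := subsingleton_of_forall_eq 0 fun f => by
    obtain ⟨g, rfl⟩ := (shiftFunctor (Dual.D C) m).map_surjective f
    rw [Subsingleton.elim g 0, Functor.map_zero]
  haveI : Subsingleton (K ⟶ K⟦(1 : ℤ)⟧) :=
    ((eK.homCongr ((shiftFunctor (Dual.D C) (1 : ℤ)).mapIso eK ≪≫ (shiftFunctorComm (Dual.D C) m (1 : ℤ)).app W))).subsingleton_congr.2
      h1
  exact (Abelian.Ext.homEquiv (n := 1) (X := ModuleCat.of C (Dual.HD C W m))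
    (Y := ModuleCat.of C (Dual.HD C W m))).injective.subsingleton

/-- Linear bijections transport the vanishing of self-extensions along ring isomorphisms. -/
theorem split_of_subsingleton_ext {T O : Type u} [CommRing T] [CommRing O] (σ : O ≃+* T) {N : Type u} [AddCommGroup N]
    [Module O N] {H : Type u} [AddCommGroup H] [Module T H] (E : N ≃+ H) (hE : ∀ r x, E (r • x) = σ r • E x)
    [hext : Subsingleton (Abelian.Ext (ModuleCat.of T H) (ModuleCat.of T H) 1)]
    {X : Type u} [AddCommGroup X] [Module O X] (i : N →ₗ[O] X) (p : X →ₗ[O] N) (hi : Function.Injective i)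
    (hex : Function.Exact i p) (hp : Function.Surjective p) : ∃ s : N →ₗ[O] X, p ∘ₗ s = LinearMap.id := by
  letI : Module T X := Module.compHom X σ.symm.toRingHom
  have hT : ∀ (r : T) (x : X), r • x = σ.symm r • x := fun _ _ => rfl
  have hE' : ∀ r x, E.symm (r • x) = σ.symm r • E.symm x := fun r x => E.injective (by
    rw [E.apply_symm_apply, hE, E.apply_symm_apply, σ.apply_symm_apply])
  let i' : H →ₗ[T] X := { toFun := fun h => i (E.symm h), map_add' := fun a b => by simp,
                          map_smul' := fun r h => by simp [hE', hT] }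
  let p' : X →ₗ[T] H := { toFun := fun x => E (p x), map_add' := fun a b => by simp,
                          map_smul' := fun r x => by simp [hT, hE] }
  let S : ShortComplex (ModuleCat.{u} T) := ShortComplex.mk (ModuleCat.ofHom i') (ModuleCat.ofHom p') (by
    ext h; show E (p (i (E.symm h))) = 0; rw [hex.apply_apply_eq_zero, map_zero])
  have hS : S.ShortExact :=
    { exact := (ShortComplex.ShortExact.moduleCat_exact_iff_function_exact S).2 fun x => by
        constructor
        · intro hx
          obtain ⟨n, hn⟩ := (hex x).1 (E.injective (hx.trans (map_zero E).symm))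
          exact ⟨E n, by show i (E.symm (E n)) = x; rw [E.symm_apply_apply, hn]⟩
        · rintro ⟨h, rfl⟩
          show E (p (i (E.symm h))) = 0
          rw [hex.apply_apply_eq_zero, map_zero]
      mono_f := (ModuleCat.mono_iff_injective _).2 (hi.comp E.symm.injective)
      epi_g := (ModuleCat.epi_iff_surjective _).2 (E.surjective.comp hp) }
  haveI : Subsingleton (Abelian.Ext S.X₃ S.X₁ 1) := hext
  obtain ⟨s, hs⟩ := Abelian.Ext.covariant_sequence_exact₃ S.X₃ hS (Abelian.Ext.mk₀ (𝟙 S.X₃)) (n₁ := 1) rfl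
    (Subsingleton.elim _ _)
  obtain ⟨s, rfl⟩ := (Abelian.Ext.mk₀_bijective S.X₃ S.X₂).2 s
  rw [Abelian.Ext.mk₀_comp_mk₀] at hs
  have hs' := (Abelian.Ext.mk₀_bijective S.X₃ S.X₃).1 hs
  refine ⟨{ toFun := fun n => s.hom (E n), map_add' := fun a b => by simp [map_add],
            map_smul' := fun r n => ?_ }, LinearMap.ext fun n => E.injective ?_⟩
  · show s.hom (E (r • n)) = r • s.hom (E n)
    rw [hE, LinearMap.map_smul]
    show σ.symm (σ r) • (s.hom (E n) : X) = _
    rw [σ.symm_apply_apply]
  · exact congrArg (fun φ => φ.hom (E n)) hs'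

variable {k : Type u} [Field k] {Y : Scheme.{u}}

/-- Self-extensions of the dualizing sheaf of a proper scheme over a field split at Cohen–Macaulay points. -/
theorem split_of_cm [Y.Over (Spec (CommRingCat.of k))] [IsProper (Y ↘ Spec (CommRingCat.of k))] (d : ℕ)
    (hS : RelCanon.IsSkMor (Y ↘ Spec (CommRingCat.of k)) 2) (hd : Cyc.HasRelDim (Y ↘ Spec (CommRingCat.of k)) d)
    (ω : Y.Modules) (hω : RelCanon.IsDualizingSheaf k Y d ω) (z : Y)
    (hz : MoreMor.IsCMAt (Y ↘ Spec (CommRingCat.of k)) z)
    {X : Type u} [AddCommGroup X] [Module (Y.presheaf.stalk z) X] (i : ω.presheaf.stalk z →ₗ[Y.presheaf.stalk z] X)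
    (p : X →ₗ[Y.presheaf.stalk z] ω.presheaf.stalk z) (hi : Function.Injective i) (hex : Function.Exact i p)
    (hp : Function.Surjective p) : ∃ s : ω.presheaf.stalk z →ₗ[Y.presheaf.stalk z] X, p ∘ₗ s = LinearMap.id := by
  let f := Y ↘ Spec (CommRingCat.of k)
  obtain ⟨-, -, hchart⟩ := relCanonical_model d hS hd ω hω
  obtain ⟨c, hA, hB, hfl, P, hP⟩ := hchart z
  haveI := hA; haveI := hB; haveI := hfl
  haveI : Subsingleton (Spec (CommRingCat.of k)) := (inferInstance : Subsingleton (PrimeSpectrum k))
  haveI : _root_.IsReduced c.A := by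
    haveI : IsReduced (Spec (CommRingCat.of c.A)) := AlgebraicGeometry.isReduced_of_isOpenImmersion c.i
    exact (affine_isReduced_iff (CommRingCat.of c.A)).1 inferInstance
  haveI hss : Subsingleton (PrimeSpectrum c.A) := c.i.isOpenEmbedding.injective.subsingleton
  have hA' : IsField c.A := by
    haveI : Nontrivial c.A := c.p.nontrivial
    refine (Ring.isField_iff_maximal_bot).2 ?_
    obtain ⟨m, hm⟩ := Ideal.exists_maximal c.A
    have : m = ⊥ := by
      refine le_bot_iff.1 fun x hx => ?_
      have h : IsNilpotent x := by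
        rw [← mem_nilradical, nilradical_eq_sInf, Ideal.mem_sInf]
        intro P hP
        rw [show P = m from congrArg PrimeSpectrum.asIdeal (hss.elim ⟨P, hP⟩ ⟨m, hm.isPrime⟩)]
        exact hx
      exact (Ideal.mem_bot).2 h.eq_zero
    exact this ▸ hm
  have hW : Dual.IsDualizing c.B P.omega :=
    ShriekAlgLib.isDualizing_shriekVia c.A c.B P.n P.ψ P.hψ P.Rψ P.adj _ (TwistShriek.isDualizing_inD_of_isField hA')
  obtain ⟨hconc, -⟩ := RelDualCMLib.concentrated_of_cm P.hψ P.adj c.q c.p rfl c.Q c.comap_Q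
    ((CMFlatLib.chart_isCMAt_iff c).1 hz).2 d (c.fibreDimAt_eq.symm.trans ((RelDimLib.hasRelDim_iff f d).1 hd z))
  let L := Localization.AtPrime c.q.asIdeal
  haveI : DRing.HasLBaseChange (algebraMap c.B L) := DRingLib.hasLBaseChange _
  haveI : IsNoetherianRing L := IsLocalization.isNoetherianRing c.q.asIdeal.primeCompl L hB
  haveI : Module.Flat c.B L := IsLocalization.flat L c.q.asIdeal.primeCompl
  have hWL := DualCxLib.isDualizing_bcD_of_maximal c.B L hW fun n hn => ⟨c.q.asIdeal, by
    rw [IsLocalization.AtPrime.map_eq_maximalIdeal c.q.asIdeal L, IsLocalRing.eq_maximalIdeal hn]⟩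
  let WL := (DRing.LBaseChange (algebraMap c.B L)).obj P.omega
  have eH : ∀ i, Nonempty (Dual.HD L WL i ≃ₗ[L] LocalizedModule c.q.asIdeal.primeCompl (Dual.HD c.B P.omega i)) :=
    fun i => by
      obtain ⟨e⟩ := DualCxLib.nonempty_HD_lbc c.q.asIdeal.primeCompl L P.omega i
      exact ⟨e.trans (LocalizedModule.equivTensorProduct c.q.asIdeal.primeCompl _).symm⟩
  have hcL : ∀ i, i ≠ -(d : ℤ) → Subsingleton (Dual.HD L WL i) := fun i hi => by
    obtain ⟨e⟩ := eH i
    haveI := hconc i hi
    exact e.toEquiv.subsingleton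
  haveI := subsingleton_ext_of_concentrated hWL _ hcL
  obtain ⟨e⟩ := eH (-(d : ℤ))
  obtain ⟨E, hE⟩ := hP c.q
  obtain ⟨σ, hσ⟩ := exists_semilinear_localization _ c.q.asIdeal (isLocalization_chartToStalk c.j c.q) E hE
  have gen : ∀ (z' : Y) (_ : z' = z) (E' : ω.presheaf.stalk z' ≃+ Dual.HD L WL (-(d : ℤ)))
      (σ' : Y.presheaf.stalk z' ≃+* L) (_ : ∀ r x, E' (r • x) = σ' r • E' x),
      ∃ s : ω.presheaf.stalk z →ₗ[Y.presheaf.stalk z] X, p ∘ₗ s = LinearMap.id := by
    rintro z' rfl E' σ' hE'
    exact split_of_subsingleton_ext σ' E' hE' i p hi hex hp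
  exact gen _ c.hq (E.trans e.symm.toAddEquiv) σ fun r x => by
    show e.symm (E (r • x)) = σ r • e.symm (E x)
    rw [hσ]
    exact map_smul e.symm _ _

end Groth.Agent.FibreDualLib
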