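import Groth.Agent.FibreDualLib.ValScheme
import Groth.Agent.IntImage.Spread
import Groth.Agent.S18705

/-!
# Extensions from an open set near a point
-/

set_option autoImplicit false
set_option linter.style.haveILetI false
set_option linter.unusedSectionVars false
set_option backward.isDefEq.respectTransparency false
set_option backward.isDefEq.respectTransparency.types false
set_option maxHeartbeats 1600000

universe u

open CategoryTheory CategoryTheory.Limits AlgebraicGeometry IsLocalRing TopologicalSpace TensorProduct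

noncomputable section

namespace Groth.Agent.FibreDualLib

/-- Depth two along the complement of an open set, using only generisations of the point. -/
theorem two_le_idealDepth_of_skAt_near {Z : Scheme.{u}} [IsLocallyNoetherian Z] {F : Z.Modules} (hF : Coh.IsCoh F)
    (U : Z.Opens) (w : Z) (h : RelCanon.SkAt 2 F w) (hU : ∀ v : Z, v ⤳ w → v ∈ U → Nontrivial (F.presheaf.stalk v))
    (hdim : ∀ v : Z, v ⤳ w → v ∉ U → (2 : WithBot ℕ∞) ≤ ringKrullDim (Z.presheaf.stalk v)) :
    2 ≤ LocCoh.idealDepth (idealOff U w) (F.presheaf.stalk w) := by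
  haveI := hF.1
  haveI := PullbackMod.finite_stalk_of_isFT hF.2 w
  rw [← Nat.cast_ofNat, QGorLib.le_idealDepth_iff_forall]
  intro P hP
  obtain ⟨ψ, e, he⟩ := exists_generization_equiv F w P
  have hh : FibreDepth.FibIso (Localization.AtPrime P.asIdeal)
      (LocalizedModule P.asIdeal.primeCompl (F.presheaf.stalk w)) (Z.presheaf.stalk (Z.fromSpecStalk w P))
      (F.presheaf.stalk (Z.fromSpecStalk w P)) := ⟨ψ.toRingHom, ψ.surjective, e, he⟩
  let v := Z.fromSpecStalk w P
  haveI : Module.Finite (Z.presheaf.stalk v) (F.presheaf.stalk v) := PullbackMod.finite_stalk_of_isFT hF.2 v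
  have hvw : v ⤳ w := by
    have : Z.fromSpecStalk w P ∈ Set.range (Z.fromSpecStalk w) := ⟨P, rfl⟩
    rwa [Scheme.range_fromSpecStalk] at this
  have hd : Module.supportDim (Z.presheaf.stalk v) (F.presheaf.stalk v) = ringKrullDim (Z.presheaf.stalk v) :=
    supportDim_stalk_eq F v fun v' hv'v hv' => hU v' (hv'v.trans hvw) (by
      by_contra hvU
      exact absurd (hv' ▸ hdim v' (hv'v.trans hvw) hvU) (by norm_num))
  have h2 := h P.asIdeal
  rw [hh.supportDim_eq, hd, min_eq_left (by exact_mod_cast hdim v hvw ((idealOff_le_iff U w P).1 hP))] at h2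
  exact WithBot.coe_le_coe.1 h2

variable {X T : Scheme.{u}}

/-- Fibre depth two along the complement of an open set, using only generisations in the fibre. -/
theorem two_le_idealDepth_fibreStalkMod_near (f : X ⟶ T) [LocallyOfFiniteType f] [IsLocallyNoetherian X]
    {F : X.Modules} (hF : Coh.IsCoh F) (U : X.Opens) (hU : ∀ y : X, y ∈ U → Nontrivial (F.presheaf.stalk y))
    (x : X) (hG : ∀ y : X, f y = f x → y ⤳ x → y ∉ U → (2 : WithBot ℕ∞) ≤ ringKrullDim ((f.fiber (f y)).presheaf.stalk (f.asFiber y)))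
    (h : RelCanon.SkAt 2 ((Scheme.Modules.pullback (f.fiberι (f x))).obj F) (f.asFiber x)) :
    2 ≤ LocCoh.idealDepth (idealOff U x) (FibreDepth.fibreStalkMod f F x) := by
  haveI := hF.1
  have hFP := QCohLib.isFP_of_isCoh F hF
  have hG' : ∀ (t : T) (w : f.fiber t), t = f x → f.fiberι t w ⤳ x → f.fiberι t w ∉ U →
      (2 : WithBot ℕ∞) ≤ ringKrullDim ((f.fiber t).presheaf.stalk w) :=
    forall_fiber f fun y ht hs hy => by
      rw [f.fiberι_asFiber] at hs hy
      exact hG y ht hs hy
  have hnt : ∀ (t : T) (w : f.fiber t), f.fiberι t w ∈ U →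
      Nontrivial (((Scheme.Modules.pullback (f.fiberι t)).obj F).presheaf.stalk w) := by
    refine forall_fiber f fun y hy => ?_
    rw [f.fiberι_asFiber] at hy
    rw [← not_subsingleton_iff_nontrivial, (FibreDepth.fib_stalk f F hFP y).2.2, not_subsingleton_iff_nontrivial]
    haveI := hU y hy
    haveI := FlatLocus.finite_stalk F hFP y
    refine Submodule.Quotient.nontrivial_iff.2 fun h => ?_
    have := Submodule.eq_bot_of_le_smul_of_le_jacobson_bot (FibreDepth.fibreIdeal f y)
      (⊤ : Submodule (X.presheaf.stalk y) (F.presheaf.stalk y)) Module.Finite.fg_top h.ge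
      ((IsLocalRing.map_maximalIdeal_le (f.stalkMap y).hom).trans (IsLocalRing.maximalIdeal_le_jacobson ⊥))
    exact top_ne_bot this
  have gen : ∀ (t : T) (z : f.fiber t), t = f x → f.fiberι t z = x → RelCanon.SkAt 2 ((Scheme.Modules.pullback (f.fiberι t)).obj F) z →
      2 ≤ LocCoh.idealDepth (idealOff U (f.fiberι t z)) (FibreDepth.fibreStalkMod f F (f.fiberι t z)) := by
    intro t z ht hzx hz
    let g := f.fiberι t
    haveI : LocallyOfFiniteType (f.fiberToSpecResidueField t) := MorphismProperty.pullback_snd _ _ ‹_›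
    haveI : IsLocallyNoetherian (f.fiber t) := LocallyOfFiniteType.isLocallyNoetherian (f.fiberToSpecResidueField t)
    let Q := (Scheme.Modules.pullback g).obj F
    have hQ : Coh.IsCoh Q := PullbackMod.isCoh_pullback g _ hF
    have h1 := two_le_idealDepth_of_skAt_near hQ (g ⁻¹ᵁ U) z hz (fun v _ hv => hnt t v hv)
      (fun v hvz hv => hG' t v ht ((hvz.map g.continuous).trans (specializes_of_eq hzx)) hv)
    let O := X.presheaf.stalk (g z)
    let O' := (f.fiber t).presheaf.stalk z
    letI : Algebra O O' := (g.stalkMap z).hom.toAlgebra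
    letI := Module.compHom (Q.presheaf.stalk z) (g.stalkMap z).hom
    haveI : IsScalarTower O O' (Q.presheaf.stalk z) := .of_algebraMap_smul fun _ _ => rfl
    have hbc := PullbackMod.isBaseChange_pullStalkL g F z
    have hsurj : Function.Surjective (algebraMap O O') := FlatLocus.fiberι_stalkMap_surjective f t z
    have hker : RingHom.ker (algebraMap O O') = FibreDepth.fibreIdeal f (g z) := FlatLocus.ker_fiberι_stalkMap f t z
    haveI := PullbackMod.finite_stalk_of_isFT hQ.2 z
    have h2 : 2 ≤ LocCoh.idealDepth ((idealOff U (g z)).map (algebraMap O O')) (Q.presheaf.stalk z) := by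
      refine le_idealDepth_of_le (fun P hP => ?_) 2 h1
      rw [idealOff_le_iff]
      have hP' : idealOff U (g z) ≤ (PrimeSpectrum.comap (algebraMap O O') P).asIdeal := Ideal.map_le_iff_le_comap.1 hP
      rw [idealOff_le_iff] at hP'
      intro hv
      apply hP'
      have hsq : X.fromSpecStalk (g z) (Spec.map (g.stalkMap z) P) = g ((f.fiber t).fromSpecStalk z P) := by
        rw [← Scheme.Hom.comp_apply, ← Scheme.Hom.comp_apply, Scheme.SpecMap_stalkMap_fromSpecStalk]
      exact hsq ▸ hv
    rw [idealDepth_map_of_surjective hsurj] at h2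
    obtain ⟨E⟩ := FibreDepth.exists_quot_equiv hsurj _ hbc
    exact h2.trans_eq (CAlgBasics.idealDepth_congr (E.trans (Submodule.quotEquivOfEq _ _ (by rw [hker]))))
  have key : ∀ x' : X, x' = x → 2 ≤ LocCoh.idealDepth (idealOff U x') (FibreDepth.fibreStalkMod f F x') →
      2 ≤ LocCoh.idealDepth (idealOff U x) (FibreDepth.fibreStalkMod f F x) := by
    rintro x' rfl h; exact h
  exact key _ (f.fiberι_asFiber x) (gen _ _ rfl (f.fiberι_asFiber x) h)

/-- At a point of an open set its complement imposes no condition on depths. -/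
theorem le_idealDepth_idealOff_of_mem {Z : Scheme.{u}} [IsLocallyNoetherian Z] {U : Z.Opens} {w : Z} (hw : w ∈ U)
    (M : Type u) [AddCommGroup M] [Module (Z.presheaf.stalk w) M] [Module.Finite (Z.presheaf.stalk w) M] (n : ℕ) :
    (n : ℕ∞) ≤ LocCoh.idealDepth (idealOff U w) M := by
  rw [QGorLib.le_idealDepth_iff_forall]
  intro P hP
  refine absurd ?_ ((idealOff_le_iff U w P).1 hP)
  have h : Z.fromSpecStalk w P ∈ Set.range (Z.fromSpecStalk w) := ⟨P, rfl⟩
  rw [Scheme.range_fromSpecStalk] at h
  exact h.mem_open U.2 hw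

/-- Two sheaves with isomorphic restrictions to an open set have isomorphic stalks where both are deep along its
complement. -/
theorem stalk_iso_of_restrict {Z : Scheme.{u}} [IsLocallyNoetherian Z] (U : Z.Opens) {F G : Z.Modules}
    (hF : Coh.IsCoh F) (hG : Coh.IsCoh G) (e : F.restrict U.ι ≅ G.restrict U.ι) (w : Z)
    (hFd : 2 ≤ LocCoh.idealDepth (idealOff U w) (F.presheaf.stalk w))
    (hGd : 2 ≤ LocCoh.idealDepth (idealOff U w) (G.presheaf.stalk w)) :
    Nonempty (F.presheaf.stalk w ≃ₗ[Z.presheaf.stalk w] G.presheaf.stalk w) := by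
  let B := Z.presheaf.stalk w
  let q := Z.fromSpecStalk w
  haveI : IsNoetherianRing (CommRingCat.of B) := inferInstanceAs (IsNoetherianRing B)
  haveI : IsLocallyNoetherian (Spec B) := inferInstanceAs (IsLocallyNoetherian (Spec (CommRingCat.of B)))
  haveI : Flat q := IntImage.flat_fromSpecStalk w
  let U' := q ⁻¹ᵁ U
  have hbij : ∀ P : Spec B, Function.Bijective (q.stalkMap P) := fun P => by
    refine ⟨?_, q.stalkMap_surjective P⟩
    letI : Algebra (Z.presheaf.stalk (q P)) ((Spec B).presheaf.stalk P) := (q.stalkMap P).hom.toAlgebra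
    haveI : Module.Flat (Z.presheaf.stalk (q P)) ((Spec B).presheaf.stalk P) := Flat.stalkMap q P
    haveI : IsLocalHom (algebraMap (Z.presheaf.stalk (q P)) ((Spec B).presheaf.stalk P)) :=
      inferInstanceAs (IsLocalHom (q.stalkMap P).hom)
    haveI : Module.FaithfullyFlat (Z.presheaf.stalk (q P)) ((Spec B).presheaf.stalk P) :=
      Module.FaithfullyFlat.of_flat_of_isLocalHom
    exact FaithfulSMul.algebraMap_injective (Z.presheaf.stalk (q P)) ((Spec B).presheaf.stalk P)
  have hstalk : ∀ (H : Z.Modules), Coh.IsQCoh H → ∀ P : Spec B,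
      ∃ E : H.presheaf.stalk (q P) ≃+ ((Scheme.Modules.pullback q).obj H).presheaf.stalk P,
        ∀ r x, E (r • x) = q.stalkMap P r • E x := by
    intro H hH P
    let O := Z.presheaf.stalk (q P)
    let O' := (Spec B).presheaf.stalk P
    let N := ((Scheme.Modules.pullback q).obj H).presheaf.stalk P
    letI : Algebra O O' := (q.stalkMap P).hom.toAlgebra
    letI : Module O N := Module.compHom N (q.stalkMap P).hom
    haveI : IsScalarTower O O' N := .of_algebraMap_smul fun _ _ => rfl
    haveI := hH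
    have hbc : IsBaseChange O' (PullbackMod.pullStalkL q H P) := PullbackMod.isBaseChange_pullStalkL q H P
    let ε : O ≃ₐ[O] O' := AlgEquiv.ofBijective (Algebra.ofId O O') (hbij P)
    let E : H.presheaf.stalk (q P) ≃ₗ[O] N :=
      ((TensorProduct.lid O (H.presheaf.stalk (q P))).symm.trans
        (TensorProduct.congr ε.toLinearEquiv (LinearEquiv.refl O (H.presheaf.stalk (q P))))).trans
        (hbc.equiv.restrictScalars O)
    exact ⟨E.toAddEquiv, fun r x => (map_smul E r x).trans rfl⟩
  have hunit : ∀ (H : Z.Modules), Coh.IsCoh H → 2 ≤ LocCoh.idealDepth (idealOff U w) (H.presheaf.stalk w) →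
      IsIso ((Scheme.Modules.restrictAdjunction U'.ι).unit.app ((Scheme.Modules.pullback q).obj H)) := by
    intro H hH hd
    haveI := hH.1
    refine isIso_unit_of_depth U' (PullbackMod.isCoh_pullback q _ hH) fun P hP => ?_
    haveI : Module.Finite B (H.presheaf.stalk w) := PullbackMod.finite_stalk_of_isFT hH.2 w
    rw [← Nat.cast_ofNat, QGorLib.le_idealDepth_iff_forall] at hd
    have h1 := hd P ((idealOff_le_iff U w P).2 hP)
    obtain ⟨ψ, e', he'⟩ := exists_generization_equiv H w P
    have hh : FibreDepth.FibIso (Localization.AtPrime P.asIdeal)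
        (LocalizedModule P.asIdeal.primeCompl (H.presheaf.stalk w)) (Z.presheaf.stalk (q P))
        (H.presheaf.stalk (q P)) := ⟨ψ.toRingHom, ψ.surjective, e', he'⟩
    rw [hh.depth_eq] at h1
    obtain ⟨E, hE⟩ := hstalk H hH.1 P
    have hh' : FibreDepth.FibIso (Z.presheaf.stalk (q P)) (H.presheaf.stalk (q P)) ((Spec B).presheaf.stalk P)
        (((Scheme.Modules.pullback q).obj H).presheaf.stalk P) := ⟨(q.stalkMap P).hom, (hbij P).2, E, hE⟩
    rw [hh'.depth_eq] at h1
    exact h1
  haveI := hF.1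
  haveI := hG.1
  haveI := hunit F hF hFd
  haveI := hunit G hG hGd
  obtain ⟨i⟩ := nonempty_iso_of_restrict U' (F := (Scheme.Modules.pullback q).obj F)
    (G := (Scheme.Modules.pullback q).obj G)
    (pullbackRestrict q U F ≪≫ (Scheme.Modules.pullback (q ∣_ U)).mapIso e ≪≫ (pullbackRestrict q U G).symm)
  let P₀ : Spec B := closedPoint B
  have key : ∀ w' : Z, q P₀ = w' → Nonempty (F.presheaf.stalk w' ≃ₗ[Z.presheaf.stalk w'] G.presheaf.stalk w') := by
    rintro w' rfl
    obtain ⟨EF, hEF⟩ := hstalk F hF.1 P₀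
    obtain ⟨EG, hEG⟩ := hstalk G hG.1 P₀
    let L := ((DCohLib.stkF P₀).mapIso i).toLinearEquiv
    refine ⟨{ (EF.trans L.toAddEquiv).trans EG.symm with map_smul' := fun r x => ?_ }⟩
    show EG.symm (L (EF (r • x))) = r • EG.symm (L (EF x))
    apply EG.injective
    rw [hEF, AddEquiv.apply_symm_apply, hEG, AddEquiv.apply_symm_apply]
    exact map_smul L _ _
  exact key w Scheme.fromSpecStalk_closedPoint

/-- A double dual satisfies `(S₂)` on an `(S₂)` scheme if it is invertible off a set of codimension two. -/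
theorem skAt_ddual {Z : Scheme.{u}} [IsLocallyNoetherian Z] {H : Z.Modules} (hH : Coh.IsCoh H) (U : Z.Opens) (w : Z)
    (hO : ∀ v : Z, LocCoh.HasSk 2 (Z.presheaf.stalk v) (Z.presheaf.stalk v))
    (hdim : ∀ v : Z, v ⤳ w → v ∉ U → (2 : WithBot ℕ∞) ≤ ringKrullDim (Z.presheaf.stalk v))
    (hinv : ∀ v : Z, v ∈ U → RelCanon.InvertibleAt (RefHull.ddual H) v) :
    RelCanon.SkAt 2 (RefHull.ddual H) w := by
  haveI := hH.1
  have hF : Coh.IsCoh (RefHull.ddual H) := RefOne.isCoh_dual (RefOne.isCoh_dual hH)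
  haveI := hF.1
  refine skAt_of_forall_generization hF 2 w fun v hv => ?_
  haveI := PullbackMod.finite_stalk_of_isFT hF.2 v
  by_cases hvU : v ∈ U
  · obtain ⟨j⟩ := exists_stalk_equiv_of_invertibleAt (hinv v hvU)
    exact EGA4Dim.skIneq_of_hasSk ((QGorNhdLib.hasSk_congr_module j 2).1 (hO v))
  · let O := Z.presheaf.stalk v
    haveI : Module.Finite O (H.presheaf.stalk v) := PullbackMod.finite_stalk_of_isFT hH.2 v
    haveI := Module.finitePresentation_of_finite O (H.presheaf.stalk v)
    haveI : Module.Finite O (Module.Dual O (H.presheaf.stalk v)) := inferInstance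
    obtain ⟨eDD⟩ := exists_stalk_ddual_equiv hH v
    refine (min_le_left _ _).trans (WithBot.coe_le_coe.2 ?_)
    rw [CAlgBasics.depth_congr eDD]
    exact FibDepthLib.two_le_idealDepth_dual (two_le_depth_of_hasSk O (hO v) (hdim v hv hvU)) _

variable {A : Type u} [CommRing A] [IsNoetherianRing A] {Y : Scheme.{u}} [Y.Over (Spec (CommRingCat.of A))]
  [IsProper (Y ↘ Spec (CommRingCat.of A))]

local notation3 "S₀" => Spec (CommRingCat.of A)

/-- Fibre depth two of the structure sheaf, from the codimension of the bad set in the fibre near the point. -/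
theorem two_le_idealDepth_fibMod_self_near (hS : RelCanon.IsSkMor (Y ↘ S₀) 2) (U : Y.Opens) (y : Y)
    (hG : ∀ v : Y, (Y ↘ S₀) v = (Y ↘ S₀) y → v ⤳ y → v ∉ U →
      (2 : WithBot ℕ∞) ≤ ringKrullDim (((Y ↘ S₀).fiber ((Y ↘ S₀) v)).presheaf.stalk ((Y ↘ S₀).asFiber v))) :
    2 ≤ LocCoh.idealDepth (idealOff U y) ((Y.presheaf.stalk y : Type u) ⧸
      (FibreDepth.fibreIdeal (Y ↘ S₀) y • ⊤ : Submodule (Y.presheaf.stalk y) (Y.presheaf.stalk y))) := by
  let f₀ := Y ↘ S₀
  haveI : IsNoetherianRing (CommRingCat.of A) := inferInstanceAs (IsNoetherianRing A)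
  haveI : IsLocallyNoetherian Y := LocallyOfFiniteType.isLocallyNoetherian f₀
  have hnt : ∀ v : Y, v ∈ U → Nontrivial ((Coh.structureModule Y).presheaf.stalk v) := fun v _ =>
    (RefOne.oEquiv v).toEquiv.symm.nontrivial
  have h := two_le_idealDepth_fibreStalkMod_near f₀ (DevLib.isCoh_structureModule Y) U hnt y hG
    (relSk_structureModule f₀ hS y).2
  refine h.trans_eq (CAlgBasics.idealDepth_congr (Submodule.Quotient.equiv _ _ (RefOne.oEquiv y).symm ?_))
  rw [Submodule.map_smul'', Submodule.map_top, LinearEquiv.range]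

/-- A coherent extension with `(S₂)` fibre computes a reflexive power and is relatively `(S₂)`. -/
theorem relSkAt_of_extension (hS : RelCanon.IsSkMor (Y ↘ S₀) 2) (U : Y.Opens) {H M : Y.Modules} (hH : Coh.IsCoh H)
    (hM : Coh.IsCoh M) (e : M.restrict U.ι ≅ (RefHull.ddual H).restrict U.ι)
    (hinv : ∀ v : Y, v ∈ U → RelCanon.InvertibleAt (RefHull.ddual H) v) (y : Y)
    (hG : ∀ v : Y, (Y ↘ S₀) v = (Y ↘ S₀) y → v ⤳ y → v ∉ U →
      (2 : WithBot ℕ∞) ≤ ringKrullDim (((Y ↘ S₀).fiber ((Y ↘ S₀) v)).presheaf.stalk ((Y ↘ S₀).asFiber v)))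
    (hsk : RelCanon.SkAt 2 ((Scheme.Modules.pullback ((Y ↘ S₀).fiberι ((Y ↘ S₀) y))).obj M) ((Y ↘ S₀).asFiber y)) :
    RelCanon.RelSkAt (Y ↘ S₀) 2 (RefHull.ddual H) y ∧
      Nonempty (M.presheaf.stalk y ≃ₗ[Y.presheaf.stalk y] (RefHull.ddual H).presheaf.stalk y) := by
  let f₀ := Y ↘ S₀
  haveI : IsNoetherianRing (CommRingCat.of A) := inferInstanceAs (IsNoetherianRing A)
  haveI : IsLocallyNoetherian Y := LocallyOfFiniteType.isLocallyNoetherian f₀
  haveI := hS.1
  haveI := hH.1
  haveI := hM.1
  have hGcoh : Coh.IsCoh (RefHull.ddual H) := RefOne.isCoh_dual (RefOne.isCoh_dual hH)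
  haveI := hGcoh.1
  let G := RefHull.ddual H
  have hMinv : ∀ v : Y, v ∈ U → RelCanon.InvertibleAt M v := fun v hv => by
    haveI := PullbackMod.finite_stalk_of_isFT hM.2 v
    haveI := PullbackMod.finite_stalk_of_isFT hGcoh.2 v
    obtain ⟨i⟩ := stalk_iso_of_restrict U hM hGcoh e v (le_idealDepth_idealOff_of_mem hv _ 2)
      (le_idealDepth_idealOff_of_mem hv _ 2)
    obtain ⟨l⟩ := exists_stalk_equiv_of_invertibleAt (hinv v hv)
    exact invertibleAt_of_stalk_equiv hM (l.trans i.symm)
  have hMnt : ∀ v : Y, v ∈ U → Nontrivial (M.presheaf.stalk v) := fun v hv => by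
    obtain ⟨l⟩ := exists_stalk_equiv_of_invertibleAt (hMinv v hv)
    exact l.toEquiv.symm.nontrivial
  let R := (Spec (CommRingCat.of A)).presheaf.stalk (f₀ y)
  let B := Y.presheaf.stalk y
  let F := M.presheaf.stalk y
  let J := idealOff U y
  letI : Algebra R B := (f₀.stalkMap y).hom.toAlgebra
  haveI : Module.Flat R B := Flat.stalkMap f₀ y
  haveI : IsLocalHom (algebraMap R B) := inferInstanceAs (IsLocalHom (f₀.stalkMap y).hom)
  letI : Module R F := FlatMod.moduleStalkOver f₀ M y
  haveI : IsScalarTower R B F := .of_algebraMap_smul fun _ _ => rfl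
  haveI : Module.Finite B F := PullbackMod.finite_stalk_of_isFT hM.2 y
  have hdep : 2 ≤ LocCoh.idealDepth J (EGA4.FibMod R B F) :=
    two_le_idealDepth_fibreStalkMod_near f₀ hM U hMnt y hG hsk
  haveI hFflat : Module.Flat R F := S18705.result R B J F (fun P hP =>
    FibDepthLib.flatAt_of_flatAt_self P (FibDepthLib.flatAt_self_of_free P (free_localization_stalk U y hMinv P hP)))
    (le_trans one_le_two hdep)
  have hF2 : 2 ≤ LocCoh.idealDepth J F := two_le_idealDepth_of_fibre_ideal J hdep
  have hB2 : 2 ≤ LocCoh.idealDepth J B :=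
    two_le_idealDepth_of_fibre_ideal (R := R) J (two_le_idealDepth_fibMod_self_near hS U y hG)
  haveI : Module.Finite B (H.presheaf.stalk y) := PullbackMod.finite_stalk_of_isFT hH.2 y
  haveI := Module.finitePresentation_of_finite B (H.presheaf.stalk y)
  haveI : Module.Finite B (Module.Dual B (H.presheaf.stalk y)) := inferInstance
  obtain ⟨eDD⟩ := exists_stalk_ddual_equiv hH y
  have hG2 : 2 ≤ LocCoh.idealDepth J (G.presheaf.stalk y) :=
    (FibDepthLib.two_le_idealDepth_dual hB2 _).trans_eq (CAlgBasics.idealDepth_congr eDD.symm)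
  obtain ⟨i⟩ := stalk_iso_of_restrict U hM hGcoh e y hF2 hG2
  refine ⟨relSkAt_of_flat_depth hS U hGcoh hinv y ?_ ?_, ⟨i⟩⟩
  · letI : Module R (G.presheaf.stalk y) := FlatMod.moduleStalkOver f₀ G y
    haveI : IsScalarTower R B (G.presheaf.stalk y) := .of_algebraMap_smul fun _ _ => rfl
    exact Module.Flat.of_linearEquiv (i.restrictScalars R).symm
  · exact hdep.trans_eq (CAlgBasics.idealDepth_congr
      (Submodule.Quotient.equiv _ (FibreDepth.fibreIdeal f₀ y • ⊤ : Submodule B (G.presheaf.stalk y)) i (by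
        rw [Submodule.map_smul'', Submodule.map_top, LinearEquiv.range]; rfl)))

end Groth.Agent.FibreDualLib
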