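import Groth.Agent.FibreDualLib.CMLocus
import Groth.Agent.FibreDualLib.LocalExt

/-!
# Uniqueness of deformations of the canonical module at Cohen–Macaulay points
-/

set_option autoImplicit false
set_option linter.style.haveILetI false
set_option linter.unusedSectionVars false
set_option backward.isDefEq.respectTransparency false
set_option backward.isDefEq.respectTransparency.types false
set_option maxHeartbeats 1600000

universe u

open CategoryTheory CategoryTheory.Limits AlgebraicGeometry IsLocalRing TopologicalSpace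

noncomputable section

namespace Groth.Agent.FibreDualLib

/-- Self-extensions of a module over a quotient ring split the extensions of the modules with that fibre. -/
theorem fibreSplit_of_split {R B S : Type u} [CommRing R] [IsLocalRing R] [CommRing B] [Algebra R B] [CommRing S]
    [Algebra B S] (hs : Function.Surjective (algebraMap B S)) (hker : RingHom.ker (algebraMap B S) = EGA4.mB R B)
    {L M N : Type u} [AddCommGroup L] [Module B L] [AddCommGroup M] [Module B M] [AddCommGroup N] [Module B N]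
    [Module S N] [IsScalarTower B S N]
    (EL : EGA4.FibMod R B L ≃ₗ[B] N) (EM : EGA4.FibMod R B M ≃ₗ[B] N)
    (hN : ∀ (X : Type u) [AddCommGroup X] [Module S X] (i : N →ₗ[S] X) (p : X →ₗ[S] N),
      Function.Injective i → Function.Exact i p → Function.Surjective p → ∃ s : N →ₗ[S] X, p ∘ₗ s = LinearMap.id) :
    FlatLift.FibreSplit R (B := B) L M := by
  intro E _ _ hE i p hi hex hp
  let ρ : S →+* AddMonoid.End E := RingHom.liftOfSurjective (algebraMap B S) hs ⟨Module.toAddMonoidEnd B E, fun b hb => by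
    rw [RingHom.mem_ker]
    ext x
    exact hE b (hker ▸ hb) x⟩
  letI : Module S E := Module.compHom E ρ
  haveI : IsScalarTower B S E := .of_algebraMap_smul fun b x =>
    congrArg (fun φ => φ x) (RingHom.liftOfRightInverse_comp_apply (algebraMap B S) (Function.surjInv hs)
      (Function.rightInverse_surjInv hs) ⟨Module.toAddMonoidEnd B E, fun c hc => by
        rw [RingHom.mem_ker]
        ext y
        exact hE c (hker ▸ hc) y⟩ b)
  obtain ⟨s, hs'⟩ := hN E ((i ∘ₗ EM.symm.toLinearMap).extendScalarsOfSurjective hs)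
    ((EL.toLinearMap ∘ₗ p).extendScalarsOfSurjective hs) (hi.comp EM.symm.injective)
    (fun x => by
      show EL (p x) = 0 ↔ x ∈ Set.range fun n => i (EM.symm n)
      rw [EL.map_eq_zero_iff, hex x]
      exact ⟨fun ⟨m, hm⟩ => ⟨EM m, by show i (EM.symm (EM m)) = x; rw [EM.symm_apply_apply, hm]⟩,
        fun ⟨n, hn⟩ => ⟨EM.symm n, hn⟩⟩)
    (EL.surjective.comp hp)
  exact ⟨s.restrictScalars B ∘ₗ EL.toLinearMap, LinearMap.ext fun l =>
    EL.injective (LinearMap.congr_fun hs' (EL l))⟩

variable {A : Type u} [CommRing A] [IsNoetherianRing A] {Y : Scheme.{u}} [Y.Over (Spec (CommRingCat.of A))]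
  [IsProper (Y ↘ Spec (CommRingCat.of A))]

local notation3 "S₀" => Spec (CommRingCat.of A)

/-- At a Cohen–Macaulay point a flat module with the canonical module as fibre is the relative canonical sheaf,
and extensions of the relative canonical sheaf by itself split. -/
theorem cm_stalk_facts (d : ℕ) (hS : RelCanon.IsSkMor (Y ↘ S₀) 2) (hd : Cyc.HasRelDim (Y ↘ S₀) d) (ω : Y.Modules)
    (hω : RelCanon.IsDualizingSheaf A Y d ω) (t : (Spec (CommRingCat.of A))) (w : (Y ↘ S₀).fiber t)
    (hcm : MoreMor.IsCMAt (Y ↘ S₀) ((Y ↘ S₀).fiberι t w)) :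
    (∀ {L : Y.Modules}, Coh.IsCoh L → FlatMod.IsFlatOverAt (Y ↘ S₀) L ((Y ↘ S₀).fiberι t w) →
      RelCanon.IsDualizingSheafFib (Y ↘ S₀) d L t →
      Nonempty (L.presheaf.stalk ((Y ↘ S₀).fiberι t w) ≃ₗ[Y.presheaf.stalk ((Y ↘ S₀).fiberι t w)]
        ω.presheaf.stalk ((Y ↘ S₀).fiberι t w))) ∧
    (∀ (X : Type u) [AddCommGroup X] [Module (Y.presheaf.stalk ((Y ↘ S₀).fiberι t w)) X]
      (i : ω.presheaf.stalk ((Y ↘ S₀).fiberι t w) →ₗ[Y.presheaf.stalk ((Y ↘ S₀).fiberι t w)] X)
      (p : X →ₗ[Y.presheaf.stalk ((Y ↘ S₀).fiberι t w)] ω.presheaf.stalk ((Y ↘ S₀).fiberι t w)),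
      Function.Injective i → Function.Exact i p → Function.Surjective p →
      ∃ s : ω.presheaf.stalk ((Y ↘ S₀).fiberι t w) →ₗ[Y.presheaf.stalk ((Y ↘ S₀).fiberι t w)] X,
        p ∘ₗ s = LinearMap.id) := by
  let f := Y ↘ S₀
  haveI : IsNoetherianRing (CommRingCat.of A) := inferInstanceAs (IsNoetherianRing A)
  haveI : IsLocallyNoetherian Y := LocallyOfFiniteType.isLocallyNoetherian f
  haveI := hS.1
  haveI := hS.2.1
  let κ := (Spec (CommRingCat.of A)).residueField t
  let Yt := f.fiber t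
  letI : Yt.Over (Spec (CommRingCat.of κ)) := ⟨f.fiberToSpecResidueField t⟩
  obtain ⟨φ, hp⟩ := exists_fibre_hom f t
  let f' := Yt ↘ Spec (CommRingCat.of κ)
  haveI : IsProper f' := MorphismProperty.of_isPullback (P := @IsProper) hp ‹_›
  haveI : IsProper (Yt ↘ Spec (CommRingCat.of κ)) := ‹IsProper f'›
  haveI : IsNoetherianRing (CommRingCat.of κ) := inferInstanceAs (IsNoetherianRing κ)
  haveI : IsLocallyNoetherian Yt := LocallyOfFiniteType.isLocallyNoetherian f'
  obtain ⟨hS', hd'⟩ := isSkMor_baseChange hp 2 d hS hd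
  haveI := hS'.1
  have hcm' : MoreMor.IsCMAt f' w := by
    rw [CMFlatLib.isCMAt_iff]
    refine ⟨Flat.stalkMap f' w, ?_⟩
    haveI hw : LocCoh.IsCohenMacaulayLocalRing (Yt.presheaf.stalk w) :=
      (CMFlatLib.cm_fibre_stalk_iff f t w).2 ((CMFlatLib.isCMAt_iff f _).1 hcm).2
    let K := (Spec (CommRingCat.of κ)).presheaf.stalk (f' w)
    have hbot : (Ideal.span (nonunits K)) = ⊥ := by
      rw [Ideal.span_eq_bot]
      intro x hx
      letI : Algebra κ K := StructureSheaf.stalkAlgebra κ (f' w)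
      haveI : IsLocalization.AtPrime K (f' w).asIdeal := StructureSheaf.IsLocalization.to_stalk κ (f' w)
      obtain ⟨a, s, rfl⟩ := IsLocalization.exists_mk'_eq (f' w).asIdeal.primeCompl x
      rcases eq_or_ne a 0 with rfl | ha
      · exact IsLocalization.mk'_zero _
      · refine absurd ?_ hx
        exact (IsLocalization.AtPrime.isUnit_mk'_iff K (f' w).asIdeal a s).2 fun h =>
          (f' w).2.ne_top (Ideal.eq_top_of_isUnit_mem _ h ha.isUnit)
    show LocCoh.IsCohenMacaulayLocalRing (Yt.presheaf.stalk w ⧸ (Ideal.span (nonunits K)).map (f'.stalkMap w).hom)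
    rw [hbot, Ideal.map_bot]
    exact CMCat.isCohenMacaulayLocalRing_of_ringEquiv (RingEquiv.quotientBot _).symm
  obtain ⟨V, hV, hVfl, hVres⟩ := cm_model d hS hd ω hω
  have hyV : f.fiberι t w ∈ V := (hV _).2 hcm
  obtain ⟨ωt, hωt⟩ := exists_isDualizingSheaf (A := κ) (Y := Yt) d hS' hd'
  obtain ⟨ires⟩ := hVres t ωt hωt
  obtain ⟨hωcoh, -, -⟩ := relCanonical_model d hS hd ω hω
  obtain ⟨hωtcoh, -, -⟩ := relCanonical_model (A := κ) (Y := Yt) d hS' hd' ωt hωt
  haveI := hωcoh.1
  haveI := hωtcoh.1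
  let ι₀ := f.fiberι t
  let y := ι₀ w
  let R := (Spec (CommRingCat.of A)).presheaf.stalk (f y)
  let B := Y.presheaf.stalk y
  let S := Yt.presheaf.stalk w
  letI : Algebra R B := (f.stalkMap y).hom.toAlgebra
  haveI : IsLocalHom (algebraMap R B) := inferInstanceAs (IsLocalHom (f.stalkMap y).hom)
  letI : Algebra B S := (ι₀.stalkMap w).hom.toAlgebra
  have hSsurj : Function.Surjective (algebraMap B S) := FlatLocus.fiberι_stalkMap_surjective f t w
  have hSker : RingHom.ker (algebraMap B S) = EGA4.mB R B := FlatLocus.ker_fiberι_stalkMap f t w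
  let K := ωt.presheaf.stalk w
  haveI : Module.Finite S K := PullbackMod.finite_stalk_of_isFT hωtcoh.2 w
  letI : Module B K := Module.compHom K (ι₀.stalkMap w).hom
  haveI : IsScalarTower B S K := .of_algebraMap_smul fun _ _ => rfl
  have hfib : ∀ {G : Y.Modules}, Coh.IsCoh G →
      Nonempty (((Scheme.Modules.pullback ι₀).obj G).presheaf.stalk w ≃ₗ[S] K) →
      Nonempty (EGA4.FibMod R B (G.presheaf.stalk y) ≃ₗ[B] K) := by
    intro G hG ⟨e⟩
    haveI := hG.1
    let N := ((Scheme.Modules.pullback ι₀).obj G).presheaf.stalk w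
    letI : Module B N := Module.compHom N (ι₀.stalkMap w).hom
    haveI : IsScalarTower B S N := .of_algebraMap_smul fun _ _ => rfl
    have hbc : IsBaseChange S (PullbackMod.pullStalkL ι₀ G w) := PullbackMod.isBaseChange_pullStalkL ι₀ G w
    obtain ⟨E0⟩ := FibreDepth.exists_quot_equiv hSsurj _ hbc
    exact ⟨((E0.trans (Submodule.quotEquivOfEq _ _ (by rw [hSker]))).symm).trans (e.restrictScalars B)⟩
  have hQ : Coh.IsCoh ((Scheme.Modules.pullback ι₀).obj ω) := PullbackMod.isCoh_pullback ι₀ _ hωcoh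
  haveI := hQ.1
  haveI := PullbackMod.finite_stalk_of_isFT hQ.2 w
  obtain ⟨EM⟩ := hfib hωcoh (stalk_iso_of_restrict (ι₀ ⁻¹ᵁ V) hQ hωtcoh ires w
    (le_idealDepth_idealOff_of_mem (show w ∈ ι₀ ⁻¹ᵁ V from hyV) _ 2) (le_idealDepth_idealOff_of_mem (show w ∈ ι₀ ⁻¹ᵁ V from hyV) _ 2))
  have hsplit : ∀ {M L : Type u} [AddCommGroup M] [Module B M] [AddCommGroup L] [Module B L],
      (EGA4.FibMod R B L ≃ₗ[B] K) → (EGA4.FibMod R B M ≃ₗ[B] K) → FlatLift.FibreSplit R (B := B) L M :=
    fun EL EM => fibreSplit_of_split hSsurj hSker EL EM fun X _ _ i p hi hex hp =>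
      split_of_cm (k := κ) (Y := Yt) d hS' hd' ωt hωt w hcm' i p hi hex hp
  letI : Module R (ω.presheaf.stalk y) := FlatMod.moduleStalkOver f ω y
  haveI : IsScalarTower R B (ω.presheaf.stalk y) := .of_algebraMap_smul fun _ _ => rfl
  haveI : Module.Finite B (ω.presheaf.stalk y) := PullbackMod.finite_stalk_of_isFT hωcoh.2 y
  haveI : Module.Flat R (ω.presheaf.stalk y) := hVfl y hyV
  refine ⟨fun {L} hL hLfl hLt => ?_, fun X _ _ i p hi hex hp => ?_⟩
  · haveI := hL.1
    letI : Module R (L.presheaf.stalk y) := FlatMod.moduleStalkOver f L y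
    haveI : IsScalarTower R B (L.presheaf.stalk y) := .of_algebraMap_smul fun _ _ => rfl
    haveI : Module.Finite B (L.presheaf.stalk y) := PullbackMod.finite_stalk_of_isFT hL.2 y
    haveI : Module.Flat R (L.presheaf.stalk y) := hLfl
    obtain ⟨iL⟩ := nonempty_iso_of_isDualizingSheaf (A := κ) (Y := Yt) hLt hωt
    obtain ⟨EL⟩ := hfib hL ⟨((DCohLib.stkF w).mapIso iL).toLinearEquiv⟩
    exact FlatLift.nonempty_equiv (hsplit EL EM) (EL.trans EM.symm)
  · exact FlatLift.exists_section (hsplit EM EM) i p hi hex hp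

end Groth.Agent.FibreDualLib
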