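import Groth.Agent.RelDimLib.Local
import Groth.Agent.FlatDim.Trdeg
import Groth.Agent.FibreDepth.FibreDim
import Groth.Agent.DimFormulaLib.Irreducible
import Groth.Agent.DimFormulaLib.Equidim

/-!
# Fibrewise codimension of a closed set is lower semicontinuous
-/

set_option autoImplicit false
set_option linter.style.haveILetI false
set_option linter.unusedSectionVars false
set_option maxHeartbeats 1600000

universe u

open CategoryTheory AlgebraicGeometry TopologicalSpace Groth.Agent.DimFormulaLib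

noncomputable section

namespace Groth.Agent.FibreDualLib

variable {Y T : Scheme.{u}}

/-- For a morphism of pure relative dimension, dimension of the local ring of the fibre and transcendence degree
add up to the relative dimension. -/
theorem exists_dim_trdeg (f : Y ⟶ T) [LocallyOfFiniteType f] [IsLocallyNoetherian T] (d : ℕ)
    (hd : Cyc.HasRelDim f d) (x : Y) :
    ∃ a t : ℕ, ringKrullDim ((f.fiber (f x)).presheaf.stalk (f.asFiber x)) = (a : WithBot ℕ∞) ∧
      resTrdegAt f x = t ∧ a + t = d := by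
  obtain ⟨c⟩ := exists_chart f x
  obtain ⟨-, -, a, t, -, -, ha, ht, hloc, -, -, -, -⟩ := c.dims
  refine ⟨a, t, ha, c.resTrdegAt_self.trans ht, ?_⟩
  have h := ((RelDimLib.hasRelDim_iff f d).1 hd x).symm.trans hloc
  exact (Nat.cast_inj (R := WithBot ℕ∞)).1 h.symm

/-- If the fibre through a point meets a closed set in codimension at least `n` near the point, so do nearby fibres. -/
theorem exists_nhd_codim (f : Y ⟶ T) [LocallyOfFiniteType f] [IsLocallyNoetherian T] (d : ℕ)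
    (hd : Cyc.HasRelDim f d) (U : Y.Opens) (n : ℕ) (y : Y)
    (h : ∀ z : Y, f z = f y → z ∉ U → z ⤳ y →
      (n : WithBot ℕ∞) ≤ ringKrullDim ((f.fiber (f z)).presheaf.stalk (f.asFiber z))) :
    ∃ W : Y.Opens, y ∈ W ∧ ∀ z ∈ W, z ∉ U →
      (n : WithBot ℕ∞) ≤ ringKrullDim ((f.fiber (f z)).presheaf.stalk (f.asFiber z)) := by
  by_cases hyU : y ∈ U
  · exact ⟨U, hyU, fun z hz hzU => absurd hz hzU⟩
  let I := Scheme.IdealSheafData.vanishingIdeal (X := Y) ⟨(U : Set Y)ᶜ, U.2.isClosed_compl⟩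
  let ι := I.subschemeι
  have hrange : Set.range ι = (U : Set Y)ᶜ := by
    rw [Scheme.IdealSheafData.range_subschemeι, Scheme.IdealSheafData.coe_support_vanishingIdeal]
    rfl
  let g := ι ≫ f
  obtain ⟨y₀, hy₀⟩ : y ∈ Set.range ι := hrange ▸ hyU
  obtain ⟨c⟩ := exists_chart g y₀
  obtain ⟨P, m, hP, hPp, -, hPm, hfd⟩ := c.exists_component
  let z₀ := ι (c.j P)
  have hz₀U : z₀ ∉ U := hrange.le ⟨c.j P, rfl⟩
  have hz₀f : f z₀ = f y := by
    have h1 : g (c.j P) = g y₀ := (c.apply_j P).trans ((congrArg c.i hPp).trans c.hp)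
    exact h1.trans (congrArg f hy₀)
  have hz₀y : z₀ ⤳ y := hy₀ ▸ (c.specializes hP).map ι.continuous
  have htr : ∀ w, resTrdegAt g w = resTrdegAt f (ι w) := fun w => by
    rw [FlatDim.resTrdegAt_comp, FlatDim.resTrdegAt_preimmersion ι, add_zero]
  have hz₀t : resTrdegAt f z₀ = m := (htr _).symm.trans ((c.resTrdegAt_eq P).trans hPm)
  obtain ⟨a₀, t₀, ha₀, ht₀, hat₀⟩ := exists_dim_trdeg f d hd z₀
  have htm : t₀ = m := by exact_mod_cast (ht₀.symm.trans hz₀t)
  have hn : n ≤ a₀ := by exact_mod_cast ha₀ ▸ h z₀ hz₀f hz₀U hz₀y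
  let bad : Set I.subscheme := {w | FlatMor.fibreDimAt g w ≤ (m : WithBot ℕ∞)}ᶜ
  have hbad : IsClosed bad := (FibreDepth.isOpen_fibreDimAt_le_nat g m).isClosed_compl
  refine ⟨⟨(ι '' bad)ᶜ, (ι.isClosedEmbedding.isClosedMap _ hbad).isOpen_compl⟩, ?_, fun z hz hzU => ?_⟩
  · rintro ⟨w, hw, hwy⟩
    obtain rfl : w = y₀ := ι.isClosedEmbedding.injective (hwy.trans hy₀.symm)
    exact hw (le_of_eq hfd)
  obtain ⟨w, rfl⟩ : z ∈ Set.range ι := hrange ▸ hzU
  have hw : FlatMor.fibreDimAt g w ≤ (m : WithBot ℕ∞) := not_not.1 fun hw => hz ⟨w, hw, rfl⟩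
  obtain ⟨c'⟩ := exists_chart g w
  obtain ⟨-, -, a', t', -, -, -, ht', hloc', -, -, -, -⟩ := c'.dims
  have hle : a' + t' ≤ m := by exact_mod_cast hloc' ▸ hw
  obtain ⟨a, t, ha, ht, hat⟩ := exists_dim_trdeg f d hd (ι w)
  have htt : t' = t := by exact_mod_cast (c'.resTrdegAt_self.trans ht').symm.trans ((htr w).trans ht)
  rw [ha]
  exact_mod_cast (show n ≤ a by omega)

end Groth.Agent.FibreDualLib
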