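import Groth.Agent.QGorLib.FlatDepth
import Groth.Agent.FibreDualLib.DVRStep

/-!
# Regular sequences lift from the closed fibre of a flat module
-/

set_option autoImplicit false
set_option linter.style.haveILetI false
set_option maxHeartbeats 800000

universe u

open IsLocalRing RingTheory.Sequence
open scoped Pointwise

noncomputable section

namespace Groth.Agent.FibreDualLib

variable {R S : Type u} [CommRing R] [CommRing S] [IsLocalRing R] [IsLocalRing S]
  [IsNoetherianRing R] [IsNoetherianRing S] [Algebra R S] [IsLocalHom (algebraMap R S)]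

/-- The fibre of a quotient by an element is the quotient of the fibre. -/
def fibQuotEquiv (M : Type u) [AddCommGroup M] [Module S M] (I : Ideal S) (r : S) :
    QuotSMulTop r (M ⧸ (I • ⊤ : Submodule S M)) ≃ₗ[S]
      (QuotSMulTop r M ⧸ (I • ⊤ : Submodule S (QuotSMulTop r M))) :=
  (Submodule.quotEquivOfEq _ _ (show r • (⊤ : Submodule S (M ⧸ (I • ⊤ : Submodule S M))) =
      (r • (⊤ : Submodule S M)).map (I • ⊤ : Submodule S M).mkQ by
        rw [Submodule.map_pointwise_smul, Submodule.map_top, Submodule.range_mkQ])).trans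
    ((Submodule.quotientQuotientEquivQuotientSup _ _).trans
      ((Submodule.quotEquivOfEq _ _ (sup_comm _ _)).trans
        ((Submodule.quotientQuotientEquivQuotientSup (r • ⊤ : Submodule S M) (I • ⊤)).symm.trans
          (Submodule.quotEquivOfEq _ _ (by rw [Submodule.map_smul'', Submodule.map_top, Submodule.range_mkQ])))))

/-- A sequence regular on the closed fibre of a flat module is regular. -/
theorem isWeaklyRegular_of_fibre (rs : List S) :
    ∀ (M : Type u) [AddCommGroup M] [Module R M] [Module S M] [IsScalarTower R S M] [Module.Finite S M]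
      [Module.Flat R M], IsWeaklyRegular (EGA4.FibMod R S M) rs → IsWeaklyRegular M rs := by
  induction rs with
  | nil => intros; exact IsWeaklyRegular.nil _ _
  | cons r rs ih =>
    intro M _ _ _ _ _ _ h
    rw [isWeaklyRegular_cons_iff] at h ⊢
    obtain ⟨hreg, hflat⟩ := QGorLib.regular_and_flat_of_fibre (R := R) (M := M) r fun x hx => by
      rw [← Submodule.Quotient.mk_eq_zero] at hx ⊢
      exact h.1.right_eq_zero_of_smul hx
    haveI := hflat
    exact ⟨hreg, ih (QuotSMulTop r M)
      ((LinearEquiv.isWeaklyRegular_congr (fibQuotEquiv M (EGA4.mB R S) r) rs).1 h.2)⟩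

/-- Depth along an ideal is at least that of the closed fibre. -/
theorem natCast_le_idealDepth_of_fibre_ideal {M : Type u} [AddCommGroup M] [Module R M] [Module S M]
    [IsScalarTower R S M] [Module.Finite S M] [Module.Flat R M] (J : Ideal S) (hJ : J ≠ ⊤) (n : ℕ)
    (h : (n : ℕ∞) ≤ LocCoh.idealDepth J (EGA4.FibMod R S M)) : (n : ℕ∞) ≤ LocCoh.idealDepth J M := by
  by_cases hJM : J • (⊤ : Submodule S M) = ⊤
  · rw [LocCoh.idealDepth, if_pos hJM]
    exact le_top
  have hne : J • (⊤ : Submodule S (EGA4.FibMod R S M)) ≠ ⊤ := by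
    intro htop
    rcases subsingleton_or_nontrivial M with hM | hM
    · exact hJM (Subsingleton.elim _ _)
    haveI : Nontrivial (EGA4.FibMod R S M) := Submodule.Quotient.nontrivial_iff.mpr fun hP =>
      CAlgBasics.maximalIdeal_smul_top_ne_top (R := S) (M := M)
        (eq_top_iff.mpr (hP.ge.trans (Submodule.smul_mono_left (IsLocalRing.map_maximalIdeal_le (algebraMap R S)))))
    exact CAlgBasics.maximalIdeal_smul_top_ne_top (R := S) (M := EGA4.FibMod R S M)
      (top_le_iff.1 (htop.ge.trans (Submodule.smul_mono_left (IsLocalRing.le_maximalIdeal hJ))))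
  obtain ⟨rs, hl, hm, hw⟩ := (Depth.le_idealDepth_iff hne n).mp h
  exact (Depth.le_idealDepth_iff hJM n).mpr ⟨rs, hl, hm, isWeaklyRegular_of_fibre (R := R) rs M hw⟩

end Groth.Agent.FibreDualLib
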