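import Groth.Agent.FibreDualLib.CMGen
import Groth.Agent.FibDepthLib.HTwo

/-!
# Extensions split if they split off a closed set of large depth
-/

set_option autoImplicit false
set_option linter.style.haveILetI false
set_option linter.unusedSectionVars false
set_option maxHeartbeats 1600000

universe u

noncomputable section

namespace Groth.Agent.FibreDualLib

/-- A self-extension of a module with scalar endomorphisms which splits off a closed set of depth three splits. -/
theorem exists_section_of_split_off {B M N : Type u} [CommRing B] [IsNoetherianRing B] [AddCommGroup M] [Module B M]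
    [Module.Finite B M] [AddCommGroup N] [Module B N] [Module.Finite B N] (J : Ideal B)
    (hM : 2 ≤ LocCoh.idealDepth J M) (hB : (3 : ℕ∞) ≤ LocCoh.idealDepth J B)
    (hE : Function.Bijective fun r : B => r • (LinearMap.id : M →ₗ[B] M))
    (i : M →ₗ[B] N) (p : N →ₗ[B] M) (hi : Function.Injective i) (hex : Function.Exact i p)
    (hp : Function.Surjective p)
    (hoff : ∀ q : PrimeSpectrum B, ¬ J ≤ q.asIdeal → ∃ a ∉ q.asIdeal, ∃ s : M →ₗ[B] N, p ∘ₗ s = a • LinearMap.id) :
    ∃ s : M →ₗ[B] N, p ∘ₗ s = LinearMap.id := by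
  let e : B ≃ₗ[B] (M →ₗ[B] M) := LinearEquiv.ofBijective (LinearMap.toSpanSingleton B _ LinearMap.id) hE
  let f : (M →ₗ[B] N) →ₗ[B] B := e.symm.toLinearMap ∘ₗ LinearMap.llcomp B M N M p
  let P : B →ₗ[B] (M →ₗ[B] N) := LinearMap.toSpanSingleton B _ i
  have hN : 2 ≤ LocCoh.idealDepth J N :=
    FibDepthLib.le_idealDepth_middle i p (d := 2) (Or.inr rfl) hex hi hp hM hM
  have hK : 2 ≤ LocCoh.idealDepth J (M →ₗ[B] N) := two_le_idealDepth_hom hN
  haveI := Module.finitePresentation_of_finite B M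
  haveI : Module.Finite B (M →ₗ[B] N) := inferInstance
  have hpi : ∀ s : M →ₗ[B] M, p ∘ₗ (i ∘ₗ s) = 0 := fun s => LinearMap.ext fun m => hex.apply_apply_eq_zero (s m)
  have hfp : ∀ x, f (P x) = 0 := fun x => by
    show e.symm (p ∘ₗ (x • i)) = 0
    rw [show x • i = i ∘ₗ (x • LinearMap.id) from LinearMap.ext fun m => (map_smul i x m).symm, hpi, map_zero]
  have hker : ∀ s, f s = 0 → s ∈ LinearMap.range P := fun s hs => by
    have h0 : p ∘ₗ s = 0 := e.symm.map_eq_zero_iff.1 hs
    have hmem : ∀ m, s m ∈ LinearMap.range i := fun m => (hex (s m)).1 (LinearMap.congr_fun h0 m)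
    let ei : M ≃ₗ[B] LinearMap.range i := LinearEquiv.ofInjective i hi
    let t : M →ₗ[B] M := ei.symm.toLinearMap ∘ₗ s.codRestrict _ hmem
    obtain ⟨r, hr : r • LinearMap.id = t⟩ := hE.2 t
    refine ⟨r, LinearMap.ext fun m => ?_⟩
    show r • i m = s m
    rw [← map_smul, show r • m = t m from LinearMap.congr_fun hr m]
    exact congrArg Subtype.val (ei.apply_symm_apply ⟨s m, hmem m⟩)
  let g : B →ₗ[B] B ⧸ LinearMap.range f := (LinearMap.range f).mkQ
  have hfg : Function.Exact f g := fun x => (Submodule.Quotient.mk_eq_zero _).trans ⟨fun h => h, fun h => h⟩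
  have hkP : ∀ x, P x = 0 → ∀ q : PrimeSpectrum B, ¬ J ≤ q.asIdeal → ∃ s, s ∉ q.asIdeal ∧ s • x = 0 :=
    fun x hx q _ => ⟨1, q.2.one_notMem, by
      rw [one_smul]
      refine hE.1 (show x • LinearMap.id = (0 : B) • (LinearMap.id : M →ₗ[B] M) from LinearMap.ext fun m => hi ?_)
      show i (x • m) = i ((0 : B) • m)
      rw [zero_smul, map_zero, map_smul]
      exact LinearMap.congr_fun hx m⟩
  have hB2 : Subsingleton (LocCoh.H J 2 B) :=
    (FibDepthLib.natCast_le_idealDepth_iff_H (M := B) (J := J) 3).1 hB 2 (by norm_num)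
  have hC : 1 ≤ LocCoh.idealDepth J (B ⧸ LinearMap.range f) :=
    FibDepthLib.one_le_idealDepth_coker_of_H_two P f g hfp hfg (Submodule.mkQ_surjective _) hkP
      (fun x hx q _ => ⟨1, q.2.one_notMem, by rw [one_smul]; exact hker x hx⟩) hK
      (le_trans (by norm_num) hB) hB2
  have h1 : g 1 = 0 := FibDepthLib.eq_zero_of_killed_off hC _ fun q hq => by
    obtain ⟨a, ha, s, hs⟩ := hoff q hq
    refine ⟨a, ha, ?_⟩
    rw [← map_smul, smul_eq_mul, mul_one]
    refine (hfg a).2 ⟨s, ?_⟩
    show e.symm (p ∘ₗ s) = a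
    rw [hs]
    exact e.symm_apply_apply a
  obtain ⟨s, hs⟩ := (hfg 1).1 h1
  refine ⟨s, ?_⟩
  have := congrArg e hs
  rw [show e 1 = LinearMap.id from one_smul B _] at this
  rw [← this]
  exact (e.apply_symm_apply _).symm

end Groth.Agent.FibreDualLib
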