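import Groth.Agent.FibreDualLib.CMCrit
import Groth.Agent.HomLib.Basic

/-!
# Splittings of maps of coherent modules from splittings of stalks
-/

set_option autoImplicit false
set_option linter.style.haveILetI false
set_option linter.unusedSectionVars false
set_option backward.isDefEq.respectTransparency false
set_option backward.isDefEq.respectTransparency.types false
set_option maxHeartbeats 1600000

universe u

open CategoryTheory CategoryTheory.Limits AlgebraicGeometry TopologicalSpace
open Groth.Agent.PullbackMod Groth.Agent.DCohLib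

noncomputable section

namespace Groth.Agent.FibreDualLib

variable {X : Scheme.{u}}

theorem stalkLin_toHom_germ {F G : X.Modules} (s : Γ(RefHull.homSh F G, (⊤ : X.Opens))) (x : X)
    (m : Γ(F, (⊤ : X.Opens))) :
    PullbackMod.stalkLin (HomLib.toHom s) x (F.presheaf.germ ⊤ x trivial m) =
      G.presheaf.germ ⊤ x trivial (HomLib.ev s le_rfl m) :=
  TopCat.Presheaf.stalkFunctor_map_germ_apply ⊤ x trivial (HomLib.toHom s).mapPresheaf m

variable [IsLocallyNoetherian X]

/-- On an affine Noetherian scheme a section of a stalk map extends to a morphism splitting nearby. -/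
theorem exists_near_section [IsAffine X] {F G : X.Modules} (hF : Coh.IsCoh F) (hG : Coh.IsCoh G) (g : G ⟶ F) (x : X)
    (σ : F.presheaf.stalk x →ₗ[X.presheaf.stalk x] G.presheaf.stalk x)
    (hσ : PullbackMod.stalkLin g x ∘ₗ σ = LinearMap.id) :
    ∃ (U : X.Opens), x ∈ U ∧ ∃ s : F.restrict U.ι ⟶ G.restrict U.ι,
      s ≫ (Scheme.Modules.restrictFunctor U.ι).map g = 𝟙 _ := by
  have hW : IsAffineOpen (⊤ : X.Opens) := isAffineOpen_top X
  haveI := hF.1
  haveI := hG.1
  let R := Γ(X, (⊤ : X.Opens))
  haveI : IsNoetherianRing R := QCohLib.isNoetherianRing_section hW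
  haveI : Module.Finite R Γ(F, (⊤ : X.Opens)) := QCohLib.finite_sections_of_isCoh hF hW
  haveI := Module.finitePresentation_of_finite R Γ(F, (⊤ : X.Opens))
  let O := X.presheaf.stalk x
  let P := (hW.primeIdealOf ⟨x, (trivial : x ∈ (⊤ : X.Opens))⟩).asIdeal.primeCompl
  letI : Algebra R O := TopCat.Presheaf.algebra_section_stalk X.presheaf (⟨x, trivial⟩ : (⊤ : X.Opens))
  haveI := hW.isLocalization_stalk ⟨x, trivial⟩
  letI := Module.compHom (F.presheaf.stalk x) (X.presheaf.germ ⊤ x trivial).hom
  letI := Module.compHom (G.presheaf.stalk x) (X.presheaf.germ ⊤ x trivial).hom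
  haveI : IsScalarTower R O (F.presheaf.stalk x) := .of_algebraMap_smul fun _ _ => rfl
  haveI : IsScalarTower R O (G.presheaf.stalk x) := .of_algebraMap_smul fun _ _ => rfl
  haveI : IsLocalizedModule P (FlatLocus.germL F ⊤ x trivial) := FlatLocus.isLocalizedModule_germL F hW x trivial
  haveI : IsLocalizedModule P (FlatLocus.germL G ⊤ x trivial) := FlatLocus.isLocalizedModule_germL G hW x trivial
  obtain ⟨h, c, hc⟩ := Module.FinitePresentation.exists_lift_of_isLocalizedModule P (FlatLocus.germL G ⊤ x trivial)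
    ((σ.restrictScalars R).comp (FlatLocus.germL F ⊤ x trivial))
  obtain ⟨s₀, hs₀⟩ := HomLib.ev_surjective hW h
  let φ : F ⟶ G := HomLib.toHom s₀
  have hu : IsUnit (algebraMap R O c.1) := IsLocalization.map_units _ c
  have hgerm : ∀ m : Γ(F, (⊤ : X.Opens)), PullbackMod.stalkLin φ x (F.presheaf.germ ⊤ x trivial m) =
      algebraMap R O c.1 • σ (F.presheaf.germ ⊤ x trivial m) := fun m => by
    rw [stalkLin_toHom_germ, hs₀]
    exact LinearMap.congr_fun hc m
  have hst : ∀ z, PullbackMod.stalkLin φ x z = algebraMap R O c.1 • σ z := fun z => by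
    obtain ⟨⟨m, d⟩, hd⟩ := IsLocalizedModule.surj P (FlatLocus.germL F ⊤ x trivial) z
    have hd' : algebraMap R O d.1 • z = F.presheaf.germ ⊤ x trivial m := hd
    have hdu : IsUnit (algebraMap R O d.1) := IsLocalization.map_units _ d
    refine hdu.smul_left_cancel.1 ?_
    rw [← map_smul, hd', hgerm, ← hd', map_smul, smul_comm]
  have hb : Function.Bijective (PullbackMod.stalkLin (φ ≫ g) x) := by
    have : ⇑(PullbackMod.stalkLin (φ ≫ g) x) = fun z => algebraMap R O c.1 • z := funext fun z => by
      rw [PullbackMod.stalkLin_comp]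
      show PullbackMod.stalkLin g x (PullbackMod.stalkLin φ x z) = _
      rw [hst, map_smul]
      exact congrArg _ (LinearMap.congr_fun hσ z)
    rw [this]
    exact ⟨fun a b hab => hu.smul_left_cancel.1 hab, fun b => ⟨hu.unit⁻¹.1 • b, by
      show algebraMap R O c.1 • (hu.unit⁻¹.1 • b) = b
      rw [← mul_smul, IsUnit.mul_val_inv, one_smul]⟩⟩
  let U : X.Opens := ⟨{v | Function.Bijective (PullbackMod.stalkLin (φ ≫ g) v)},
    PullbackMod.isOpen_stalk_bijective _ hF.2 ((QCohLib.isCoh_iff_isFP _).mp hF)⟩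
  haveI : IsIso ((Scheme.Modules.restrictFunctor U.ι).map (φ ≫ g)) :=
    isIso_restrict_of_bijective U _ fun v hv => hv
  refine ⟨U, hb, inv ((Scheme.Modules.restrictFunctor U.ι).map (φ ≫ g)) ≫
    (Scheme.Modules.restrictFunctor U.ι).map φ, ?_⟩
  rw [Category.assoc, ← Functor.map_comp, IsIso.inv_hom_id]

end Groth.Agent.FibreDualLib
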