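import Groth.Agent.FibreDualLib.CMCritMain
import Groth.Agent.FibreDualLib.SplitOff
import Groth.Agent.FibreDualLib.SplitSheaf
import Groth.Agent.FibreDualLib.LiftRegular
import Groth.Agent.TildeOpenLib.Basic

/-!
# Self-extensions of the relative canonical sheaf with deep fibres
-/

set_option autoImplicit false
set_option linter.style.haveILetI false
set_option linter.unusedSectionVars false
set_option backward.isDefEq.respectTransparency false
set_option backward.isDefEq.respectTransparency.types false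
set_option maxHeartbeats 1600000

universe u

open CategoryTheory CategoryTheory.Limits AlgebraicGeometry IsLocalRing TopologicalSpace
open Groth.Agent.PullbackMod Groth.Agent.DCohLib

noncomputable section

namespace Groth.Agent.FibreDualLib

variable {A : Type u} [CommRing A] [IsNoetherianRing A] {Y : Scheme.{u}} [Y.Over (Spec (CommRingCat.of A))]
  [IsProper (Y ↘ Spec (CommRingCat.of A))]

local notation3 "S₀" => Spec (CommRingCat.of A)

/-- Depth three of the local ring along the non Cohen–Macaulay set from `(S₃)` of the fibre. -/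
theorem three_le_idealDepth_stalk (hS : RelCanon.IsSkMor (Y ↘ S₀) 2) (U : Y.Opens)
    (hU : ∀ v : Y, v ∉ U → ¬ MoreMor.IsCMAt (Y ↘ S₀) v) (t : (Spec (CommRingCat.of A))) (w : (Y ↘ S₀).fiber t)
    (h3 : ∀ z : (Y ↘ S₀).fiber t, RelCanon.SkAt 3 (Coh.structureModule ((Y ↘ S₀).fiber t)) z)
    (hw : (Y ↘ S₀).fiberι t w ∉ U) :
    (3 : ℕ∞) ≤ LocCoh.idealDepth (idealOff U ((Y ↘ S₀).fiberι t w)) (Y.presheaf.stalk ((Y ↘ S₀).fiberι t w)) := by
  let f₀ := Y ↘ S₀
  haveI : IsNoetherianRing (CommRingCat.of A) := inferInstanceAs (IsNoetherianRing A)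
  haveI : IsLocallyNoetherian Y := LocallyOfFiniteType.isLocallyNoetherian f₀
  haveI := hS.1
  haveI := hS.2.1
  haveI : LocallyOfFiniteType (f₀.fiberToSpecResidueField t) := MorphismProperty.pullback_snd _ _ hS.2.1
  haveI : IsLocallyNoetherian (f₀.fiber t) := LocallyOfFiniteType.isLocallyNoetherian (f₀.fiberToSpecResidueField t)
  let ι₀ := f₀.fiberι t
  let y := ι₀ w
  let R := (Spec (CommRingCat.of A)).presheaf.stalk (f₀ y)
  let B := Y.presheaf.stalk y
  let S := (f₀.fiber t).presheaf.stalk w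
  let J := idealOff U y
  let Ut := ι₀ ⁻¹ᵁ U
  have hdim : ∀ v : f₀.fiber t, v ∉ Ut → (3 : WithBot ℕ∞) ≤ ringKrullDim ((f₀.fiber t).presheaf.stalk v) := by
    have h := forall_fiber f₀ (P := fun s z => f₀.fiberι s z ∉ U →
      (3 : WithBot ℕ∞) ≤ ringKrullDim ((f₀.fiber s).presheaf.stalk z)) (fun x hx => by
        rw [f₀.fiberι_asFiber] at hx
        exact three_le_dim_fibre_of_not_cm f₀ hS x (hU x hx)) t
    exact h
  have hS3 : (3 : ℕ∞) ≤ LocCoh.idealDepth (idealOff Ut w) S := by
    rw [CAlgBasics.idealDepth_congr (RefOne.oEquiv w)]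
    exact le_idealDepth_of_skAt_near (DevLib.isCoh_structureModule _) Ut w 3 (by norm_num) (h3 w)
      (fun v _ _ => (RefOne.oEquiv v).toEquiv.symm.nontrivial) (fun v _ hv => hdim v hv)
  letI : Algebra R B := (f₀.stalkMap y).hom.toAlgebra
  haveI : Module.Flat R B := Flat.stalkMap f₀ y
  haveI : IsLocalHom (algebraMap R B) := inferInstanceAs (IsLocalHom (f₀.stalkMap y).hom)
  letI : Algebra B S := (ι₀.stalkMap w).hom.toAlgebra
  have hSsurj : Function.Surjective (algebraMap B S) := FlatLocus.fiberι_stalkMap_surjective f₀ t w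
  have hSker : RingHom.ker (algebraMap B S) = EGA4.mB R B := FlatLocus.ker_fiberι_stalkMap f₀ t w
  have hJ : J ≠ ⊤ := fun h => by
    have hle : J ≤ (maximalIdeal B) := by
      rw [show (maximalIdeal B) = (IsLocalRing.closedPoint B).asIdeal from rfl]
      exact (idealOff_le_iff U y _).2 (by
        show Y.fromSpecStalk y (IsLocalRing.closedPoint B) ∉ U
        rw [Scheme.fromSpecStalk_closedPoint]
        exact hw)
    exact (maximalIdeal.isMaximal B).ne_top (top_le_iff.1 (h ▸ hle))
  refine natCast_le_idealDepth_of_fibre_ideal (R := R) J hJ 3 ?_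
  rw [← CAlgBasics.idealDepth_congr (((Submodule.quotEquivOfEq _ _
      (show (EGA4.mB R B • ⊤ : Submodule B B) = LinearMap.ker (Algebra.linearMap B S) by
        rw [smul_eq_mul, Ideal.mul_top]; exact hSker.symm)).trans
          ((Algebra.linearMap B S).quotKerEquivOfSurjective hSsurj))).symm,
    ← idealDepth_map_of_surjective hSsurj]
  refine le_idealDepth_of_le (fun P hP => ?_) 3 hS3
  rw [idealOff_le_iff]
  have hP' : J ≤ (PrimeSpectrum.comap (algebraMap B S) P).asIdeal := Ideal.map_le_iff_le_comap.1 hP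
  rw [idealOff_le_iff] at hP'
  intro hv
  apply hP'
  have hsq : Y.fromSpecStalk y (Spec.map (ι₀.stalkMap w) P) = ι₀ ((f₀.fiber t).fromSpecStalk w P) := by
    rw [← Scheme.Hom.comp_apply, ← Scheme.Hom.comp_apply, Scheme.SpecMap_stalkMap_fromSpecStalk]
  exact hsq ▸ hv

/-- Self-extensions of a stalk of the relative canonical sheaf split when the fibres are deep. -/
theorem exists_section_stalk (d : ℕ) (hS : RelCanon.IsSkMor (Y ↘ S₀) 2) (hd : Cyc.HasRelDim (Y ↘ S₀) d)
    (ω : Y.Modules) (hω : RelCanon.IsDualizingSheaf A Y d ω)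
    (h3 : ∀ y : Y, RelCanon.SkAt 3 (Coh.structureModule ((Y ↘ S₀).fiber ((Y ↘ S₀) y))) ((Y ↘ S₀).asFiber y))
    (y : Y) (N : Type u) [AddCommGroup N] [Module (Y.presheaf.stalk y) N] [Module.Finite (Y.presheaf.stalk y) N]
    (i : ω.presheaf.stalk y →ₗ[Y.presheaf.stalk y] N) (p : N →ₗ[Y.presheaf.stalk y] ω.presheaf.stalk y)
    (hi : Function.Injective i) (hex : Function.Exact i p) (hp : Function.Surjective p) :
    ∃ s : ω.presheaf.stalk y →ₗ[Y.presheaf.stalk y] N, p ∘ₗ s = LinearMap.id := by
  let f := Y ↘ S₀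
  haveI : IsNoetherianRing (CommRingCat.of A) := inferInstanceAs (IsNoetherianRing A)
  haveI : IsLocallyNoetherian Y := LocallyOfFiniteType.isLocallyNoetherian f
  obtain ⟨hcoh, -, -⟩ := relCanonical_model d hS hd ω hω
  haveI := hcoh.1
  haveI : Module.Finite (Y.presheaf.stalk y) (ω.presheaf.stalk y) := PullbackMod.finite_stalk_of_isFT hcoh.2 y
  obtain ⟨V, hV, -, -⟩ := cm_model d hS hd ω hω
  -- splitting at Cohen–Macaulay points
  have hcm : ∀ v : Y, MoreMor.IsCMAt f v → ∀ (X : Type u) [AddCommGroup X] [Module (Y.presheaf.stalk v) X]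
      (i : ω.presheaf.stalk v →ₗ[Y.presheaf.stalk v] X) (p : X →ₗ[Y.presheaf.stalk v] ω.presheaf.stalk v),
      Function.Injective i → Function.Exact i p → Function.Surjective p →
      ∃ s : ω.presheaf.stalk v →ₗ[Y.presheaf.stalk v] X, p ∘ₗ s = LinearMap.id := by
    intro v hv
    have key : ∀ v' : Y, v' = v → (MoreMor.IsCMAt f v' →
      ∀ (X : Type u) [AddCommGroup X] [Module (Y.presheaf.stalk v') X]
        (i : ω.presheaf.stalk v' →ₗ[Y.presheaf.stalk v'] X) (p : X →ₗ[Y.presheaf.stalk v'] ω.presheaf.stalk v'),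
        Function.Injective i → Function.Exact i p → Function.Surjective p →
        ∃ s : ω.presheaf.stalk v' →ₗ[Y.presheaf.stalk v'] X, p ∘ₗ s = LinearMap.id) →
      ∀ (X : Type u) [AddCommGroup X] [Module (Y.presheaf.stalk v) X]
        (i : ω.presheaf.stalk v →ₗ[Y.presheaf.stalk v] X) (p : X →ₗ[Y.presheaf.stalk v] ω.presheaf.stalk v),
        Function.Injective i → Function.Exact i p → Function.Surjective p →
        ∃ s : ω.presheaf.stalk v →ₗ[Y.presheaf.stalk v] X, p ∘ₗ s = LinearMap.id := by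
      rintro v' rfl h
      exact h hv
    exact key _ (f.fiberι_asFiber v) fun h => (cm_stalk_facts d hS hd ω hω _ _ h).2
  by_cases hyV : y ∈ V
  · exact hcm y ((hV y).1 hyV) N i p hi hex hp
  let B := Y.presheaf.stalk y
  let M := ω.presheaf.stalk y
  let J := idealOff V y
  have hM : 2 ≤ LocCoh.idealDepth J M :=
    two_le_idealDepth_relCanonical d hS hd ω hω V y fun v _ hv =>
      le_trans (by norm_num) (three_le_dim_fibre_of_not_cm f hS v fun hc => hv ((hV v).2 hc))
  have hB : (3 : ℕ∞) ≤ LocCoh.idealDepth J B := by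
    have key : ∀ y' : Y, y' = y → (y' ∉ V →
        (3 : ℕ∞) ≤ LocCoh.idealDepth (idealOff V y') (Y.presheaf.stalk y')) →
        (3 : ℕ∞) ≤ LocCoh.idealDepth J B := by
      rintro y' rfl h; exact h hyV
    refine key _ (f.fiberι_asFiber y) fun h => ?_
    exact three_le_idealDepth_stalk hS V (fun v hv hc => hv ((hV v).2 hc)) _ _
      (fun z => forall_fiber f (P := fun s z => RelCanon.SkAt 3 (Coh.structureModule (f.fiber s)) z) h3 (f y) z) h
  refine exists_section_of_split_off J hM hB (scalar_end_relCanonical d hS hd ω hω y) i p hi hex hp fun q hq => ?_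
  -- splitting at the generisation
  let S := q.asIdeal.primeCompl
  let Bq := Localization.AtPrime q.asIdeal
  let v := Y.fromSpecStalk y q
  have hv : MoreMor.IsCMAt f v := (hV v).1 (not_not.1 fun h => hq ((idealOff_le_iff V y q).2 h))
  obtain ⟨ψ, e, he⟩ := exists_generization_equiv ω y q
  let iq := LocalizedModule.map S i
  let pq := LocalizedModule.map S p
  have hexq : Function.Exact iq pq := FibDepthLib.exact_localized i p hex q
  letI : Module (Y.presheaf.stalk v) (LocalizedModule S N) := Module.compHom _ ψ.symm.toRingHom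
  have hsmul : ∀ (c : Y.presheaf.stalk v) (z : LocalizedModule S N), c • z = ψ.symm c • z := fun _ _ => rfl
  have hes : ∀ (c : Y.presheaf.stalk v) (x : ω.presheaf.stalk v), e.symm (c • x) = ψ.symm c • e.symm x := fun c x =>
    e.injective (by rw [AddEquiv.apply_symm_apply, he, RingEquiv.apply_symm_apply, AddEquiv.apply_symm_apply])
  let i' : ω.presheaf.stalk v →ₗ[Y.presheaf.stalk v] LocalizedModule S N :=
    { toFun := fun x => iq (e.symm x)
      map_add' := fun a b => by rw [map_add, map_add]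
      map_smul' := fun c x => by rw [hes, map_smul, RingHom.id_apply, hsmul] }
  let p' : LocalizedModule S N →ₗ[Y.presheaf.stalk v] ω.presheaf.stalk v :=
    { toFun := fun z => e (pq z)
      map_add' := fun a b => by rw [map_add, map_add]
      map_smul' := fun c z => by rw [hsmul, map_smul, he, RingEquiv.apply_symm_apply, RingHom.id_apply] }
  obtain ⟨s', hs'⟩ := hcm v hv (LocalizedModule S N) i' p'
    ((LocalizedModule.map_injective S i hi).comp e.symm.injective)
    (fun z => by
      show e (pq z) = 0 ↔ z ∈ Set.range fun x => iq (e.symm x)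
      rw [e.map_eq_zero_iff, hexq z]
      exact ⟨fun ⟨x, hx⟩ => ⟨e x, by show iq (e.symm (e x)) = z; rw [e.symm_apply_apply, hx]⟩,
        fun ⟨x, hx⟩ => ⟨e.symm x, hx⟩⟩)
    (e.surjective.comp (LocalizedModule.map_surjective S p hp))
  let σ : LocalizedModule S M →ₗ[Bq] LocalizedModule S N :=
    { toFun := fun x => s' (e x)
      map_add' := fun a b => by rw [map_add, map_add]
      map_smul' := fun c x => by rw [he, map_smul, hsmul, RingEquiv.symm_apply_apply, RingHom.id_apply] }
  have hσ : ∀ x, pq (σ x) = x := fun x => e.injective (LinearMap.congr_fun hs' (e x))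
  haveI := Module.finitePresentation_of_finite B M
  obtain ⟨h, c, hc⟩ := Module.FinitePresentation.exists_lift_of_isLocalizedModule S
    (LocalizedModule.mkLinearMap S N) ((σ.restrictScalars B).comp (LocalizedModule.mkLinearMap S M))
  have hcomm : ∀ z, LocalizedModule.mkLinearMap S M (p z) = pq (LocalizedModule.mkLinearMap S N z) := fun z => by
    simp only [pq, LocalizedModule.mkLinearMap_apply, LocalizedModule.map_mk]
  obtain ⟨t, ht⟩ := Module.Finite.exists_smul_of_comp_eq_of_isLocalizedModule S (LocalizedModule.mkLinearMap S M)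
    (p ∘ₗ h) (c.1 • LinearMap.id) (LinearMap.ext fun m => by
      show LocalizedModule.mkLinearMap S M (p (h m)) = LocalizedModule.mkLinearMap S M (c.1 • m)
      rw [hcomm, show LocalizedModule.mkLinearMap S N (h m) = c.1 • σ (LocalizedModule.mkLinearMap S M m) from
        LinearMap.congr_fun hc m, LinearMap.map_smul_of_tower, hσ, map_smul])
  refine ⟨t.1 * c.1, fun h0 => (q.2.mem_or_mem h0).elim t.2 c.2, t.1 • h, LinearMap.ext fun m => ?_⟩
  have := LinearMap.congr_fun ht m
  show p (t.1 • h m) = (t.1 * c.1) • m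
  rw [map_smul, mul_smul]
  exact this

/-- Self-extensions of the relative canonical sheaf with deep fibres are locally split. -/
theorem exists_local_section (d : ℕ) (hS : RelCanon.IsSkMor (Y ↘ S₀) 2) (hd : Cyc.HasRelDim (Y ↘ S₀) d)
    (ω : Y.Modules) (hω : RelCanon.IsDualizingSheaf A Y d ω)
    (h3 : ∀ y : Y, RelCanon.SkAt 3 (Coh.structureModule ((Y ↘ S₀).fiber ((Y ↘ S₀) y))) ((Y ↘ S₀).asFiber y))
    (W : Y.Opens) (hW : IsAffineOpen W) (S : ShortComplex (W : Scheme.{u}).Modules) (hSe : S.ShortExact)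
    (e₁ : S.X₁ ≅ ω.restrict W.ι) (e₃ : S.X₃ ≅ ω.restrict W.ι) (x : (W : Scheme.{u})) :
    ∃ U : (W : Scheme.{u}).Opens, x ∈ U ∧ ∃ s : S.X₃.restrict U.ι ⟶ S.X₂.restrict U.ι,
      s ≫ (Scheme.Modules.restrictFunctor U.ι).map S.g = 𝟙 _ := by
  haveI : IsNoetherianRing (CommRingCat.of A) := inferInstanceAs (IsNoetherianRing A)
  haveI : IsLocallyNoetherian Y := LocallyOfFiniteType.isLocallyNoetherian (Y ↘ S₀)
  haveI : IsLocallyNoetherian (W : Scheme.{u}) := isLocallyNoetherian_of_isOpenImmersion W.ι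
  haveI : IsAffine (W : Scheme.{u}) := hW
  obtain ⟨hcoh, -, -⟩ := relCanonical_model d hS hd ω hω
  have h1 : Coh.IsCoh S.X₁ := TildeOpenLib.isCoh_of_iso' e₁.symm (DCohMore.isCoh_restrict' hcoh W)
  have h3' : Coh.IsCoh S.X₃ := TildeOpenLib.isCoh_of_iso' e₃.symm (DCohMore.isCoh_restrict' hcoh W)
  have h2 : Coh.IsCoh S.X₂ := QCohLib.isCoh_X₂ hSe h1 h3'
  let y := W.ι x
  let B := Y.presheaf.stalk y
  let O := (W : Scheme.{u}).presheaf.stalk x
  let φ : B →+* O := (W.ι.stalkMap x).hom
  haveI := h2.1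
  haveI : Module.Finite O (S.X₂.presheaf.stalk x) := PullbackMod.finite_stalk_of_isFT h2.2 x
  letI : Algebra B O := φ.toAlgebra
  letI : Module B (S.X₂.presheaf.stalk x) := Module.compHom _ φ
  haveI : IsScalarTower B O (S.X₂.presheaf.stalk x) := .of_algebraMap_smul fun _ _ => rfl
  have hφ : Function.Bijective φ := ConcreteCategory.bijective_of_isIso (W.ι.stalkMap x)
  haveI : Module.Finite B O := Module.Finite.of_surjective (Algebra.linearMap B O) hφ.2
  haveI : Module.Finite B (S.X₂.presheaf.stalk x) := Module.Finite.trans O _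
  let r : (ω.restrict W.ι).presheaf.stalk x ≃+ ω.presheaf.stalk y :=
    ((Scheme.Modules.restrictStalkNatIso W.ι x).app ω).addCommGroupIsoToAddEquiv
  have hr : ∀ (b : B) (m : (ω.restrict W.ι).presheaf.stalk x), r (φ b • m) = b • r m := fun b m => by
    refine (DCohLib.restrictStalk_smul W.ι ω x (φ b) m).trans ?_
    exact congrArg (· • r m) ((asIso (W.ι.stalkMap x)).commRingCatIsoToRingEquiv.symm_apply_apply b)
  let E₁ := ((DCohLib.stkF x).mapIso e₁).toLinearEquiv
  let E₃ := ((DCohLib.stkF x).mapIso e₃).toLinearEquiv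
  have hr' : ∀ (b : B) (m : ω.presheaf.stalk y), r.symm (b • m) = φ b • r.symm m := fun b m =>
    r.injective (by rw [AddEquiv.apply_symm_apply, hr, AddEquiv.apply_symm_apply])
  let α := PullbackMod.stalkLin S.f x
  let β := PullbackMod.stalkLin S.g x
  let i : ω.presheaf.stalk y →ₗ[B] S.X₂.presheaf.stalk x :=
    { toFun := fun m => α (E₁.symm (r.symm m))
      map_add' := fun a b => by rw [map_add, map_add, map_add]
      map_smul' := fun b m => by rw [hr', map_smul, map_smul, RingHom.id_apply]; rfl }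
  let p : S.X₂.presheaf.stalk x →ₗ[B] ω.presheaf.stalk y :=
    { toFun := fun n => r (E₃ (β n))
      map_add' := fun a b => by rw [map_add, map_add, map_add]
      map_smul' := fun b n => (congrArg (fun z => r (E₃ z)) (β.map_smul (φ b) n)).trans
        ((congrArg r (E₃.map_smul (φ b) (β n))).trans (hr b _)) }
  have hx := hSe.map_of_exact (DCohLib.stkF x)
  have hαβ : Function.Exact α β := (ShortComplex.ShortExact.moduleCat_exact_iff_function_exact _).1 hx.exact
  have hαi : Function.Injective α := (ModuleCat.mono_iff_injective _).1 hx.mono_f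
  have hβs : Function.Surjective β := (ModuleCat.epi_iff_surjective _).1 hx.epi_g
  obtain ⟨s, hs⟩ := exists_section_stalk d hS hd ω hω h3 y (S.X₂.presheaf.stalk x) i p
    (hαi.comp (E₁.symm.injective.comp r.symm.injective))
    (fun n => by
      show r (E₃ (β n)) = 0 ↔ n ∈ Set.range fun m => α (E₁.symm (r.symm m))
      rw [r.map_eq_zero_iff, E₃.map_eq_zero_iff, hαβ n]
      exact ⟨fun ⟨m, hm⟩ => ⟨r (E₁ m), by
          show α (E₁.symm (r.symm (r (E₁ m)))) = n
          rw [r.symm_apply_apply, E₁.symm_apply_apply, hm]⟩,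
        fun ⟨m, hm⟩ => ⟨_, hm⟩⟩)
    (r.surjective.comp (E₃.surjective.comp hβs))
  let σ : S.X₃.presheaf.stalk x →ₗ[O] S.X₂.presheaf.stalk x :=
    { toFun := fun z => s (r (E₃ z))
      map_add' := fun a b => by rw [map_add, map_add, map_add]
      map_smul' := fun c z => by
        obtain ⟨b, rfl⟩ := hφ.2 c
        rw [map_smul, hr, map_smul, RingHom.id_apply]
        rfl }
  refine exists_near_section h3' h2 S.g x σ (LinearMap.ext fun z => E₃.injective (r.injective ?_))
  exact LinearMap.congr_fun hs (r (E₃ z))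

end Groth.Agent.FibreDualLib
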