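import Groth.Agent.FibreDualLib.ValScheme
import Mathlib.Dynamics.Newton

/-!
# Gluing elements off a closed set, and roots of trivialisations over nilpotent thickenings
-/

set_option autoImplicit false
set_option linter.style.haveILetI false
set_option linter.unusedSectionVars false
set_option backward.isDefEq.respectTransparency false
set_option backward.isDefEq.respectTransparency.types false
set_option maxHeartbeats 1600000

universe u

open TensorProduct

noncomputable section

namespace Groth.Agent.FibreDualLib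

open LocCoh in
/-- Depth passes to finite powers. -/
theorem le_idealDepth_pi {B M : Type u} [CommRing B] [IsNoetherianRing B] [AddCommGroup M] [Module B M] [Module.Finite B M]
    {J : Ideal B} (ι : Type u) [Finite ι] (k : ℕ) (h : (k : ℕ∞) ≤ LocCoh.idealDepth J M) :
    (k : ℕ∞) ≤ LocCoh.idealDepth J (ι → M) := by
  classical
  cases nonempty_fintype ι
  let e : M ⊗[B] (ι → B) ≃ₗ[B] (ι → M) := TensorProduct.piScalarRight B B M ι
  rw [← CAlgBasics.idealDepth_congr e]
  by_cases hN : J • (⊤ : Submodule B (M ⊗[B] (ι → B))) = ⊤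
  · rw [LocCoh.idealDepth, if_pos hN]; exact le_top
  have hM : J • (⊤ : Submodule B M) ≠ ⊤ := fun hM => hN (eq_top_iff.2 fun z _ => by
    induction z using TensorProduct.induction_on with
    | zero => exact zero_mem _
    | add a b ha hb => exact add_mem (ha trivial) (hb trivial)
    | tmul m v =>
      have hm : m ∈ J • (⊤ : Submodule B M) := by rw [hM]; trivial
      refine Submodule.smul_induction_on hm (fun a ha w _ => ?_) fun a b ha hb => ?_
      · rw [← TensorProduct.smul_tmul']
        exact Submodule.smul_mem_smul ha trivial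
      · rw [TensorProduct.add_tmul]
        exact add_mem ha hb)
  rw [Depth.le_idealDepth_iff hM] at h
  obtain ⟨rs, hl, hm, hw⟩ := h
  rw [Depth.le_idealDepth_iff hN]
  exact ⟨rs, hl, hm, hw.isWeaklyRegular_rTensor⟩

/-- Gluing of fractions off a closed set along which the module has depth two. -/
theorem exists_glue {B M : Type u} [CommRing B] [IsNoetherianRing B] [AddCommGroup M] [Module B M] [Module.Finite B M]
    (J : Ideal B) (hM : 2 ≤ LocCoh.idealDepth J M) (Good : B → M → Prop)
    (hcov : ∀ q : PrimeSpectrum B, ¬ J ≤ q.asIdeal → ∃ t x, Good t x ∧ t ∉ q.asIdeal)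
    (hcompat : ∀ t x t' x', Good t x → Good t' x' → ∀ q : PrimeSpectrum B, ¬ J ≤ q.asIdeal → t ∉ q.asIdeal →
      t' ∉ q.asIdeal → ∃ s, s ∉ q.asIdeal ∧ s • (t' • x - t • x') = 0) :
    ∃ e : M, ∀ t x, Good t x → ∀ q : PrimeSpectrum B, ¬ J ≤ q.asIdeal → t ∉ q.asIdeal →
      ∃ s, s ∉ q.asIdeal ∧ s • (t • e - x) = 0 := by
  classical
  let S : Set B := {t | ∃ x, Good t x}
  obtain ⟨T, hTS, hT⟩ :=
    (Submodule.fg_span_iff_fg_span_finset_subset S).1 (IsNoetherian.noetherian (Submodule.span B S))
  have hx0 : ∀ t : T, ∃ x, Good t.1 x := fun t => hTS t.2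
  choose x hx using hx0
  have hT' : ∀ q : PrimeSpectrum B, ¬ J ≤ q.asIdeal → ∃ t : T, t.1 ∉ q.asIdeal := fun q hq => by
    obtain ⟨t, w, hg, ht⟩ := hcov q hq
    by_contra hc
    push Not at hc
    have h1 : Submodule.span B (T : Set B) ≤ q.asIdeal := Submodule.span_le.2 fun s hs => hc ⟨s, hs⟩
    exact ht (h1 (hT ▸ Submodule.subset_span ⟨w, hg⟩))
  have hpow : ∀ a b : T, ∃ N : ℕ, (a.1 * b.1) ^ N • (b.1 • x a - a.1 • x b) = 0 := fun a b => by
    let z := b.1 • x a - a.1 • x b
    let K : Ideal B := (Submodule.span B {z}).annihilator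
    have hK : ∀ c, c ∈ K ↔ c • z = 0 := fun c => Submodule.mem_annihilator_span_singleton z c
    have hle : Ideal.span {a.1 * b.1} * J ≤ K.radical := by
      rw [Ideal.radical_eq_sInf]
      refine le_sInf fun P hP => ?_
      haveI := hP.2
      by_cases hJ : J ≤ P
      · exact Ideal.mul_le_right.trans hJ
      by_cases hab : a.1 * b.1 ∈ P
      · exact Ideal.mul_le_left.trans (by rwa [Ideal.span_le, Set.singleton_subset_iff])
      obtain ⟨s, hs, hz⟩ := hcompat _ _ _ _ (hx a) (hx b) ⟨P, hP.2⟩ hJ (fun h => hab (P.mul_mem_right _ h))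
        (fun h => hab (P.mul_mem_left _ h))
      exact absurd (hP.1 ((hK s).2 hz)) hs
    obtain ⟨N, hN⟩ := Ideal.exists_pow_le_of_le_radical_of_fg hle (IsNoetherian.noetherian _)
    refine ⟨N, FibDepthLib.eq_zero_of_killed_off (J := J) (le_trans one_le_two hM) _ fun q hq => ?_⟩
    obtain ⟨c, hcJ, hc⟩ := SetLike.not_le_iff_exists.1 hq
    refine ⟨c ^ N, fun h => hc (q.2.mem_of_pow_mem N h), ?_⟩
    rw [← mul_smul, ← mul_pow, mul_comm]
    exact (hK _).1 (hN (Ideal.pow_mem_pow (Ideal.mul_mem_mul (Ideal.mem_span_singleton_self _) hcJ) N))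
  choose N hN using hpow
  let n := Finset.univ.sup fun p : T × T => N p.1 p.2
  have hn : ∀ a b : T, (a.1 * b.1) ^ n • (b.1 • x a - a.1 • x b) = 0 := fun a b => by
    have hle : N a b ≤ n := Finset.le_sup (f := fun p : T × T => N p.1 p.2) (Finset.mem_univ (a, b))
    rw [← Nat.sub_add_cancel hle, pow_add, mul_smul, hN a b, smul_zero]
  let τ : T → B := fun t => t.1 ^ (n + 1)
  let ξ : T → M := fun t => t.1 ^ n • x t
  have hξ : ∀ a b : T, τ b • ξ a = τ a • ξ b := fun a b => by
    rw [← sub_eq_zero, ← hn a b]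
    simp only [τ, ξ, smul_sub, smul_smul]
    congr 2 <;> ring
  let ι : M →ₗ[B] (T → M) := LinearMap.pi fun t => τ t • LinearMap.id
  have hτ : ∀ q : PrimeSpectrum B, ∀ t : T, t.1 ∉ q.asIdeal → τ t ∉ q.asIdeal := fun q t ht h =>
    ht (q.2.mem_of_pow_mem _ h)
  have hinj : Function.Injective ι := (injective_iff_map_eq_zero _).2 fun v hv =>
    FibDepthLib.eq_zero_of_killed_off (J := J) (le_trans one_le_two hM) v fun q hq => by
      obtain ⟨t, ht⟩ := hT' q hq
      exact ⟨τ t, hτ q t ht, congrFun hv t⟩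
  have hc := FibDepthLib.one_le_idealDepth_coker ι (LinearMap.range ι).mkQ (fun z => Submodule.Quotient.mk_eq_zero _)
    hinj (Submodule.mkQ_surjective _) hM (by exact_mod_cast le_idealDepth_pi T 1 (le_trans (by norm_num) hM))
  have h0 := FibDepthLib.eq_zero_of_killed_off (J := J) hc (Submodule.Quotient.mk ξ) fun q hq => by
    obtain ⟨t, ht⟩ := hT' q hq
    refine ⟨τ t, hτ q t ht, ?_⟩
    rw [← Submodule.Quotient.mk_smul, Submodule.Quotient.mk_eq_zero]
    exact ⟨ξ t, funext fun b => hξ t b⟩
  obtain ⟨e, he⟩ := (Submodule.Quotient.mk_eq_zero _).1 h0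
  refine ⟨e, fun t w hg q hq ht => ?_⟩
  obtain ⟨b, hb⟩ := hT' q hq
  obtain ⟨s, hs, hsz⟩ := hcompat _ _ _ _ hg (hx b) q hq ht hb
  refine ⟨s * τ b, q.2.mul_notMem hs (hτ q b hb), ?_⟩
  have heb : τ b • e = b.1 ^ n • x b := congrFun he b
  calc (s * τ b) • (t • e - w) = s • (t • (τ b • e) - τ b • w) := by
        rw [mul_smul, smul_sub, smul_comm (τ b) t]
    _ = -(b.1 ^ n • (s • (b.1 • w - t • x b))) := by
        rw [heb]
        simp only [τ, smul_sub, smul_smul, neg_sub]
        congr 2 <;> ring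
    _ = 0 := by rw [hsz, smul_zero, neg_zero]

/-- Uniqueness of roots of units congruent modulo nilpotents. -/
theorem root_unique {L : Type u} [CommRing L] {n : ℕ} (hn : IsUnit (n : L)) {z w : L} (hw : IsUnit w)
    (h : z ^ n = w ^ n) (hnil : IsNilpotent (w - z)) : z = w := by
  let P : Polynomial L := Polynomial.X ^ n - Polynomial.C (w ^ n)
  have hP : IsNilpotent (Polynomial.aeval w P) := by simp [P]
  have hP' : IsUnit (Polynomial.aeval w (Polynomial.derivative P)) := by
    simpa [P, Polynomial.derivative_X_pow, -map_pow] using hn.mul (hw.pow (n - 1))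
  obtain ⟨r, -, hr⟩ := Polynomial.existsUnique_nilpotent_sub_and_aeval_eq_zero hP hP'
  exact (hr z ⟨hnil, by simp [P, h]⟩).trans (hr w ⟨by simp, by simp [P]⟩).symm

/-- Existence of roots of elements congruent to one modulo nilpotents. -/
theorem root_exists {L : Type u} [CommRing L] {n : ℕ} (hn : IsUnit (n : L)) (v : L) (hv : IsNilpotent (1 - v)) :
    ∃ a : L, a ^ n = v ∧ IsNilpotent (1 - a) := by
  let P : Polynomial L := Polynomial.X ^ n - Polynomial.C v
  have hP : IsNilpotent (Polynomial.aeval (1 : L) P) := by simpa [P] using hv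
  have hP' : IsUnit (Polynomial.aeval (1 : L) (Polynomial.derivative P)) := by
    simpa [P, Polynomial.derivative_X_pow] using hn
  obtain ⟨r, ⟨hr1, hr2⟩, -⟩ := Polynomial.existsUnique_nilpotent_sub_and_aeval_eq_zero hP hP'
  exact ⟨r, sub_eq_zero.1 (by simpa [P] using hr2), hr1⟩

end Groth.Agent.FibreDualLib
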