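import Groth.Agent.FibreDualLib.DVRStep
import Groth.Agent.FibreDualLib.Glue
import Groth.Agent.S18708

/-!
# Flatness of the cokernel and relative depth of the reflexive hull
-/

set_option autoImplicit false
set_option backward.isDefEq.respectTransparency false
set_option backward.isDefEq.respectTransparency.types false
set_option linter.style.haveILetI false
set_option linter.unusedSectionVars false
set_option maxHeartbeats 1000000

universe u

open IsLocalRing TensorProduct
open scoped Pointwise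

namespace Groth.Agent.FibreDualLib

open Groth.Agent.FibDepthLib

/-- After a local base change the cokernel is flat if and only if the reflexive hull is flat with depth two on the closed fibre. -/
theorem flat_coker_iff_hull {A C B : Type u} [CommRing A] [CommRing C] [CommRing B] [IsNoetherianRing A]
    [IsNoetherianRing C] [IsNoetherianRing B] [IsLocalRing A] [IsLocalRing C] [Algebra A C]
    [IsLocalHom (algebraMap A C)] [Module.Flat A C] [Algebra B C] (J : Ideal B)
    (hC0 : 2 ≤ LocCoh.idealDepth (J.map (algebraMap B C)) (EGA4.FibMod A C C))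
    (F : Type u) [AddCommGroup F] [Module B F] [Module.Finite B F]
    {n m : ℕ} (g : F →ₗ[B] (Fin n → B)) (h : (Fin n → B) →ₗ[B] (Fin m → B))
    (hg : Function.Injective g) (hgh : Function.Exact g h) (hreg : RegOff J h)
    (hGU : ∀ q : PrimeSpectrum B, ¬ J ≤ q.asIdeal →
      Module.Free (Localization.AtPrime q.asIdeal) (LocalizedModule q.asIdeal.primeCompl ((Fin m → B) ⧸ LinearMap.range h))) :
    Module.Flat A (C ⊗[B] ((Fin m → B) ⧸ LinearMap.range h)) ↔
      Module.Flat A (Module.Dual C (Module.Dual C (C ⊗[B] F))) ∧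
        2 ≤ LocCoh.idealDepth (J.map (algebraMap B C))
          (EGA4.FibMod A C (Module.Dual C (Module.Dual C (C ⊗[B] F)))) := by
  let G := (Fin m → B) ⧸ LinearMap.range h
  let v : (Fin m → B) →ₗ[B] G := (LinearMap.range h).mkQ
  have hhv : Function.Exact h v := fun z => Submodule.Quotient.mk_eq_zero _
  have hv : Function.Surjective v := Submodule.mkQ_surjective _
  let JC := J.map (algebraMap B C)
  have hC2 : 2 ≤ LocCoh.idealDepth JC C := two_le_idealDepth_of_fibre_ideal (R := A) JC hC0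
  have hCfree : ∀ (X : Type u) [AddCommGroup X] [Module C X] [Module.Finite C X] [Module.Flat C X],
      2 ≤ LocCoh.idealDepth JC X := fun X _ _ _ _ => le_idealDepth_of_flat 2 hC2
  let g' : C ⊗[B] F →ₗ[C] C ⊗[B] (Fin n → B) := g.baseChange C
  let h' : C ⊗[B] (Fin n → B) →ₗ[C] C ⊗[B] (Fin m → B) := h.baseChange C
  let v' : C ⊗[B] (Fin m → B) →ₗ[C] C ⊗[B] G := v.baseChange C
  let K' := LinearMap.ker h'
  let ξ : C ⊗[B] F →ₗ[C] K' := g'.codRestrict K' fun z => by
    show (h.baseChange C ∘ₗ g.baseChange C) z = 0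
    rw [← LinearMap.baseChange_comp, show h ∘ₗ g = 0 from LinearMap.ext hgh.apply_apply_eq_zero,
      LinearMap.baseChange_zero, LinearMap.zero_apply]
  -- splittings off the closed set
  have hsplit : ∀ q : PrimeSpectrum C, ¬ JC ≤ q.asIdeal → ∃ t, t ∉ q.asIdeal ∧
      ∃ (χ : C ⊗[B] (Fin n → B) →ₗ[C] C ⊗[B] F) (σ : C ⊗[B] (Fin m → B) →ₗ[C] C ⊗[B] (Fin n → B)),
        h' ∘ₗ σ ∘ₗ h' = t • h' ∧ g' ∘ₗ χ = t • LinearMap.id - σ ∘ₗ h' ∧ χ ∘ₗ g' = t • LinearMap.id := by
    intro q hq
    obtain ⟨t, ht, σ, hσ⟩ := hreg (PrimeSpectrum.comap (algebraMap B C) q) fun hJ =>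
      hq (Ideal.map_le_iff_le_comap.mpr hJ)
    have hmem : ∀ x, (t • (LinearMap.id : (Fin n → B) →ₗ[B] (Fin n → B)) - σ ∘ₗ h) x ∈ LinearMap.range g := fun x => by
      refine (hgh _).1 ?_
      show h (t • x - σ (h x)) = 0
      rw [map_sub, map_smul, show h (σ (h x)) = t • h x from LinearMap.congr_fun hσ x, sub_self]
    let χ : (Fin n → B) →ₗ[B] F :=
      (LinearEquiv.ofInjective g hg).symm.toLinearMap ∘ₗ
        (t • (LinearMap.id : (Fin n → B) →ₗ[B] (Fin n → B)) - σ ∘ₗ h).codRestrict (LinearMap.range g) hmem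
    have hgχ : g ∘ₗ χ = t • LinearMap.id - σ ∘ₗ h := LinearMap.ext fun x =>
      LinearEquiv.ofInjective_symm_apply (h := hg) (x := ⟨_, hmem x⟩)
    have hχg : χ ∘ₗ g = t • LinearMap.id := LinearMap.ext fun x => hg <| by
      refine (LinearMap.congr_fun hgχ (g x)).trans ?_
      show t • g x - σ (h (g x)) = g (t • x)
      rw [hgh.apply_apply_eq_zero, map_zero, sub_zero, map_smul]
    refine ⟨algebraMap B C t, ht, χ.baseChange C, σ.baseChange C, ?_, ?_, ?_⟩
    · show h.baseChange C ∘ₗ σ.baseChange C ∘ₗ h.baseChange C = _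
      rw [← LinearMap.baseChange_comp, ← LinearMap.baseChange_comp, hσ, LinearMap.baseChange_smul, algebraMap_smul]
    · show g.baseChange C ∘ₗ χ.baseChange C = _ - σ.baseChange C ∘ₗ h.baseChange C
      rw [← LinearMap.baseChange_comp, hgχ, LinearMap.baseChange_sub, LinearMap.baseChange_smul,
        LinearMap.baseChange_id, algebraMap_smul, LinearMap.baseChange_comp]
    · show χ.baseChange C ∘ₗ g.baseChange C = _
      rw [← LinearMap.baseChange_comp, hχg, LinearMap.baseChange_smul, LinearMap.baseChange_id, algebraMap_smul]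
  have hξ : IsoOff (X := C ⊗[B] F) (Y := K') JC ξ := fun q hq => by
    obtain ⟨t, ht, χ, σ, -, h1, h2⟩ := hsplit q hq
    let χ' : K' →ₗ[C] C ⊗[B] F := χ.domRestrict K'
    refine ⟨t, ht, χ', LinearMap.ext fun x => ?_, LinearMap.ext fun x => ?_⟩
    · refine Subtype.ext ?_
      refine (LinearMap.congr_fun h1 (x : C ⊗[B] (Fin n → B))).trans ?_
      show t • (x : C ⊗[B] (Fin n → B)) - σ (h' x) = t • (x : C ⊗[B] (Fin n → B))
      rw [show h' x = 0 from x.2, map_zero, sub_zero]
    · show χ (g' x) = t • x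
      exact LinearMap.congr_fun h2 x
  have hev : IsoOff (X := K') (Y := Module.Dual C (Module.Dual C K')) JC (Module.Dual.eval C K') := fun q hq => by
    obtain ⟨t, ht, χ, σ, h0, h1, -⟩ := hsplit q hq
    let ρ : C ⊗[B] (Fin n → B) →ₗ[C] K' := (t • LinearMap.id - σ ∘ₗ h').codRestrict K' fun x => by
      show h' (t • x - σ (h' x)) = 0
      rw [map_sub, map_smul, show h' (σ (h' x)) = t • h' x from LinearMap.congr_fun h0 x, sub_self]
    have hρ : ρ ∘ₗ K'.subtype = t • LinearMap.id := LinearMap.ext fun x => Subtype.ext <| by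
      show t • (x : C ⊗[B] (Fin n → B)) - σ (h' x) = t • (x : C ⊗[B] (Fin n → B))
      rw [show h' x = 0 from x.2, map_zero, sub_zero]
    let ev := Module.evalEquiv C (C ⊗[B] (Fin n → B))
    refine ⟨t, ht, ρ ∘ₗ ev.symm.toLinearMap ∘ₗ K'.subtype.dualMap.dualMap, ?_, ?_⟩
    · refine LinearMap.ext fun w => LinearMap.ext fun φ => ?_
      obtain ⟨z, hz⟩ : ∃ z, ev.symm (K'.subtype.dualMap.dualMap w) = z := ⟨_, rfl⟩
      show φ (ρ (ev.symm (K'.subtype.dualMap.dualMap w))) = t • w φ
      rw [hz]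
      have : ev z = K'.subtype.dualMap.dualMap w := by rw [← hz, LinearEquiv.apply_symm_apply]
      have h3 := LinearMap.congr_fun this (φ ∘ₗ ρ)
      refine (show φ (ρ z) = ev z (φ ∘ₗ ρ) from rfl).trans (h3.trans ?_)
      show w ((φ ∘ₗ ρ) ∘ₗ K'.subtype) = t • w φ
      rw [LinearMap.comp_assoc, hρ, LinearMap.comp_smul, LinearMap.comp_id, map_smul]
    · refine LinearMap.ext fun x => ?_
      show ρ (ev.symm (K'.subtype.dualMap.dualMap (Module.Dual.eval C K' x))) = t • x
      rw [show K'.subtype.dualMap.dualMap (Module.Dual.eval C K' x) = ev (K'.subtype x) from rfl,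
        LinearEquiv.symm_apply_apply]
      exact LinearMap.congr_fun hρ x
  haveI : Module.Finite C K' := Module.Finite.iff_fg.2 (IsNoetherian.noetherian K')
  have hK2 : 2 ≤ LocCoh.idealDepth JC K' :=
    two_le_idealDepth_left K'.subtype h' (LinearMap.exact_subtype_ker_map h') Subtype.val_injective
      (hCfree _) (le_trans one_le_two (hCfree _))
  have hdual : ∀ (X : Type u) [AddCommGroup X] [Module C X] [Module.Finite C X],
      2 ≤ LocCoh.idealDepth JC (Module.Dual C X) := fun X _ _ _ => two_le_idealDepth_dual hC2 X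
  have hfinD : ∀ (X : Type u) [AddCommGroup X] [Module C X] [Module.Finite C X],
      Module.Finite C (Module.Dual C X) := fun X _ _ _ => by
    haveI : Module.FinitePresentation C X := Module.finitePresentation_of_finite C X
    infer_instance
  haveI : Module.Finite C (Module.Dual C K') := hfinD K'
  haveI : Module.Finite C (Module.Dual C (Module.Dual C K')) := hfinD (Module.Dual C K')
  haveI : Module.Finite C (Module.Dual C (C ⊗[B] F)) := hfinD (C ⊗[B] F)
  let E1 := LinearEquiv.ofBijective _ (bijective_of_isoOff hev hK2 (le_trans one_le_two (hdual (Module.Dual C K'))))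
  let E2 := LinearEquiv.ofBijective _
    (bijective_of_isoOff hξ.dualMap (hdual K') (le_trans one_le_two (hdual (C ⊗[B] F))))
  let E : Module.Dual C (Module.Dual C (C ⊗[B] F)) ≃ₗ[C] K' := E2.dualMap.trans E1.symm
  have hq : LocCoh.idealDepth JC (EGA4.FibMod A C (Module.Dual C (Module.Dual C (C ⊗[B] F)))) =
      LocCoh.idealDepth JC (EGA4.FibMod A C K') :=
    CAlgBasics.idealDepth_congr (Submodule.Quotient.equiv _ _ E (by
      rw [Submodule.map_smul'', Submodule.map_top, LinearEquiv.range]))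
  have hGU' : ∀ q : PrimeSpectrum C, ¬ JC ≤ q.asIdeal → FlatCA.FlatAt A q.asIdeal (C ⊗[B] G) := fun q hq => by
    refine flatAt_of_flatAt_self q (flatAt_self_of_free q ?_)
    have hq' : ¬ J ≤ (PrimeSpectrum.comap (algebraMap B C) q).asIdeal := fun hJ =>
      hq (Ideal.map_le_iff_le_comap.mpr hJ)
    exact Module.comap_freeLocus_le (R := B) (M := G) (A := C)
      (show q ∈ PrimeSpectrum.comap (algebraMap B C) ⁻¹' Module.freeLocus B G from hGU _ hq')
  haveI : ∀ l : ℕ, Module.Flat A (C ⊗[B] (Fin l → B)) := fun l => Module.Flat.trans A C _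
  have hfib : ∀ l : ℕ, 2 ≤ LocCoh.idealDepth JC (EGA4.FibMod A C (C ⊗[B] (Fin l → B))) := by
    intro l
    let K := EGA4.mB A C
    let ec : (C ⊗[B] (Fin l → B)) ≃ₗ[C] (Fin l → C) := TensorProduct.piScalarRight B C C (Fin l)
    refine le_of_le_of_eq ?_ (CAlgBasics.idealDepth_congr (Submodule.Quotient.equiv (K • ⊤ : Submodule C (Fin l → C))
      (K • ⊤ : Submodule C (C ⊗[B] (Fin l → B))) ec.symm (by
        rw [Submodule.map_smul'', Submodule.map_top, LinearEquiv.range])))
    let e : ((Fin l → C) ⧸ (K • ⊤ : Submodule C (Fin l → C))) ≃ₗ[C] (Fin l → C ⧸ K) :=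
      (TensorProduct.quotTensorEquivQuotSMul (Fin l → C) K).symm.trans
        ((TensorProduct.piScalarRight C C (C ⧸ K) (Fin l)).restrictScalars C)
    rw [CAlgBasics.idealDepth_congr e, ← idealDepth_map_of_surjective (R := C ⧸ K) Ideal.Quotient.mk_surjective]
    refine le_idealDepth_of_flat (R := C ⧸ K) 2 ?_
    rw [idealDepth_map_of_surjective (R := C ⧸ K) Ideal.Quotient.mk_surjective,
      ← CAlgBasics.idealDepth_congr (Submodule.quotEquivOfEq _ _ (show (K • ⊤ : Submodule C C) = K by
        rw [smul_eq_mul, Ideal.mul_top]))]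
    exact hC0
  have h8 := S18708.result A C JC K' (C ⊗[B] (Fin n → B)) (C ⊗[B] (Fin m → B)) (C ⊗[B] G) K'.subtype h' v'
    Subtype.val_injective (LinearMap.exact_subtype_ker_map h') (lTensor_exact C hhv hv)
    (LinearMap.lTensor_surjective C hv) hGU' (hfib n) (le_trans one_le_two (hfib m))
  refine ⟨fun hG => ⟨?_, (h8.1.2 hG).trans_eq hq.symm⟩, fun hD => h8.1.1 (hD.2.trans_eq hq)⟩
  haveI := h8.2.2 hG
  exact Module.Flat.of_linearEquiv (E.restrictScalars A)

/-- A module free off `V(J)` which vanishes at a point off `V(J)` vanishes at the points specialising from it,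
when ring and module are deep along `J` (connectedness). -/
theorem killed_of_vanish_off {L M : Type u} [CommRing L] [IsNoetherianRing L] [AddCommGroup M] [Module L M]
    [Module.Finite L M] (J : Ideal L) (hL : 2 ≤ LocCoh.idealDepth J L) (hM : 1 ≤ LocCoh.idealDepth J M)
    (hfree : ∀ q : PrimeSpectrum L, ¬ J ≤ q.asIdeal →
      Module.Free (Localization.AtPrime q.asIdeal) (LocalizedModule q.asIdeal.primeCompl M))
    (P Q : Ideal L) [P.IsPrime] [Q.IsPrime] (hQP : Q ≤ P) (hJQ : ¬ J ≤ Q) (hQ : ¬ Module.annihilator L M ≤ Q) :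
    ¬ Module.annihilator L M ≤ P := by
  let A₁ := Module.annihilator L M
  let Good : L → L → Prop := fun t x => (t ∈ A₁ ∧ x = t) ∨ ((∀ a ∈ A₁, t * a = 0) ∧ x = 0)
  have hcov : ∀ q : PrimeSpectrum L, ¬ J ≤ q.asIdeal → ∃ t x, Good t x ∧ t ∉ q.asIdeal := fun q hq => by
    by_cases hs : A₁ ≤ q.asIdeal
    · haveI := hfree q hq
      let S := Localization.AtPrime q.asIdeal
      let Mq := LocalizedModule q.asIdeal.primeCompl M
      haveI : Nontrivial Mq := Module.mem_support_iff.1 (Module.mem_support_iff_of_finite.2 hs)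
      have hz : ∀ a : A₁, ∃ c ∉ q.asIdeal, c * (a : L) = 0 := fun a => by
        let b := Module.Free.chooseBasis S Mq
        obtain ⟨i⟩ := b.index_nonempty
        obtain ⟨⟨w, s⟩, hw⟩ := IsLocalizedModule.mk'_surjective q.asIdeal.primeCompl
          (LocalizedModule.mkLinearMap q.asIdeal.primeCompl M) (b i)
        have hz : algebraMap L S a • b i = 0 := by
          rw [algebraMap_smul, ← hw, Function.uncurry_apply_pair, ← IsLocalizedModule.mk'_smul,
            Module.mem_annihilator.1 a.2 w, IsLocalizedModule.mk'_zero]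
        have h0 : algebraMap L S a = 0 := by
          have := congrArg (fun v => b.repr v i) hz
          rw [map_smul, map_zero, Module.Basis.repr_self, Finsupp.smul_apply, Finsupp.single_eq_same, smul_eq_mul,
            mul_one, Finsupp.zero_apply] at this
          exact this
        obtain ⟨c, hc⟩ := (IsLocalization.map_eq_zero_iff q.asIdeal.primeCompl S (a : L)).1 h0
        exact ⟨c, c.2, hc⟩
      obtain ⟨t, ht, hta⟩ := FibDepthLib.exists_uniform (⊥ : Submodule L A₁) q.asIdeal fun a => by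
        obtain ⟨c, hc, hca⟩ := hz a
        exact ⟨c, hc, (Submodule.mem_bot L).2 (Subtype.ext hca)⟩
      exact ⟨t, 0, Or.inr ⟨fun a ha => congrArg Subtype.val ((Submodule.mem_bot L).1 (hta ⟨a, ha⟩)), rfl⟩, ht⟩
    · obtain ⟨t, ht, htq⟩ := SetLike.not_le_iff_exists.1 hs
      exact ⟨t, t, Or.inl ⟨ht, rfl⟩, htq⟩
  have hex : ∀ t t' : L, t ∈ A₁ → (∀ a ∈ A₁, t' * a = 0) → ∀ q : PrimeSpectrum L, t ∉ q.asIdeal → t' ∈ q.asIdeal :=
    fun t t' ht ht' q htq => (q.2.mem_or_mem (ht' t ht ▸ q.asIdeal.zero_mem : t' * t ∈ q.asIdeal)).resolve_right htq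
  obtain ⟨e, he⟩ := exists_glue J hL Good hcov fun t x t' x' hg hg' q _ htq htq' => by
    rcases hg with ⟨ht, rfl⟩ | ⟨ht, rfl⟩ <;> rcases hg' with ⟨ht', rfl⟩ | ⟨ht', rfl⟩
    · exact ⟨1, q.2.one_notMem, by simp [mul_comm]⟩
    · exact absurd (hex x t' ht ht' q htq) htq'
    · exact absurd (hex x' t ht' ht q htq') htq
    · exact ⟨1, q.2.one_notMem, by simp⟩
  have hidem : e * (e - 1) = 0 := eq_zero_of_killed_off (J := J) (le_trans one_le_two hL) _ fun q hq => by
    obtain ⟨t, x, hg, ht⟩ := hcov q hq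
    obtain ⟨s, hs, hse⟩ := he t x hg q hq ht
    refine ⟨s * t, q.2.mul_notMem hs ht, ?_⟩
    rcases hg with ⟨-, rfl⟩ | ⟨-, rfl⟩ <;> simp only [smul_eq_mul] at hse ⊢
    · linear_combination e * hse
    · linear_combination (e - 1) * hse
  have he1 : e ∉ P := fun heP => by
    obtain ⟨t, ht, htQ⟩ := SetLike.not_le_iff_exists.1 hQ
    obtain ⟨s, hs, hse⟩ := he t t (Or.inl ⟨ht, rfl⟩) ⟨Q, inferInstance⟩ hJQ htQ
    simp only [smul_eq_mul] at hse
    have h1 : s * t * (e - 1) ∈ Q := by
      rw [show s * t * (e - 1) = 0 by linear_combination hse]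
      exact Q.zero_mem
    have h2 := hQP ((‹Q.IsPrime›.mem_or_mem h1).resolve_left (‹Q.IsPrime›.mul_notMem hs htQ))
    have h3 := P.sub_mem heP h2
    rw [sub_sub_cancel] at h3
    exact ‹P.IsPrime›.one_notMem h3
  refine fun hle => he1 (hle (Module.mem_annihilator.2 fun m => eq_zero_of_killed_off (J := J) hM _ fun q hq => ?_))
  obtain ⟨t, x, hg, ht⟩ := hcov q hq
  obtain ⟨s, hs, hse⟩ := he t x hg q hq ht
  rcases hg with ⟨htA, rfl⟩ | ⟨-, rfl⟩ <;> simp only [smul_eq_mul] at hse
  · exact ⟨x, ht, by rw [← mul_smul, mul_comm, mul_smul, Module.mem_annihilator.1 htA, smul_zero]⟩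
  · exact ⟨s * t, q.2.mul_notMem hs ht, by rw [← mul_smul, show s * t * e = 0 by linear_combination hse, zero_smul]⟩

/-- `(S₂)` on the fibre of a module free off `V(J)` and of depth one along `J` gives depth one on the fibre. -/
theorem one_le_idealDepth_reduction {L : Type u} [CommRing L] [IsNoetherianRing L] (J I : Ideal L)
    (hT : 2 ≤ LocCoh.idealDepth (J.map (Ideal.Quotient.mk I)) (L ⧸ I)) (hL : 2 ≤ LocCoh.idealDepth J L)
    (M : Type u) [AddCommGroup M] [Module L M] [Module.Finite L M] (hM : 1 ≤ LocCoh.idealDepth J M)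
    (hfree : ∀ q : PrimeSpectrum L, ¬ J ≤ q.asIdeal →
      Module.Free (Localization.AtPrime q.asIdeal) (LocalizedModule q.asIdeal.primeCompl M))
    (hsk : LocCoh.HasSk 2 (L ⧸ I) (M ⧸ (I • ⊤ : Submodule L M))) :
    1 ≤ LocCoh.idealDepth (J.map (Ideal.Quotient.mk I)) (M ⧸ (I • ⊤ : Submodule L M)) := by
  classical
  let X := M ⧸ (I • ⊤ : Submodule L M)
  let JT := J.map (Ideal.Quotient.mk I)
  haveI : Module.Finite (L ⧸ I) X := Module.Finite.of_restrictScalars_finite L _ _
  rw [← Nat.cast_one, QGorLib.le_idealDepth_iff_forall]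
  intro P hP
  let TP := Localization.AtPrime P.asIdeal
  let XP := LocalizedModule P.asIdeal.primeCompl X
  rcases subsingleton_or_nontrivial XP with hX | hX
  · rw [CAlgBasics.depth_eq_top]; exact le_top
  haveI : Module.Finite TP XP :=
    Module.Finite.of_isLocalizedModule P.asIdeal.primeCompl (LocalizedModule.mkLinearMap P.asIdeal.primeCompl X)
  by_contra hd
  have hd0 : LocCoh.depth TP XP = 0 := by simpa using hd
  have h0 := hsk P.asIdeal
  rw [hd0, min_le_iff] at h0
  have hsd : Module.supportDim TP XP ≤ 0 := h0.resolve_left (by decide)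
  -- the only point of the support of the localised fibre module is the closed point
  rw [Module.supportDim_eq_ringKrullDim_quotient_annihilator] at hsd
  haveI : Ring.KrullDimLE 0 (TP ⧸ Module.annihilator TP XP) := Ring.krullDimLE_iff.2 hsd
  have hrad : maximalIdeal TP ≤ (Module.annihilator TP XP).radical := by
    rw [Ideal.radical_eq_sInf]
    refine le_sInf fun P₁ hP₁ => ?_
    haveI := hP₁.2
    let π := Ideal.Quotient.mk (Module.annihilator TP XP)
    haveI : (P₁.map π).IsPrime :=
      Ideal.map_isPrime_of_surjective Ideal.Quotient.mk_surjective (Ideal.mk_ker.trans_le hP₁.1)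
    haveI : (P₁.map π).IsMaximal := @Ideal.isMaximal_of_isPrime _ _ _ (P₁.map π) ‹_›
    have h1 := Ideal.comap_isMaximal_of_surjective π Ideal.Quotient.mk_surjective (K := P₁.map π)
    rw [Ideal.comap_map_of_surjective _ Ideal.Quotient.mk_surjective, ← RingHom.ker_eq_comap_bot, sup_eq_left.2 (Ideal.mk_ker.trans_le hP₁.1)] at h1
    exact (IsLocalRing.eq_maximalIdeal h1).ge
  obtain ⟨Q₀, hQ₀, hQP⟩ := Ideal.exists_minimalPrimes_le (bot_le (a := P.asIdeal))
  haveI := hQ₀.1.1
  have hJQ : ¬ JT ≤ Q₀ := fun hJQ => by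
    rw [← Nat.cast_ofNat, QGorLib.le_idealDepth_iff_forall] at hT
    have h2 := hT ⟨Q₀, inferInstance⟩ hJQ
    rw [QGorLib.depth_localizedSelf_eq] at h2
    have h3 := (WithBot.coe_le_coe.2 h2).trans ((QGorLib.depth_le_supportDim (Localization.AtPrime Q₀)).trans_eq
      (Module.supportDim_self_eq_ringKrullDim (R := Localization.AtPrime Q₀)))
    rw [IsLocalization.AtPrime.ringKrullDim_eq_height Q₀ (Localization.AtPrime Q₀), Ideal.height_eq_zero_iff.2 hQ₀] at h3
    exact absurd h3 (by decide)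
  obtain ⟨a, haJ, haQ⟩ := SetLike.not_le_iff_exists.1 hJQ
  obtain ⟨k, hk⟩ := hrad (show algebraMap (L ⧸ I) TP a ∈ maximalIdeal TP by
    rw [← Localization.AtPrime.map_eq_maximalIdeal]
    exact Ideal.mem_map_of_mem _ (hP haJ))
  have hkill : ∀ x : X, ∃ c ∉ P.asIdeal, c • (a ^ k • x) = 0 := fun x => by
    have h1 : LocalizedModule.mkLinearMap P.asIdeal.primeCompl X (a ^ k • x) = 0 := by
      rw [map_smul, ← algebraMap_smul TP (a ^ k), map_pow]
      exact Module.mem_annihilator.1 hk _
    obtain ⟨c, hc⟩ := (IsLocalizedModule.eq_zero_iff P.asIdeal.primeCompl _).1 h1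
    exact ⟨c, c.2, hc⟩
  obtain ⟨c, hc, hc'⟩ := FibDepthLib.exists_uniform ((⊥ : Submodule (L ⧸ I) X).comap (a ^ k • LinearMap.id))
    P.asIdeal fun x => by
      obtain ⟨c, hc, hcx⟩ := hkill x
      refine ⟨c, hc, ?_⟩
      show a ^ k • (c • x) = 0
      rw [smul_comm]
      exact hcx
  have hann0 : a ^ k * c ∈ Module.annihilator (L ⧸ I) X := Module.mem_annihilator.2 fun x => by
    rw [mul_smul]
    have h : a ^ k • (c • x) = 0 := hc' x
    exact h
  have hQc : ¬ Module.annihilator (L ⧸ I) X ≤ Q₀ := fun h => (hQ₀.1.1.mem_or_mem (h hann0)).elim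
    (fun h' => haQ (hQ₀.1.1.mem_of_pow_mem k h')) (fun h' => hc (hQP h'))
  -- back to the ring
  let Q := Q₀.comap (Ideal.Quotient.mk I)
  let P' := P.asIdeal.comap (Ideal.Quotient.mk I)
  haveI : Q.IsPrime := Ideal.IsPrime.comap _
  haveI : P'.IsPrime := Ideal.IsPrime.comap _
  have hsupp : ∀ (R : Ideal L) [R.IsPrime], I ≤ R → Module.annihilator L M ≤ R →
      ∀ s, s ∈ Module.annihilator L X → s ∈ R := by
    intro R _ hIR hR s hs
    by_contra hsR
    haveI : Nontrivial (LocalizedModule R.primeCompl M) :=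
      Module.mem_support_iff.1 ((Module.mem_support_iff_of_finite (p := ⟨R, inferInstance⟩)).2 hR)
    refine CAlgBasics.maximalIdeal_smul_top_ne_top (R := Localization.AtPrime R)
      (M := LocalizedModule R.primeCompl M) (eq_top_iff.2 fun w _ => ?_)
    obtain ⟨⟨x, u⟩, rfl⟩ := IsLocalizedModule.mk'_surjective R.primeCompl (LocalizedModule.mkLinearMap R.primeCompl M) w
    have hx : s • x ∈ (I • ⊤ : Submodule L M) := by
      rw [← Submodule.Quotient.mk_eq_zero, Submodule.Quotient.mk_smul]
      exact Module.mem_annihilator.1 hs _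
    have h2 : (IsLocalizedModule.mk' (LocalizedModule.mkLinearMap R.primeCompl M) (s • x) (⟨s, hsR⟩ * u)) ∈
        maximalIdeal (Localization.AtPrime R) • (⊤ : Submodule (Localization.AtPrime R) (LocalizedModule R.primeCompl M)) := by
      have hmem : ∀ y ∈ (I • ⊤ : Submodule L M), ∀ v : R.primeCompl,
          IsLocalizedModule.mk' (LocalizedModule.mkLinearMap R.primeCompl M) y v ∈
            maximalIdeal (Localization.AtPrime R) •
              (⊤ : Submodule (Localization.AtPrime R) (LocalizedModule R.primeCompl M)) := fun y hy => by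
        refine Submodule.smul_induction_on hy (fun r hr z _ v => ?_) fun y z hy hz v => ?_
        · rw [IsLocalizedModule.mk'_smul, ← algebraMap_smul (Localization.AtPrime R) r]
          refine Submodule.smul_mem_smul ?_ trivial
          rw [← Localization.AtPrime.map_eq_maximalIdeal]
          exact Ideal.mem_map_of_mem _ (hIR hr)
        · rw [IsLocalizedModule.mk'_add]
          exact add_mem (hy v) (hz v)
      exact hmem _ hx _
    rwa [← Submonoid.smul_def (⟨s, hsR⟩ : R.primeCompl) x, IsLocalizedModule.mk'_cancel_left] at h2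
  have hP' : Module.annihilator L M ≤ P' := fun r hr => by
    have hXP : Module.annihilator (L ⧸ I) X ≤ P.asIdeal :=
      Module.mem_support_iff_of_finite.1 (Module.mem_support_iff.2 hX)
    refine hXP (Module.mem_annihilator.2 fun x => ?_)
    obtain ⟨x, rfl⟩ := Submodule.Quotient.mk_surjective _ x
    show Submodule.Quotient.mk (r • x) = 0
    rw [Module.mem_annihilator.1 hr x, Submodule.Quotient.mk_zero]
  have hQ : ¬ Module.annihilator L M ≤ Q := fun h => by
    obtain ⟨r, hr, hrQ⟩ := SetLike.not_le_iff_exists.1 hQc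
    obtain ⟨s, rfl⟩ := Ideal.Quotient.mk_surjective r
    refine hrQ (hsupp Q (fun i hi => ?_) h s (Module.mem_annihilator.2 fun x => Module.mem_annihilator.1 hr x))
    show Ideal.Quotient.mk I i ∈ Q₀
    rw [Ideal.Quotient.eq_zero_iff_mem.2 hi]
    exact Q₀.zero_mem
  exact killed_of_vanish_off J hL hM hfree P' Q (Ideal.comap_mono hQP)
    (fun h => hJQ (Ideal.map_le_iff_le_comap.2 h)) hQ hP'

end Groth.Agent.FibreDualLib
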