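import Groth.Agent.FibreDualLib.HullFlat
import Groth.Agent.FibreDualLib.SkBC
import Groth.Agent.QGorNhdLib.Basic
import Groth.Agent.S18709

/-!
# The flattening stratum of the cokernel is the relative `(S₂)` stratum of the hull
-/

set_option autoImplicit false
set_option backward.isDefEq.respectTransparency false
set_option backward.isDefEq.respectTransparency.types false
set_option linter.style.haveILetI false
set_option linter.unusedSectionVars false
set_option maxHeartbeats 1600000
set_option synthInstance.maxHeartbeats 200000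

universe u

open IsLocalRing TensorProduct

namespace Groth.Agent.FibreDualLib

open Groth.Agent.FibDepthLib

/-- The bad set has depth two on the fibre local ring. -/
theorem two_le_idealDepth_fibLocRing {R C : Type u} [CommRing R] [CommRing C] [IsNoetherianRing C] [Algebra R C]
    (J : Ideal C) (n : PrimeSpectrum C)
    (hS2 : LocCoh.HasSk 2 (EGA4.FibLocRing R C n.asIdeal) (EGA4.FibLocRing R C n.asIdeal))
    (hcodim : ∀ q : PrimeSpectrum C, J ≤ q.asIdeal → (2 : WithBot ℕ∞) ≤ ringKrullDim (EGA4.FibLocRing R C q.asIdeal)) :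
    2 ≤ LocCoh.idealDepth (J.map (algebraMap C (EGA4.FibLocRing R C n.asIdeal))) (EGA4.FibLocRing R C n.asIdeal) := by
    let B := Localization.AtPrime n.asIdeal
    let JB := J.map (algebraMap C B)
    let Fi := EGA4.FibLocRing R C n.asIdeal
    have hFi : 2 ≤ LocCoh.idealDepth (JB.map (algebraMap B Fi)) Fi := by
      rw [← Nat.cast_ofNat, QGorLib.le_idealDepth_iff_forall]
      intro P hP
      let q : Ideal C := P.asIdeal.comap (algebraMap C Fi)
      have hJq : J ≤ q := fun x hx => by
        rw [Ideal.mem_comap, IsScalarTower.algebraMap_apply C B Fi]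
        exact hP (Ideal.mem_map_of_mem _ (Ideal.mem_map_of_mem _ hx))
      have hqn : q ≤ n.asIdeal := fun x hx => by
        by_contra hxn
        refine P.2.ne_top (Ideal.eq_top_of_isUnit_mem _ hx ?_)
        rw [IsScalarTower.algebraMap_apply C B Fi]
        exact (IsLocalization.map_units B (⟨x, hxn⟩ : n.asIdeal.primeCompl)).map _
      have hc : q.comap (algebraMap R C) = n.asIdeal.comap (algebraMap R C) := by
        refine le_antisymm (Ideal.comap_mono hqn) fun r hr => ?_
        rw [Ideal.mem_comap, Ideal.mem_comap, ← IsScalarTower.algebraMap_apply, IsScalarTower.algebraMap_apply R B Fi,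
          Ideal.Quotient.algebraMap_eq, Ideal.Quotient.eq_zero_iff_mem.2 (Ideal.mem_map_of_mem _ hr)]
        exact P.asIdeal.zero_mem
      have hd : ((2 : ℕ) : WithBot ℕ∞) ≤ Module.supportDim (Localization.AtPrime P.asIdeal)
          (LocalizedModule P.asIdeal.primeCompl Fi) := by
        rw [Module.supportDim_eq_of_equiv (CAlgBasics.selfLocEquiv P.asIdeal.primeCompl),
          Module.supportDim_self_eq_ringKrullDim]
        haveI : q.IsPrime := Ideal.IsPrime.comap _
        exact (hcodim ⟨q, inferInstance⟩ hJq).trans (fibLocRing_dim_le n.asIdeal q hqn hc P.asIdeal rfl)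
      have h2 := hS2 P.asIdeal
      rw [min_eq_left hd] at h2
      exact WithBot.coe_le_coe.1 h2
    have hFi' : 2 ≤ LocCoh.idealDepth (J.map (algebraMap C Fi)) Fi := by
      rwa [IsScalarTower.algebraMap_eq C B Fi, ← Ideal.map_map]
    exact hFi'

attribute [local instance] Algebra.TensorProduct.rightAlgebra in
/-- The fibre rings satisfy `(S₂)` if their local rings do. -/
theorem hasSk_fiber_of_fibLocRing {R C : Type u} [CommRing R] [CommRing C] [IsNoetherianRing R] [IsNoetherianRing C]
    [Algebra R C] [Algebra.FiniteType R C] (k : ℕ)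
    (hS : ∀ q : PrimeSpectrum C, LocCoh.HasSk k (EGA4.FibLocRing R C q.asIdeal) (EGA4.FibLocRing R C q.asIdeal))
    (p : Ideal R) [p.IsPrime] : LocCoh.HasSk k (p.Fiber C) (p.Fiber C) := by
  rw [FlatDepth.hasSk_iff]
  intro Q _
  let ι : C →+* p.Fiber C := (Algebra.TensorProduct.includeRight : C →ₐ[R] p.Fiber C).toRingHom
  let r : Ideal C := Q.comap ι
  haveI hr : r.IsPrime := Ideal.IsPrime.comap _
  have hp : p = r.comap (algebraMap R C) := by
    rw [Ideal.over_def Q p, Ideal.under_def, Ideal.comap_comap]
    congr 1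
    exact (Algebra.TensorProduct.includeRight : C →ₐ[R] p.Fiber C).comp_algebraMap.symm
  let S := Localization.AtPrime r
  let e : Localization.AtPrime Q ≃+* EGA4.FibLocRing R C r :=
    (Ideal.Fiber.algEquivAux₂ p Q).toRingEquiv.trans (Ideal.quotEquivOfEq (by
      rw [Ideal.map_map, ← IsScalarTower.algebraMap_eq]
      exact congrArg (Ideal.map _) hp))
  haveI : IsLocalRing (EGA4.FibLocRing R C r) := e.isLocalRing
  let m := maximalIdeal (EGA4.FibLocRing R C r)
  let e' : EGA4.FibLocRing R C r ≃ₐ[EGA4.FibLocRing R C r] Localization.AtPrime m :=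
    IsLocalization.atUnits _ m.primeCompl fun x hx => by
      simpa [m, IsLocalRing.mem_maximalIdeal, IsUnit.mem_submonoid_iff] using hx
  haveI : IsNoetherianRing (Localization.AtPrime m) := IsLocalization.isNoetherianRing m.primeCompl _ inferInstance
  exact FlatDepth.skLocal_of_ringEquiv (e'.symm.toRingEquiv.trans e.symm)
    ((FlatDepth.hasSk_iff k _).1 (hS ⟨r, hr⟩) m)

variable {R C R' C' : Type u} [CommRing R] [CommRing C] [CommRing R'] [CommRing C'] [IsNoetherianRing R]
    [IsNoetherianRing C] [IsNoetherianRing R'] [IsNoetherianRing C'] [IsLocalRing R'] [Algebra R C] [Algebra R R']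
    [Algebra C C'] [Algebra R' C'] [Algebra R C'] [IsScalarTower R C C'] [IsScalarTower R R' C']
    [Algebra.IsPushout R C R' C']

attribute [local instance] Algebra.TensorProduct.rightAlgebra in
theorem hasSk_fibLocRing_baseChange [Algebra.FiniteType R C] (k : ℕ)
    (hS : ∀ q : PrimeSpectrum C, LocCoh.HasSk k (EGA4.FibLocRing R C q.asIdeal) (EGA4.FibLocRing R C q.asIdeal))
    (q' : PrimeSpectrum C') :
    LocCoh.HasSk k (EGA4.FibLocRing R' C' q'.asIdeal) (EGA4.FibLocRing R' C' q'.asIdeal) := by
  haveI : Algebra.IsPushout R R' C C' := Algebra.IsPushout.symm inferInstance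
  haveI : Algebra.FiniteType R' C' :=
    Algebra.FiniteType.equiv inferInstance (Algebra.IsPushout.equiv R R' C C')
  let p' : Ideal R' := (FibreDepth.basePrime R' q')
  let p : Ideal R := p'.comap (algebraMap R R')
  haveI : p'.LiesOver p := ⟨rfl⟩
  haveI : IsNoetherianRing (p'.Fiber C') := FlatDepth.isNoetherianRing_fiber R' C' p'
  have h1 := hasSk_fiber_baseChange k R C R' C' p p' (hasSk_fiber_of_fibLocRing k hS p)
  obtain ⟨φ', hφ', hker'⟩ := FibreDepth.exists_surjective_fibRing (A := R') q'
  let e : FibreDepth.FibRing R' q' ≃+* EGA4.FibLocRing R' C' q'.asIdeal :=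
    (RingHom.quotientKerEquivOfSurjective hφ').symm.trans (Ideal.quotEquivOfEq hker')
  haveI : IsNoetherianRing (FibreDepth.FibRing R' q') :=
    IsLocalization.isNoetherianRing (FibreDepth.point R' q').asIdeal.primeCompl _ inferInstance
  have h2 : LocCoh.HasSk k (FibreDepth.FibRing R' q') (FibreDepth.FibRing R' q') :=
    EGA4Dim.hasSk_of_isLocalization (FibreDepth.point R' q').asIdeal.primeCompl k h1
  exact FlatDepth.hasSk_of_ringEquiv e h2

/-- At a point over `n` of the closed fibre of a local base change: the hull is flat with `(S₂)` fibre if and only if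
the cokernel of a copresentation is flat. -/
theorem hull_flat_sk_iff_flat_coker [Module.Flat R C] [Algebra.FiniteType R C] (n : PrimeSpectrum C)
    (hS : ∀ q : PrimeSpectrum C, LocCoh.HasSk 2 (EGA4.FibLocRing R C q.asIdeal) (EGA4.FibLocRing R C q.asIdeal))
    (F : Type u) [AddCommGroup F] [Module C F] [Module.Finite C F] (J : Ideal C)
    (hFU : ∀ q : PrimeSpectrum C, ¬ J ≤ q.asIdeal →
      Module.Free (Localization.AtPrime q.asIdeal) (LocalizedModule q.asIdeal.primeCompl F))
    {nn mm : ℕ} (g : F →ₗ[C] (Fin nn → C)) (h : (Fin nn → C) →ₗ[C] (Fin mm → C))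
    (hg : Function.Injective g) (hgh : Function.Exact g h) (hreg : RegOff J h)
    (hGU : ∀ q : PrimeSpectrum C, ¬ J ≤ q.asIdeal →
      Module.Free (Localization.AtPrime q.asIdeal) (LocalizedModule q.asIdeal.primeCompl ((Fin mm → C) ⧸ LinearMap.range h)))
    (hFi' : 2 ≤ LocCoh.idealDepth (J.map (algebraMap C (EGA4.FibLocRing R C n.asIdeal))) (EGA4.FibLocRing R C n.asIdeal))
    (Q : Ideal C') [Q.IsPrime] (hQ1 : Q.comap (algebraMap C C') = n.asIdeal)
    (hQ2 : Q.comap (algebraMap R' C') = maximalIdeal R') :
    (FlatCA.FlatAt R' Q (Module.Dual C' (Module.Dual C' (C' ⊗[C] F))) ∧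
      LocCoh.HasSk 2 (EGA4.FibLocRing R' C' Q)
        (EGA4.FibLocMod R' C' Q (Module.Dual C' (Module.Dual C' (C' ⊗[C] F))))) ↔
    FlatCA.FlatAt R' Q (C' ⊗[C] ((Fin mm → C) ⧸ LinearMap.range h)) := by
    haveI : Algebra.IsPushout R R' C C' := Algebra.IsPushout.symm inferInstance
    haveI : Module.Flat R' C' :=
      Module.Flat.isBaseChange R R' C C' (Algebra.IsPushout.out (R := R) (S := R') (R' := C) (S' := C'))
    let G := (Fin mm → C) ⧸ LinearMap.range h
    have hT0 : LocCoh.HasSk 2 (EGA4.FibLocRing R' C' Q) (EGA4.FibLocRing R' C' Q) :=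
      hasSk_fibLocRing_baseChange (R := R) (C := C) 2 hS ⟨Q, inferInstance⟩
    let C2 := Localization.AtPrime Q
    haveI : Module.Flat C' C2 := IsLocalization.flat C2 Q.primeCompl
    haveI : Module.Flat R' C2 := Module.Flat.trans R' C' C2
    haveI : IsLocalHom (algebraMap R' C2) := ⟨fun a ha => by
      by_contra hna
      rw [IsScalarTower.algebraMap_apply R' C' C2] at ha
      exact ((IsLocalization.AtPrime.isUnit_to_map_iff C2 Q _).1 ha) (hQ2.ge hna)⟩
    let J2 := J.map (algebraMap C C2)
    let T := EGA4.FibLocRing R' C' Q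
    have hVmap : (Q.comap (algebraMap R' C')).map (algebraMap R' C2) = EGA4.mB R' C2 := by rw [hQ2]
    have hT : 2 ≤ LocCoh.idealDepth (J2.map (algebraMap C2 T)) T := by
      have h2 := le_idealDepth_fibLocRing_point (A := R) (A' := R') (B' := C') J n ⟨Q, inferInstance⟩ hQ1 2
        (by exact_mod_cast hFi')
      rw [Ideal.map_map, ← IsScalarTower.algebraMap_eq] at h2 ⊢
      exact_mod_cast h2
    have hC0 : 2 ≤ LocCoh.idealDepth J2 (EGA4.FibMod R' C2 C2) := by
      rw [idealDepth_map_of_surjective (R := T) Ideal.Quotient.mk_surjective] at hT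
      exact hT.trans_eq (CAlgBasics.idealDepth_congr (Submodule.quotEquivOfEq _ _ (by
        rw [smul_eq_mul, Ideal.mul_top]; exact hVmap)))
    have hC2 : 2 ≤ LocCoh.idealDepth J2 C2 := two_le_idealDepth_of_fibre_ideal (R := R') J2 hC0
    let F' := C' ⊗[C] F
    let F2 := C2 ⊗[C] F
    let f : F' →ₗ[C'] F2 := (TensorProduct.isBaseChange C F C').lift (TensorProduct.mk C C2 F 1)
    haveI : IsLocalizedModule Q.primeCompl f := (isLocalizedModule_iff_isBaseChange Q.primeCompl C2 f).2
      (IsBaseChange.of_comp (TensorProduct.isBaseChange C F C') (by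
        rw [(TensorProduct.isBaseChange C F C').lift_comp]; exact TensorProduct.isBaseChange C F C2))
    obtain ⟨gD, hgD⟩ := exists_isLocalizedModule_dualDual Q.primeCompl C2 F' F2 f
    let DD' := Module.Dual C' (Module.Dual C' F')
    let DD := Module.Dual C2 (Module.Dual C2 F2)
    have hfinD : ∀ (X : Type u) [AddCommGroup X] [Module C2 X] [Module.Finite C2 X],
        Module.Finite C2 (Module.Dual C2 X) := fun X _ _ _ => by
      haveI : Module.FinitePresentation C2 X := Module.finitePresentation_of_finite C2 X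
      infer_instance
    haveI : Module.Finite C2 (Module.Dual C2 F2) := hfinD F2
    haveI : Module.Finite C2 DD := hfinD (Module.Dual C2 F2)
    let e0 : DD ≃ₗ[C'] LocalizedModule Q.primeCompl DD' :=
      IsLocalizedModule.linearEquiv Q.primeCompl gD (LocalizedModule.mkLinearMap Q.primeCompl DD')
    let e1 : DD ≃ₗ[C2] LocalizedModule Q.primeCompl DD' := LinearEquiv.extendScalarsOfIsLocalization Q.primeCompl C2 e0
    let IR : Ideal C2 := (Q.comap (algebraMap R' C')).map (algebraMap R' C2)
    let X := Module.Dual C2 (Module.Dual C2 F2) ⧸ (IR • ⊤ : Submodule C2 (Module.Dual C2 (Module.Dual C2 F2)))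
    haveI : Module.Finite T X := Module.Finite.of_restrictScalars_finite C2 _ _
    let eX : X ≃ₗ[C2] EGA4.FibLocMod R' C' Q DD' := Submodule.Quotient.equiv _ _ e1 (by
      rw [Submodule.map_smul'', Submodule.map_top, LinearEquiv.range])
    have hskX := QGorNhdLib.hasSk_congr_module (eX.extendScalarsOfSurjective (Ideal.Quotient.mk_surjective (I := IR))) 2
    have hF2U : ∀ q : PrimeSpectrum C2, ¬ J2 ≤ q.asIdeal →
        Module.Free (Localization.AtPrime q.asIdeal) (LocalizedModule q.asIdeal.primeCompl DD) := by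
      intro q hq
      have hq' : ¬ J ≤ (PrimeSpectrum.comap (algebraMap C C2) q).asIdeal := fun h => hq (Ideal.map_le_iff_le_comap.mpr h)
      have hfree : Module.Free (Localization.AtPrime q.asIdeal) (LocalizedModule q.asIdeal.primeCompl F2) :=
        Module.comap_freeLocus_le (R := C) (M := F) (A := C2)
          (show q ∈ PrimeSpectrum.comap (algebraMap C C2) ⁻¹' Module.freeLocus C F from hFU _ hq')
      haveI := hfree
      haveI : Module.Finite (Localization.AtPrime q.asIdeal) (LocalizedModule q.asIdeal.primeCompl F2) :=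
        Module.Finite.of_isLocalizedModule q.asIdeal.primeCompl (LocalizedModule.mkLinearMap q.asIdeal.primeCompl F2)
      obtain ⟨g2, hg2⟩ := exists_isLocalizedModule_dualDual q.asIdeal.primeCompl
        (Localization.AtPrime q.asIdeal) F2 (LocalizedModule q.asIdeal.primeCompl F2)
        (LocalizedModule.mkLinearMap q.asIdeal.primeCompl F2)
      exact Module.Free.of_equiv (LinearEquiv.extendScalarsOfIsLocalization q.asIdeal.primeCompl
        (Localization.AtPrime q.asIdeal)
        (IsLocalizedModule.linearEquiv q.asIdeal.primeCompl g2 (LocalizedModule.mkLinearMap q.asIdeal.primeCompl DD)))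
    let fG : C' ⊗[C] G →ₗ[C'] C2 ⊗[C] G := (TensorProduct.isBaseChange C G C').lift (TensorProduct.mk C C2 G 1)
    haveI : IsLocalizedModule Q.primeCompl fG := (isLocalizedModule_iff_isBaseChange Q.primeCompl C2 fG).2
      (IsBaseChange.of_comp (TensorProduct.isBaseChange C G C') (by
        rw [(TensorProduct.isBaseChange C G C').lift_comp]; exact TensorProduct.isBaseChange C G C2))
    let eG : (C2 ⊗[C] G) ≃ₗ[C'] LocalizedModule Q.primeCompl (C' ⊗[C] G) :=
      IsLocalizedModule.linearEquiv Q.primeCompl fG (LocalizedModule.mkLinearMap Q.primeCompl (C' ⊗[C] G))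
    have hcore := flat_coker_iff_hull (A := R') (C := C2) J hC0 F g h hg hgh hreg hGU
    have hD : Module.Flat R' DD ↔ FlatCA.FlatAt R' Q DD' :=
      ⟨fun _ => Module.Flat.of_linearEquiv (e0.symm.restrictScalars R'),
        fun hf => @Module.Flat.of_linearEquiv R' _ _ _ _ _ _ _ hf (e0.restrictScalars R')⟩
    have hX : LocCoh.idealDepth J2 (EGA4.FibMod R' C2 DD) = LocCoh.idealDepth (J2.map (algebraMap C2 T)) X := by
      rw [idealDepth_map_of_surjective (R := T) Ideal.Quotient.mk_surjective]
      exact CAlgBasics.idealDepth_congr (Submodule.quotEquivOfEq _ _ (by simp only [IR]; rw [hVmap]))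
    have hTT : LocCoh.HasSk 2 T T := hT0
    have hPfree : ∀ P : PrimeSpectrum T, ¬ J2.map (algebraMap C2 T) ≤ P.asIdeal →
        Module.Free (Localization.AtPrime P.asIdeal) (LocalizedModule P.asIdeal.primeCompl X) :=
      fun P hP => free_reduction_off J2 IR DD hF2U P hP
    constructor
    · rintro ⟨hfl, hsk⟩
      have hskT : LocCoh.HasSk 2 T X := hskX.2 hsk
      have hX1 : 1 ≤ LocCoh.idealDepth (J2.map (algebraMap C2 T)) X :=
        one_le_idealDepth_reduction J2 IR hT hC2 DD (le_trans one_le_two (two_le_idealDepth_dual hC2 _)) hF2U hskT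
      have hX2 := two_le_idealDepth_of_hasSk_free _ hT X hX1 hskT hPfree
      haveI : Module.Flat R' (C2 ⊗[C] G) := hcore.2 ⟨hD.2 hfl, hX2.trans_eq hX.symm⟩
      exact Module.Flat.of_linearEquiv (eG.symm.restrictScalars R')
    · intro hfl
      obtain ⟨h1, h2⟩ := hcore.1 (@Module.Flat.of_linearEquiv R' _ _ _ _ _ _ _ hfl (eG.restrictScalars R'))
      exact ⟨hD.1 h1, hskX.1 (hasSk_of_depth_free hTT _ X (h2.trans_eq hX) hPfree)⟩

end Groth.Agent.FibreDualLib
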