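import Groth.Agent.FibreDualLib.PushPow

/-!
# The exponents of the invertible reflexive powers are the multiples of the index
-/

set_option autoImplicit false
set_option linter.style.haveILetI false
set_option linter.unusedSectionVars false
set_option backward.isDefEq.respectTransparency false
set_option backward.isDefEq.respectTransparency.types false
set_option maxHeartbeats 1600000

universe u

open CategoryTheory CategoryTheory.Limits AlgebraicGeometry TopologicalSpace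

noncomputable section

namespace Groth.Agent.FibreDualLib

variable {Z : Scheme.{u}} [IsLocallyNoetherian Z]

/-- The ideal off an open set only depends on the generisations of the point in it. -/
theorem idealOff_inf (U : Z.Opens) {V : Z.Opens} {z : Z} (hz : z ∈ V) : idealOff (U ⊓ V) z = idealOff U z := by
  rw [idealOff, idealOff]
  congr 1
  ext P
  have hP : Z.fromSpecStalk z P ∈ V := by
    have h : Z.fromSpecStalk z P ∈ Set.range (Z.fromSpecStalk z) := ⟨P, rfl⟩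
    rw [Scheme.range_fromSpecStalk] at h
    exact h.mem_open V.2 hz
  exact ⟨fun h hU => h ⟨hU, hP⟩, fun h hUV => h hUV.1⟩

/-- If the `s`-th and `(s + t)`-th reflexive powers are invertible, so is the `t`-th. -/
theorem invertibleAt_refPow_sub (U : Z.Opens) {ω : Z.Modules} (hω : Coh.IsCoh ω)
    (hinv : PicF.IsInvertible (ω.restrict U.ι)) (z : Z)
    (hB2 : 2 ≤ LocCoh.idealDepth (idealOff U z) (Z.presheaf.stalk z)) (s t : ℕ)
    (hs : RelCanon.InvertibleAt (RelCanon.refPowZ ω s) z)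
    (hst : RelCanon.InvertibleAt (RelCanon.refPowZ ω (s + t : ℕ)) z) :
    RelCanon.InvertibleAt (RelCanon.refPowZ ω t) z := by
  obtain ⟨V₁, hz₁, ⟨i₁⟩⟩ := hs
  obtain ⟨V₂, hz₂, ⟨i₂⟩⟩ := hst
  let U' := U ⊓ (V₁ ⊓ V₂)
  have hinv' : PicF.IsInvertible (ω.restrict U'.ι) :=
    isInvertible_restrict_of_forall U' fun v hv => invertibleAt_of_restrict U hinv hv.1
  obtain ⟨a⟩ := nonempty_refPow_restrict U' hω hinv' s
  obtain ⟨b⟩ := nonempty_refPow_restrict U' hω hinv' (s + t)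
  obtain ⟨c⟩ := nonempty_refPow_restrict U' hω hinv' t
  obtain ⟨o⟩ := nonempty_refPow_restrict U' hω hinv' 0
  let j₁ : CohB1.tensorPow (ω.restrict U'.ι) s ≅ Coh.structureModule (U' : Scheme.{u}) :=
    a.symm ≪≫ trivialOfLE (inf_le_right.trans inf_le_left) i₁
  let j₂ : CohB1.tensorPow (ω.restrict U'.ι) (s + t) ≅ Coh.structureModule (U' : Scheme.{u}) :=
    b.symm ≪≫ trivialOfLE (inf_le_right.trans inf_le_right) i₂
  let j : CohB1.tensorPow (ω.restrict U'.ι) t ≅ Coh.structureModule (U' : Scheme.{u}) :=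
    (AmpleLib.unitL _).symm ≪≫ AmpleLib.tIso j₁.symm (Iso.refl _) ≪≫ (AmpleLib.powAdd _ s t).symm ≪≫ j₂
  have h0 : RelCanon.InvertibleAt (RefHull.ddual (CohB1.tensorPow ω 0)) z :=
    isInvertible_refPowZ (L := Coh.structureModule Z) ParaFLib.isInvertible_structureModule 0 z
  exact invertibleAt_ddual_congr U' (isCoh_tensorPow hω 0) (isCoh_tensorPow hω t) z
    (by rw [idealOff_inf U (V := V₁ ⊓ V₂) ⟨hz₁, hz₂⟩]; exact hB2) (o ≪≫ j.symm ≪≫ c.symm) h0

/-- The index divides every exponent of an invertible reflexive power. -/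
theorem gorIndexWithAt_dvd (U : Z.Opens) {ω : Z.Modules} (hω : Coh.IsCoh ω)
    (hinv : PicF.IsInvertible (ω.restrict U.ι)) (z : Z)
    (hB2 : 2 ≤ LocCoh.idealDepth (idealOff U z) (Z.presheaf.stalk z)) :
    ∀ r : ℕ, 0 < r → RelCanon.InvertibleAt (RelCanon.refPowZ ω r) z → RelCanon.gorIndexWithAt ω z ∣ r := by
  intro r
  induction r using Nat.strong_induction_on with
  | _ r ih =>
    intro hr h
    obtain ⟨hs0, hs⟩ := Nat.sInf_mem (s := {r : ℕ | 0 < r ∧ RelCanon.InvertibleAt (RelCanon.refPowZ ω r) z}) ⟨r, hr, h⟩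
    let s := RelCanon.gorIndexWithAt ω z
    have hle : s ≤ r := Nat.sInf_le (s := {r : ℕ | 0 < r ∧ RelCanon.InvertibleAt (RelCanon.refPowZ ω r) z}) ⟨hr, h⟩
    rcases hle.eq_or_lt with heq | hlt
    · exact dvd_of_eq heq
    · have ht : RelCanon.InvertibleAt (RelCanon.refPowZ ω (r - s : ℕ)) z :=
        invertibleAt_refPow_sub U hω hinv z hB2 s (r - s) hs (by rw [Nat.add_sub_cancel' hle]; exact h)
      have hd := ih (r - s) (Nat.sub_lt hr hs0) (Nat.sub_pos_of_lt hlt) ht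
      rw [← Nat.sub_add_cancel hle]
      exact dvd_add hd (dvd_refl s)

variable {A : Type u} [CommRing A] [IsNoetherianRing A] {Y : Scheme.{u}} [Y.Over (Spec (CommRingCat.of A))]
  [IsProper (Y ↘ Spec (CommRingCat.of A))]

local notation3 "S₀" => Spec (CommRingCat.of A)

/-- An invertible reflexive power of the relative canonical sheaf makes the fibre ℚ-Gorenstein of index dividing the exponent. -/
theorem fibre_qgor_index_dvd (d : ℕ) (hS : RelCanon.IsSkMor (Y ↘ S₀) 2) (hd : Cyc.HasRelDim (Y ↘ S₀) d)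
    (ω : Y.Modules) (hω : RelCanon.IsDualizingSheaf A Y d ω) (U : Y.Opens)
    (hU : (U : Set Y) ⊆ RelCanon.gorLocus (Y ↘ S₀)) (y : Y)
    (hG : ∀ v : Y, (Y ↘ S₀) v = (Y ↘ S₀) y → v ⤳ y → v ∉ U →
      (2 : WithBot ℕ∞) ≤ ringKrullDim (((Y ↘ S₀).fiber ((Y ↘ S₀) v)).presheaf.stalk ((Y ↘ S₀).asFiber v)))
    (r : ℕ) (hr : 0 < r) (hT : RelCanon.InvertibleAt (RelCanon.refPowZ ω r) y)
    (ωy : ((Y ↘ S₀).fiber ((Y ↘ S₀) y)).Modules)
    (hωy : @RelCanon.IsDualizingSheaf ((Spec (CommRingCat.of A)).residueField ((Y ↘ S₀) y)) _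
      ((Y ↘ S₀).fiber ((Y ↘ S₀) y)) ⟨(Y ↘ S₀).fiberToSpecResidueField ((Y ↘ S₀) y)⟩ d ωy) :
    RelCanon.IsQGorWithAt ωy ((Y ↘ S₀).asFiber y) ∧
      RelCanon.gorIndexWithAt ωy ((Y ↘ S₀).asFiber y) ∣ r := by
  let f₀ := Y ↘ S₀
  haveI : IsNoetherianRing (CommRingCat.of A) := inferInstanceAs (IsNoetherianRing A)
  haveI : IsLocallyNoetherian Y := LocallyOfFiniteType.isLocallyNoetherian f₀
  obtain ⟨hinv, hcoh, -⟩ := refPowZ_restrict_gor d hS hd ω hω U hU
  let t := f₀ y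
  let k := (Spec (CommRingCat.of A)).residueField t
  let Yt := f₀.fiber t
  letI : Yt.Over (Spec (CommRingCat.of k)) := ⟨f₀.fiberToSpecResidueField t⟩
  haveI : IsNoetherianRing (CommRingCat.of k) := inferInstanceAs (IsNoetherianRing k)
  obtain ⟨φ, hp⟩ := exists_fibre_hom f₀ t
  haveI : IsProper (Yt ↘ Spec (CommRingCat.of k)) := MorphismProperty.of_isPullback (P := @IsProper) hp ‹_›
  haveI : IsLocallyNoetherian Yt := LocallyOfFiniteType.isLocallyNoetherian (Yt ↘ Spec (CommRingCat.of k))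
  obtain ⟨hS', hd'⟩ := isSkMor_baseChange hp 2 d hS hd
  let Ut := (f₀.fiberι t) ⁻¹ᵁ U
  have hUt : (Ut : Set Yt) ⊆ RelCanon.gorLocus (Yt ↘ Spec (CommRingCat.of k)) := fun v hv =>
    preimage_gor_subset hp rfl (hU hv)
  obtain ⟨hinvt, hcoht, -⟩ := refPowZ_restrict_gor (A := k) (Y := Yt) d hS' hd' ωy hωy Ut hUt
  let G := RelCanon.refPowZ ω r
  have hGcoh : Coh.IsCoh G := RefOne.isCoh_dual (RefOne.isCoh_dual (isCoh_tensorPow hcoh r))
  obtain ⟨a⟩ := nonempty_refPow_restrict U hcoh hinv r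
  obtain ⟨i⟩ := nonempty_restrict_pullback_iso d hS hd ω hω φ (f₀.fiberι t) hp ωy hωy U hU
  obtain ⟨b⟩ := nonempty_refPow_restrict Ut hcoht hinvt r
  let Q := (Scheme.Modules.pullback (f₀.fiberι t)).obj G
  have hQ : Coh.IsCoh Q := PullbackMod.isCoh_pullback _ _ hGcoh
  let j : (Scheme.Modules.pullback (f₀.fiberι t ∣_ U)).obj (ω.restrict U.ι) ≅ ωy.restrict Ut.ι :=
    (pullbackRestrict (f₀.fiberι t) U ω).symm ≪≫ i
  let c : Q.restrict Ut.ι ≅ (RelCanon.refPowZ ωy r).restrict Ut.ι :=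
    pullbackRestrict (f₀.fiberι t) U G ≪≫ (Scheme.Modules.pullback (f₀.fiberι t ∣_ U)).mapIso a ≪≫
      AmpleLib.pullPow _ _ r ≪≫ AmpleLib.powCongr j r ≪≫ b.symm
  obtain ⟨c'⟩ := nonempty_ddual_restrict Ut hQ (ParaFLib.isInvertible_of_iso (c ≪≫ b).symm
    (AmpleLib.isInvertible_tensorPow hinvt r))
  have hdimt : ∀ v : Yt, v ⤳ f₀.asFiber y → v ∉ Ut → (2 : WithBot ℕ∞) ≤ ringKrullDim (Yt.presheaf.stalk v) := by
    have h := forall_fiber f₀ (P := fun s w => s = t → f₀.fiberι s w ⤳ y → f₀.fiberι s w ∉ U →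
      (2 : WithBot ℕ∞) ≤ ringKrullDim ((f₀.fiber s).presheaf.stalk w)) (fun x hx hxy hxo => by
        rw [f₀.fiberι_asFiber] at hxy hxo
        exact hG x hx hxy hxo) t
    exact fun v hvw hv => h v rfl ((hvw.map (f₀.fiberι t).continuous).trans
      (specializes_of_eq (f₀.fiberι_asFiber y))) hv
  have hBt : 2 ≤ LocCoh.idealDepth (idealOff Ut (f₀.asFiber y)) (Yt.presheaf.stalk (f₀.asFiber y)) := by
    refine (two_le_idealDepth_of_skAt_near (DevLib.isCoh_structureModule Yt) Ut (f₀.asFiber y) (hS.2.2 y)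
      (fun v _ _ => (RefOne.oEquiv v).toEquiv.symm.nontrivial) hdimt).trans_eq
      (CAlgBasics.idealDepth_congr (RefOne.oEquiv (f₀.asFiber y)).symm)
  obtain ⟨V, hyV, ⟨iV⟩⟩ : RelCanon.InvertibleAt Q (f₀.asFiber y) :=
    invertibleAt_pullback (f₀.fiberι t) (by rwa [f₀.fiberι_asFiber])
  have hQV : PicF.IsInvertible (Q.restrict V.ι) :=
    ParaFLib.isInvertible_of_iso iV.symm ParaFLib.isInvertible_structureModule
  obtain ⟨eQ⟩ := nonempty_ddual_restrict V hQ hQV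
  have hDQ : RelCanon.InvertibleAt (RefHull.ddual Q) (f₀.asFiber y) := ⟨V, hyV, ⟨eQ ≪≫ iV⟩⟩
  have hrw : RelCanon.InvertibleAt (RelCanon.refPowZ ωy r) (f₀.asFiber y) :=
    invertibleAt_ddual_congr Ut hQ (isCoh_tensorPow hcoht r) (f₀.asFiber y) hBt (c' ≪≫ c) hDQ
  exact ⟨⟨r, hr, hrw⟩, gorIndexWithAt_dvd Ut hcoht hinvt (f₀.asFiber y) hBt r hr hrw⟩

end Groth.Agent.FibreDualLib
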