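import Groth.Agent.FibreDualLib.ValPoint
import Groth.Agent.FibreDualLib.BCFibres

/-!
# Valuative criterion for relative `(S₂)` of reflexive powers
-/

set_option autoImplicit false
set_option linter.style.haveILetI false
set_option linter.unusedSectionVars false
set_option backward.isDefEq.respectTransparency false
set_option backward.isDefEq.respectTransparency.types false
set_option maxHeartbeats 1600000

universe u

open CategoryTheory CategoryTheory.Limits AlgebraicGeometry IsLocalRing TopologicalSpace TensorProduct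

noncomputable section

namespace Groth.Agent.FibreDualLib

local instance stalkAlgVS {A : Type u} [CommRing A] (q : Spec (CommRingCat.of A)) :
    Algebra A ((Spec (CommRingCat.of A)).presheaf.stalk q) :=
  StructureSheaf.stalkAlgebra A q

/-- Reflexive fibrewise deep modules over a valuation ring force torsion-freeness of the cokernel. -/
theorem exists_torsion_kill {C V C' O : Type u} [CommRing C] [CommRing V] [CommRing C'] [CommRing O] [IsNoetherianRing C]
    [IsNoetherianRing O] [IsDomain V] [IsDiscreteValuationRing V] [IsLocalRing O] [Algebra C C'] [Algebra V C']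
    [Algebra C O] [Algebra V O] [Algebra C' O] [IsScalarTower C C' O] [IsScalarTower V C' O] [Module.Flat V O]
    [IsLocalHom (algebraMap V O)] (Q : Ideal C') [Q.IsPrime] [IsLocalization.AtPrime O Q] (J : Ideal C)
    (F : Type u) [AddCommGroup F] [Module C F] [Module.Finite C F]
    {nn mm : ℕ} (g : F →ₗ[C] (Fin nn → C)) (h : (Fin nn → C) →ₗ[C] (Fin mm → C))
    (hg : Function.Injective g) (hgh : Function.Exact g h) (hreg : RegOff J h)
    (hGU : ∀ q : PrimeSpectrum C, ¬ J ≤ q.asIdeal →
      Module.Free (Localization.AtPrime q.asIdeal) (LocalizedModule q.asIdeal.primeCompl ((Fin mm → C) ⧸ LinearMap.range h)))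
    (hO0 : 2 ≤ LocCoh.idealDepth (J.map (algebraMap C O)) (EGA4.FibMod V O O))
    (hDD : 2 ≤ LocCoh.idealDepth (J.map (algebraMap C O))
      (EGA4.FibMod V O (Module.Dual O (Module.Dual O (O ⊗[C] F)))))
    (π : V) (hπ : π ≠ 0) (z : C' ⊗[C] ((Fin mm → C) ⧸ LinearMap.range h)) (hz : algebraMap V C' π • z = 0) :
    ∃ t ∉ Q, t • z = 0 := by
  let G := (Fin mm → C) ⧸ LinearMap.range h
  haveI hGflat : Module.Flat V (O ⊗[C] G) := flat_coker_of_dualDual J hO0 F g h hg hgh hreg hGU hDD
  let fG : C' ⊗[C] G →ₗ[C'] O ⊗[C] G := (TensorProduct.isBaseChange C G C').lift (TensorProduct.mk C O G 1)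
  haveI : IsLocalizedModule Q.primeCompl fG := (isLocalizedModule_iff_isBaseChange Q.primeCompl O fG).2
    (IsBaseChange.of_comp (TensorProduct.isBaseChange C G C') (by
      rw [(TensorProduct.isBaseChange C G C').lift_comp]; exact TensorProduct.isBaseChange C G O))
  have hz' : π • fG z = 0 := by
    rw [← algebraMap_smul C' π (fG z), ← map_smul, hz, map_zero]
  have hz0 : fG z = 0 :=
    (Module.Flat.isTorsionFree (R := V) (M := O ⊗[C] G)).isSMulRegular (isRegular_of_ne_zero hπ)
      (hz'.trans (smul_zero π).symm)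
  obtain ⟨⟨t, ht⟩, hty⟩ := (IsLocalizedModule.eq_zero_iff Q.primeCompl fG).1 hz0
  exact ⟨t, ht, hty⟩

variable {A : Type u} [CommRing A] [IsNoetherianRing A] {Y : Scheme.{u}} [Y.Over (Spec (CommRingCat.of A))]
  [IsProper (Y ↘ Spec (CommRingCat.of A))]

local notation3 "S₀" => Spec (CommRingCat.of A)

/-- Flatness and depth along the bad set give relative `(S₂)`. -/
theorem relSkAt_of_flat_depth (hS : RelCanon.IsSkMor (Y ↘ S₀) 2) (U : Y.Opens) {G : Y.Modules} (hGcoh : Coh.IsCoh G)
    (hGinv : ∀ v : Y, v ∈ U → RelCanon.InvertibleAt G v) (y : Y) (hfl : FlatMod.IsFlatOverAt (Y ↘ S₀) G y)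
    (hdep : 2 ≤ LocCoh.idealDepth (idealOff U y) (FibreDepth.fibreStalkMod (Y ↘ S₀) G y)) :
    RelCanon.RelSkAt (Y ↘ S₀) 2 G y := by
  let f₀ := Y ↘ S₀
  haveI : IsNoetherianRing (CommRingCat.of A) := inferInstanceAs (IsNoetherianRing A)
  haveI : IsLocallyNoetherian Y := LocallyOfFiniteType.isLocallyNoetherian f₀
  haveI := hGcoh.1
  let R := (Spec (CommRingCat.of A)).presheaf.stalk (f₀ y)
  let B := Y.presheaf.stalk y
  let F := G.presheaf.stalk y
  let J := idealOff U y
  letI : Algebra R B := (f₀.stalkMap y).hom.toAlgebra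
  haveI : Module.Finite B F := PullbackMod.finite_stalk_of_isFT hGcoh.2 y
  have hFU : ∀ q : PrimeSpectrum B, ¬ J ≤ q.asIdeal →
      Module.Free (Localization.AtPrime q.asIdeal) (LocalizedModule q.asIdeal.primeCompl F) :=
    free_localization_stalk U y hGinv
  refine ⟨hfl, (skAt_fibre_iff f₀ 2 hGcoh y).2 fun P _ => ?_⟩
  let S := B ⧸ EGA4.mB R B
  let N := EGA4.FibMod R B F
  have hid : FibreDepth.FibIso (R := B) (N := N) S N :=
    ⟨Ideal.Quotient.mk _, Ideal.Quotient.mk_surjective, AddEquiv.refl N, fun r n => by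
      obtain ⟨v, rfl⟩ := Submodule.Quotient.mk_surjective _ n
      rfl⟩
  revert P
  show LocCoh.HasSk 2 B N
  rw [hid.hasSk_iff 2]
  haveI : Module.Finite S N := hid.module_finite
  have hsk0 : LocCoh.HasSk 2 S S := by
    have h1 := (skAt_fibre_iff f₀ 2 (DevLib.isCoh_structureModule Y) y).1 (relSk_structureModule f₀ hS y).2
    have hid' : FibreDepth.FibIso B (FibreDepth.fibreStalkMod f₀ (Coh.structureModule Y) y) S S := by
      let e : FibreDepth.fibreStalkMod f₀ (Coh.structureModule Y) y ≃ₗ[B] S :=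
        (Submodule.Quotient.equiv _ (FibreDepth.fibreIdeal f₀ y • ⊤ : Submodule B B) (RefOne.oEquiv y).symm (by
          rw [Submodule.map_smul'', Submodule.map_top, LinearEquiv.range])).trans
          (Submodule.quotEquivOfEq _ _ (by rw [smul_eq_mul, Ideal.mul_top]; rfl))
      exact ⟨Ideal.Quotient.mk _, Ideal.Quotient.mk_surjective, e.toAddEquiv, fun r n => by
        show e (r • n) = algebraMap B S r • e n
        rw [map_smul, algebraMap_smul]⟩
    haveI := PullbackMod.finite_stalk_of_isFT (DevLib.isCoh_structureModule Y).2 y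
    exact (hid'.hasSk_iff 2).1 h1
  intro P _
  by_cases hP : J.map (algebraMap B S) ≤ P
  · have hN : 2 ≤ LocCoh.idealDepth (J.map (algebraMap B S)) N := by
      rw [idealDepth_map_of_surjective (R := S) Ideal.Quotient.mk_surjective]
      exact hdep
    rw [← Nat.cast_ofNat, QGorLib.le_idealDepth_iff_forall] at hN
    exact min_le_left _ _ |>.trans (WithBot.coe_le_coe.2 (hN ⟨P, inferInstance⟩ hP))
  · let Q : PrimeSpectrum B := PrimeSpectrum.comap (algebraMap B S) ⟨P, inferInstance⟩
    have hQ : ¬ J ≤ Q.asIdeal := fun h => hP (Ideal.map_le_iff_le_comap.mpr h)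
    have hfree : (⟨P, inferInstance⟩ : PrimeSpectrum S) ∈ Module.freeLocus S N := by
      have h : (⟨P, inferInstance⟩ : PrimeSpectrum S) ∈ Module.freeLocus S (S ⊗[B] F) :=
        Module.comap_freeLocus_le (R := B) (M := F) (A := S)
          (show (⟨P, inferInstance⟩ : PrimeSpectrum S) ∈ PrimeSpectrum.comap (algebraMap B S) ⁻¹' Module.freeLocus B F
            from hFU Q hQ)
      rwa [Module.freeLocus_congr (LinearEquiv.extendScalarsOfSurjective Ideal.Quotient.mk_surjective
        (TensorProduct.quotTensorEquivQuotSMul F (EGA4.mB R B)) : (S ⊗[B] F) ≃ₗ[S] N)] at h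
    haveI : Module.Free (Localization.AtPrime P) (LocalizedModule P.primeCompl N) := hfree
    haveI : Module.Finite (Localization.AtPrime P) (LocalizedModule P.primeCompl N) :=
      Module.Finite.of_isLocalizedModule P.primeCompl (LocalizedModule.mkLinearMap P.primeCompl N)
    have hs : LocCoh.HasSk 2 (Localization.AtPrime P) (Localization.AtPrime P) :=
      EGA4Dim.hasSk_of_isLocalization P.primeCompl 2 hsk0
    exact EGA4Dim.skIneq_of_hasSk (QGorLib.hasSk_of_reflexive (LocalizedModule P.primeCompl N) le_rfl hs)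

/-- Reflexive powers are double duals of coherent modules. -/
theorem exists_eq_ddual {ω : Y.Modules} [IsLocallyNoetherian Y] (hω : Coh.IsCoh ω) (m : ℤ) :
    ∃ H : Y.Modules, Coh.IsCoh H ∧ RelCanon.refPowZ ω m = RefHull.ddual H := by
  cases m with
  | ofNat n => exact ⟨_, isCoh_tensorPow hω n, rfl⟩
  | negSucc n => exact ⟨_, isCoh_tensorPow (RefOne.isCoh_dual hω) (n + 1), rfl⟩

/-- The valuative criterion for relative `(S₂)` of a reflexive power at a point. -/
theorem relSkAt_refPowZ_of_dvr [_root_.IsReduced A] (d : ℕ) (hS : RelCanon.IsSkMor (Y ↘ S₀) 2)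
    (hd : Cyc.HasRelDim (Y ↘ S₀) d) (ω : Y.Modules) (hω : RelCanon.IsDualizingSheaf A Y d ω) (U : Y.Opens)
    (hU : (U : Set Y) ⊆ RelCanon.gorLocus (Y ↘ S₀))
    (hG : ∀ y : Y, y ∉ U →
      (2 : WithBot ℕ∞) ≤ ringKrullDim (((Y ↘ S₀).fiber ((Y ↘ S₀) y)).presheaf.stalk ((Y ↘ S₀).asFiber y)))
    (m : ℤ) (y : Y)
    (H : ∀ (V : Type u) [CommRing V] [IsDomain V] [IsDiscreteValuationRing V] (φ : A →+* V)
      (Y' : Scheme.{u}) [Y'.Over (Spec (CommRingCat.of V))] (p : Y' ⟶ Y),
      IsPullback p (Y' ↘ Spec (CommRingCat.of V)) (Y ↘ S₀) (Spec.map (CommRingCat.ofHom φ)) →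
      ∀ ω' : Y'.Modules, RelCanon.IsDualizingSheaf V Y' d ω' →
        RelCanon.RelSk (Y' ↘ Spec (CommRingCat.of V)) 2 (RelCanon.refPowZ ω' m)) :
    RelCanon.RelSkAt (Y ↘ S₀) 2 (RelCanon.refPowZ ω m) y := by
  let f₀ := Y ↘ S₀
  haveI : IsNoetherianRing (CommRingCat.of A) := inferInstanceAs (IsNoetherianRing A)
  haveI : IsLocallyNoetherian Y := LocallyOfFiniteType.isLocallyNoetherian f₀
  haveI := hS.1
  obtain ⟨-, hωcoh, hpow⟩ := refPowZ_restrict_gor d hS hd ω hω U hU
  obtain ⟨-, hPinv, hGnt⟩ := hpow m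
  obtain ⟨T, hT, hGT⟩ := exists_eq_ddual hωcoh m
  let G := RelCanon.refPowZ ω m
  haveI := hT.1
  have hGcoh : Coh.IsCoh G := by
    rw [show G = RefHull.ddual T from hGT]
    exact RefOne.isCoh_dual (RefOne.isCoh_dual hT)
  haveI := hGcoh.1
  have hGinv : ∀ v : Y, v ∈ U → RelCanon.InvertibleAt G v := fun v hv => by
    obtain ⟨V, hvV, ⟨i⟩⟩ := hPinv ⟨v, hv⟩
    exact ⟨U.ι ''ᵁ V, ⟨_, hvV, rfl⟩, ⟨restrictImageIso U V _ i⟩⟩
  obtain ⟨_, ⟨W : Y.Opens, (hW : IsAffineOpen W), rfl⟩, hyW, -⟩ :=
    Y.isBasis_affineOpens.exists_subset_of_mem_open (Set.mem_univ y) isOpen_univ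
  let C := Γ(Y, W)
  haveI : IsNoetherianRing C := IsLocallyNoetherian.component_noetherian ⟨W, hW⟩
  let φW : A →+* C := (Spec.preimage (hW.fromSpec ≫ f₀)).hom
  letI : Algebra A C := φW.toAlgebra
  have hw0 : hW.fromSpec ≫ f₀ = Spec.map (CommRingCat.ofHom (algebraMap A C)) ≫ 𝟙 _ :=
    ((Category.comp_id _).trans (Spec.map_preimage _)).symm
  haveI : Algebra.FiniteType A C := by
    have h : LocallyOfFiniteType (Spec.map (CommRingCat.ofHom (algebraMap A C))) := by
      rw [← Category.comp_id (Spec.map _), ← hw0]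
      infer_instance
    rw [HasRingHomProperty.Spec_iff (P := @LocallyOfFiniteType)] at h
    exact RingHom.finiteType_algebraMap.1 h
  let F := Γ(G, W)
  haveI : Module.Finite C F := QCohLib.finite_sections G hGcoh.2 hW
  let J := sectionsIdealOff hW U
  have hFU : ∀ q : PrimeSpectrum C, ¬ J ≤ q.asIdeal →
      Module.Free (Localization.AtPrime q.asIdeal) (LocalizedModule q.asIdeal.primeCompl F) := fun q hq =>
    free_sections_localization hW q (hGinv _ (not_not.1 fun h => hq ((sectionsIdealOff_le_iff hW U q).2 h)))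
  have hC2 : 2 ≤ LocCoh.idealDepth J C := by
    rw [← Nat.cast_ofNat, QGorLib.le_idealDepth_iff_forall]
    intro P hP
    obtain ⟨ψ, -, -⟩ := exists_sections_equiv G hW P
    have hh : FibreDepth.FibIso (Localization.AtPrime P.asIdeal) (Localization.AtPrime P.asIdeal)
        (Y.presheaf.stalk (AssLib.pt hW P)) (Y.presheaf.stalk (AssLib.pt hW P)) :=
      ⟨ψ.toRingHom, ψ.surjective, ψ.toAddEquiv, fun r x => map_mul ψ r x⟩
    refine (two_le_depth_stalk f₀ hS _ (hG _ ((sectionsIdealOff_le_iff hW U P).1 hP))).trans_eq ?_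
    rw [← hh.depth_eq]
  have hF2 : 2 ≤ LocCoh.idealDepth J F := by
    rw [← Nat.cast_ofNat, QGorLib.le_idealDepth_iff_forall]
    intro P hP
    obtain ⟨ψ, e, he⟩ := exists_sections_equiv G hW P
    have hh : FibreDepth.FibIso (Localization.AtPrime P.asIdeal) (LocalizedModule P.asIdeal.primeCompl F)
        (Y.presheaf.stalk (AssLib.pt hW P)) (G.presheaf.stalk (AssLib.pt hW P)) :=
      ⟨ψ.toRingHom, ψ.surjective, e, he⟩
    rw [hh.depth_eq]
    let v := AssLib.pt hW P
    let O := Y.presheaf.stalk v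
    haveI : Module.Finite O (T.presheaf.stalk v) := PullbackMod.finite_stalk_of_isFT hT.2 v
    haveI := Module.finitePresentation_of_finite O (T.presheaf.stalk v)
    haveI : Module.Finite O (Module.Dual O (T.presheaf.stalk v)) := inferInstance
    obtain ⟨eDD⟩ := exists_stalk_ddual_equiv hT v
    show (2 : ℕ∞) ≤ LocCoh.depth O (G.presheaf.stalk v)
    rw [show G = RefHull.ddual T from hGT, CAlgBasics.depth_congr eDD]
    exact FibDepthLib.two_le_idealDepth_dual
      (two_le_depth_stalk f₀ hS v (hG v ((sectionsIdealOff_le_iff hW U P).1 hP))) _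
  haveI := Module.finitePresentation_of_finite C F
  haveI : Module.Finite C (Module.Dual C F) := inferInstance
  haveI := Module.finitePresentation_of_finite C (Module.Dual C F)
  haveI : Module.Finite C (Module.Dual C (Module.Dual C F)) := inferInstance
  haveI : Module.IsReflexive C F := ⟨FibDepthLib.bijective_of_isoOff (FibDepthLib.isoOff_eval F hFU) hF2
    (le_trans one_le_two (FibDepthLib.two_le_idealDepth_dual hC2 _))⟩
  obtain ⟨nn, mm, g, h, hg, hgh, hGU⟩ := S18709.result C J F hFU
  let G0 := (Fin mm → C) ⧸ LinearMap.range h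
  let v : (Fin mm → C) →ₗ[C] G0 := (LinearMap.range h).mkQ
  have hhv : Function.Exact h v := fun w => Submodule.Quotient.mk_eq_zero _
  have hv : Function.Surjective v := Submodule.mkQ_surjective _
  have hreg := regOff_of_free (J := J) h hGU
  let n := AssLib.pr hW hyW
  have hval : FlatValLib.ValFlatAt A C G0 n := by
    intro V _ _ _ _ Q _ hQc hQV π hπ w hw
    letI : Algebra V (C ⊗[A] V) := Algebra.TensorProduct.rightAlgebra
    let k := FlatValLib.affinePt (f := f₀) (𝟙 S₀) hW.fromSpec hw0 V
    let g' := Spec.map (CommRingCat.ofHom (algebraMap A V)) ≫ 𝟙 S₀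
    let Y' := pullback f₀ g'
    letI : Y'.Over (Spec (CommRingCat.of V)) := ⟨pullback.snd f₀ g'⟩
    let f₁ := Y' ↘ Spec (CommRingCat.of V)
    let p : Y' ⟶ Y := pullback.fst f₀ g'
    have hp : IsPullback p f₁ f₀ (Spec.map (CommRingCat.ofHom (algebraMap A V))) := by
      have h0 : IsPullback p f₁ f₀ g' := IsPullback.of_hasPullback f₀ g'
      simpa only [g', Category.comp_id] using h0
    haveI : IsNoetherianRing (CommRingCat.of V) := inferInstanceAs (IsNoetherianRing V)
    haveI : IsProper f₁ := MorphismProperty.of_isPullback (P := @IsProper) hp ‹_›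
    haveI : IsLocallyNoetherian Y' := LocallyOfFiniteType.isLocallyNoetherian f₁
    obtain ⟨hS', hd'⟩ := isSkMor_baseChange hp 2 d hS hd
    haveI := hS'.1
    obtain ⟨ω', hω'⟩ := exists_isDualizingSheaf (A := V) (Y := Y') d hS' hd'
    let Qp : PrimeSpectrum (C ⊗[A] V) := ⟨Q, ‹_›⟩
    obtain ⟨κ, hκ, hκloc⟩ := exists_stalkHom k Qp
    let z := k Qp
    let O := Y'.presheaf.stalk z
    let inclL : C →+* C ⊗[A] V := Algebra.TensorProduct.includeLeftRingHom
    let inclR : V →+* C ⊗[A] V := (Algebra.TensorProduct.includeRight (R := A) (A := C) (B := V)).toRingHom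
    have hkp : k ≫ p = Spec.map (CommRingCat.ofHom inclL) ≫ hW.fromSpec := FlatValLib.affinePt_fst _ _ hw0 V
    have hks : k ≫ f₁ = Spec.map (CommRingCat.ofHom inclR) := FlatValLib.affinePt_snd _ _ hw0 V
    have hpzW : p z ∈ W := by
      have : p z = AssLib.pt hW (PrimeSpectrum.comap inclL Qp) :=
        (Scheme.Hom.comp_apply k p Qp).symm.trans
          ((congrArg (fun e : Spec (CommRingCat.of (C ⊗[A] V)) ⟶ Y => e Qp) hkp).trans (Scheme.Hom.comp_apply _ _ _))
      rw [this]
      exact AssLib.pt_mem hW _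
    let γ : C →+* Y.presheaf.stalk (p z) := (Y.presheaf.germ W (p z) hpzW).hom
    have hαC : (p.stalkMap z).hom.comp γ = κ.comp inclL :=
      stalkHom_natural p inclL hkp γ (fromSpec_germ hW hpzW) κ hκ
    have hαV : (f₁.stalkMap z).hom.comp (algebraMap V ((Spec (CommRingCat.of V)).presheaf.stalk (f₁ z))) =
        κ.comp inclR :=
      stalkHom_natural f₁ inclR (by rw [Category.comp_id]; exact hks) _ (fromSpec_toStalk V _) κ hκ
    have hfz : (f₁ z).asIdeal = maximalIdeal V := by
      have h1 : f₁ z = PrimeSpectrum.comap inclR Qp :=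
        (Scheme.Hom.comp_apply k f₁ Qp).symm.trans
          (congrArg (fun e : Spec (CommRingCat.of (C ⊗[A] V)) ⟶ Spec (CommRingCat.of V) => e Qp) hks)
      rw [h1]
      exact hQV
    let B := Y.presheaf.stalk (p z)
    letI : Algebra (C ⊗[A] V) O := κ.toAlgebra
    haveI : IsLocalization.AtPrime O Q := hκloc
    letI : Algebra C B := γ.toAlgebra
    letI : Algebra B O := (p.stalkMap z).hom.toAlgebra
    letI : Algebra C O := ((p.stalkMap z).hom.comp γ).toAlgebra
    letI : Algebra V O := (κ.comp inclR).toAlgebra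
    haveI : IsScalarTower C B O := .of_algebraMap_eq fun _ => rfl
    haveI : IsScalarTower C (C ⊗[A] V) O := .of_algebraMap_eq fun c => RingHom.congr_fun hαC c
    haveI : IsScalarTower V (C ⊗[A] V) O := .of_algebraMap_eq fun _ => rfl
    let L := (Spec (CommRingCat.of V)).presheaf.stalk (f₁ z)
    letI : Algebra L O := (f₁.stalkMap z).hom.toAlgebra
    haveI : IsScalarTower V L O := .of_algebraMap_eq fun a => (RingHom.congr_fun hαV a).symm
    haveI : IsLocalization.AtPrime L (f₁ z).asIdeal := StructureSheaf.IsLocalization.to_stalk V (f₁ z)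
    haveI : Module.Flat V L := IsLocalization.flat L (f₁ z).asIdeal.primeCompl
    haveI : Module.Flat L O := Flat.stalkMap f₁ z
    haveI : Module.Flat V O := Module.Flat.trans V L O
    haveI : IsLocalHom (algebraMap V O) := ⟨fun a ha => by
      by_contra hna
      exact ((IsLocalization.AtPrime.isUnit_to_map_iff O Q (inclR a)).1 ha) (hQV.ge hna)⟩
    have hfib : FibreDepth.fibreIdeal f₁ z = EGA4.mB V O := by
      have h1 : (maximalIdeal V).map (algebraMap V L) = maximalIdeal L := by
        rw [← hfz]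
        exact IsLocalization.AtPrime.map_eq_maximalIdeal (f₁ z).asIdeal L
      show (maximalIdeal L).map (f₁.stalkMap z).hom = (maximalIdeal V).map (algebraMap V O)
      rw [← h1, Ideal.map_map]
      exact congrArg (fun r : V →+* O => (maximalIdeal V).map r) hαV
    let U' := p ⁻¹ᵁ U
    have hU' : (U' : Set Y') ⊆ RelCanon.gorLocus f₁ := fun w hw => preimage_gor_subset hp rfl (hU hw)
    have hG' : ∀ w : Y', w ∉ U' →
        (2 : WithBot ℕ∞) ≤ ringKrullDim ((f₁.fiber (f₁ w)).presheaf.stalk (f₁.asFiber w)) := fun w hw =>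
      codim_baseChange hp w 2 fun y' hy' => hG y' (hy' ▸ hw)
    have hle : ∀ P : PrimeSpectrum O, J.map (algebraMap C O) ≤ P.asIdeal → idealOff U' z ≤ P.asIdeal := fun P hP =>
      (map_sectionsIdealOff_le_iff hW U p z ((p.stalkMap z).hom.comp γ) (by
        rw [CommRingCat.ofHom_comp, Spec.map_comp, Category.assoc, fromSpec_germ hW hpzW, CommRingCat.ofHom_hom,
          Scheme.SpecMap_stalkMap_fromSpecStalk]) P).1 hP
    have hO0 : 2 ≤ LocCoh.idealDepth (J.map (algebraMap C O)) (EGA4.FibMod V O O) := by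
      have h1 := (two_le_idealDepth_fibMod_self hS' U' hG' z).trans_eq
        (CAlgBasics.idealDepth_congr (Submodule.quotEquivOfEq _ (EGA4.mB V O • ⊤ : Submodule O O) (by rw [hfib])))
      exact le_idealDepth_of_le hle 2 h1
    let N := ((Scheme.Modules.pullback p).obj G).presheaf.stalk z
    have hQ : Coh.IsCoh ((Scheme.Modules.pullback p).obj G) := PullbackMod.isCoh_pullback p _ hGcoh
    haveI : Module.Finite O N := PullbackMod.finite_stalk_of_isFT hQ.2 z
    letI : Module B N := Module.compHom N (p.stalkMap z).hom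
    haveI : IsScalarTower B O N := .of_algebraMap_smul fun _ _ => rfl
    letI : Module C (G.presheaf.stalk (p z)) := Module.compHom _ γ
    haveI : IsScalarTower C B (G.presheaf.stalk (p z)) := .of_algebraMap_smul fun _ _ => rfl
    letI : Module C N := Module.compHom N ((p.stalkMap z).hom.comp γ)
    haveI : IsScalarTower C O N := .of_algebraMap_smul fun _ _ => rfl
    haveI : IsScalarTower C B N := .of_algebraMap_smul fun _ _ => rfl
    haveI : IsLocalization.AtPrime B (AssLib.pr hW hpzW) := hW.isLocalization_stalk ⟨p z, hpzW⟩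
    haveI := FlatLocus.isLocalizedModule_germL G hW (p z) hpzW
    have hbc1 : IsBaseChange B (FlatLocus.germL G W (p z) hpzW) :=
      IsLocalizedModule.isBaseChange (AssLib.pr hW hpzW).primeCompl B _
    have hbc : IsBaseChange O ((PullbackMod.pullStalkL p G z).restrictScalars C ∘ₗ FlatLocus.germL G W (p z) hpzW) :=
      hbc1.comp (PullbackMod.isBaseChange_pullStalkL p G z)
    let E : O ⊗[C] F ≃ₗ[O] N := hbc.equiv
    obtain ⟨e2⟩ := exists_stalk_ddual_equiv hQ z
    obtain ⟨e3⟩ := (refPowZ_baseChange d hS hd ω hω U hU hG (algebraMap A V) p hp ω' hω' m).2.1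
    let P' := RelCanon.refPowZ ω' m
    have hP'coh : Coh.IsCoh P' := ShStabLib.isCoh_of_iso e3 (RefOne.isCoh_dual (RefOne.isCoh_dual hQ))
    let e5 : Module.Dual O (Module.Dual O (O ⊗[C] F)) ≃ₗ[O] P'.presheaf.stalk z :=
      (E.dualMap.dualMap).trans (e2.symm.trans ((DCohLib.stkF z).mapIso e3).toLinearEquiv)
    have hDD : 2 ≤ LocCoh.idealDepth (J.map (algebraMap C O))
        (EGA4.FibMod V O (Module.Dual O (Module.Dual O (O ⊗[C] F)))) := by
      have hskP : RelCanon.RelSk f₁ 2 P' := H V (algebraMap A V) Y' p hp ω' hω'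
      obtain ⟨-, hωcoh', hpow'⟩ := refPowZ_restrict_gor d hS' hd' ω' hω' U' hU'
      have h1 := two_le_idealDepth_fibreStalkMod f₁ hP'coh U' (hpow' m).2.2 hG' z (hskP z).2
      haveI := hP'coh.1
      haveI : Module.Finite O (P'.presheaf.stalk z) := PullbackMod.finite_stalk_of_isFT hP'coh.2 z
      have h2 := le_idealDepth_of_le hle 2 h1
      refine h2.trans_eq (CAlgBasics.idealDepth_congr ?_)
      exact (Submodule.Quotient.equiv _ _ e5 (by rw [Submodule.map_smul'', Submodule.map_top, LinearEquiv.range, hfib])).symm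
    -- back to the tensor product with the valuation ring
    let ec : FlatValLib.MV A C V G0 ≃+ (C ⊗[A] V) ⊗[C] G0 :=
      ((TensorProduct.AlgebraTensorModule.cancelBaseChange A C C G0 V).symm.toAddEquiv).trans
        (TensorProduct.comm C G0 (C ⊗[A] V)).toAddEquiv
    have hec : ∀ (g₀ : G0) (a : V), ec (FlatValLib.MV.mk A C g₀ a) = ((1 : C) ⊗ₜ[A] a : C ⊗[A] V) ⊗ₜ[C] g₀ :=
      fun g₀ a => by simp [ec, FlatValLib.MV.mk]
    have hlin : ∀ (c : C ⊗[A] V) (w : FlatValLib.MV A C V G0), ec (c • w) = c • ec w := by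
      intro c w
      induction w using FlatValLib.MV.induction with
      | zero => rw [smul_zero, map_zero, smul_zero]
      | add x y hx hy => rw [smul_add, map_add, map_add, smul_add, hx, hy]
      | mk g₀ a =>
        induction c using TensorProduct.induction_on with
        | zero => rw [zero_smul, map_zero, zero_smul]
        | add x y hx hy => rw [add_smul, map_add, add_smul, hx, hy]
        | tmul c b =>
          rw [FlatValLib.smul_mk, hec, hec, TensorProduct.smul_tmul', TensorProduct.tmul_smul, TensorProduct.smul_tmul']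
          congr 1
          show c • ((1 : C) ⊗ₜ[A] (b * a)) = (c ⊗ₜ[A] b : C ⊗[A] V) * ((1 : C) ⊗ₜ[A] a)
          rw [TensorProduct.smul_tmul', Algebra.TensorProduct.tmul_mul_tmul, smul_eq_mul]
    obtain ⟨t, ht, hty⟩ := exists_torsion_kill (O := O) Q J F g h hg hgh hreg hGU hO0 hDD π hπ.ne_zero (ec w) (by
      rw [← hlin]
      show ec (((1 : C) ⊗ₜ[A] π) • w) = 0
      rw [hw, map_zero])
    exact ⟨t, ht, ec.injective ((hlin t w).trans (hty.trans (map_zero ec).symm))⟩
  have hGflat : Module.Flat A (LocalizedModule n.primeCompl G0) := FlatValLib.flatAt_of_valFlatAt G0 n hval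
  -- at the stalk
  let B := Y.presheaf.stalk y
  let R := (Spec (CommRingCat.of A)).presheaf.stalk (f₀ y)
  let γ : C →+* B := (Y.presheaf.germ W y hyW).hom
  have hγA : (f₀.stalkMap y).hom.comp (algebraMap A R) = γ.comp (algebraMap A C) :=
    stalkHom_natural f₀ (algebraMap A C) hw0 _ (fromSpec_toStalk A _) γ (fromSpec_germ hW hyW)
  letI : Algebra C B := γ.toAlgebra
  haveI : IsLocalization.AtPrime B n := hW.isLocalization_stalk ⟨y, hyW⟩
  letI : Algebra A B := (γ.comp (algebraMap A C)).toAlgebra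
  haveI : IsScalarTower A C B := .of_algebraMap_eq fun _ => rfl
  letI : Algebra R B := (f₀.stalkMap y).hom.toAlgebra
  haveI : IsScalarTower A R B := .of_algebraMap_eq fun a => (RingHom.congr_fun hγA a).symm
  haveI : IsLocalization.AtPrime R (f₀ y).asIdeal := StructureSheaf.IsLocalization.to_stalk A (f₀ y)
  haveI : SMulCommClass C R B := ⟨fun c r b => by simp only [Algebra.smul_def]; ring⟩
  haveI : Module.Flat R B := Flat.stalkMap f₀ y
  haveI : IsLocalHom (algebraMap R B) := inferInstanceAs (IsLocalHom (f₀.stalkMap y).hom)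
  let JB := J.map (algebraMap C B)
  let gB := g.baseChange B
  let hB := h.baseChange B
  let vB := v.baseChange B
  haveI : Module.Flat C B := IsLocalization.flat B n.primeCompl
  have hgB : Function.Injective gB := Module.Flat.lTensor_preserves_injective_linearMap g hg
  have hghB : Function.Exact gB hB := Module.Flat.lTensor_exact B hgh
  have hhvB : Function.Exact hB vB := Module.Flat.lTensor_exact B hhv
  have hvB : Function.Surjective vB := LinearMap.lTensor_surjective B hv
  have hle : ∀ P : PrimeSpectrum B, idealOff U y ≤ P.asIdeal ↔ JB ≤ P.asIdeal := fun P =>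
    (map_sectionsIdealOff_le_iff hW U (𝟙 Y) y γ (by rw [fromSpec_germ hW hyW, Category.comp_id]) P).symm
  have hGUB : ∀ q : PrimeSpectrum B, ¬ JB ≤ q.asIdeal → FlatCA.FlatAt R q.asIdeal (B ⊗[C] G0) := fun q hq => by
    have hfree : q ∈ Module.freeLocus B (B ⊗[C] G0) :=
      Module.comap_freeLocus_le (R := C) (M := G0) (A := B)
        (show q ∈ PrimeSpectrum.comap (algebraMap C B) ⁻¹' Module.freeLocus C G0 from
          hGU (PrimeSpectrum.comap (algebraMap C B) q) fun h => hq (Ideal.map_le_iff_le_comap.mpr h))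
    exact FibDepthLib.flatAt_of_flatAt_self q (FibDepthLib.flatAt_self_of_free q hfree)
  haveI : Module.Flat R (B ⊗[C] (Fin nn → C)) := Module.Flat.trans R B _
  haveI : Module.Flat R (B ⊗[C] (Fin mm → C)) := Module.Flat.trans R B _
  have hB0 : 2 ≤ LocCoh.idealDepth JB (EGA4.FibMod R B B) :=
    le_idealDepth_of_le (fun P hP => (hle P).2 hP) 2 (two_le_idealDepth_fibMod_self hS U hG y)
  have hfree : ∀ l : ℕ, 2 ≤ LocCoh.idealDepth JB (EGA4.FibMod R B (B ⊗[C] (Fin l → C))) := by
    intro l
    let K := EGA4.mB R B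
    let e0 : B ⊗[C] (Fin l → C) ≃ₗ[B] (Fin l → B) := TensorProduct.piScalarRight C B B (Fin l)
    let e : ((B ⊗[C] (Fin l → C)) ⧸ (K • ⊤ : Submodule B (B ⊗[C] (Fin l → C)))) ≃ₗ[B] (Fin l → B ⧸ K) :=
      ((Submodule.Quotient.equiv _ (K • ⊤ : Submodule B (Fin l → B)) e0 (by
        rw [Submodule.map_smul'', Submodule.map_top, LinearEquiv.range])).trans
        (TensorProduct.quotTensorEquivQuotSMul (Fin l → B) K).symm).trans
        ((TensorProduct.piScalarRight B B (B ⧸ K) (Fin l)).restrictScalars B)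
    rw [CAlgBasics.idealDepth_congr e, ← idealDepth_map_of_surjective (R := B ⧸ K) Ideal.Quotient.mk_surjective]
    refine FibDepthLib.le_idealDepth_of_flat (R := B ⧸ K) 2 ?_
    rw [idealDepth_map_of_surjective (R := B ⧸ K) Ideal.Quotient.mk_surjective,
      ← CAlgBasics.idealDepth_congr (Submodule.quotEquivOfEq _ _ (show (K • ⊤ : Submodule B B) = K by
        rw [smul_eq_mul, Ideal.mul_top]))]
    exact hB0
  have hGBflat : Module.Flat R (B ⊗[C] G0) := by
    haveI : IsLocalizedModule n.primeCompl (TensorProduct.mk C B G0 1) :=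
      (isLocalizedModule_iff_isBaseChange n.primeCompl B _).2 (TensorProduct.isBaseChange C G0 B)
    let e := IsLocalizedModule.linearEquiv n.primeCompl (LocalizedModule.mkLinearMap n.primeCompl G0)
      (TensorProduct.mk C B G0 1)
    haveI := hGflat
    haveI : Module.Flat A (B ⊗[C] G0) := Module.Flat.of_linearEquiv (e.restrictScalars A).symm
    exact (Module.flat_iff_of_isLocalization R (f₀ y).asIdeal.primeCompl (B ⊗[C] G0)).2 ‹_›
  have h8 := S18708.result R B JB (B ⊗[C] F) (B ⊗[C] (Fin nn → C)) (B ⊗[C] (Fin mm → C)) (B ⊗[C] G0) gB hB vB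
    hgB hghB hhvB hvB hGUB (hfree nn) (le_trans one_le_two (hfree mm))
  letI : Module C (G.presheaf.stalk y) := Module.compHom _ γ
  haveI : IsScalarTower C B (G.presheaf.stalk y) := .of_algebraMap_smul fun _ _ => rfl
  haveI := FlatLocus.isLocalizedModule_germL G hW y hyW
  let EG : B ⊗[C] F ≃ₗ[B] G.presheaf.stalk y :=
    (IsLocalizedModule.isBaseChange n.primeCompl B (FlatLocus.germL G W y hyW)).equiv
  refine relSkAt_of_flat_depth hS U hGcoh hGinv y ?_ ?_
  · letI : Module R (G.presheaf.stalk y) := FlatMod.moduleStalkOver f₀ G y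
    haveI : IsScalarTower R B (G.presheaf.stalk y) := .of_algebraMap_smul fun _ _ => rfl
    haveI : Module.Flat R (B ⊗[C] F) := h8.2.2 hGBflat
    exact Module.Flat.of_linearEquiv (EG.restrictScalars R).symm
  · haveI : Module.Finite B (G.presheaf.stalk y) := PullbackMod.finite_stalk_of_isFT hGcoh.2 y
    refine le_idealDepth_of_le (fun P hP => (hle P).1 hP) 2 ?_
    exact (h8.1.2 hGBflat).trans_eq (CAlgBasics.idealDepth_congr
      (Submodule.Quotient.equiv _ (EGA4.mB R B • ⊤ : Submodule B (G.presheaf.stalk y)) EG (by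
        rw [Submodule.map_smul'', Submodule.map_top, LinearEquiv.range])))

end Groth.Agent.FibreDualLib
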