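import Groth.Agent.FibreDualLib.CMCritMain
import Groth.Agent.FibreDualLib.BCInv
import Groth.Agent.FibreDualLib.ValScheme

/-!
# Comparison of the reflexive powers of a virtual and of the actual relative canonical sheaf
-/

set_option autoImplicit false
set_option linter.style.haveILetI false
set_option linter.unusedSectionVars false
set_option backward.isDefEq.respectTransparency false
set_option backward.isDefEq.respectTransparency.types false
set_option maxHeartbeats 1600000

universe u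

open CategoryTheory CategoryTheory.Limits AlgebraicGeometry IsLocalRing TopologicalSpace
open Groth.Agent.PullbackMod Groth.Agent.ModTensor Groth.Agent.DCohLib
open scoped TensorProduct

noncomputable section

namespace Groth.Agent.FibreDualLib

/-- Reflexive powers of isomorphic coherent modules. -/
theorem nonempty_refPowZ_congr_coh {X : Scheme.{u}} [IsLocallyNoetherian X] {G G' : X.Modules} (hG : Coh.IsCoh G)
    (hG' : Coh.IsCoh G') (e : G ≅ G') (m : ℤ) : Nonempty (RelCanon.refPowZ G m ≅ RelCanon.refPowZ G' m) := by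
  have key : ∀ {H H' : X.Modules}, Coh.IsCoh H → Coh.IsCoh H' → (H ≅ H') → ∀ n : ℕ,
      Nonempty (RefHull.ddual (CohB1.tensorPow H n) ≅ RefHull.ddual (CohB1.tensorPow H' n)) := by
    intro H H' hH hH' i n
    haveI := (isCoh_tensorPow hH n).1
    haveI := (isCoh_tensorPow hH' n).1
    haveI := (RefOne.isCoh_dual (isCoh_tensorPow hH n)).1
    haveI := (RefOne.isCoh_dual (isCoh_tensorPow hH' n)).1
    obtain ⟨a⟩ := nonempty_dual_congr (AmpleLib.powCongr i n)
    exact nonempty_dual_congr a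
  cases m with
  | ofNat n => exact key hG hG' e n
  | negSucc n =>
    haveI := hG.1
    haveI := hG'.1
    obtain ⟨a⟩ := nonempty_dual_congr e
    exact key (RefOne.isCoh_dual hG) (RefOne.isCoh_dual hG') a (n + 1)

/-- Relative `(S_k)` depends only on the stalk. -/
theorem relSkAt_of_stalk_equiv {T Y : Scheme.{u}} (f : Y ⟶ T) (k : ℕ) {P P' : Y.Modules} (hP : Coh.IsQCoh P)
    (hP' : Coh.IsQCoh P') (y : Y) (σ : P.presheaf.stalk y ≃ₗ[Y.presheaf.stalk y] P'.presheaf.stalk y)
    (h : RelCanon.RelSkAt f k P y) : RelCanon.RelSkAt f k P' y := by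
  refine ⟨?_, ?_⟩
  · letI : Algebra (T.presheaf.stalk (f y)) (Y.presheaf.stalk y) := (f.stalkMap y).hom.toAlgebra
    letI := FlatMod.moduleStalkOver f P y
    letI := FlatMod.moduleStalkOver f P' y
    haveI : IsScalarTower (T.presheaf.stalk (f y)) (Y.presheaf.stalk y) (P.presheaf.stalk y) :=
      .of_algebraMap_smul fun _ _ => rfl
    haveI : IsScalarTower (T.presheaf.stalk (f y)) (Y.presheaf.stalk y) (P'.presheaf.stalk y) :=
      .of_algebraMap_smul fun _ _ => rfl
    haveI : Module.Flat (T.presheaf.stalk (f y)) (P.presheaf.stalk y) := h.1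
    exact Module.Flat.of_linearEquiv (σ.restrictScalars (T.presheaf.stalk (f y))).symm
  · have key : ∀ (t : T) (z : f.fiber t) (y' : Y), f.fiberι t z = y' →
        (P.presheaf.stalk y' ≃ₗ[Y.presheaf.stalk y'] P'.presheaf.stalk y') →
        RelCanon.SkAt k ((Scheme.Modules.pullback (f.fiberι t)).obj P) z →
        RelCanon.SkAt k ((Scheme.Modules.pullback (f.fiberι t)).obj P') z := by
      rintro t z _ rfl σ' hz
      haveI := hP
      haveI := hP'
      let ι₀ := f.fiberι t
      let B := Y.presheaf.stalk (ι₀ z)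
      let S := (f.fiber t).presheaf.stalk z
      letI : Algebra B S := (ι₀.stalkMap z).hom.toAlgebra
      let N := ((Scheme.Modules.pullback ι₀).obj P).presheaf.stalk z
      let N' := ((Scheme.Modules.pullback ι₀).obj P').presheaf.stalk z
      letI : Module B N := Module.compHom _ (ι₀.stalkMap z).hom
      haveI : IsScalarTower B S N := .of_algebraMap_smul fun _ _ => rfl
      letI : Module B N' := Module.compHom _ (ι₀.stalkMap z).hom
      haveI : IsScalarTower B S N' := .of_algebraMap_smul fun _ _ => rfl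
      have h1 : IsBaseChange S (PullbackMod.pullStalkL ι₀ P z) := PullbackMod.isBaseChange_pullStalkL ι₀ P z
      have h2 : IsBaseChange S (PullbackMod.pullStalkL ι₀ P' z) := PullbackMod.isBaseChange_pullStalkL ι₀ P' z
      exact (QGorNhdLib.hasSk_congr_module
        (h1.equiv.symm ≪≫ₗ TensorProduct.AlgebraTensorModule.congr (LinearEquiv.refl S S) σ' ≪≫ₗ h2.equiv) k).1 hz
    exact key _ _ y (f.fiberι_asFiber y) σ h.2

variable {A : Type u} [CommRing A] [IsNoetherianRing A] {Y : Scheme.{u}} [Y.Over (Spec (CommRingCat.of A))]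
  [IsProper (Y ↘ Spec (CommRingCat.of A))]

local notation3 "S₀" => Spec (CommRingCat.of A)

/-- The power of a virtual canonical sheaf is invertible along the fibre where that of the canonical sheaf is. -/
theorem invertibleAt_refPow_virtual (d : ℕ) (hS : RelCanon.IsSkMor (Y ↘ S₀) 2) (hd : Cyc.HasRelDim (Y ↘ S₀) d)
    (ω : Y.Modules) (hω : RelCanon.IsDualizingSheaf A Y d ω)
    (hG : ∀ y : Y, y ∉ RelCanon.gorLocus (Y ↘ S₀) →
      (2 : WithBot ℕ∞) ≤ ringKrullDim (((Y ↘ S₀).fiber ((Y ↘ S₀) y)).presheaf.stalk ((Y ↘ S₀).asFiber y)))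
    (t : (Spec (CommRingCat.of A))) (L : Y.Modules) (hL : Coh.IsCoh L) (hLf : FlatMod.IsFlatOver (Y ↘ S₀) L)
    (h2 : RelCanon.IsDualizingSheafFib (Y ↘ S₀) d L t) (r : ℕ) (w : (Y ↘ S₀).fiber t)
    (hLr : RelCanon.RelSkAt (Y ↘ S₀) 2 (RelCanon.refPowZ L r) ((Y ↘ S₀).fiberι t w))
    (hωr : RelCanon.InvertibleAt (RelCanon.refPowZ ω r) ((Y ↘ S₀).fiberι t w)) :
    RelCanon.InvertibleAt (RelCanon.refPowZ L r) ((Y ↘ S₀).fiberι t w) := by
  let f := Y ↘ S₀
  haveI : IsNoetherianRing (CommRingCat.of A) := inferInstanceAs (IsNoetherianRing A)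
  haveI : IsLocallyNoetherian Y := LocallyOfFiniteType.isLocallyNoetherian f
  haveI := hS.1
  let κ := (Spec (CommRingCat.of A)).residueField t
  let Yt := f.fiber t
  letI : Yt.Over (Spec (CommRingCat.of κ)) := ⟨f.fiberToSpecResidueField t⟩
  haveI : IsNoetherianRing (CommRingCat.of κ) := inferInstanceAs (IsNoetherianRing κ)
  obtain ⟨φ, hp⟩ := exists_fibre_hom f t
  haveI : IsProper (Yt ↘ Spec (CommRingCat.of κ)) := MorphismProperty.of_isPullback (P := @IsProper) hp ‹_›
  haveI : IsLocallyNoetherian Yt := LocallyOfFiniteType.isLocallyNoetherian (Yt ↘ Spec (CommRingCat.of κ))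
  obtain ⟨hS', hd'⟩ := isSkMor_baseChange hp 2 d hS hd
  let ι₀ := f.fiberι t
  let K₀ := (Scheme.Modules.pullback ι₀).obj L
  let G0 : Y.Opens := ⟨_, isOpen_gorLocus (A := A) (Y := Y)⟩
  let UL : Y.Opens := ⟨{v | RelCanon.InvertibleAt L v}, isOpen_iff_forall_mem_open.2 fun v hv => by
    obtain ⟨W, hvW, hW⟩ := hv
    exact ⟨W, fun z hz => ⟨W, hz, hW⟩, W.2, hvW⟩⟩
  let Gt := ι₀ ⁻¹ᵁ G0
  obtain ⟨hinvt, hKcoh, -⟩ := refPowZ_restrict_gor (A := κ) (Y := Yt) d hS' hd' K₀ h2 Gt
    (fun v hv => preimage_gor_subset hp rfl hv)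
  let U := G0 ⊓ UL
  let Ut := ι₀ ⁻¹ᵁ U
  have hdimt : ∀ v : Yt, v ∉ Ut → (2 : WithBot ℕ∞) ≤ ringKrullDim (Yt.presheaf.stalk v) := by
    intro v hv
    by_cases hvG : v ∈ Gt
    · exact absurd (show v ∈ Ut from ⟨hvG, invertibleAt_of_fibre f hL t v (hLf _)
        (invertibleAt_of_restrict Gt hinvt hvG)⟩) hv
    · have h := forall_fiber f (P := fun s z => f.fiberι s z ∉ RelCanon.gorLocus f →
        (2 : WithBot ℕ∞) ≤ ringKrullDim ((f.fiber s).presheaf.stalk z)) (fun x hxo => by
          rw [f.fiberι_asFiber] at hxo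
          exact hG x hxo) t v
      exact h hvG
  obtain ⟨hωinv, hω', -⟩ := refPowZ_restrict_gor d hS hd ω hω U (fun v hv => hv.1)
  have hLinv : PicF.IsInvertible (L.restrict U.ι) := isInvertible_restrict_of_forall U fun v hv => hv.2
  obtain ⟨aL⟩ := nonempty_refPow_restrict U hL hLinv r
  obtain ⟨aω⟩ := nonempty_refPow_restrict U hω' hωinv r
  obtain ⟨i⟩ := nonempty_restrict_pullback_iso d hS hd ω hω φ ι₀ hp K₀ h2 U (fun v hv => hv.1)
  let PL := (Scheme.Modules.pullback ι₀).obj (RelCanon.refPowZ L r)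
  let Pω := (Scheme.Modules.pullback ι₀).obj (RelCanon.refPowZ ω r)
  have hLr' : Coh.IsCoh (RelCanon.refPowZ L r) := RefOne.isCoh_dual (RefOne.isCoh_dual (isCoh_tensorPow hL r))
  have hωr' : Coh.IsCoh (RelCanon.refPowZ ω r) := RefOne.isCoh_dual (RefOne.isCoh_dual (isCoh_tensorPow hω' r))
  have hPL : Coh.IsCoh PL := PullbackMod.isCoh_pullback ι₀ _ hLr'
  have hPω : Coh.IsCoh Pω := PullbackMod.isCoh_pullback ι₀ _ hωr'
  let j : (Scheme.Modules.pullback (ι₀ ∣_ U)).obj (ω.restrict U.ι) ≅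
      (Scheme.Modules.pullback (ι₀ ∣_ U)).obj (L.restrict U.ι) :=
    (pullbackRestrict ι₀ U ω).symm ≪≫ i ≪≫ pullbackRestrict ι₀ U L
  let e : PL.restrict Ut.ι ≅ Pω.restrict Ut.ι :=
    pullbackRestrict ι₀ U _ ≪≫ (Scheme.Modules.pullback (ι₀ ∣_ U)).mapIso aL ≪≫ AmpleLib.pullPow _ _ r ≪≫
      AmpleLib.powCongr j.symm r ≪≫ (AmpleLib.pullPow _ _ r).symm ≪≫
      (Scheme.Modules.pullback (ι₀ ∣_ U)).mapIso aω.symm ≪≫ (pullbackRestrict ι₀ U _).symm
  have hLinv' : ∀ v : Yt, v ∈ Ut → RelCanon.InvertibleAt PL v := fun v hv => by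
    refine invertibleAt_pullback ι₀ (invertibleAt_of_restrict U (ParaFLib.isInvertible_of_iso aL.symm
      (AmpleLib.isInvertible_tensorPow hLinv r)) hv)
  have hO : ∀ v : Yt, RelCanon.SkAt 2 (Coh.structureModule Yt) v :=
    forall_fiber f (P := fun s z => RelCanon.SkAt 2 (Coh.structureModule (f.fiber s)) z) hS.2.2 t
  have hskL : RelCanon.SkAt 2 PL w := by
    have key : ∀ (s : (Spec (CommRingCat.of A))) (z : f.fiber s) (y' : Y), f.fiberι s z = y' →
        RelCanon.RelSkAt f 2 (RelCanon.refPowZ L r) y' →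
        RelCanon.SkAt 2 ((Scheme.Modules.pullback (f.fiberι s)).obj (RelCanon.refPowZ L r)) z := by
      refine fun s z y' hz hy' => ?_
      subst hz
      exact forall_fiber f (P := fun s z => RelCanon.RelSkAt f 2 (RelCanon.refPowZ L r) (f.fiberι s z) →
        RelCanon.SkAt 2 ((Scheme.Modules.pullback (f.fiberι s)).obj (RelCanon.refPowZ L r)) z)
        (fun x hx => by
          have k2 : ∀ y'' : Y, y'' = x → RelCanon.RelSkAt f 2 (RelCanon.refPowZ L r) y'' →
              RelCanon.RelSkAt f 2 (RelCanon.refPowZ L r) x := by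
            rintro y'' rfl h; exact h
          exact (k2 _ (f.fiberι_asFiber x) hx).2) s z hy'
    exact key t w _ rfl hLr
  have hdL : 2 ≤ LocCoh.idealDepth (idealOff Ut w) (PL.presheaf.stalk w) :=
    two_le_idealDepth_of_skAt_near hPL Ut w hskL
      (fun v _ hv => by
        obtain ⟨l⟩ := exists_stalk_equiv_of_invertibleAt (hLinv' v hv)
        exact l.toEquiv.symm.nontrivial)
      (fun v _ hv => hdimt v hv)
  obtain ⟨lω⟩ := exists_stalk_equiv_of_invertibleAt (invertibleAt_pullback ι₀ hωr)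
  have hdω : 2 ≤ LocCoh.idealDepth (idealOff Ut w) (Pω.presheaf.stalk w) :=
    ((two_le_idealDepth_of_skAt_near (DevLib.isCoh_structureModule Yt) Ut w (hO w)
      (fun v _ _ => (RefOne.oEquiv v).toEquiv.symm.nontrivial)
      (fun v _ hv => hdimt v hv)).trans_eq (CAlgBasics.idealDepth_congr (RefOne.oEquiv w).symm)).trans_eq
      (CAlgBasics.idealDepth_congr lω)
  obtain ⟨s⟩ := stalk_iso_of_restrict Ut hPL hPω e w hdL hdω
  exact invertibleAt_of_fibre f hLr' t w hLr.1 (invertibleAt_of_stalk_equiv hPL (lω ≪≫ₗ s.symm))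

end Groth.Agent.FibreDualLib
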