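import Groth.Agent.FibreDualLib.IndexDvd
import Groth.Agent.FibreDualLib.BCSk
import Groth.Agent.FibreDualLib.QGorAlong
import Groth.Agent.FibreDepth.IsoModel

/-!
# Periodicity of the reflexive powers and the ℚ-Gorenstein condition at a point
-/

set_option autoImplicit false
set_option linter.style.haveILetI false
set_option linter.unusedSectionVars false
set_option backward.isDefEq.respectTransparency false
set_option backward.isDefEq.respectTransparency.types false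
set_option maxHeartbeats 1600000

universe u

open CategoryTheory CategoryTheory.Limits AlgebraicGeometry TopologicalSpace

noncomputable section

namespace Groth.Agent.FibreDualLib

/-- The relative `(S_k)` locus of a coherent module is open. -/
theorem isOpen_relSkAt {X T : Scheme.{u}} (f : X ⟶ T) [LocallyOfFinitePresentation f] [IsLocallyNoetherian X]
    {F : X.Modules} (hF : Coh.IsCoh F) (k : ℕ) : IsOpen {x : X | RelCanon.RelSkAt f k F x} := by
  haveI := hF.1
  have hFP := QCohLib.isFP_of_isCoh F hF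
  exact FibreDepth.isOpen_hasSk (fun x => FibreDepth.exists_isoModel f F hFP x)
    (FibreDepth.isOpen_flatAt f F hFP) k

section Pow

variable {X : Scheme.{u}}

/-- Powers of a module with trivial `r`-th power are periodic. -/
theorem nonempty_pow_mod {L : X.Modules} {r : ℕ} (e : CohB1.tensorPow L r ≅ Coh.structureModule X) (a : ℕ) :
    Nonempty (CohB1.tensorPow L a ≅ CohB1.tensorPow L (a % r)) := by
  have key : ∀ q s : ℕ, Nonempty (CohB1.tensorPow L (s + r * q) ≅ CohB1.tensorPow L s) := by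
    intro q s
    induction q with
    | zero => exact ⟨eqToIso (by rw [Nat.mul_zero, Nat.add_zero])⟩
    | succ q ih =>
      obtain ⟨i⟩ := ih
      exact ⟨eqToIso (by rw [Nat.mul_succ, ← Nat.add_assoc]) ≪≫ AmpleLib.powAdd L (s + r * q) r ≪≫
        AmpleLib.tIso (Iso.refl _) e ≪≫ AmpleLib.unitR _ ≪≫ i⟩
  obtain ⟨i⟩ := key (a / r) (a % r)
  exact ⟨eqToIso (by rw [Nat.mod_add_div]) ≪≫ i⟩

/-- The dual of a module with trivial `r`-th power is the `(r - 1)`-st power. -/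
theorem nonempty_dual_pow {L : X.Modules} (hL : PicF.IsInvertible L) {r : ℕ} (hr : 0 < r)
    (e : CohB1.tensorPow L r ≅ Coh.structureModule X) : Nonempty (RefHull.dual L ≅ CohB1.tensorPow L (r - 1)) := by
  let θ : CohB1.tensorMod L (CohB1.tensorPow L (r - 1)) ≅ Coh.structureModule X :=
    AmpleLib.comm _ _ ≪≫ (eqToIso (by rw [Nat.sub_add_cancel hr]) : CohB1.tensorPow L (r - 1 + 1) ≅ CohB1.tensorPow L r) ≪≫ e
  obtain ⟨a⟩ := DualInvLib.nonempty_iso_dual hL θ
  exact ⟨a.symm⟩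

end Pow

variable {Z : Scheme.{u}} [IsLocallyNoetherian Z]

/-- Where the `r`-th reflexive power is invertible, every reflexive power has the stalk of one of the first `r`. -/
theorem exists_stalk_equiv_refPow_mod (U : Z.Opens) {ω : Z.Modules} (hω : Coh.IsCoh ω)
    (hinv : PicF.IsInvertible (ω.restrict U.ι)) (z : Z)
    (hB2 : 2 ≤ LocCoh.idealDepth (idealOff U z) (Z.presheaf.stalk z)) (r : ℕ) (hr : 0 < r)
    (h : RelCanon.InvertibleAt (RelCanon.refPowZ ω r) z) (m : ℤ) :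
    ∃ s : ℕ, s < r ∧ Nonempty ((RelCanon.refPowZ ω (s : ℤ)).presheaf.stalk z ≃ₗ[Z.presheaf.stalk z]
      (RelCanon.refPowZ ω m).presheaf.stalk z) := by
  obtain ⟨W, hzW, ⟨iW⟩⟩ := h
  let U' := U ⊓ W
  have hinv' : PicF.IsInvertible (ω.restrict U'.ι) :=
    isInvertible_restrict_of_forall U' fun v hv => invertibleAt_of_restrict U hinv hv.1
  haveI : IsLocallyNoetherian (U' : Scheme.{u}) := isLocallyNoetherian_of_isOpenImmersion U'.ι
  let L := ω.restrict U'.ι
  obtain ⟨ar⟩ := nonempty_refPow_restrict U' hω hinv' r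
  let e : CohB1.tensorPow L r ≅ Coh.structureModule (U' : Scheme.{u}) := ar.symm ≪≫ trivialOfLE inf_le_right iW
  have main : ∃ s : ℕ, s < r ∧ Nonempty ((RelCanon.refPowZ ω (s : ℤ)).restrict U'.ι ≅ (RelCanon.refPowZ ω m).restrict U'.ι) := by
    cases m with
    | ofNat n =>
      obtain ⟨an⟩ := nonempty_refPow_restrict U' hω hinv' n
      obtain ⟨as⟩ := nonempty_refPow_restrict U' hω hinv' (n % r)
      obtain ⟨i⟩ := nonempty_pow_mod e n
      exact ⟨n % r, Nat.mod_lt _ hr, ⟨as ≪≫ i.symm ≪≫ an.symm⟩⟩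
    | negSucc n =>
      haveI := hω.1
      have hD := RefOne.isCoh_dual hω
      obtain ⟨dr⟩ := nonempty_dual_restrict U' ω
      obtain ⟨dl⟩ := nonempty_dual_pow hinv' hr e
      have hDinv : PicF.IsInvertible ((RefHull.dual ω).restrict U'.ι) :=
        ParaFLib.isInvertible_of_iso (dr ≪≫ dl).symm (AmpleLib.isInvertible_tensorPow hinv' (r - 1))
      obtain ⟨an⟩ := nonempty_refPow_restrict U' hD hDinv (n + 1)
      let j := AmpleLib.powCongr (dr ≪≫ dl) (n + 1) ≪≫ AmpleLib.powMul L (r - 1) (n + 1)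
      obtain ⟨i⟩ := nonempty_pow_mod e ((r - 1) * (n + 1))
      obtain ⟨as⟩ := nonempty_refPow_restrict U' hω hinv' ((r - 1) * (n + 1) % r)
      exact ⟨(r - 1) * (n + 1) % r, Nat.mod_lt _ hr, ⟨as ≪≫ i.symm ≪≫ j.symm ≪≫ an.symm⟩⟩
  obtain ⟨s, hs, ⟨i⟩⟩ := main
  refine ⟨s, hs, ?_⟩
  have hB2' : 2 ≤ LocCoh.idealDepth (idealOff U' z) (Z.presheaf.stalk z) := by
    rw [idealOff_inf U (V := W) hzW]; exact hB2
  obtain ⟨T, hT, hTs⟩ := exists_eq_ddual hω (s : ℤ)
  obtain ⟨T', hT', hTm⟩ := exists_eq_ddual hω m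
  rw [hTs, hTm] at i ⊢
  exact stalk_iso_of_restrict U' (RefOne.isCoh_dual (RefOne.isCoh_dual hT)) (RefOne.isCoh_dual (RefOne.isCoh_dual hT')) i z
    (two_le_idealDepth_ddual U' hT z hB2') (two_le_idealDepth_ddual U' hT' z hB2')

variable {A : Type u} [CommRing A] [IsNoetherianRing A] {Y : Scheme.{u}} [Y.Over (Spec (CommRingCat.of A))]
  [IsProper (Y ↘ Spec (CommRingCat.of A))]

local notation3 "S₀" => Spec (CommRingCat.of A)

/-- The morphism is ℚ-Gorenstein at a point at which the first `r + 1` reflexive powers are relatively `(S₂)`, the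
`r`-th one being invertible on the fibre. -/
theorem isQGorMorWithAt_of_powers (d : ℕ) (hS : RelCanon.IsSkMor (Y ↘ S₀) 2) (hd : Cyc.HasRelDim (Y ↘ S₀) d)
    (ω : Y.Modules) (hω : RelCanon.IsDualizingSheaf A Y d ω) (U : Y.Opens)
    (hU : (U : Set Y) ⊆ RelCanon.gorLocus (Y ↘ S₀))
    (hG : ∀ y : Y, y ∉ U →
      (2 : WithBot ℕ∞) ≤ ringKrullDim (((Y ↘ S₀).fiber ((Y ↘ S₀) y)).presheaf.stalk ((Y ↘ S₀).asFiber y)))
    (y : Y) (r : ℕ) (hr : 0 < r)
    (ωy : ((Y ↘ S₀).fiber ((Y ↘ S₀) y)).Modules)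
    (hωy : @RelCanon.IsDualizingSheaf ((Spec (CommRingCat.of A)).residueField ((Y ↘ S₀) y)) _
      ((Y ↘ S₀).fiber ((Y ↘ S₀) y)) ⟨(Y ↘ S₀).fiberToSpecResidueField ((Y ↘ S₀) y)⟩ d ωy)
    (h0 : RelCanon.InvertibleAt (RelCanon.refPowZ ωy r) ((Y ↘ S₀).asFiber y))
    (hm : ∀ s : ℕ, s ≤ r → RelCanon.RelSkAt (Y ↘ S₀) 2 (RelCanon.refPowZ ω (s : ℤ)) y) :
    RelCanon.IsQGorMorWithAt (Y ↘ S₀) ω y := by
  let f := Y ↘ S₀
  haveI : IsNoetherianRing (CommRingCat.of A) := inferInstanceAs (IsNoetherianRing A)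
  haveI : IsLocallyNoetherian Y := LocallyOfFiniteType.isLocallyNoetherian f
  obtain ⟨hinv, hcoh, -⟩ := refPowZ_restrict_gor d hS hd ω hω U hU
  have hP : ∀ m : ℤ, Coh.IsCoh (RelCanon.refPowZ ω m) := fun m => by
    obtain ⟨T, hT, hTm⟩ := exists_eq_ddual hcoh m
    rw [hTm]; exact RefOne.isCoh_dual (RefOne.isCoh_dual hT)
  let W : ℕ → Y.Opens := fun s => ⟨_, isOpen_relSkAt f (hP (s : ℤ)) 2⟩
  let V0 : Y.Opens := (Finset.range (r + 1)).inf W
  have hV0 : ∀ z, z ∈ V0 → ∀ s ≤ r, RelCanon.RelSkAt f 2 (RelCanon.refPowZ ω (s : ℤ)) z := fun z hz s hs =>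
    (Finset.inf_le (Finset.mem_range.2 (Nat.lt_succ_of_le hs)) : V0 ≤ W s) hz
  have hy0 : y ∈ V0 := by
    have key : ∀ (t : Finset ℕ), (∀ s ∈ t, y ∈ W s) → y ∈ t.inf W := by
      intro t
      induction t using Finset.induction_on with
      | empty => intro _; rw [Finset.inf_empty]; trivial
      | insert a t _ ih =>
        intro h
        rw [Finset.inf_insert]
        exact ⟨h a (Finset.mem_insert_self _ _), ih fun s hs => h s (Finset.mem_insert_of_mem hs)⟩
    exact key _ fun s hs => hm s (Nat.le_of_lt_succ (Finset.mem_range.1 hs))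
  have hi : RelCanon.InvertibleAt (RelCanon.refPowZ ω r) y :=
    invertibleAt_refPowZ_of_fibre d hS hd ω hω U hU hG y ωy hωy r V0 hy0 (fun z hz => hV0 z hz r le_rfl) h0
  obtain ⟨Vi, hyi, hiso⟩ := hi
  refine ⟨V0 ⊓ Vi, ⟨hy0, hyi⟩, fun m z hz => ?_⟩
  obtain ⟨s, hs, ⟨σ⟩⟩ := exists_stalk_equiv_refPow_mod U hcoh hinv z
    (two_le_idealDepth_stalk_near hS U z fun v _ _ hv => hG v hv) r hr ⟨Vi, hz.2, hiso⟩ m
  exact relSkAt_of_stalk_equiv f 2 (hP _).1 (hP m).1 z σ (hV0 z hz.1 s hs.le)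

end Groth.Agent.FibreDualLib
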