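import Groth.Agent.FibreDualLib.Glue
import Groth.Agent.FibreDualLib.ArtinPrime
import Groth.Agent.QGorLib.Depth
import Mathlib.LinearAlgebra.TensorPower.Basic

/-!
# Tensor powers of modules which are locally free off a closed set
-/

set_option autoImplicit false
set_option linter.unusedSectionVars false
set_option linter.style.haveILetI false
set_option maxHeartbeats 1600000

universe u

open scoped TensorProduct

namespace Groth.Agent.FibreDualLib

variable {A : Type u} [CommRing A] (p : Ideal A) [p.IsPrime]

local notation "Aₚ" => Localization.AtPrime p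

theorem free_localized_congr {X Y : Type u} [AddCommGroup X] [Module A X] [AddCommGroup Y] [Module A Y]
    (e : X ≃ₗ[A] Y) (h : Module.Free Aₚ (LocalizedModule p.primeCompl X)) :
    Module.Free Aₚ (LocalizedModule p.primeCompl Y) := by
  have hX := IsLocalizedModule.isBaseChange p.primeCompl Aₚ (LocalizedModule.mkLinearMap p.primeCompl X)
  have hY := IsLocalizedModule.isBaseChange p.primeCompl Aₚ (LocalizedModule.mkLinearMap p.primeCompl Y)
  exact Module.Free.of_equiv (hX.equiv.symm.trans ((LinearEquiv.baseChange A Aₚ _ _ e).trans hY.equiv))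

theorem free_localized_tensor {X Y : Type u} [AddCommGroup X] [Module A X] [AddCommGroup Y] [Module A Y]
    (hX : Module.Free Aₚ (LocalizedModule p.primeCompl X)) (hY : Module.Free Aₚ (LocalizedModule p.primeCompl Y)) :
    Module.Free Aₚ (LocalizedModule p.primeCompl (X ⊗[A] Y)) := by
  have eX := (IsLocalizedModule.isBaseChange p.primeCompl Aₚ (LocalizedModule.mkLinearMap p.primeCompl X)).equiv
  have eY := (IsLocalizedModule.isBaseChange p.primeCompl Aₚ (LocalizedModule.mkLinearMap p.primeCompl Y)).equiv
  have eXY := (IsLocalizedModule.isBaseChange p.primeCompl Aₚ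
    (LocalizedModule.mkLinearMap p.primeCompl (X ⊗[A] Y))).equiv
  exact Module.Free.of_equiv (((TensorProduct.congr eX.symm eY.symm).trans
    (TensorProduct.AlgebraTensorModule.distribBaseChange A Aₚ X Y).symm).trans eXY)

theorem finite_tensorPower {L : Type u} [AddCommGroup L] [Module A L] [Module.Finite A L] :
    ∀ m : ℕ, Module.Finite A (TensorPower A m L)
  | 0 => Module.Finite.equiv (PiTensorProduct.isEmptyEquiv (R := A) (s := fun _ : Fin 0 => L) (Fin 0)).symm
  | m + 1 => by
    haveI := finite_tensorPower (L := L) m
    haveI : Module.Finite A (TensorPower A 1 L) :=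
      Module.Finite.equiv (PiTensorProduct.subsingletonEquiv (R := A) (s := fun _ : Fin 1 => L) (0 : Fin 1)).symm
    exact Module.Finite.equiv (TensorPower.mulEquiv (R := A) (M := L) (n := m) (m := 1))

theorem free_localized_tensorPower {L : Type u} [AddCommGroup L] [Module A L]
    (h : Module.Free Aₚ (LocalizedModule p.primeCompl L)) :
    ∀ m : ℕ, Module.Free Aₚ (LocalizedModule p.primeCompl (TensorPower A m L))
  | 0 => free_localized_congr p (PiTensorProduct.isEmptyEquiv (R := A) (s := fun _ : Fin 0 => L) (Fin 0)).symm
      (Module.Free.of_equiv (CAlgBasics.selfLocEquiv p.primeCompl).symm)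
  | m + 1 => free_localized_congr p (TensorPower.mulEquiv (R := A) (M := L) (n := m) (m := 1))
      (free_localized_tensor p (free_localized_tensorPower h m)
        (free_localized_congr p (PiTensorProduct.subsingletonEquiv (R := A) (s := fun _ : Fin 1 => L) (0 : Fin 1)).symm h))

variable [IsNoetherianRing A]

theorem free_localized_ddual {X : Type u} [AddCommGroup X] [Module A X] [Module.Finite A X]
    (h : Module.Free Aₚ (LocalizedModule p.primeCompl X)) :
    Module.Free Aₚ (LocalizedModule p.primeCompl (Module.Dual A (Module.Dual A X))) := by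
  haveI : Module.Finite Aₚ (LocalizedModule p.primeCompl X) :=
    Module.Finite.of_isLocalizedModule p.primeCompl (LocalizedModule.mkLinearMap p.primeCompl X)
  obtain ⟨g, hg⟩ := exists_isLocalizedModule_dualDual p.primeCompl Aₚ X (LocalizedModule p.primeCompl X)
    (LocalizedModule.mkLinearMap p.primeCompl X)
  exact Module.Free.of_equiv ((IsLocalizedModule.isBaseChange p.primeCompl Aₚ g).equiv.symm.trans
    (IsLocalizedModule.isBaseChange p.primeCompl Aₚ
      (LocalizedModule.mkLinearMap p.primeCompl (Module.Dual A (Module.Dual A X)))).equiv)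

/-- A free module over a Noetherian local ring is as deep as the ring. -/
theorem natCast_le_depth_of_free {R N : Type u} [CommRing R] [IsNoetherianRing R] [IsLocalRing R] [AddCommGroup N]
    [Module R N] [Module.Free R N] [Module.Finite R N] (k : ℕ) (h : (k : ℕ∞) ≤ LocCoh.depth R R) :
    (k : ℕ∞) ≤ LocCoh.depth R N := by
  let b := Module.Free.chooseBasis R N
  exact (le_idealDepth_pi (J := IsLocalRing.maximalIdeal R) (Module.Free.ChooseBasisIndex R N) k h).trans_eq
    (CAlgBasics.depth_congr b.equivFun.symm)

end Groth.Agent.FibreDualLib
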