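import Groth.Agent.FibreDualLib.S2End
import Groth.Agent.QGorLib.FlatDepth
import Groth.Agent.RefOne.Extend
import Groth.Agent.CurveLib.TensorDeg

/-!
# Duals extend across closed sets of codimension two in the fibres of an `(S₂)`-morphism
-/

set_option autoImplicit false
set_option linter.style.haveILetI false
set_option linter.unusedSectionVars false
set_option backward.isDefEq.respectTransparency false
set_option maxHeartbeats 1600000

universe u

open CategoryTheory CategoryTheory.Limits AlgebraicGeometry Module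

noncomputable section

namespace Groth.Agent.FibreDualLib

variable {X Y : Scheme.{u}}

/-- A local ring with `(S₂)` of dimension at least two has depth at least two. -/
theorem two_le_depth_of_hasSk (T : Type u) [CommRing T] [IsLocalRing T] [IsNoetherianRing T]
    (hS : LocCoh.HasSk 2 T T) (h2 : (2 : WithBot ℕ∞) ≤ ringKrullDim T) : (2 : ℕ∞) ≤ LocCoh.depth T T := by
  let e : T ≃ₐ[T] Localization.AtPrime (IsLocalRing.maximalIdeal T) :=
    IsLocalization.atUnits T (IsLocalRing.maximalIdeal T).primeCompl fun x hx => by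
      simpa [IsLocalRing.mem_maximalIdeal, IsUnit.mem_submonoid_iff] using hx
  haveI : IsNoetherianRing (Localization.AtPrime (IsLocalRing.maximalIdeal T)) :=
    isNoetherianRing_of_ringEquiv _ e.toRingEquiv
  have h := (SerreLib.hasSk_localRing_iff 2).1 hS (IsLocalRing.maximalIdeal T)
  rw [← ringKrullDim_eq_of_ringEquiv e.toRingEquiv, ShriekAlgLib.depth_of_ringEquiv e.toRingEquiv] at h
  exact WithBot.coe_le_coe.1 ((le_min le_rfl h2).trans h)

/-- Depth two off a set of fibre codimension two. -/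
theorem two_le_depth_stalk (f : X ⟶ Y) [IsLocallyNoetherian Y] (hS : RelCanon.IsSkMor f 2) (x : X)
    (h2 : (2 : WithBot ℕ∞) ≤ ringKrullDim ((f.fiber (f x)).presheaf.stalk (f.asFiber x))) :
    (2 : ℕ∞) ≤ LocCoh.depth (X.presheaf.stalk x) (X.presheaf.stalk x) := by
  haveI := hS.1
  haveI := hS.2.1
  haveI : IsLocallyNoetherian X := LocallyOfFiniteType.isLocallyNoetherian f
  let R := Y.presheaf.stalk (f x)
  let S := X.presheaf.stalk x
  letI : Algebra R S := (f.stalkMap x).hom.toAlgebra
  haveI : Module.Flat R S := Flat.stalkMap f x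
  haveI : IsLocalHom (algebraMap R S) := inferInstanceAs (IsLocalHom (f.stalkMap x).hom)
  let I : Ideal S := (IsLocalRing.maximalIdeal R).map (algebraMap R S)
  have key : ∀ x' : X, x' = x → (2 : WithBot ℕ∞) ≤ ringKrullDim (X.presheaf.stalk x' ⧸
        (Ideal.span (nonunits (Y.presheaf.stalk (f x')))).map (f.stalkMap x').hom) →
      (2 : WithBot ℕ∞) ≤ ringKrullDim (X.presheaf.stalk x ⧸
        (Ideal.span (nonunits (Y.presheaf.stalk (f x)))).map (f.stalkMap x).hom) := by
    rintro x' rfl h; exact h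
  let e := (Ideal.quotEquivOfEq (show (Ideal.span (nonunits _)).map (f.stalkMap (f.fiberι (f x) (f.asFiber x))).hom =
      RingHom.ker ((f.fiberι (f x)).stalkMap (f.asFiber x)).hom by
        rw [CMFlatLib.span_nonunits, FlatLocus.ker_fiberι_stalkMap])).trans
    (RingHom.quotientKerEquivOfSurjective (f := ((f.fiberι (f x)).stalkMap (f.asFiber x)).hom)
      (FlatLocus.fiberι_stalkMap_surjective f (f x) (f.asFiber x)))
  have hdim := key _ (f.fiberι_asFiber x) (h2.trans_eq (ringKrullDim_eq_of_ringEquiv e).symm)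
  obtain ⟨hN, hT⟩ := (sk_fibre_stalk_iff f 2 x).1 (hS.2.2 x)
  have hI : (Ideal.span (nonunits R)).map (f.stalkMap x).hom = I := by
    rw [CMFlatLib.span_nonunits]; rfl
  rw [hI] at hdim hN hT
  haveI := hN
  haveI : Nontrivial (S ⧸ I) := Ideal.Quotient.nontrivial_iff.2 fun h =>
    (IsLocalRing.maximalIdeal.isMaximal S).ne_top (top_le_iff.1 (h ▸ IsLocalRing.map_maximalIdeal_le (algebraMap R S)))
  haveI : IsLocalRing (S ⧸ I) := IsLocalRing.of_surjective' (Ideal.Quotient.mk I) Ideal.Quotient.mk_surjective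
  refine QGorLib.two_le_depth_of_fibre (R := R) (M := S) ?_
  let e0 : (S ⧸ (I • ⊤ : Submodule S S)) ≃ₗ[S] S ⧸ I :=
    Submodule.quotEquivOfEq _ _ (by rw [smul_eq_mul, Ideal.mul_top])
  rw [CAlgBasics.idealDepth_congr (LinearEquiv.extendScalarsOfSurjective (Ideal.Quotient.mk_surjective (I := I)) e0),
    show (IsLocalRing.maximalIdeal S).map (Ideal.Quotient.mk I) = IsLocalRing.maximalIdeal (S ⧸ I) from
      IsLocalRing.eq_maximalIdeal (Ideal.IsMaximal.map_of_surjective_of_ker_le Ideal.Quotient.mk_surjective (by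
        rw [Ideal.mk_ker]; exact IsLocalRing.map_maximalIdeal_le (algebraMap R S)))]
  exact two_le_depth_of_hasSk (S ⧸ I) hT hdim

variable [IsLocallyNoetherian X]

/-- A dual extends from an open set with complement of depth at least two. -/
theorem isIso_unit_dual (U : X.Opens) {G : X.Modules} (hG : Coh.IsCoh G)
    (hU : ∀ x : X, x ∉ U → (2 : ℕ∞) ≤ LocCoh.depth (X.presheaf.stalk x) (X.presheaf.stalk x)) :
    IsIso ((Scheme.Modules.restrictAdjunction U.ι).unit.app (RefHull.dual G)) := by
  have hF := RefOne.isCoh_dual hG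
  haveI := hF.1
  haveI : Coh.IsQCoh ((Scheme.Modules.restrictFunctor U.ι).obj (RefHull.dual G)) := inferInstance
  haveI : Coh.IsQCoh ((Scheme.Modules.pushforward U.ι).obj ((Scheme.Modules.restrictFunctor U.ι).obj (RefHull.dual G))) :=
    QCohLib.isQCoh_pushforward _ U.ι
  haveI : Coh.IsQCoh ((𝟭 X.Modules).obj (RefHull.dual G)) := hF.1
  haveI : Coh.IsQCoh ((Scheme.Modules.restrictFunctor U.ι ⋙ Scheme.Modules.pushforward U.ι).obj (RefHull.dual G)) := by
    assumption
  refine AssLib.isIso_of_depth _ hF fun x => ?_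
  by_cases hx : x ∈ U
  · exact Or.inl (S1575.unit_stalk_bijective U.ι (RefHull.dual G) (by rw [Scheme.Opens.opensRange_ι]; exact hx))
  · refine Or.inr ⟨?_, fun hass => hx ?_⟩
    · haveI := hG.1
      haveI := PullbackMod.finite_stalk_of_isFT hG.2 x
      show (2 : ℕ∞) ≤ LocCoh.depth (X.presheaf.stalk x) ((RefHull.dual G).presheaf.stalk x)
      rw [CAlgBasics.depth_congr (RefOne.dualStalk hG x)]
      exact CAlgBasics.two_le_depth_linearMap (M := G.presheaf.stalk x) (N := X.presheaf.stalk x) (hU x hx)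
    · obtain ⟨y, rfl, -⟩ := AssLib.exists_isWeakAssPoint_of_push U.ι ((Scheme.Modules.restrictFunctor U.ι).obj (RefHull.dual G))
        ((AssLib.isWeakAssPoint_iff_isAssPoint _ x).mpr hass)
      exact y.2

theorem isCoh_tensorPow {G : X.Modules} (hG : Coh.IsCoh G) : ∀ n, Coh.IsCoh (CohB1.tensorPow G n)
  | 0 => DevLib.isCoh_structureModule X
  | n + 1 => CurveLib.isCoh_tmod (isCoh_tensorPow hG n) hG

/-- Reflexive powers extend from an open set with complement of depth at least two. -/
theorem isIso_unit_refPowZ (U : X.Opens) {G : X.Modules} (hG : Coh.IsCoh G)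
    (hU : ∀ x : X, x ∉ U → (2 : ℕ∞) ≤ LocCoh.depth (X.presheaf.stalk x) (X.presheaf.stalk x)) :
    ∀ m : ℤ, IsIso ((Scheme.Modules.restrictAdjunction U.ι).unit.app (RelCanon.refPowZ G m))
  | Int.ofNat m => isIso_unit_dual U (RefOne.isCoh_dual (isCoh_tensorPow hG m)) hU
  | Int.negSucc n => isIso_unit_dual U (RefOne.isCoh_dual (isCoh_tensorPow (RefOne.isCoh_dual hG) (n + 1))) hU

end Groth.Agent.FibreDualLib
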