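import Groth.Agent.FibreDualLib.Powers
import Groth.Agent.FibreDualLib.S2Extend
import Groth.Agent.DCohLib.OpenD
import Groth.Agent.AssLib.Morph
import Groth.Agent.QCohLib.Push

/-!
# Direct images of powers from an open set and reflexive powers
-/

set_option autoImplicit false
set_option linter.style.haveILetI false
set_option linter.unusedSectionVars false
set_option backward.isDefEq.respectTransparency false
set_option backward.isDefEq.respectTransparency.types false
set_option maxHeartbeats 1600000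

universe u

open CategoryTheory CategoryTheory.Limits AlgebraicGeometry TopologicalSpace

noncomputable section

namespace Groth.Agent.FibreDualLib

variable {Z : Scheme.{u}}

/-- Trivialisations restrict to smaller open sets. -/
def trivialOfLE {F : Z.Modules} {V V' : Z.Opens} (h : V' ≤ V)
    (e : F.restrict V.ι ≅ Coh.structureModule (V : Scheme.{u})) :
    F.restrict V'.ι ≅ Coh.structureModule (V' : Scheme.{u}) :=
  ParaFLib.restrictCongr (Scheme.homOfLE_ι Z h).symm F ≪≫ ParaFLib.restrictComp (Z.homOfLE h) V.ι F ≪≫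
    (Scheme.Modules.restrictFunctor (Z.homOfLE h)).mapIso e ≪≫ DCohLib.restrictUnit (Z.homOfLE h)

/-- Modules which agree on an open set are invertible at the same points of it. -/
theorem invertibleAt_congr_restrict (W : Z.Opens) {F P : Z.Modules} (e : F.restrict W.ι ≅ P.restrict W.ι) {x : Z}
    (hx : x ∈ W) (h : RelCanon.InvertibleAt F x) : RelCanon.InvertibleAt P x := by
  obtain ⟨V, hxV, ⟨i⟩⟩ := invertibleAt_of_iso (((Scheme.Modules.restrictFunctorIsoPullback W.ι).app F).symm ≪≫ e)
    (invertibleAt_pullback W.ι (x := ⟨x, hx⟩) h)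
  exact ⟨W.ι ''ᵁ V, ⟨_, hxV, rfl⟩, ⟨restrictImageIso W V _ i⟩⟩

variable [IsLocallyNoetherian Z]

/-- A module of depth two off an open set is its direct image from there, near the points of depth two. -/
theorem nonempty_restrict_iso_push (Yo W : Z.Opens) {G : Z.Modules} (hG : Coh.IsCoh G)
    {L : (Yo : Scheme.{u}).Modules} (i : G.restrict Yo.ι ≅ L)
    (hd : ∀ x : Z, x ∈ W → x ∉ Yo → (2 : ℕ∞) ≤ LocCoh.depth (Z.presheaf.stalk x) (G.presheaf.stalk x)) :
    Nonempty (G.restrict W.ι ≅ ((Scheme.Modules.pushforward Yo.ι).obj L).restrict W.ι) := by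
  haveI : IsLocallyNoetherian (W : Scheme.{u}) := isLocallyNoetherian_of_isOpenImmersion W.ι
  haveI : IsLocallyNoetherian (Yo : Scheme.{u}) := isLocallyNoetherian_of_isOpenImmersion Yo.ι
  haveI := hG.1
  let R := (Scheme.Modules.restrictFunctor Yo.ι).obj G
  let u := (Scheme.Modules.restrictAdjunction Yo.ι).unit.app G
  let φ₀ := (Scheme.Modules.restrictFunctor W.ι).map u
  let ρ := (DCohLib.restrictPushIso Yo.ι W).app R
  let φ : G.restrict W.ι ⟶ (Scheme.Modules.pushforward (Yo.ι ∣_ W)).obj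
      ((Scheme.Modules.restrictFunctor (Yo.ι ⁻¹ᵁ W).ι).obj R) := φ₀ ≫ ρ.hom
  haveI : Coh.IsQCoh R := inferInstance
  haveI : Coh.IsQCoh ((Scheme.Modules.restrictFunctor (Yo.ι ⁻¹ᵁ W).ι).obj R) := inferInstance
  haveI : Coh.IsQCoh ((Scheme.Modules.pushforward (Yo.ι ∣_ W)).obj
      ((Scheme.Modules.restrictFunctor (Yo.ι ⁻¹ᵁ W).ι).obj R)) := QCohLib.isQCoh_pushforward _ _
  have hGW := DCohMore.isCoh_restrict' hG W
  haveI := hGW.1
  haveI : IsIso φ := by
    refine AssLib.isIso_of_depth φ hGW fun w => ?_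
    by_cases hw : W.ι w ∈ Yo
    · left
      have hb : Function.Bijective (PullbackMod.stalkLin φ₀ w) := by
        haveI : IsIso ((Scheme.Modules.toPresheaf Z ⋙ TopCat.Presheaf.stalkFunctor _ (W.ι w)).map u) :=
          (ConcreteCategory.isIso_iff_bijective _).mpr
            (S1575.unit_stalk_bijective Yo.ι G (by rw [Scheme.Opens.opensRange_ι]; exact hw))
        exact (ConcreteCategory.isIso_iff_bijective _).mp
          ((NatIso.isIso_map_iff (Scheme.Modules.restrictStalkNatIso W.ι w) u).2 inferInstance)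
      rw [show PullbackMod.stalkLin φ w = _ from PullbackMod.stalkLin_comp φ₀ ρ.hom w]
      exact ((DCohLib.stkF w).mapIso ρ).toLinearEquiv.bijective.comp hb
    · refine Or.inr ⟨?_, fun hass => hw ?_⟩
      · let σ := (asIso (W.ι.stalkMap w)).commRingCatIsoToRingEquiv
        let e : ((Scheme.Modules.restrictFunctor W.ι).obj G).presheaf.stalk w ≃+ G.presheaf.stalk (W.ι w) :=
          ((Scheme.Modules.restrictStalkNatIso W.ι w).app G).addCommGroupIsoToAddEquiv
        have hh : FibreDepth.FibIso ((W : Scheme.{u}).presheaf.stalk w) ((G.restrict W.ι).presheaf.stalk w)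
            (Z.presheaf.stalk (W.ι w)) (G.presheaf.stalk (W.ι w)) :=
          ⟨σ.symm.toRingHom, σ.symm.surjective, e, DCohLib.restrictStalk_smul W.ι G w⟩
        exact (hd _ w.2 hw).trans_eq hh.depth_eq.symm
      · obtain ⟨v, hv, -⟩ := AssLib.exists_isWeakAssPoint_of_push (Yo.ι ∣_ W)
          ((Scheme.Modules.restrictFunctor (Yo.ι ⁻¹ᵁ W).ι).obj R) ((AssLib.isWeakAssPoint_iff_isAssPoint _ w).mpr hass)
        have h1 := congrArg W.ι hv
        rw [show W.ι ((Yo.ι ∣_ W) v) = Yo.ι ((Yo.ι ⁻¹ᵁ W).ι v) from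
          congrArg (fun g => g v) (morphismRestrict_ι Yo.ι W)] at h1
        exact h1 ▸ ((Yo.ι ⁻¹ᵁ W).ι v).2
  exact ⟨asIso φ ≪≫ ρ.symm ≪≫ (Scheme.Modules.restrictFunctor W.ι).mapIso ((Scheme.Modules.pushforward Yo.ι).mapIso i)⟩

end Groth.Agent.FibreDualLib
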