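import Groth.Agent.FibreDualLib.ArtinStalk
import Groth.Agent.FlatLocus.ModInjFlat
import Groth.Agent.AssLib.Basic

/-!
# Relative `(S_k)` in an affine chart over an affine base
-/

set_option autoImplicit false
set_option linter.style.haveILetI false
set_option linter.unusedSectionVars false
set_option backward.isDefEq.respectTransparency false
set_option backward.isDefEq.respectTransparency.types false
set_option maxHeartbeats 1600000
set_option synthInstance.maxHeartbeats 200000

universe u

open CategoryTheory CategoryTheory.Limits AlgebraicGeometry TopologicalSpace IsLocalRing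
open scoped TensorProduct

noncomputable section

namespace Groth.Agent.FibreDualLib

/-- Reductions of semilinearly isomorphic modules. -/
theorem fibIso_quot {L L' M N : Type u} [CommRing L] [CommRing L'] [AddCommGroup M] [Module L M] [AddCommGroup N]
    [Module L' N] (ψ : L ≃+* L') (e : M ≃+ N) (he : ∀ (r : L) (x : M), e (r • x) = ψ r • e x) (I : Ideal L)
    (I' : Ideal L') (hI : I.map ψ.toRingHom = I') :
    FibreDepth.FibIso L (M ⧸ (I • ⊤ : Submodule L M)) L' (N ⧸ (I' • ⊤ : Submodule L' N)) := by
  subst hI
  letI : Module L N := Module.compHom N ψ.toRingHom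
  let eL : M ≃ₗ[L] N := { e with map_smul' := he }
  let P' : Submodule L N :=
    { carrier := ((I.map ψ.toRingHom) • ⊤ : Submodule L' N)
      zero_mem' := Submodule.zero_mem _
      add_mem' := fun a b => Submodule.add_mem _ a b
      smul_mem' := fun c x hx => Submodule.smul_mem _ (ψ c) hx }
  have hmap : (I • ⊤ : Submodule L M).map (eL : M →ₗ[L] N) = P' := by
    rw [Submodule.map_smul'', Submodule.map_top, LinearEquiv.range]
    refine le_antisymm (Submodule.smul_le.2 fun r hr x _ => ?_) fun x hx => ?_
    · exact (Submodule.smul_mem_smul (Ideal.mem_map_of_mem _ hr) Submodule.mem_top :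
        ψ r • x ∈ ((I.map ψ.toRingHom) • ⊤ : Submodule L' N))
    · refine Submodule.smul_induction_on (p := fun y => y ∈ (I • ⊤ : Submodule L N))
        (show x ∈ ((I.map ψ.toRingHom) • ⊤ : Submodule L' N) from hx) (fun r hr y _ => ?_)
        fun a b ha hb => Submodule.add_mem _ ha hb
      obtain ⟨c, hc, rfl⟩ := (Ideal.mem_map_iff_of_surjective ψ.toRingHom ψ.surjective).1 hr
      exact (Submodule.smul_mem_smul hc Submodule.mem_top : c • y ∈ (I • ⊤ : Submodule L N))
  let E := Submodule.Quotient.equiv (I • ⊤ : Submodule L M) P' eL hmap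
  refine ⟨ψ.toRingHom, ψ.surjective, E.toAddEquiv, fun r n => ?_⟩
  induction n using Submodule.Quotient.induction_on with
  | _ x =>
    show Submodule.Quotient.mk (e (r • x)) = _
    rw [he]
    rfl

variable {X : Scheme.{u}} {B : Type u} [CommRing B]

/-- The prime of the base under a point of a chart. -/
theorem base_prime_eq (f : X ⟶ Spec (CommRingCat.of B)) {W : X.Opens} (hW : IsAffineOpen W) [Algebra B Γ(X, W)]
    (halg : ∀ b : B, algebraMap B Γ(X, W) b = f.appLE ⊤ W le_top ((Scheme.ΓSpecIso (CommRingCat.of B)).inv b))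
    (z : X) (hz : z ∈ W) : (AssLib.pr hW hz).comap (algebraMap B Γ(X, W)) = (f z).asIdeal := by
  let C := Γ(X, W)
  let q := AssLib.pr hW hz
  let O := X.presheaf.stalk z
  letI : Algebra C O := TopCat.Presheaf.algebra_section_stalk X.presheaf ⟨z, hz⟩
  haveI : IsLocalization.AtPrime O q := hW.isLocalization_stalk ⟨z, hz⟩
  let R := (Spec (CommRingCat.of B)).presheaf.stalk (f z)
  letI : Algebra B R := StructureSheaf.stalkAlgebra B (f z)
  haveI : IsLocalization.AtPrime R (f z).asIdeal := StructureSheaf.IsLocalization.to_stalk B (f z)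
  letI : Algebra R O := (f.stalkMap z).hom.toAlgebra
  have hbase : (algebraMap C O).comp (algebraMap B C) = (algebraMap R O).comp (algebraMap B R) := RingHom.ext fun b => by
    show X.presheaf.germ W z hz (algebraMap B C b) = (f.stalkMap z).hom (algebraMap B R b)
    refine Eq.trans ?_ (congr($(baseStalk_eq f z) b))
    rw [halg, Scheme.Hom.appLE, CommRingCat.comp_apply, X.presheaf.germ_res_apply]
    rfl
  have h1 : (maximalIdeal R).comap (algebraMap B R) = (f z).asIdeal :=
    IsLocalization.AtPrime.under_maximalIdeal R (f z).asIdeal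
  have h2 : (maximalIdeal O).comap (algebraMap R O) = maximalIdeal R := by
    haveI : IsLocalHom (algebraMap R O) := inferInstanceAs (IsLocalHom (f.stalkMap z).hom)
    exact ((IsLocalRing.local_hom_TFAE (algebraMap R O)).out 0 4).mp (inferInstance : IsLocalHom (algebraMap R O))
  have h3 : (maximalIdeal O).comap (algebraMap C O) = q := IsLocalization.AtPrime.under_maximalIdeal O q
  rw [← h1, ← h2, Ideal.comap_comap, ← hbase, ← Ideal.comap_comap, h3]

/-- The fibre ideal of the stalk in a chart. -/
theorem fibreIdeal_eq_map (f : X ⟶ Spec (CommRingCat.of B)) {W : X.Opens} (hW : IsAffineOpen W) [Algebra B Γ(X, W)]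
    (halg : ∀ b : B, algebraMap B Γ(X, W) b = f.appLE ⊤ W le_top ((Scheme.ΓSpecIso (CommRingCat.of B)).inv b))
    (z : X) (hz : z ∈ W) :
    letI : Algebra Γ(X, W) (X.presheaf.stalk z) := TopCat.Presheaf.algebra_section_stalk X.presheaf ⟨z, hz⟩
    ∀ ε : Localization.AtPrime (AssLib.pr hW hz) ≃ₐ[Γ(X, W)] X.presheaf.stalk z,
      (((AssLib.pr hW hz).comap (algebraMap B Γ(X, W))).map (algebraMap B (Localization.AtPrime (AssLib.pr hW hz)))).map
        (ε.toRingEquiv : Localization.AtPrime (AssLib.pr hW hz) →+* X.presheaf.stalk z) =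
        FibreDepth.fibreIdeal f z := by
  let C := Γ(X, W)
  let O := X.presheaf.stalk z
  letI : Algebra C O := TopCat.Presheaf.algebra_section_stalk X.presheaf ⟨z, hz⟩
  intro ε
  let R := (Spec (CommRingCat.of B)).presheaf.stalk (f z)
  letI : Algebra B R := StructureSheaf.stalkAlgebra B (f z)
  haveI : IsLocalization.AtPrime R (f z).asIdeal := StructureSheaf.IsLocalization.to_stalk B (f z)
  rw [base_prime_eq f hW halg z hz, Ideal.map_map,
    show FibreDepth.fibreIdeal f z = (maximalIdeal R).map (f.stalkMap z).hom from rfl,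
    ← IsLocalization.AtPrime.map_eq_maximalIdeal (f z).asIdeal R, Ideal.map_map]
  congr 1
  refine RingHom.ext fun b => ?_
  show ε (algebraMap B (Localization.AtPrime (AssLib.pr hW hz)) b) = (f.stalkMap z).hom (algebraMap B R b)
  rw [IsScalarTower.algebraMap_apply B C (Localization.AtPrime (AssLib.pr hW hz)), ε.commutes]
  refine Eq.trans ?_ (congr($(baseStalk_eq f z) b))
  show X.presheaf.germ W z hz (algebraMap B C b) = _
  rw [halg, Scheme.Hom.appLE, CommRingCat.comp_apply, X.presheaf.germ_res_apply]
  rfl

/-- In an affine chart over an affine base, relative `(S_k)` is flatness with `(S_k)` for the fibre of the localised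
module of sections. -/
theorem relSkAt_iff_chart [IsLocallyNoetherian X] (f : X ⟶ Spec (CommRingCat.of B)) {W : X.Opens} (hW : IsAffineOpen W)
    [Algebra B Γ(X, W)]
    (halg : ∀ b : B, algebraMap B Γ(X, W) b = f.appLE ⊤ W le_top ((Scheme.ΓSpecIso (CommRingCat.of B)).inv b))
    {F : X.Modules} (hF : Coh.IsCoh F) (M : Type u) [AddCommGroup M] [Module Γ(X, W) M] [Module B M]
    [IsScalarTower B Γ(X, W) M] [Module.Finite Γ(X, W) M] (k : ℕ) (z : X) (hz : z ∈ W)
    (g : letI := Module.compHom (F.presheaf.stalk z) (X.presheaf.germ W z hz).hom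
      M →ₗ[Γ(X, W)] F.presheaf.stalk z)
    (hg : letI := Module.compHom (F.presheaf.stalk z) (X.presheaf.germ W z hz).hom
      IsLocalizedModule (AssLib.pr hW hz).primeCompl g) :
    RelCanon.RelSkAt f k F z ↔
      FlatCA.FlatAt B (AssLib.pr hW hz) M ∧
        LocCoh.HasSk k (Localization.AtPrime (AssLib.pr hW hz))
          (LocalizedModule (AssLib.pr hW hz).primeCompl M ⧸
            (((AssLib.pr hW hz).comap (algebraMap B Γ(X, W))).map
              (algebraMap B (Localization.AtPrime (AssLib.pr hW hz))) • ⊤ :
              Submodule (Localization.AtPrime (AssLib.pr hW hz)) (LocalizedModule (AssLib.pr hW hz).primeCompl M))) := by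
  haveI := hF.1
  let C := Γ(X, W)
  let q := AssLib.pr hW hz
  let O := X.presheaf.stalk z
  let Fz := F.presheaf.stalk z
  letI : Algebra C O := TopCat.Presheaf.algebra_section_stalk X.presheaf ⟨z, hz⟩
  haveI : IsLocalization.AtPrime O q := hW.isLocalization_stalk ⟨z, hz⟩
  letI : Module C Fz := Module.compHom _ (X.presheaf.germ W z hz).hom
  haveI : IsScalarTower C O Fz := .of_algebraMap_smul fun _ _ => rfl
  haveI := hg
  let Lq := Localization.AtPrime q
  let Mq := LocalizedModule q.primeCompl M
  -- the base
  let t := f z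
  let R := (Spec (CommRingCat.of B)).presheaf.stalk t
  letI : Algebra B R := StructureSheaf.stalkAlgebra B t
  haveI : IsLocalization.AtPrime R t.asIdeal := StructureSheaf.IsLocalization.to_stalk B t
  letI : Algebra R O := (f.stalkMap z).hom.toAlgebra
  letI : Algebra B O := ((algebraMap C O).comp (algebraMap B C)).toAlgebra
  haveI : IsScalarTower B C O := .of_algebraMap_eq fun _ => rfl
  have hbase : ∀ b : B, FormalAmple.baseStalk f z b = algebraMap B O b := fun b => by
    show _ = X.presheaf.germ W z hz (algebraMap B C b)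
    rw [halg, Scheme.Hom.appLE, CommRingCat.comp_apply, X.presheaf.germ_res_apply]
    rfl
  haveI : IsScalarTower B R O := .of_algebraMap_eq fun b => by
    rw [← hbase]
    show (FormalAmple.baseStalk f z).hom b = _
    rw [baseStalk_eq]
    rfl
  have hpb : t.asIdeal = q.comap (algebraMap B C) := (base_prime_eq f hW halg z hz).symm
  -- semilinear comparison
  let ε : Lq ≃ₐ[C] O := IsLocalization.algEquiv q.primeCompl Lq O
  let e : Mq ≃ₗ[C] Fz := IsLocalizedModule.linearEquiv q.primeCompl (LocalizedModule.mkLinearMap q.primeCompl M) g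
  have he : ∀ (r : Lq) (x : Mq), e (r • x) = ε r • e x := fun r x => by
    obtain ⟨⟨a, s⟩, has⟩ := IsLocalization.surj q.primeCompl r
    have hu : IsUnit (algebraMap C O s) := IsLocalization.map_units O s
    refine hu.smul_left_cancel.1 ?_
    rw [algebraMap_smul, ← map_smul, ← algebraMap_smul Lq (s : C), ← mul_smul, ← mul_smul, mul_comm, has,
      algebraMap_smul, map_smul, ← ε.commutes (s : C), ← map_mul, mul_comm, has, ε.commutes, algebraMap_smul]
  let IR := (q.comap (algebraMap B C)).map (algebraMap B Lq)
  have hIR : IR.map (ε.toRingEquiv : Lq ≃+* O).toRingHom = FibreDepth.fibreIdeal f z :=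
    fibreIdeal_eq_map f hW halg z hz ε
  haveI : Module.Finite Lq Mq :=
    Module.Finite.of_isLocalizedModule q.primeCompl (LocalizedModule.mkLinearMap q.primeCompl M)
  have hfib := fibIso_quot ε.toRingEquiv e.toAddEquiv he IR (FibreDepth.fibreIdeal f z) hIR
  refine and_congr ?_ ((skAt_fibre_iff f k hF z).trans (hfib.hasSk_iff k).symm)
  -- flatness
  letI : Module R Fz := FlatMod.moduleStalkOver f F z
  haveI : IsScalarTower R O Fz := .of_algebraMap_smul fun _ _ => rfl
  letI : Module B Fz := Module.compHom _ (algebraMap B O)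
  haveI : IsScalarTower B O Fz := .of_algebraMap_smul fun _ _ => rfl
  haveI : IsScalarTower B R Fz := .of_algebraMap_smul fun b x => by
    rw [← algebraMap_smul O (algebraMap B R b), ← IsScalarTower.algebraMap_apply]
    rfl
  haveI : IsScalarTower B C Fz := .of_algebraMap_smul fun b x => by
    rw [← algebraMap_smul O (algebraMap B C b), ← IsScalarTower.algebraMap_apply]
    rfl
  refine (Module.flat_iff_of_isLocalization R t.asIdeal.primeCompl Fz).trans ?_
  exact ⟨fun h => @Module.Flat.of_linearEquiv B _ _ _ _ _ _ _ h (e.restrictScalars B),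
    fun h => @Module.Flat.of_linearEquiv B _ _ _ _ _ _ _ h (e.symm.restrictScalars B)⟩

/-- `(S_k)` over the fibre local ring is `(S_k)` of the reduction over the local ring. -/
theorem hasSk_fibLocMod_iff {C : Type u} [CommRing C] [IsNoetherianRing C] [Algebra B C] (q : Ideal C) [q.IsPrime]
    (k : ℕ) (M : Type u) [AddCommGroup M] [Module C M] [Module.Finite C M] :
    LocCoh.HasSk k (EGA4.FibLocRing B C q) (EGA4.FibLocMod B C q M) ↔
      LocCoh.HasSk k (Localization.AtPrime q)
        (LocalizedModule q.primeCompl M ⧸ ((q.comap (algebraMap B C)).map (algebraMap B (Localization.AtPrime q)) • ⊤ :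
          Submodule (Localization.AtPrime q) (LocalizedModule q.primeCompl M))) := by
  haveI : Module.Finite (Localization.AtPrime q) (LocalizedModule q.primeCompl M) :=
    Module.Finite.of_isLocalizedModule q.primeCompl (LocalizedModule.mkLinearMap q.primeCompl M)
  have h : FibreDepth.FibIso (Localization.AtPrime q)
      (LocalizedModule q.primeCompl M ⧸ ((q.comap (algebraMap B C)).map (algebraMap B (Localization.AtPrime q)) • ⊤ :
          Submodule (Localization.AtPrime q) (LocalizedModule q.primeCompl M)))
      (EGA4.FibLocRing B C q) (EGA4.FibLocMod B C q M) :=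
    ⟨Ideal.Quotient.mk _, Ideal.Quotient.mk_surjective, AddEquiv.refl _, fun r n => by
      induction n using Submodule.Quotient.induction_on with
      | _ x => rfl⟩
  exact (h.hasSk_iff k).symm

end Groth.Agent.FibreDualLib
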