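import Groth.Agent.FibreDualLib.Glue

/-!
# Prime-to-residue-characteristic torsion is rigid in nilpotent thickenings
-/

set_option autoImplicit false
set_option linter.style.haveILetI false
set_option linter.unusedSectionVars false
set_option backward.isDefEq.respectTransparency false
set_option backward.isDefEq.respectTransparency.types false
set_option maxHeartbeats 1600000

universe u

open TensorProduct

noncomputable section

namespace Groth.Agent.FibreDualLib

/-- A difference of `n`-th powers controls the difference at a prime where the two are congruent and invertible. -/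
theorem exists_factor_notMem {C : Type u} [CommRing C] (q : Ideal C) [q.IsPrime] {n : ℕ} (hn : IsUnit (n : C))
    {z w : C} (hw : w ∉ q) (hzw : z - w ∈ q) : ∃ σ, σ ∉ q ∧ σ * (z - w) = z ^ n - w ^ n := by
  refine ⟨∑ i ∈ Finset.range n, z ^ i * w ^ (n - 1 - i), fun h => ?_, geom_sum₂_mul z w n⟩
  rw [← Ideal.Quotient.eq_zero_iff_mem] at h
  have hq : Ideal.Quotient.mk q z = Ideal.Quotient.mk q w := Ideal.Quotient.eq.2 hzw
  rw [map_sum] at h
  simp only [map_mul, map_pow, hq] at h
  rw [geom_sum₂_self, mul_eq_zero] at h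
  rcases h with h | h
  · rw [← map_natCast (Ideal.Quotient.mk q), Ideal.Quotient.eq_zero_iff_mem] at h
    exact ‹q.IsPrime›.ne_top (Ideal.eq_top_of_isUnit_mem _ h hn)
  · rw [← map_pow, Ideal.Quotient.eq_zero_iff_mem] at h
    exact hw (‹q.IsPrime›.mem_of_pow_mem _ h)

variable {B C C0 F E : Type u} [CommRing B] [CommRing C] [CommRing C0] [IsNoetherianRing C] [Algebra B C] [Algebra C C0]
  [AddCommGroup F] [Module B F] [AddCommGroup E] [Module C E] [Module B E] [IsScalarTower B C E] [Module.Finite C E]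

/-- A module over a nilpotent thickening that is a line bundle off a closed set, with trivial reduction and trivial
`n`-th power (`n` invertible), is trivial. -/
theorem nonempty_equiv_of_root (hsurj : Function.Surjective (algebraMap B C))
    (hπ : Function.Surjective (algebraMap C C0)) (hker : ∀ c : C, algebraMap C C0 c = 0 → IsNilpotent c)
    (J : Ideal C) (hC : 2 ≤ LocCoh.idealDepth J C) (hE : 2 ≤ LocCoh.idealDepth J E)
    (hC0 : 2 ≤ LocCoh.idealDepth J C0) (n : ℕ) (hn0 : 0 < n) (hn : IsUnit (n : C)) (ι : F →ₗ[B] E) (P : F → C)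
    (hP : ∀ (b : B) (x : F), P (b • x) = algebraMap B C b ^ n * P x) (θ : F → C0)
    (hθ : ∀ (b : B) (x : F), θ (b • x) = algebraMap C C0 (algebraMap B C b) * θ x)
    (hloc : ∀ q : PrimeSpectrum C, ¬ J ≤ q.asIdeal → ∃ g : F,
      (∃ s : B, algebraMap B C s ∉ q.asIdeal ∧ ∀ x : F, ∃ a : B, s • x = a • g) ∧ P g ∉ q.asIdeal ∧
      (∃ c, c ∉ q.asIdeal ∧ θ g = algebraMap C C0 c) ∧
      (∀ y : E, ∃ r a : C, r ∉ q.asIdeal ∧ r • y = a • ι g) ∧
      ∀ a : C, a • ι g = 0 → ∃ r, r ∉ q.asIdeal ∧ r * a = 0) :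
    Nonempty (C ≃ₗ[C] E) := by
  haveI : Module.Finite C C0 := Module.Finite.of_surjective (Algebra.linearMap C C0) hπ
  have hkerq : ∀ (q : PrimeSpectrum C) (c : C), algebraMap C C0 c = 0 → c ∈ q.asIdeal := fun q c hc => by
    obtain ⟨k, hk⟩ := hker c hc
    exact q.2.mem_of_pow_mem k (hk ▸ q.asIdeal.zero_mem)
  have hC0one := le_trans one_le_two hC0
  -- the comparison unit
  obtain ⟨u, hu⟩ := exists_glue J hC0
    (fun t w => ∀ x : F, algebraMap C C0 (t * P x) = w * θ x ^ n)
    (fun q hq => by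
      obtain ⟨g, ⟨s, hs, hsg⟩, hPg, ⟨c, hc, hθg⟩, -, -⟩ := hloc q hq
      refine ⟨algebraMap B C s ^ n * c ^ n, algebraMap C C0 (algebraMap B C s ^ n * P g), fun x => ?_,
        q.2.mul_notMem (fun h => hs (q.2.mem_of_pow_mem _ h)) fun h => hc (q.2.mem_of_pow_mem _ h)⟩
      obtain ⟨a, ha⟩ := hsg x
      have h1 : algebraMap B C s ^ n * P x = algebraMap B C a ^ n * P g := by rw [← hP, ha, hP]
      have h2 : algebraMap C C0 (algebraMap B C s) * θ x = algebraMap C C0 (algebraMap B C a) * algebraMap C C0 c := by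
        rw [← hθ, ha, hθ, hθg]
      calc algebraMap C C0 (algebraMap B C s ^ n * c ^ n * P x)
          = algebraMap C C0 (c ^ n * (algebraMap B C a ^ n * P g)) := by rw [← h1]; congr 1; ring
        _ = algebraMap C C0 (P g) * (algebraMap C C0 (algebraMap B C a) * algebraMap C C0 c) ^ n := by
          simp only [map_mul, map_pow]; ring
        _ = algebraMap C C0 (algebraMap B C s ^ n * P g) * θ x ^ n := by
          rw [← h2]; simp only [map_mul, map_pow]; ring)
    (fun t w t' w' h h' q hq ht ht' => by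
      obtain ⟨g, -, -, ⟨c, hc, hθg⟩, -, -⟩ := hloc q hq
      refine ⟨c ^ n, fun h => hc (q.2.mem_of_pow_mem _ h), ?_⟩
      have e1 := h g
      have e2 := h' g
      rw [hθg] at e1 e2
      rw [Algebra.smul_def, Algebra.smul_def, Algebra.smul_def, map_pow]
      calc algebraMap C C0 c ^ n * (algebraMap C C0 t' * w - algebraMap C C0 t * w')
          = algebraMap C C0 t' * (w * algebraMap C C0 c ^ n) - algebraMap C C0 t * (w' * algebraMap C C0 c ^ n) := by
            ring
        _ = 0 := by rw [← e1, ← e2]; simp only [map_mul]; ring)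
  have hPθ : ∀ x : F, algebraMap C C0 (P x) = u * θ x ^ n := fun x => by
    refine sub_eq_zero.1 (FibDepthLib.eq_zero_of_killed_off (J := J) hC0one _ fun q hq => ?_)
    obtain ⟨g, ⟨s, hs, hsg⟩, hPg, ⟨c, hc, hθg⟩, -, -⟩ := hloc q hq
    obtain ⟨a, ha⟩ := hsg x
    let t := algebraMap B C s ^ n * c ^ n
    have ht : t ∉ q.asIdeal :=
      q.2.mul_notMem (fun h => hs (q.2.mem_of_pow_mem _ h)) fun h => hc (q.2.mem_of_pow_mem _ h)
    let w := algebraMap C C0 (algebraMap B C s ^ n * P g)
    have hgood : ∀ x : F, algebraMap C C0 (t * P x) = w * θ x ^ n := fun x => by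
      obtain ⟨a, ha⟩ := hsg x
      have h1 : algebraMap B C s ^ n * P x = algebraMap B C a ^ n * P g := by rw [← hP, ha, hP]
      have h2 : algebraMap C C0 (algebraMap B C s) * θ x = algebraMap C C0 (algebraMap B C a) * algebraMap C C0 c := by
        rw [← hθ, ha, hθ, hθg]
      calc algebraMap C C0 (algebraMap B C s ^ n * c ^ n * P x)
          = algebraMap C C0 (c ^ n * (algebraMap B C a ^ n * P g)) := by rw [← h1]; congr 1; ring
        _ = algebraMap C C0 (P g) * (algebraMap C C0 (algebraMap B C a) * algebraMap C C0 c) ^ n := by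
          simp only [map_mul, map_pow]; ring
        _ = algebraMap C C0 (algebraMap B C s ^ n * P g) * θ x ^ n := by
          rw [← h2]; simp only [map_mul, map_pow]; ring
    obtain ⟨r, hr, hrz⟩ := hu t w hgood q hq ht
    refine ⟨r * t, q.2.mul_notMem hr ht, ?_⟩
    rw [Algebra.smul_def, Algebra.smul_def] at hrz
    rw [Algebra.smul_def]
    have e1 := hgood x
    rw [map_mul] at e1
    calc algebraMap C C0 (r * t) * (algebraMap C C0 (P x) - u * θ x ^ n)
        = algebraMap C C0 r * (algebraMap C C0 t * algebraMap C C0 (P x)) -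
          (algebraMap C C0 r * (algebraMap C C0 t * u)) * θ x ^ n := by rw [map_mul]; ring
      _ = -(algebraMap C C0 r * (algebraMap C C0 t * u - w)) * θ x ^ n := by rw [e1]; ring
      _ = 0 := by rw [hrz, neg_zero, zero_mul]
  obtain ⟨v, hv⟩ := exists_glue J hC0 (fun t w => w * u = algebraMap C C0 t)
    (fun q hq => by
      obtain ⟨g, -, hPg, ⟨c, hc, hθg⟩, -, -⟩ := hloc q hq
      refine ⟨P g, algebraMap C C0 (c ^ n), ?_, hPg⟩
      rw [hPθ g, hθg, map_pow, mul_comm])
    (fun t w t' w' h h' q hq ht ht' => by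
      obtain ⟨g, -, hPg, -, -, -⟩ := hloc q hq
      refine ⟨P g, hPg, ?_⟩
      rw [Algebra.smul_def, Algebra.smul_def, Algebra.smul_def, hPθ g]
      calc u * θ g ^ n * (algebraMap C C0 t' * w - algebraMap C C0 t * w')
          = θ g ^ n * (algebraMap C C0 t' * (w * u) - algebraMap C C0 t * (w' * u)) := by ring
        _ = 0 := by rw [h, h']; ring)
  have hvu : v * u = 1 := by
    refine sub_eq_zero.1 (FibDepthLib.eq_zero_of_killed_off (J := J) hC0one _ fun q hq => ?_)
    obtain ⟨g, -, hPg, ⟨c, hc, hθg⟩, -, -⟩ := hloc q hq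
    obtain ⟨r, hr, hrz⟩ := hv (P g) (algebraMap C C0 (c ^ n)) (by rw [hPθ g, hθg, map_pow, mul_comm]) q hq hPg
    refine ⟨r * P g, q.2.mul_notMem hr hPg, ?_⟩
    rw [Algebra.smul_def, Algebra.smul_def] at hrz
    rw [Algebra.smul_def]
    calc algebraMap C C0 (r * P g) * (v * u - 1)
        = algebraMap C C0 r * (algebraMap C C0 (P g) * v - algebraMap C C0 (c ^ n)) * u +
          algebraMap C C0 r * (algebraMap C C0 (c ^ n) * u - algebraMap C C0 (P g)) := by rw [map_mul]; ring
      _ = 0 := by rw [hrz, hPθ g, hθg, map_pow]; ring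
  obtain ⟨v', rfl⟩ := hπ v
  let P' : F → C := fun x => v' * P x
  have hP' : ∀ (b : B) (x : F), P' (b • x) = algebraMap B C b ^ n * P' x := fun b x => by
    simp only [P', hP]; ring
  have hP'θ : ∀ x : F, algebraMap C C0 (P' x) = θ x ^ n := fun x => by
    rw [map_mul, hPθ, ← mul_assoc, hvu, one_mul]
  have hP'g : ∀ (q : PrimeSpectrum C) (g : F) (c : C), c ∉ q.asIdeal → θ g = algebraMap C C0 c →
      P' g ∉ q.asIdeal := fun q g c hc hθg h => by
    refine hc (q.2.mem_of_pow_mem n ?_)
    have h0 : algebraMap C C0 (c ^ n - P' g) = 0 := by rw [map_sub, hP'θ, hθg, map_pow, sub_self]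
    simpa using add_mem (hkerq q _ h0) h
  -- the root
  let Good : C → E → Prop := fun t y => ∃ x : F, ι x = y ∧ P' x = t ^ n ∧ θ x = algebraMap C C0 t
  have hcov : ∀ q : PrimeSpectrum C, ¬ J ≤ q.asIdeal → ∃ t y, Good t y ∧ t ∉ q.asIdeal := fun q hq => by
    obtain ⟨g, -, -, ⟨c, hc, hθg⟩, -, -⟩ := hloc q hq
    have hp := hP'g q g c hc hθg
    let L := Localization.AtPrime q.asIdeal
    obtain ⟨w, hw⟩ := (IsLocalization.map_units L (⟨P' g, hp⟩ : q.asIdeal.primeCompl))
    have hnil : IsNilpotent (1 - algebraMap C L (c ^ n) * (w⁻¹ : Lˣ)) := by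
      have h0 : algebraMap C C0 (P' g - c ^ n) = 0 := by rw [map_sub, hP'θ, hθg, map_pow, sub_self]
      have h1 := (Commute.all _ ((w⁻¹ : Lˣ) : L)).isNilpotent_mul_right ((hker _ h0).map (algebraMap C L))
      rwa [map_sub, sub_mul, show algebraMap C L (P' g) * ((w⁻¹ : Lˣ) : L) = 1 by
        rw [show algebraMap C L (P' g) = (w : L) from hw.symm, Units.mul_inv]] at h1
    have hnL : IsUnit (n : L) := by simpa using hn.map (algebraMap C L)
    obtain ⟨a, ha, ha1⟩ := root_exists hnL _ hnil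
    obtain ⟨α, ⟨β, hβ⟩, rfl⟩ := IsLocalization.exists_mk'_eq (S := L) q.asIdeal.primeCompl a
    have e1 : IsLocalization.mk' L α ⟨β, hβ⟩ * algebraMap C L β = algebraMap C L α := IsLocalization.mk'_spec L _ _
    have e2 : algebraMap C L (α ^ n * P' g) = algebraMap C L (β ^ n * c ^ n) := by
      rw [map_mul, map_pow, ← e1, mul_pow, ha, show algebraMap C L (P' g) = (w : L) from hw.symm, map_mul,
        map_pow, map_pow]
      calc algebraMap C L c ^ n * ((w⁻¹ : Lˣ) : L) * algebraMap C L β ^ n * (w : L)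
          = algebraMap C L c ^ n * algebraMap C L β ^ n * (((w⁻¹ : Lˣ) : L) * (w : L)) := by ring
        _ = algebraMap C L β ^ n * algebraMap C L c ^ n := by rw [Units.inv_mul, mul_one]; ring
    obtain ⟨⟨s1, hs1⟩, hs1e⟩ := (IsLocalization.eq_iff_exists q.asIdeal.primeCompl L).1 e2
    have hs1' : s1 * (α ^ n * P' g) = s1 * (β ^ n * c ^ n) := hs1e
    have hαβ : α - β ∈ q.asIdeal := by
      have h1 : algebraMap C L (α - β) ∈ IsLocalRing.maximalIdeal L := by
        rw [map_sub, ← e1, show IsLocalization.mk' L α ⟨β, hβ⟩ * algebraMap C L β - algebraMap C L β =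
          -(algebraMap C L β * (1 - IsLocalization.mk' L α ⟨β, hβ⟩)) by ring]
        refine neg_mem (Ideal.mul_mem_left _ _ ?_)
        obtain ⟨k, hk⟩ := ha1
        exact (IsLocalRing.maximalIdeal.isMaximal L).isPrime.mem_of_pow_mem k (hk ▸ zero_mem _)
      exact (IsLocalization.AtPrime.to_map_mem_maximal_iff L q.asIdeal _).1 h1
    obtain ⟨σ, hσ, hσe⟩ := exists_factor_notMem q.asIdeal hn hβ hαβ
    let s2 := s1 * σ * c ^ n
    have hs2 : s2 ∉ q.asIdeal :=
      q.2.mul_notMem (q.2.mul_notMem hs1 hσ) fun h => hc (q.2.mem_of_pow_mem _ h)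
    have hs20 : algebraMap C C0 (s2 * (α - β)) = 0 := by
      have h2 := congrArg (algebraMap C C0) hs1'
      rw [map_mul, map_mul, hP'θ, hθg, map_mul, map_mul] at h2
      rw [show s2 * (α - β) = s1 * c ^ n * (σ * (α - β)) by simp only [s2]; ring, hσe]
      simp only [map_mul, map_sub, map_pow] at h2 ⊢
      rw [mul_sub, sub_eq_zero]
      calc algebraMap C C0 s1 * algebraMap C C0 c ^ n * algebraMap C C0 α ^ n
          = algebraMap C C0 s1 * (algebraMap C C0 α ^ n * algebraMap C C0 c ^ n) := by ring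
        _ = algebraMap C C0 s1 * (algebraMap C C0 β ^ n * algebraMap C C0 c ^ n) := h2
        _ = algebraMap C C0 s1 * algebraMap C C0 c ^ n * algebraMap C C0 β ^ n := by ring
    obtain ⟨b, hb⟩ := hsurj (α * (s1 * s2))
    refine ⟨β * c * (s1 * s2), ι (b • g), ⟨b • g, rfl, ?_, ?_⟩,
      q.2.mul_notMem (q.2.mul_notMem hβ hc) (q.2.mul_notMem hs1 hs2)⟩
    · obtain ⟨k, rfl⟩ : ∃ k, n = k + 1 := ⟨n - 1, by omega⟩
      rw [hP', hb]
      calc (α * (s1 * s2)) ^ (k + 1) * P' g = s2 ^ (k + 1) * s1 ^ k * (s1 * (α ^ (k + 1) * P' g)) := by ring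
        _ = (β * c * (s1 * s2)) ^ (k + 1) := by rw [hs1']; ring
    · rw [hθ, hb, hθg, ← map_mul, ← sub_eq_zero, ← map_sub,
        show α * (s1 * s2) * c - β * c * (s1 * s2) = s1 * c * (s2 * (α - β)) by ring, map_mul, hs20, mul_zero]
  have hgen : ∀ (q : PrimeSpectrum C) (g : F) (s : B) (c : C), algebraMap B C s ∉ q.asIdeal → c ∉ q.asIdeal →
      θ g = algebraMap C C0 c → ∀ (t : C) (x : F) (a : B), t ∉ q.asIdeal → P' x = t ^ n → θ x = algebraMap C C0 t →
      s • x = a • g →
        algebraMap B C a ∉ q.asIdeal ∧ algebraMap B C s ^ n * t ^ n = algebraMap B C a ^ n * P' g ∧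
        algebraMap C C0 (algebraMap B C a * c) = algebraMap C C0 (algebraMap B C s * t) := by
    intro q g s c hs hc hθg t x a ht hPx hθx ha
    have h1 : algebraMap B C s ^ n * t ^ n = algebraMap B C a ^ n * P' g := by rw [← hPx, ← hP', ha, hP']
    refine ⟨fun h => ?_, h1, ?_⟩
    · exact q.2.mul_notMem (fun h => hs (q.2.mem_of_pow_mem _ h)) (fun h => ht (q.2.mem_of_pow_mem _ h))
        (h1 ▸ Ideal.mul_mem_right _ _ (Ideal.pow_mem_of_mem _ h n hn0))
    · rw [map_mul, map_mul, ← hθg, ← hθ, ← hθx, ← hθ, ha]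
  obtain ⟨e, he⟩ := exists_glue J hE Good hcov
    (fun t y t' y' ⟨x, hxy, hPx, hθx⟩ ⟨x', hxy', hPx', hθx'⟩ q hq ht ht' => by
      obtain ⟨g, ⟨s, hs, hsg⟩, -, ⟨c, hc, hθg⟩, -, -⟩ := hloc q hq
      obtain ⟨a, ha⟩ := hsg x
      obtain ⟨a', ha'⟩ := hsg x'
      obtain ⟨hanq, h1, h2⟩ := hgen q g s c hs hc hθg t x a ht hPx hθx ha
      obtain ⟨hanq', h1', h2'⟩ := hgen q g s c hs hc hθg t' x' a' ht' hPx' hθx' ha'
      let A1 := algebraMap B C a * t'
      let A2 := algebraMap B C a' * t
      have hd : A1 - A2 ∈ q.asIdeal := by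
        refine (q.2.mem_or_mem (hkerq q (c * (A1 - A2)) ?_)).resolve_left hc
        simp only [A1, A2, map_mul, map_sub] at h2 h2' ⊢
        calc algebraMap C C0 c * (algebraMap C C0 (algebraMap B C a) * algebraMap C C0 t' -
              algebraMap C C0 (algebraMap B C a') * algebraMap C C0 t)
            = algebraMap C C0 t' * (algebraMap C C0 (algebraMap B C a) * algebraMap C C0 c) -
              algebraMap C C0 t * (algebraMap C C0 (algebraMap B C a') * algebraMap C C0 c) := by ring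
          _ = 0 := by rw [h2, h2']; ring
      obtain ⟨σ, hσ, hσe⟩ := exists_factor_notMem q.asIdeal hn (q.2.mul_notMem hanq' ht) hd
      refine ⟨σ * P' g * algebraMap B C s,
        q.2.mul_notMem (q.2.mul_notMem hσ (hP'g q g c hc hθg)) hs, ?_⟩
      have h3 : (σ * P' g) * (A1 - A2) = 0 := by
        rw [show σ * P' g * (A1 - A2) = P' g * (σ * (A1 - A2)) by ring, hσe]
        calc P' g * (A1 ^ n - A2 ^ n)
            = t' ^ n * (algebraMap B C a ^ n * P' g) - t ^ n * (algebraMap B C a' ^ n * P' g) := by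
              simp only [A1, A2]; ring
          _ = 0 := by rw [← h1, ← h1']; ring
      have e1 : algebraMap B C s • y = algebraMap B C a • ι g := by
        rw [← hxy, algebraMap_smul, algebraMap_smul, ← map_smul, ha, map_smul]
      have e2 : algebraMap B C s • y' = algebraMap B C a' • ι g := by
        rw [← hxy', algebraMap_smul, algebraMap_smul, ← map_smul, ha', map_smul]
      rw [mul_smul, smul_sub, smul_comm (algebraMap B C s) t', smul_comm (algebraMap B C s) t, e1, e2, smul_smul,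
        smul_smul, ← sub_smul, smul_smul, mul_comm t' _, mul_comm t _, h3, zero_smul])
  let φ : C →ₗ[C] E := LinearMap.toSpanSingleton C E e
  refine ⟨LinearEquiv.ofBijective φ (FibDepthLib.bijective_of_isoOff
    (FibDepthLib.isoOff_of_killed fun q hq => ?_) hC (le_trans one_le_two hE))⟩
  obtain ⟨g, ⟨s, hs, hsg⟩, -, ⟨c, hc, hθg⟩, hgen1, hgen2⟩ := hloc q hq
  obtain ⟨t, y, hgood, ht⟩ := hcov q hq
  obtain ⟨r, hr, hre⟩ := he t y hgood q hq ht
  obtain ⟨x, hxy, hPx, hθx⟩ := hgood
  obtain ⟨a, ha⟩ := hsg x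
  obtain ⟨hanq, -, -⟩ := hgen q g s c hs hc hθg t x a ht hPx hθx ha
  have key : (r * algebraMap B C s * t) • e = (r * algebraMap B C a) • ι g := by
    rw [smul_sub, sub_eq_zero] at hre
    rw [mul_comm r (algebraMap B C s), mul_assoc, mul_smul, mul_smul, hre, smul_comm, ← hxy, algebraMap_smul,
      ← map_smul, ha, map_smul, mul_smul, algebraMap_smul]
  refine ⟨fun k hk => ?_, fun z => ?_⟩
  · obtain ⟨r', hr', hz⟩ := hgen2 (k * (r * algebraMap B C a)) (by
      rw [mul_smul, ← key, smul_comm, show k • e = 0 from hk, smul_zero])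
    exact ⟨r' * (r * algebraMap B C a), q.2.mul_notMem hr' (q.2.mul_notMem hr hanq), by
      rw [smul_eq_mul]
      calc r' * (r * algebraMap B C a) * k = r' * (k * (r * algebraMap B C a)) := by ring
        _ = 0 := hz⟩
  · obtain ⟨r', a', hr', hz⟩ := hgen1 z
    refine ⟨r * algebraMap B C a * r', q.2.mul_notMem (q.2.mul_notMem hr hanq) hr',
      a' * (r * algebraMap B C s * t), ?_⟩
    show _ = (a' * (r * algebraMap B C s * t)) • e
    rw [mul_smul, hz, mul_smul a', key, smul_comm]

end Groth.Agent.FibreDualLib
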