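import Groth.Agent.HomLib.Basic
import Groth.Agent.DCohLib.StalkTensor

/-!
# Evaluation and currying for sheaves of homomorphisms
-/

set_option autoImplicit false
set_option linter.style.haveILetI false
set_option backward.isDefEq.respectTransparency false
set_option maxHeartbeats 800000

universe u

open CategoryTheory CategoryTheory.Limits AlgebraicGeometry TopologicalSpace Opposite MonoidalCategory
open Groth.Agent.PullbackMod Groth.Agent.ModTensor Groth.Agent.DCohLib
open scoped TensorProduct

noncomputable section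

namespace Groth.Agent.FibreDualLib

variable {X : Scheme.{u}} (F G : X.Modules)

/-- Evaluation on sections. -/
def evSec (U : X.Opens) : Γ(F, U) ⊗[Γ(X, U)] Γ(RefHull.homSh F G, U) →ₗ[Γ(X, U)] Γ(G, U) :=
  TensorProduct.lift (LinearMap.mk₂ Γ(X, U) (fun m f => HomLib.ev f le_rfl m)
    (fun m m' f => map_add _ m m') (fun a m f => map_smul _ a m)
    (fun m f g => by rw [HomLib.ev_add]; rfl) (fun a m f => by rw [HomLib.ev_smul]; rfl))

theorem evSec_tmul (U : X.Opens) (m : Γ(F, U)) (f : Γ(RefHull.homSh F G, U)) :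
    evSec F G U (m ⊗ₜ f) = HomLib.ev f le_rfl m := rfl

theorem evSec_res {U V : X.Opens} (i : V ⟶ U) (z : Γ(F, U) ⊗[Γ(X, U)] Γ(RefHull.homSh F G, U)) :
    evSec F G V (res (pre X.sheaf F ⊗ pre X.sheaf (RefHull.homSh F G)) i.op z) =
      G.presheaf.map i.op (evSec F G U z) := by
  induction z using TensorProduct.induction_on with
  | zero =>
    exact ((congrArg _ (map_zero _)).trans (map_zero _)).trans
      ((congrArg _ (map_zero (evSec F G U))).trans (map_zero _)).symm
  | tmul m f =>
    refine (congrArg _ (res_tmul (pre X.sheaf F) (pre X.sheaf (RefHull.homSh F G)) i.op m f)).trans ?_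
    refine (evSec_tmul F G V (F.presheaf.map i.op m) ((RefHull.homSh F G).presheaf.map i.op f)).trans ?_
    refine HomLib.ext_germ _ _ fun x hx => ?_
    rw [HomLib.germ_ev]
    refine Eq.trans ?_ (G.presheaf.germ_res_apply i x hx (evSec F G U (m ⊗ₜ f))).symm
    rw [evSec_tmul, HomLib.germ_ev, TopCat.Presheaf.germ_res_apply]
    rfl
  | add a b ha hb =>
    exact ((congrArg _ (map_add _ a b)).trans ((map_add _ _ _).trans (congrArg₂ (· + ·) ha hb))).trans
      ((congrArg _ (map_add (evSec F G U) a b)).trans (map_add _ _ _)).symm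

theorem evSec_smul (U : X.Opens) (r : Γ(X, U)) (z : Γ(F, U) ⊗[Γ(X, U)] Γ(RefHull.homSh F G, U)) :
    evSec F G U (r • z) = r • evSec F G U z :=
  map_smul (evSec F G U) r z

/-- Evaluation before sheafification. -/
def evPre : pre X.sheaf F ⊗ pre X.sheaf (RefHull.homSh F G) ⟶ pre X.sheaf G :=
  PresheafOfModules.homMk
    { app := fun U => AddCommGrpCat.ofHom (evSec F G U.unop).toAddMonoidHom
      naturality := fun {U V} i => AddCommGrpCat.hom_ext (AddMonoidHom.ext fun z => evSec_res F G i.unop z) }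
    fun U r z => evSec_smul F G U.unop r z

/-- The evaluation morphism. -/
def evMor : tmod F (RefHull.homSh F G) ⟶ G :=
  ((PresheafOfModules.sheafificationAdjunction (𝟙 (ModSite.ringSh X.sheaf).obj)).homEquiv _ _).symm (evPre F G)

theorem evMor_app {U : X.Opens} (m : Γ(F, U)) (f : Γ(RefHull.homSh F G, U)) :
    (evMor F G).app U (pairS F (RefHull.homSh F G) m f) = HomLib.ev f le_rfl m := by
  let adj := PresheafOfModules.sheafificationAdjunction (𝟙 (ModSite.ringSh X.sheaf).obj)
  have h' : shUnit X.sheaf (pre X.sheaf F ⊗ pre X.sheaf (RefHull.homSh F G)) ≫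
      (preFunctor X.sheaf).map ((adj.homEquiv _ _).symm (evPre F G)) = evPre F G :=
    (adj.homEquiv_unit _ _ _).symm.trans (Equiv.apply_symm_apply _ _)
  exact congr(($h').app (op U) (m ⊗ₜ[Γ(X, U)] f : Γ(F, U) ⊗[Γ(X, U)] Γ(RefHull.homSh F G, U)))

/-- The evaluation morphism on stalks. -/
theorem evMor_stalk (x : X) (v : F.presheaf.stalk x) (θ : (RefHull.homSh F G).presheaf.stalk x) :
    PullbackMod.stalkLin (evMor F G) x (stalkTensor x F (RefHull.homSh F G) (v ⊗ₜ[X.presheaf.stalk x] θ)) =
      RefHull.evalStalk F G x θ v := by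
  obtain ⟨U, hx, m, f, rfl, rfl⟩ := exists_common_germ x v θ
  show PullbackMod.stalkLin (evMor F G) x (stalkTensorHom x (F.presheaf.germ U x hx m ⊗ₜ _)) = _
  rw [stalkTensorHom_tmul, RefHull.evalStalk_germ]
  show FlatLocus.stalkHom (evMor F G) x _ = _
  erw [TopCat.Presheaf.stalkFunctor_map_germ_apply]
  rw [Scheme.Modules.mapPresheaf_app]
  show G.presheaf.germ U x hx ((evMor F G).app U (pairS F (RefHull.homSh F G) m f)) = _
  rw [evMor_app, HomLib.germ_ev]

variable {F G} {Q : X.Modules}

/-- The family of stalk maps attached to a section by a pairing. -/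
def currySec (e : tmod F Q ⟶ G) (U : X.Opens) (q : Γ(Q, U)) : Γ(RefHull.homSh F G, U) :=
  ⟨fun x => PullbackMod.stalkLin e x.1 ∘ₗ (stalkTensor x.1 F Q).toLinearMap ∘ₗ
      (TensorProduct.mk (X.presheaf.stalk x.1) (F.presheaf.stalk x.1) (Q.presheaf.stalk x.1)).flip
        (Q.presheaf.germ U x.1 x.2 q),
    fun V i m x => ⟨V, x.2, 𝟙 V, e.app V (pairS F Q m (Q.presheaf.map i.op q)), fun y => by
      show PullbackMod.stalkLin e y.1 (stalkTensorHom y.1 (F.presheaf.germ V y.1 y.2 m ⊗ₜ
        Q.presheaf.germ U y.1 (i.le y.2) q)) = _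
      rw [← Q.presheaf.germ_res_apply i y.1 y.2 q, stalkTensorHom_tmul]
      show FlatLocus.stalkHom e y.1 _ = _
      erw [TopCat.Presheaf.stalkFunctor_map_germ_apply]
      rw [Scheme.Modules.mapPresheaf_app]⟩⟩

theorem currySec_add (e : tmod F Q ⟶ G) (U : X.Opens) (q q' : Γ(Q, U)) :
    currySec e U (q + q') = currySec e U q + currySec e U q' :=
  HomLib.ext_stalk _ _ fun x hx => by
    show _ = (currySec e U q).1 ⟨x, hx⟩ + (currySec e U q').1 ⟨x, hx⟩
    simp only [currySec, map_add, LinearMap.comp_add]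

theorem currySec_res (e : tmod F Q ⟶ G) {U V : X.Opens} (i : V ⟶ U) (q : Γ(Q, U)) :
    currySec e V (Q.presheaf.map i.op q) = (RefHull.homSh F G).presheaf.map i.op (currySec e U q) :=
  HomLib.ext_stalk _ _ fun x hx => by
    show _ = (currySec e U q).1 ⟨x, i.le hx⟩
    simp only [currySec]
    rw [TopCat.Presheaf.germ_res_apply]

theorem currySec_smul (e : tmod F Q ⟶ G) (U : X.Opens) (a : Γ(X, U)) (q : Γ(Q, U)) :
    currySec e U (a • q) = a • currySec e U q :=
  HomLib.ext_stalk _ _ fun x hx => by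
    show _ = X.presheaf.germ U x hx a • (currySec e U q).1 ⟨x, hx⟩
    simp only [currySec]
    rw [HomLib.germ_smul' hx a q, map_smul, LinearMap.comp_smul, LinearMap.comp_smul]

/-- The morphism adjoint to a pairing. -/
def curryMor (e : tmod F Q ⟶ G) : Q ⟶ RefHull.homSh F G :=
  ⟨PresheafOfModules.homMk
    { app := fun U => AddCommGrpCat.ofHom (AddMonoidHom.mk' (fun q => currySec e U.unop q) (currySec_add e U.unop))
      naturality := fun {U V} i => AddCommGrpCat.hom_ext (AddMonoidHom.ext fun q => currySec_res e i.unop q) }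
    (fun U a q => currySec_smul e U.unop a q)⟩

/-- The adjoint morphism on stalks. -/
theorem curryMor_stalk (e : tmod F Q ⟶ G) (x : X) (q : Q.presheaf.stalk x) (v : F.presheaf.stalk x) :
    RefHull.evalStalk F G x (PullbackMod.stalkLin (curryMor e) x q) v =
      PullbackMod.stalkLin e x (stalkTensor x F Q (v ⊗ₜ[X.presheaf.stalk x] q)) := by
  obtain ⟨U, hx, q, rfl⟩ := TopCat.Presheaf.exists_germ_eq Q.presheaf q
  have : PullbackMod.stalkLin (curryMor e) x (Q.presheaf.germ U x hx q) =
      (RefHull.homSh F G).presheaf.germ U x hx (currySec e U q) := by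
    show FlatLocus.stalkHom (curryMor e) x _ = _
    erw [TopCat.Presheaf.stalkFunctor_map_germ_apply]
    rfl
  rw [this, RefHull.evalStalk_germ]
  rfl

end Groth.Agent.FibreDualLib
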