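import Groth.Agent.FibreDualLib.BCSk
import Groth.Agent.FibreDualLib.ArtinPrime

/-!
# Localisations of stalks at primes are stalks at generisations
-/

set_option autoImplicit false
set_option linter.style.haveILetI false
set_option linter.unusedSectionVars false
set_option backward.isDefEq.respectTransparency false
set_option maxHeartbeats 1000000

universe u

open CategoryTheory CategoryTheory.Limits AlgebraicGeometry IsLocalRing TopologicalSpace

noncomputable section

namespace Groth.Agent.FibreDualLib

/-- Two models of a localisation are semilinearly isomorphic. -/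
theorem exists_semilinear_equiv {B L L' N M M' : Type u} [CommRing B] [CommRing L] [CommRing L'] [Algebra B L]
    [Algebra B L'] (S : Submonoid B) [IsLocalization S L] [IsLocalization S L'] [AddCommGroup N] [Module B N]
    [AddCommGroup M] [Module B M] [Module L M] [IsScalarTower B L M] [AddCommGroup M'] [Module B M'] [Module L' M']
    [IsScalarTower B L' M'] (f : N →ₗ[B] M) [IsLocalizedModule S f] (f' : N →ₗ[B] M') [IsLocalizedModule S f'] :
    ∃ ψ : L ≃+* L', ∃ e : M ≃+ M', ∀ (r : L) (x : M), e (r • x) = ψ r • e x := by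
  let ε : L ≃ₐ[B] L' := IsLocalization.algEquiv S L L'
  let e := IsLocalizedModule.linearEquiv S f f'
  refine ⟨ε.toRingEquiv, e.toAddEquiv, fun r x => ?_⟩
  show e (r • x) = ε r • e x
  obtain ⟨⟨a, s⟩, has⟩ := IsLocalization.surj S r
  have hu : IsUnit (algebraMap B L' s) := IsLocalization.map_units L' s
  refine hu.smul_left_cancel.1 ?_
  rw [algebraMap_smul, ← map_smul, ← algebraMap_smul L (s : B), ← mul_smul, ← mul_smul, mul_comm, has,
    algebraMap_smul, map_smul, ← ε.commutes (s : B), ← map_mul, mul_comm, has, ε.commutes, algebraMap_smul]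

/-- The localisation of a stalk at a prime is the stalk at the corresponding generisation. -/
theorem exists_generization_equiv {Z : Scheme.{u}} (F : Z.Modules) [Coh.IsQCoh F] (w : Z)
    (P : PrimeSpectrum (Z.presheaf.stalk w)) :
    ∃ ψ : Localization.AtPrime P.asIdeal ≃+* Z.presheaf.stalk (Z.fromSpecStalk w P),
      ∃ e : LocalizedModule P.asIdeal.primeCompl (F.presheaf.stalk w) ≃+ F.presheaf.stalk (Z.fromSpecStalk w P),
        ∀ (r : Localization.AtPrime P.asIdeal) (x : LocalizedModule P.asIdeal.primeCompl (F.presheaf.stalk w)),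
          e (r • x) = ψ r • e x := by
  obtain ⟨_, ⟨W : Z.Opens, (hW : IsAffineOpen W), rfl⟩, hwW, -⟩ :=
    Z.isBasis_affineOpens.exists_subset_of_mem_open (Set.mem_univ w) isOpen_univ
  let B := Γ(Z, W)
  let O := Z.presheaf.stalk w
  letI : Algebra B O := TopCat.Presheaf.algebra_section_stalk Z.presheaf ⟨w, hwW⟩
  haveI : IsLocalization.AtPrime O (AssLib.pr hW hwW) := hW.isLocalization_stalk ⟨w, hwW⟩
  letI : Module B (F.presheaf.stalk w) := Module.compHom _ (Z.presheaf.germ W w hwW).hom
  haveI : IsScalarTower B O (F.presheaf.stalk w) := .of_algebraMap_smul fun _ _ => rfl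
  haveI := FlatLocus.isLocalizedModule_germL F hW w hwW
  let q : PrimeSpectrum B := PrimeSpectrum.comap (algebraMap B O) P
  let v := AssLib.pt hW q
  have hv : v ∈ W := AssLib.pt_mem hW q
  have hpr : AssLib.pr hW hv = q.asIdeal := AssLib.pr_pt hW q
  have hpt : Z.fromSpecStalk w P = v := by
    rw [← hW.fromSpecStalk_eq_fromSpecStalk hwW]
    rfl
  letI : Algebra B (Z.presheaf.stalk v) := TopCat.Presheaf.algebra_section_stalk Z.presheaf ⟨v, hv⟩
  haveI : IsLocalization.AtPrime (Z.presheaf.stalk v) (AssLib.pr hW hv) := hW.isLocalization_stalk ⟨v, hv⟩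
  letI : Module B (F.presheaf.stalk v) := Module.compHom _ (Z.presheaf.germ W v hv).hom
  haveI : IsScalarTower B (Z.presheaf.stalk v) (F.presheaf.stalk v) := .of_algebraMap_smul fun _ _ => rfl
  have aux : ∀ q' : PrimeSpectrum B, q' = hW.primeIdealOf ⟨v, hv⟩ →
      IsLocalizedModule q'.asIdeal.primeCompl (FlatLocus.germL F W v hv) ∧
      IsLocalization.AtPrime (Z.presheaf.stalk v) q'.asIdeal := by
    rintro q' rfl
    exact ⟨FlatLocus.isLocalizedModule_germL F hW v hv, hW.isLocalization_stalk ⟨v, hv⟩⟩
  obtain ⟨hl1, hl2⟩ := aux q (AssLib.primeIdealOf_pt hW q).symm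
  haveI := hl1
  haveI := hl2
  let LP := Localization.AtPrime P.asIdeal
  let MP := LocalizedModule P.asIdeal.primeCompl (F.presheaf.stalk w)
  haveI : IsLocalization.AtPrime LP q.asIdeal :=
    IsLocalization.isLocalization_isLocalization_atPrime_isLocalization (AssLib.pr hW hwW).primeCompl LP P.asIdeal
  let g := ((LocalizedModule.mkLinearMap P.asIdeal.primeCompl (F.presheaf.stalk w)).restrictScalars B).comp
    (FlatLocus.germL F W w hwW)
  have hg : IsBaseChange LP g :=
    (IsLocalizedModule.isBaseChange (AssLib.pr hW hwW).primeCompl O (FlatLocus.germL F W w hwW)).comp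
      (IsLocalizedModule.isBaseChange P.asIdeal.primeCompl LP
        (LocalizedModule.mkLinearMap P.asIdeal.primeCompl (F.presheaf.stalk w)))
  haveI : IsLocalizedModule q.asIdeal.primeCompl g := (isLocalizedModule_iff_isBaseChange q.asIdeal.primeCompl LP g).2 hg
  rw [hpt]
  exact exists_semilinear_equiv q.asIdeal.primeCompl g (FlatLocus.germL F W v hv)

variable {Z : Scheme.{u}}

/-- The ideal of the complement of an open set in a local ring. -/
def idealOff (U : Z.Opens) (w : Z) : Ideal (Z.presheaf.stalk w) :=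
  PrimeSpectrum.vanishingIdeal (Z.fromSpecStalk w ⁻¹' (U : Set Z)ᶜ)

theorem idealOff_le_iff (U : Z.Opens) (w : Z) (P : PrimeSpectrum (Z.presheaf.stalk w)) :
    idealOff U w ≤ P.asIdeal ↔ Z.fromSpecStalk w P ∉ U := by
  have h : PrimeSpectrum.zeroLocus ((idealOff U w : Ideal (Z.presheaf.stalk w)) : Set (Z.presheaf.stalk w)) =
      Z.fromSpecStalk w ⁻¹' (U : Set Z)ᶜ := by
    rw [idealOff, PrimeSpectrum.zeroLocus_vanishingIdeal_eq_closure]
    exact IsClosed.closure_eq (U.2.isClosed_compl.preimage (Z.fromSpecStalk w).continuous)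
  exact (Set.ext_iff.1 h P).trans Iff.rfl

/-- Depth two along the complement of an open set from depth two at its points. -/
theorem two_le_idealDepth_of_points [IsLocallyNoetherian Z] {F : Z.Modules} (hF : Coh.IsCoh F) (U : Z.Opens) (w : Z)
    (h : ∀ v : Z, v ⤳ w → v ∉ U → (2 : ℕ∞) ≤ LocCoh.depth (Z.presheaf.stalk v) (F.presheaf.stalk v)) :
    2 ≤ LocCoh.idealDepth (idealOff U w) (F.presheaf.stalk w) := by
  haveI := hF.1
  haveI := PullbackMod.finite_stalk_of_isFT hF.2 w
  rw [← Nat.cast_ofNat, QGorLib.le_idealDepth_iff_forall]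
  intro P hP
  obtain ⟨ψ, e, he⟩ := exists_generization_equiv F w P
  have hh : FibreDepth.FibIso (Localization.AtPrime P.asIdeal)
      (LocalizedModule P.asIdeal.primeCompl (F.presheaf.stalk w)) (Z.presheaf.stalk (Z.fromSpecStalk w P))
      (F.presheaf.stalk (Z.fromSpecStalk w P)) := ⟨ψ.toRingHom, ψ.surjective, e, he⟩
  rw [hh.depth_eq]
  refine h _ ?_ ((idealOff_le_iff U w P).1 hP)
  have : Z.fromSpecStalk w P ∈ Set.range (Z.fromSpecStalk w) := ⟨P, rfl⟩
  rwa [Scheme.range_fromSpecStalk] at this

/-- Invertibility on an open set gives freeness of a stalk off the ideal of its complement. -/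
theorem free_localization_stalk {F : Z.Modules} [Coh.IsQCoh F] (U : Z.Opens) (w : Z)
    (hU : ∀ v : Z, v ∈ U → RelCanon.InvertibleAt F v) (P : PrimeSpectrum (Z.presheaf.stalk w))
    (hP : ¬ idealOff U w ≤ P.asIdeal) :
    Module.Free (Localization.AtPrime P.asIdeal) (LocalizedModule P.asIdeal.primeCompl (F.presheaf.stalk w)) := by
  obtain ⟨ψ, e, he⟩ := exists_generization_equiv F w P
  let v := Z.fromSpecStalk w P
  obtain ⟨l⟩ := exists_stalk_equiv_of_invertibleAt (hU v (not_not.1 fun h => hP ((idealOff_le_iff U w P).2 h)))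
  let E : Localization.AtPrime P.asIdeal ≃+ LocalizedModule P.asIdeal.primeCompl (F.presheaf.stalk w) :=
    (ψ.toAddEquiv.trans l.toAddEquiv).trans e.symm
  refine Module.Free.of_equiv
    ({ E with map_smul' := fun r x => ?_ } : Localization.AtPrime P.asIdeal ≃ₗ[Localization.AtPrime P.asIdeal]
      LocalizedModule P.asIdeal.primeCompl (F.presheaf.stalk w))
  show e.symm (l (ψ (r * x))) = r • e.symm (l (ψ x))
  apply e.injective
  rw [he, AddEquiv.apply_symm_apply, AddEquiv.apply_symm_apply, map_mul, ← smul_eq_mul, map_smul]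

end Groth.Agent.FibreDualLib
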