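import Groth.Agent.FibreDualLib.RelSkChart
import Groth.Agent.FibreDualLib.BCLocal
import Groth.Agent.FibreDualLib.Periodic
import Groth.Agent.S18714

/-!
# The relative `(S₂)` stratum of a reflexive power of the relative canonical sheaf at a point
-/

set_option autoImplicit false
set_option linter.style.haveILetI false
set_option linter.unusedSectionVars false
set_option backward.isDefEq.respectTransparency false
set_option backward.isDefEq.respectTransparency.types false
set_option maxHeartbeats 1600000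
set_option synthInstance.maxHeartbeats 200000

universe u

open CategoryTheory CategoryTheory.Limits AlgebraicGeometry TopologicalSpace IsLocalRing
open scoped TensorProduct

noncomputable section

namespace Groth.Agent.FibreDualLib

/-- Sections of a module are locally free where the module is invertible. -/
theorem free_localized_sections {Z : Scheme.{u}} (F : Z.Modules) [Coh.IsQCoh F] {W : Z.Opens} (hW : IsAffineOpen W)
    {v : Z} (hv : v ∈ W) (h : RelCanon.InvertibleAt F v) :
    Module.Free (Localization.AtPrime (AssLib.pr hW hv)) (LocalizedModule (AssLib.pr hW hv).primeCompl Γ(F, W)) := by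
  let C := Γ(Z, W)
  let q := AssLib.pr hW hv
  let O := Z.presheaf.stalk v
  letI : Algebra C O := TopCat.Presheaf.algebra_section_stalk Z.presheaf ⟨v, hv⟩
  haveI : IsLocalization.AtPrime O q := hW.isLocalization_stalk ⟨v, hv⟩
  letI : Module C (F.presheaf.stalk v) := Module.compHom _ (Z.presheaf.germ W v hv).hom
  haveI : IsScalarTower C O (F.presheaf.stalk v) := .of_algebraMap_smul fun _ _ => rfl
  haveI := FlatLocus.isLocalizedModule_germL F hW v hv
  obtain ⟨l⟩ := exists_stalk_equiv_of_invertibleAt h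
  let e : Localization.AtPrime q ≃ₗ[C] LocalizedModule q.primeCompl Γ(F, W) :=
    (IsLocalization.algEquiv q.primeCompl (Localization.AtPrime q) O).toLinearEquiv ≪≫ₗ l.restrictScalars C ≪≫ₗ
      IsLocalizedModule.linearEquiv q.primeCompl (FlatLocus.germL F W v hv)
        (LocalizedModule.mkLinearMap q.primeCompl Γ(F, W))
  exact Module.Free.of_equiv (LinearEquiv.extendScalarsOfIsLocalization q.primeCompl (Localization.AtPrime q) e)

/-- Depth of the localised sections. -/
theorem depth_localized_sections {Z : Scheme.{u}} [IsLocallyNoetherian Z] (F : Z.Modules) (hF : Coh.IsCoh F)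
    {W : Z.Opens} (hW : IsAffineOpen W) {v : Z} (hv : v ∈ W) :
    LocCoh.depth (Localization.AtPrime (AssLib.pr hW hv)) (LocalizedModule (AssLib.pr hW hv).primeCompl Γ(F, W)) =
      LocCoh.depth (Z.presheaf.stalk v) (F.presheaf.stalk v) := by
  haveI := hF.1
  haveI := QCohLib.finite_sections F hF.2 hW
  haveI : IsNoetherianRing Γ(Z, W) := IsLocallyNoetherian.component_noetherian ⟨W, hW⟩
  haveI : Module.Finite (Localization.AtPrime (AssLib.pr hW hv)) (LocalizedModule (AssLib.pr hW hv).primeCompl Γ(F, W)) :=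
    Module.Finite.of_isLocalizedModule (AssLib.pr hW hv).primeCompl (LocalizedModule.mkLinearMap _ _)
  exact (fibIso_stalk F hW hv).depth_eq

variable {A : Type u} [CommRing A] [IsNoetherianRing A] {Y : Scheme.{u}} [Y.Over (Spec (CommRingCat.of A))]
  [IsProper (Y ↘ Spec (CommRingCat.of A))]

local notation3 "S₀" => Spec (CommRingCat.of A)

/-- At a point of the closed fibre, relative `(S₂)` of a reflexive power of the relative canonical sheaf after a
local base change is governed by an ideal of the henselian base. -/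
theorem exists_ideal_relSk [HenselianLocalRing A] (d : ℕ) (hS : RelCanon.IsSkMor (Y ↘ S₀) 2)
    (hd : Cyc.HasRelDim (Y ↘ S₀) d) (ω : Y.Modules) (hω : RelCanon.IsDualizingSheaf A Y d ω) (U : Y.Opens)
    (hU : (U : Set Y) ⊆ RelCanon.gorLocus (Y ↘ S₀))
    (hG : ∀ y : Y, y ∉ U →
      (2 : WithBot ℕ∞) ≤ ringKrullDim (((Y ↘ S₀).fiber ((Y ↘ S₀) y)).presheaf.stalk ((Y ↘ S₀).asFiber y)))
    (m : ℤ) (y : Y) (hy : (Y ↘ S₀) y = IsLocalRing.closedPoint A) :
    ∃ 𝔞 : Ideal A, ∀ (B : Type u) [CommRing B] [IsNoetherianRing B] [IsLocalRing B] (φ : A →+* B) [IsLocalHom φ]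
      (Y' : Scheme.{u}) [Y'.Over (Spec (CommRingCat.of B))] (p : Y' ⟶ Y),
      IsPullback p (Y' ↘ Spec (CommRingCat.of B)) (Y ↘ S₀) (Spec.map (CommRingCat.ofHom φ)) →
      ∀ (ω' : Y'.Modules), RelCanon.IsDualizingSheaf B Y' d ω' →
        ((∀ y' : Y', p y' = y → (Y' ↘ Spec (CommRingCat.of B)) y' = IsLocalRing.closedPoint B →
          RelCanon.RelSkAt (Y' ↘ Spec (CommRingCat.of B)) 2 (RelCanon.refPowZ ω' m) y') ↔ Ideal.map φ 𝔞 = ⊥) := by
  classical
  let f := Y ↘ S₀
  haveI : IsNoetherianRing (CommRingCat.of A) := inferInstanceAs (IsNoetherianRing A)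
  haveI : IsLocallyNoetherian Y := LocallyOfFiniteType.isLocallyNoetherian f
  haveI := hS.1
  obtain ⟨_, ⟨V : Y.Opens, (hV : IsAffineOpen V), rfl⟩, hyV, -⟩ :=
    Y.isBasis_affineOpens.exists_subset_of_mem_open (Set.mem_univ y) isOpen_univ
  let C := Γ(Y, V)
  haveI : IsNoetherianRing C := IsLocallyNoetherian.component_noetherian ⟨V, hV⟩
  let α : CommRingCat.of A ⟶ C := (Scheme.ΓSpecIso (CommRingCat.of A)).inv ≫ f.appLE ⊤ V le_top
  letI : Algebra A C := α.hom.toAlgebra
  have halg : ∀ a : A, algebraMap A C a = f.appLE ⊤ V le_top ((Scheme.ΓSpecIso (CommRingCat.of A)).inv a) := fun _ => rfl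
  have hbij := ((ConcreteCategory.isIso_iff_bijective (Scheme.ΓSpecIso (CommRingCat.of A)).inv).1 inferInstance)
  haveI : Module.Flat A C := RingHom.flat_algebraMap_iff.1 (RingHom.Flat.stableUnderComposition _ _
    (RingHom.Flat.of_bijective hbij) (f.flat_appLE (isAffineOpen_top _) hV le_top))
  have hft : Algebra.FiniteType A C := RingHom.finiteType_algebraMap.1
    ((f.finiteType_appLE (isAffineOpen_top _) hV le_top).comp (RingHom.FiniteType.of_surjective _ hbij.2))
  -- fibre rings
  have hptop : ∀ q : PrimeSpectrum C, ∃ (v : Y) (hv : v ∈ V), AssLib.pr hV hv = q.asIdeal := fun q =>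
    ⟨_, AssLib.pt_mem hV q, AssLib.pr_pt hV q⟩
  have hfibre : ∀ (v : Y) (hv : v ∈ V),
      LocCoh.HasSk 2 (EGA4.FibLocRing A C (AssLib.pr hV hv)) (EGA4.FibLocRing A C (AssLib.pr hV hv)) ∧
      ringKrullDim (EGA4.FibLocRing A C (AssLib.pr hV hv)) =
        ringKrullDim ((f.fiber (f v)).presheaf.stalk (f.asFiber v)) := by
    intro v hv
    let q := AssLib.pr hV hv
    let O := Y.presheaf.stalk v
    letI : Algebra C O := TopCat.Presheaf.algebra_section_stalk Y.presheaf ⟨v, hv⟩
    haveI : IsLocalization.AtPrime O q := hV.isLocalization_stalk ⟨v, hv⟩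
    letI : Module C ((Coh.structureModule Y).presheaf.stalk v) := Module.compHom _ (Y.presheaf.germ V v hv).hom
    haveI : IsScalarTower C O ((Coh.structureModule Y).presheaf.stalk v) := .of_algebraMap_smul fun _ _ => rfl
    let g : C →ₗ[C] (Coh.structureModule Y).presheaf.stalk v :=
      ((RefOne.oEquiv v).restrictScalars C).toLinearMap.comp (Algebra.linearMap C O)
    have hg : IsLocalizedModule q.primeCompl g := by
      haveI : IsLocalizedModule q.primeCompl (Algebra.linearMap C O) :=
        isLocalizedModule_iff_isLocalization.2 inferInstance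
      exact IsLocalizedModule.of_linearEquiv _ _ _
    obtain ⟨-, hsk⟩ := (relSkAt_iff_chart f hV halg (DevLib.isCoh_structureModule Y) C 2 v hv g hg).1
      (relSk_structureModule f hS v)
    constructor
    · refine (QGorNhdLib.hasSk_congr_module ?_ 2).1 ((hasSk_fibLocMod_iff q 2 C).2 hsk)
      let L := Localization.AtPrime q
      let I : Ideal L := (q.comap (algebraMap A C)).map (algebraMap A L)
      let e1 : LocalizedModule q.primeCompl C ≃ₗ[L] L := CAlgBasics.selfLocEquiv q.primeCompl
      let e2 : (LocalizedModule q.primeCompl C ⧸ (I • ⊤ : Submodule L (LocalizedModule q.primeCompl C))) ≃ₗ[L] (L ⧸ I) :=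
        Submodule.Quotient.equiv _ I e1 (by
          rw [Submodule.map_smul'', Submodule.map_top, LinearEquiv.range, smul_eq_mul, Ideal.mul_top])
      exact e2.extendScalarsOfSurjective (Ideal.Quotient.mk_surjective (I := I))
    · have key : ∀ (t : S₀) (w : f.fiber t), ringKrullDim ((f.fiber t).presheaf.stalk w) =
          ringKrullDim (Y.presheaf.stalk (f.fiberι t w) ⧸ FibreDepth.fibreIdeal f (f.fiberι t w)) := fun t w =>
        (ringKrullDim_eq_of_ringEquiv ((RingHom.quotientKerEquivOfSurjective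
          (FlatLocus.fiberι_stalkMap_surjective f t w)).symm.trans
          (Ideal.quotEquivOfEq (FlatLocus.ker_fiberι_stalkMap f t w))))
      have key2 : ∀ v' : Y, v' = v → ringKrullDim (Y.presheaf.stalk v' ⧸ FibreDepth.fibreIdeal f v') =
          ringKrullDim (O ⧸ FibreDepth.fibreIdeal f v) := by rintro _ rfl; rfl
      rw [key, key2 _ (f.fiberι_asFiber v)]
      let ε : Localization.AtPrime q ≃ₐ[C] O := IsLocalization.algEquiv q.primeCompl _ O
      refine ringKrullDim_eq_of_ringEquiv (Ideal.quotientEquiv _ _ ε.toRingEquiv ?_)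
      exact (fibreIdeal_eq_map f hV halg v hv ε).symm
  have hS2 : ∀ q : PrimeSpectrum C, LocCoh.HasSk 2 (EGA4.FibLocRing A C q.asIdeal) (EGA4.FibLocRing A C q.asIdeal) := by
    intro q
    obtain ⟨v, hv, hq⟩ := hptop q
    have h := (hfibre v hv).1
    have e : (⟨AssLib.pr hV hv, inferInstance⟩ : PrimeSpectrum C) = q := PrimeSpectrum.ext hq
    subst e
    exact h
  -- the module
  let P := RelCanon.refPowZ ω m
  obtain ⟨hinvω, hcoh, hpow⟩ := refPowZ_restrict_gor d hS hd ω hω U hU
  obtain ⟨T, hT, hPT⟩ := exists_eq_ddual hcoh m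
  have hP : Coh.IsCoh P := by
    show Coh.IsCoh (RelCanon.refPowZ ω m)
    rw [hPT]; exact RefOne.isCoh_dual (RefOne.isCoh_dual hT)
  haveI := hP.1
  let F := Γ(P, V)
  haveI : Module.Finite C F := QCohLib.finite_sections P hP.2 hV
  let J : Ideal C := PrimeSpectrum.vanishingIdeal (hV.fromSpec ⁻¹' (U : Set Y)ᶜ)
  have hJ : ∀ q : PrimeSpectrum C, J ≤ q.asIdeal ↔ AssLib.pt hV q ∉ U := by
    intro q
    have h : PrimeSpectrum.zeroLocus ((J : Ideal C) : Set C) = hV.fromSpec ⁻¹' (U : Set Y)ᶜ := by
      rw [PrimeSpectrum.zeroLocus_vanishingIdeal_eq_closure]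
      exact IsClosed.closure_eq (U.2.isClosed_compl.preimage hV.fromSpec.continuous)
    exact (Set.ext_iff.1 h q).trans Iff.rfl
  have hFU : ∀ q : PrimeSpectrum C, ¬ J ≤ q.asIdeal →
      Module.Free (Localization.AtPrime q.asIdeal) (LocalizedModule q.asIdeal.primeCompl F) := by
    intro q hq
    have h := free_localized_sections P hV (AssLib.pt_mem hV q)
      (invertibleAt_of_restrict U (hpow m).2.1 (not_not.1 fun h' => hq ((hJ q).2 h')))
    have e : (⟨AssLib.pr hV (AssLib.pt_mem hV q), inferInstance⟩ : PrimeSpectrum C) = q :=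
      PrimeSpectrum.ext (AssLib.pr_pt hV q)
    rw [← e]
    exact h
  have hdepO : ∀ v : Y, v ∉ U → (2 : ℕ∞) ≤ LocCoh.depth (Y.presheaf.stalk v) (Y.presheaf.stalk v) :=
    fun v hv => two_le_depth_stalk f hS v (hG v hv)
  have hdepP : ∀ v : Y, v ∉ U → (2 : ℕ∞) ≤ LocCoh.depth (Y.presheaf.stalk v) (P.presheaf.stalk v) := fun v hv => by
    show (2 : ℕ∞) ≤ LocCoh.depth (Y.presheaf.stalk v) ((RelCanon.refPowZ ω m).presheaf.stalk v)
    have hD := RefOne.isCoh_dual hT
    rw [hPT]
    haveI := hD.1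
    haveI := PullbackMod.finite_stalk_of_isFT hD.2 v
    show (2 : ℕ∞) ≤ LocCoh.depth (Y.presheaf.stalk v) ((RefHull.dual (RefHull.dual T)).presheaf.stalk v)
    rw [CAlgBasics.depth_congr (RefOne.dualStalk hD v)]
    exact CAlgBasics.two_le_depth_linearMap (M := (RefHull.dual T).presheaf.stalk v)
      (N := Y.presheaf.stalk v) (hdepO v hv)
  haveI : Module.IsReflexive C F := by
    refine QGorLib.isReflexive_of_off (I := J) ?_ (fun q hq => ?_) ?_
    · rw [← Nat.cast_one, QGorLib.le_idealDepth_iff_forall]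
      intro q hq
      have h := (hdepO _ ((hJ q).1 hq))
      letI : Algebra C (Y.presheaf.stalk (AssLib.pt hV q)) :=
        TopCat.Presheaf.algebra_section_stalk Y.presheaf ⟨_, AssLib.pt_mem hV q⟩
      haveI hl : IsLocalization.AtPrime (Y.presheaf.stalk (AssLib.pt hV q)) q.asIdeal := by
        have h' := hV.isLocalization_stalk ⟨AssLib.pt hV q, AssLib.pt_mem hV q⟩
        rwa [AssLib.primeIdealOf_pt hV q] at h'
      rw [QGorLib.depth_localizedSelf_eq]
      exact (le_trans (by exact_mod_cast one_le_two) h).trans_eq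
        (haveI : IsNoetherianRing (Localization.AtPrime q.asIdeal) := IsLocalization.isNoetherianRing q.asIdeal.primeCompl _ inferInstance
        FlatDepth.depth_eq_of_ringEquiv (IsLocalization.algEquiv q.asIdeal.primeCompl (Localization.AtPrime q.asIdeal)
          (Y.presheaf.stalk (AssLib.pt hV q))).toRingEquiv)
    · haveI := hFU q hq
      haveI : Module.Finite (Localization.AtPrime q.asIdeal) (LocalizedModule q.asIdeal.primeCompl F) :=
        Module.Finite.of_isLocalizedModule q.asIdeal.primeCompl (LocalizedModule.mkLinearMap q.asIdeal.primeCompl F)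
      exact @Module.IsReflexive.of_finite_of_free _ (LocalizedModule q.asIdeal.primeCompl F) _ _ _ inferInstance inferInstance
    · rw [← Nat.cast_ofNat, QGorLib.le_idealDepth_iff_forall]
      intro q hq
      have h := (depth_localized_sections P hP hV (AssLib.pt_mem hV q)).symm ▸ hdepP _ ((hJ q).1 hq)
      have e : (⟨AssLib.pr hV (AssLib.pt_mem hV q), inferInstance⟩ : PrimeSpectrum C) = q :=
        PrimeSpectrum.ext (AssLib.pr_pt hV q)
      rw [← e]
      exact_mod_cast h
  have hcodim : ∀ q : PrimeSpectrum C, J ≤ q.asIdeal →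
      (2 : WithBot ℕ∞) ≤ ringKrullDim (EGA4.FibLocRing A C q.asIdeal) := by
    intro q hq
    have h := (hfibre _ (AssLib.pt_mem hV q)).2
    have e : (⟨AssLib.pr hV (AssLib.pt_mem hV q), inferInstance⟩ : PrimeSpectrum C) = q :=
      PrimeSpectrum.ext (AssLib.pr_pt hV q)
    rw [← e]
    exact (hG _ ((hJ q).1 hq)).trans_eq h.symm
  let n : PrimeSpectrum C := hV.primeIdealOf ⟨y, hyV⟩
  have hn : (maximalIdeal A).map (algebraMap A C) ≤ n.asIdeal := by
    rw [Ideal.map_le_iff_le_comap, base_prime_eq f hV halg y hyV, hy]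
    exact le_rfl
  obtain ⟨𝔞, h𝔞⟩ := S18714.result A C hft hS2 F J hFU hcodim n hn
  refine ⟨𝔞, fun B _ _ _ φ _ Y' _ p hp ω' hω' => ?_⟩
  -- the base change of the chart
  let f' := Y' ↘ Spec (CommRingCat.of B)
  let g := Spec.map (CommRingCat.ofHom φ)
  haveI : IsNoetherianRing (CommRingCat.of B) := inferInstanceAs (IsNoetherianRing B)
  haveI : IsProper f' := MorphismProperty.of_isPullback (P := @IsProper) hp ‹_›
  haveI : IsLocallyNoetherian Y' := LocallyOfFiniteType.isLocallyNoetherian f'
  let V' : Y'.Opens := p ⁻¹ᵁ V ⊓ f' ⁻¹ᵁ ⊤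
  have hV' : IsAffineOpen V' :=
    (PullbackMod.isPushout_appLE hp (isAffineOpen_top _) hV (isAffineOpen_top _) le_top le_top).1
  let C' := Γ(Y', V')
  haveI : IsNoetherianRing C' := IsLocallyNoetherian.component_noetherian ⟨V', hV'⟩
  letI : Algebra A B := φ.toAlgebra
  let β : CommRingCat.of B ⟶ C' := (Scheme.ΓSpecIso (CommRingCat.of B)).inv ≫ f'.appLE ⊤ V' le_top
  let γ : C ⟶ C' := p.appLE V V' inf_le_left
  letI : Algebra B C' := β.hom.toAlgebra
  letI : Algebra C C' := γ.hom.toAlgebra
  letI : Algebra A C' := (α ≫ γ).hom.toAlgebra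
  haveI : IsScalarTower A C C' := .of_algebraMap_eq fun _ => rfl
  have halg' : ∀ b : B, algebraMap B C' b = f'.appLE ⊤ V' le_top ((Scheme.ΓSpecIso (CommRingCat.of B)).inv b) :=
    fun _ => rfl
  have hsq : CategoryTheory.IsPushout α (CommRingCat.ofHom φ) γ β := by
    let US : (Spec (CommRingCat.of A)).Opens := ⊤
    let UT : (Spec (CommRingCat.of B)).Opens := ⊤
    have hUST : UT ≤ g ⁻¹ᵁ US := fun _ _ => trivial
    have hUSX : V ≤ f ⁻¹ᵁ US := fun _ _ => trivial
    haveI := isIso_pushoutSection_of_isAffineOpen hp hUST hUSX (UY := V') rfl (isAffineOpen_top _) (isAffineOpen_top _) hV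
    have h0 := (isIso_pushoutSection_iff hp hUST hUSX (UY := V') rfl).mp inferInstance
    refine h0.of_iso (Scheme.ΓSpecIso (CommRingCat.of A)) (Iso.refl _) (Scheme.ΓSpecIso (CommRingCat.of B))
      (Iso.refl _) ?_ ?_ ?_ ?_
    · simp [α, C, US]
      rfl
    · rw [show g.appLE US UT hUST = g.appTop from Scheme.Hom.appLE_eq_app g]
      exact (Scheme.ΓSpecIso_naturality (CommRingCat.ofHom φ))
    · simp [γ, C']
    · simp [β, C', UT]
      rfl
  haveI : IsScalarTower A B C' := .of_algebraMap_eq fun a => congr($(hsq.w) a)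
  haveI hpush : Algebra.IsPushout A B C C' := CommRingCat.isPushout_iff_isPushout.mp hsq.flip
  have hpush' : Algebra.IsPushout A C B C' := hpush.symm
  rw [show Ideal.map φ 𝔞 = 𝔞.map (algebraMap A B) from rfl, ← h𝔞 B inferInstance C' hpush']
  -- the translation at the points over `y`
  obtain ⟨-, ⟨e⟩, -⟩ := refPowZ_baseChange d hS hd ω hω U hU hG φ p hp ω' hω' m
  obtain ⟨-, hcoh'⟩ : True ∧ Coh.IsCoh ω' := by
    obtain ⟨hS', hd'⟩ := isSkMor_baseChange hp 2 d hS hd
    exact ⟨trivial, (relCanonical_model d hS' hd' ω' hω').1⟩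
  let P' := RelCanon.refPowZ ω' m
  have hP' : Coh.IsCoh P' := by
    obtain ⟨T', hT', h'⟩ := exists_eq_ddual hcoh' m
    show Coh.IsCoh (RelCanon.refPowZ ω' m)
    rw [h']; exact RefOne.isCoh_dual (RefOne.isCoh_dual hT')
  let Q := (Scheme.Modules.pullback p).obj P
  have hQ : Coh.IsCoh Q := PullbackMod.isCoh_pullback p _ hP
  haveI := hQ.1
  let DD := Module.Dual C' (Module.Dual C' (C' ⊗[C] F))
  obtain ⟨θ, -⟩ := PullbackMod.exists_pullback_sections_equiv p P hV hV' inf_le_left
  haveI hfinD : Module.Finite C' DD := by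
    haveI : Module.FinitePresentation C' (C' ⊗[C] F) := Module.finitePresentation_of_finite C' _
    haveI : Module.Finite C' (Module.Dual C' (C' ⊗[C] F)) := inferInstance
    haveI : Module.FinitePresentation C' (Module.Dual C' (C' ⊗[C] F)) := Module.finitePresentation_of_finite C' _
    infer_instance
  have key : ∀ (z : Y') (hz : z ∈ V'), RelCanon.RelSkAt f' 2 P' z ↔
      FlatCA.FlatAt B (AssLib.pr hV' hz) DD ∧
        LocCoh.HasSk 2 (EGA4.FibLocRing B C' (AssLib.pr hV' hz)) (EGA4.FibLocMod B C' (AssLib.pr hV' hz) DD) := by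
    intro z hz
    let q := AssLib.pr hV' hz
    let O := Y'.presheaf.stalk z
    letI : Algebra C' O := TopCat.Presheaf.algebra_section_stalk Y'.presheaf ⟨z, hz⟩
    haveI : IsLocalization.AtPrime O q := hV'.isLocalization_stalk ⟨z, hz⟩
    letI : Module C' (Q.presheaf.stalk z) := Module.compHom _ (Y'.presheaf.germ V' z hz).hom
    haveI : IsScalarTower C' O (Q.presheaf.stalk z) := .of_algebraMap_smul fun _ _ => rfl
    letI : Module C' (P'.presheaf.stalk z) := Module.compHom _ (Y'.presheaf.germ V' z hz).hom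
    haveI : IsScalarTower C' O (P'.presheaf.stalk z) := .of_algebraMap_smul fun _ _ => rfl
    letI : Module C' ((RefHull.ddual Q).presheaf.stalk z) := Module.compHom _ (Y'.presheaf.germ V' z hz).hom
    haveI : IsScalarTower C' O ((RefHull.ddual Q).presheaf.stalk z) := .of_algebraMap_smul fun _ _ => rfl
    haveI := FlatLocus.isLocalizedModule_germL Q hV' z hz
    let fQ : C' ⊗[C] F →ₗ[C'] Q.presheaf.stalk z := (FlatLocus.germL Q V' z hz).comp θ.toLinearMap
    haveI : IsLocalizedModule q.primeCompl fQ := IsLocalizedModule.of_linearEquiv_right _ _ θ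
    obtain ⟨gD, hgD⟩ := exists_isLocalizedModule_dualDual q.primeCompl O (C' ⊗[C] F) (Q.presheaf.stalk z) fQ
    obtain ⟨eDD⟩ := exists_stalk_ddual_equiv hQ z
    let eP : Module.Dual O (Module.Dual O (Q.presheaf.stalk z)) ≃ₗ[C'] P'.presheaf.stalk z :=
      (eDD.symm ≪≫ₗ (show (RefHull.ddual Q).presheaf.stalk z ≃ₗ[O] P'.presheaf.stalk z from
        ((DCohLib.stkF z).mapIso e).toLinearEquiv)).restrictScalars C'
    let gP : DD →ₗ[C'] P'.presheaf.stalk z := eP.toLinearMap.comp gD
    have hgP : IsLocalizedModule q.primeCompl gP := IsLocalizedModule.of_linearEquiv _ _ _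
    exact (relSkAt_iff_chart f' hV' halg' hP' DD 2 z hz gP hgP).trans
      (and_congr_right fun _ => (hasSk_fibLocMod_iff q 2 DD).symm)
  have hcomap : ∀ (z : Y') (hz : z ∈ V'), (AssLib.pr hV' hz).comap (algebraMap C C') = AssLib.pr hV hz.1 :=
    fun z hz => congrArg PrimeSpectrum.asIdeal (IsAffineOpen.comap_primeIdealOf_appLE V hV V' hV' inf_le_left hz)
  constructor
  · intro H Q' hQ'n hQ'm
    let z := AssLib.pt hV' Q'
    have hz : z ∈ V' := AssLib.pt_mem hV' Q'
    have e1 : (⟨AssLib.pr hV' hz, inferInstance⟩ : PrimeSpectrum C') = Q' := PrimeSpectrum.ext (AssLib.pr_pt hV' Q')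
    have hzy : p z = y := by
      have h1 : hV.primeIdealOf ⟨p z, hz.1⟩ = n :=
        PrimeSpectrum.ext ((hcomap z hz).symm.trans ((congrArg (fun Q : PrimeSpectrum C' => Q.asIdeal.comap (algebraMap C C')) e1).trans hQ'n))
      have h2 := congrArg hV.fromSpec h1
      rwa [hV.fromSpec_primeIdealOf, hV.fromSpec_primeIdealOf] at h2
    have hzc : f' z = IsLocalRing.closedPoint B := by
      refine PrimeSpectrum.ext ?_
      rw [← base_prime_eq f' hV' halg' z hz, AssLib.pr_pt hV' Q']
      exact ((IsLocalRing.maximalIdeal.isMaximal B).eq_of_le (Ideal.comap_ne_top _ Q'.2.ne_top)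
        (Ideal.map_le_iff_le_comap.1 hQ'm)).symm
    have h := (key z hz).1 (H z hzy hzc)
    rw [← e1]
    exact h
  · intro H z hzy hzc
    have hz : z ∈ V' := ⟨by show p z ∈ V; rw [hzy]; exact hyV, trivial⟩
    refine (key z hz).2 (H ⟨AssLib.pr hV' hz, inferInstance⟩ ?_ ?_)
    · show (AssLib.pr hV' hz).comap (algebraMap C C') = n.asIdeal
      rw [hcomap z hz]
      subst hzy
      rfl
    · rw [Ideal.map_le_iff_le_comap, base_prime_eq f' hV' halg' z hz, hzc]
      exact le_rfl

end Groth.Agent.FibreDualLib
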