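import Groth.Agent.DCohLib.TensorMod
import Groth.Agent.DCohLib.FlatCoker
import Groth.Agent.DCohMore.RelAmp
import Groth.Agent.RegLib.BaseChange
import Groth.Prelude.Def_DCoh3

/-!
# The top cohomology of a derived inverse image
-/

set_option autoImplicit false
set_option linter.style.haveILetI false
set_option linter.unusedSectionVars false
set_option backward.isDefEq.respectTransparency false
set_option maxHeartbeats 1000000

universe u

open CategoryTheory CategoryTheory.Limits AlgebraicGeometry

attribute [local instance] HasDerivedCategory.standard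

noncomputable section

namespace Groth.Agent.FibreDualLib

open Groth.Agent.DCohLib Groth.Agent.DCohMore

/-- In the top degree of a complex the homology is a cokernel, so a right exact functor commutes with it. -/
def topIso {C D : Type*} [Category C] [Abelian C] [Category D] [Abelian D] (F : C ⥤ D) [F.Additive]
    [PreservesFiniteColimits F] (N : CochainComplex C ℤ) (m : ℤ) (hN : ∀ n, m < n → IsZero (N.X n)) :
    ((F.mapHomologicalComplex (ComplexShape.up ℤ)).obj N).homology m ≅ F.obj (N.homology m) :=
  have hg : (N.sc m).g = 0 := IsZero.eq_of_tgt (by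
    show IsZero (N.X ((ComplexShape.up ℤ).next m))
    rw [CochainComplex.next]
    exact hN _ (by omega)) _ _
  have hg' : ((N.sc m).map F).g = 0 := by
    show F.map (N.sc m).g = 0
    rw [hg, F.map_zero]
  (ShortComplex.RightHomologyData.ofHasCokernel ((N.sc m).map F) hg').homologyIso ≪≫
    (PreservesCokernel.iso F (N.sc m).f).symm ≪≫
    F.mapIso (ShortComplex.RightHomologyData.ofHasCokernel (N.sc m) hg).homologyIso.symm

/-- The top cohomology of a derived inverse image is the inverse image of the top cohomology. -/
theorem nonempty_HD_top_lpull {X Y : Scheme.{u}} (f : X ⟶ Y) [DCoh.HasLpull f] (K : DCoh.D Y) (m : ℤ)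
    [K.IsLE m] :
    Nonempty (DCoh.HD ((DCoh.Lpull f).obj K) m ≅ (Scheme.Modules.pullback f).obj (DCoh.HD K m)) := by
  let G := DerivedCategory.Q.objPreimage K
  let eG : DerivedCategory.Q.obj G ≅ K := DerivedCategory.Q.objObjPreimageIso K
  haveI : G.IsLE m := (CochainComplex.isLE_iff _ _).2 fun i hi => by
    rw [HomologicalComplex.exactAt_iff_isZero_homology]
    exact (DerivedCategory.isZero_of_isLE K m i hi).of_iso
      (((DerivedCategory.homologyFunctorFactors Y.Modules i).app G).symm ≪≫
        (DerivedCategory.homologyFunctor Y.Modules i).mapIso eG)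
  obtain ⟨N, c, hc, hN, hNb⟩ : ∃ (N : CochainComplex Y.Modules ℤ) (c : N ⟶ G.truncLE m), QuasiIso c ∧
      (∀ n, ModSite.IsFlat (O := Y.sheaf) (N.X n)) ∧ ∀ n, m < n → IsZero (N.X n) :=
    exists_bdd_flat_resolution Y.sheaf (G.truncLE m) m
      (fun n hn => CochainComplex.isZero_of_isStrictlyLE (G.truncLE m) m n hn)
  haveI := hc
  haveI : IsIso (DerivedCategory.Q.map (c ≫ G.ιTruncLE m)) :=
    Localization.inverts DerivedCategory.Q (HomologicalComplex.quasiIso Y.Modules (ComplexShape.up ℤ)) _
      ((HomologicalComplex.mem_quasiIso_iff _).2 inferInstance)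
  let eN : DerivedCategory.Q.obj N ≅ K := asIso (DerivedCategory.Q.map (c ≫ G.ιTruncLE m)) ≪≫ eG
  have hfl : ∀ n, FlatMod.IsFlat (N.X n) := fun n => (DCohLib.isFlat_iff _).2 (hN n)
  have hK := isKFlat_of_flat_bddAbove N m hNb hfl
  haveI : PreservesColimitsOfSize.{u, u} (Scheme.Modules.pullback f) :=
    (Scheme.Modules.pullbackPushforwardAdjunction f).leftAdjoint_preservesColimits
  haveI : PreservesColimitsOfSize.{0, 0} (Scheme.Modules.pullback f) :=
    preservesColimitsOfSize_shrink.{0, u, 0, u} _
  haveI : PreservesFiniteColimits (Scheme.Modules.pullback f) :=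
    PreservesColimitsOfSize.preservesFiniteColimits _
  exact ⟨(DerivedCategory.homologyFunctor X.Modules m).mapIso ((DCoh.Lpull f).mapIso eN.symm ≪≫ lpullIso f N hK hfl) ≪≫
    (DerivedCategory.homologyFunctorFactors X.Modules m).app _ ≪≫ topIso (Scheme.Modules.pullback f) N m hNb ≪≫
    (Scheme.Modules.pullback f).mapIso (((DerivedCategory.homologyFunctorFactors Y.Modules m).app N).symm ≪≫
      (DerivedCategory.homologyFunctor Y.Modules m).mapIso eN)⟩

end Groth.Agent.FibreDualLib
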