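import Groth.Agent.FibreDualLib.RootTriv
import Groth.Agent.FibreDualLib.LocalExt
import Groth.Agent.FibreDualLib.BCLocal

/-!
# Invertibility from an invertible power and an invertible fibre
-/

set_option autoImplicit false
set_option linter.style.haveILetI false
set_option linter.unusedSectionVars false
set_option backward.isDefEq.respectTransparency false
set_option backward.isDefEq.respectTransparency.types false
set_option maxHeartbeats 1600000

universe u

open CategoryTheory CategoryTheory.Limits AlgebraicGeometry IsLocalRing TopologicalSpace TensorProduct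

noncomputable section

namespace Groth.Agent.FibreDualLib

/-- A module which is free of rank one at a prime has a generator and a coordinate there. -/
theorem exists_gen_coord {B M : Type u} [CommRing B] [IsNoetherianRing B] [AddCommGroup M] [Module B M] [Module.Finite B M]
    (P : Ideal B) [P.IsPrime]
    (E : Localization.AtPrime P ≃ₗ[Localization.AtPrime P] LocalizedModule P.primeCompl M) :
    ∃ (g : M) (s : B) (φ : M →ₗ[B] B), s ∉ P ∧ (∀ x, ∃ a : B, s • x = a • g) ∧ φ g ∉ P := by
  let L := Localization.AtPrime P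
  let f := LocalizedModule.mkLinearMap P.primeCompl M
  obtain ⟨⟨g, u⟩, hgu⟩ := IsLocalizedModule.surj P.primeCompl f (E 1)
  have hfg : f g = algebraMap B L (u : B) • E 1 := by
    rw [algebraMap_smul]; exact hgu.symm
  have hex : ∀ x : M, ∃ c, c ∉ P ∧ c • x ∈ Submodule.span B {g} := fun x => by
    obtain ⟨a, ⟨v, hv⟩, hav⟩ := IsLocalization.exists_mk'_eq P.primeCompl (E.symm (f x))
    have hx : f x = IsLocalization.mk' L a ⟨v, hv⟩ • E 1 := by
      rw [← map_smul, smul_eq_mul, mul_one, hav, LinearEquiv.apply_symm_apply]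
    have e : f (((u : B) * v) • x) = f (a • g) := by
      rw [map_smul, map_smul, hfg, hx, ← algebraMap_smul L ((u : B) * v), ← algebraMap_smul L a, smul_smul, smul_smul,
        map_mul, mul_assoc, mul_comm (algebraMap B L v), IsLocalization.mk'_spec, mul_comm]
    obtain ⟨⟨c, hc⟩, hce⟩ := (IsLocalizedModule.eq_iff_exists P.primeCompl f).1 e
    refine ⟨c * ((u : B) * v), fun h => ?_, ?_⟩
    · rcases (‹P.IsPrime›.mem_or_mem h) with h | h
      · exact hc h
      · exact (‹P.IsPrime›.mem_or_mem h).elim u.2 hv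
    · rw [mul_smul, show c • ((u : B) * v) • x = c • a • g from hce, smul_smul]
      exact Submodule.smul_mem _ _ (Submodule.mem_span_singleton_self g)
  obtain ⟨s, hs, hsx⟩ := FibDepthLib.exists_uniform (Submodule.span B {g}) P hex
  let K : Ideal B := LinearMap.ker (LinearMap.toSpanSingleton B M g)
  obtain ⟨s', hs', hs'K⟩ := FibDepthLib.exists_uniform (⊥ : Submodule B K) P fun a => by
    have h0 : algebraMap B L (a : B) * algebraMap B L (u : B) = 0 := E.injective (by
      rw [map_zero, ← smul_eq_mul, map_smul, ← mul_one (algebraMap B L (u : B)), ← smul_eq_mul, map_smul, ← hfg,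
        algebraMap_smul, ← map_smul, show (a : B) • g = 0 from a.2, map_zero])
    rw [← map_mul] at h0
    obtain ⟨⟨c, hc⟩, hce⟩ := (IsLocalization.map_eq_zero_iff P.primeCompl L _).1 h0
    refine ⟨c * (u : B), fun h => ?_, (Submodule.mem_bot B).2 (Subtype.ext ?_)⟩
    · exact (‹P.IsPrime›.mem_or_mem h).elim hc u.2
    · show c * (u : B) * (a : B) = 0
      rw [mul_assoc, mul_comm (u : B)]; exact hce
  have hK : ∀ a b : B, a • g = b • g → s' * a = s' * b := fun a b h => by
    have := congrArg Subtype.val ((Submodule.mem_bot B).1 (hs'K ⟨a - b, by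
      show (a - b) • g = 0
      rw [sub_smul, h, sub_self]⟩))
    rwa [ZeroMemClass.coe_zero, Submodule.coe_smul, smul_eq_mul, mul_sub, sub_eq_zero] at this
  choose a ha using fun x => Submodule.mem_span_singleton.1 (hsx x)
  refine ⟨g, s, { toFun := fun x => s' * a x, map_add' := fun x y => ?_, map_smul' := fun c x => ?_ }, hs,
    fun x => ⟨a x, (ha x).symm⟩, ?_⟩
  · rw [← mul_add]
    exact hK _ _ (by rw [add_smul, ha, ha, ha, smul_add])
  · show s' * a (c • x) = c * (s' * a x)
    rw [mul_left_comm]
    exact hK _ _ (by rw [mul_smul, ha, ha, smul_comm])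
  · show s' * a g ∉ P
    rw [hK (a g) s (ha g)]
    exact ‹P.IsPrime›.mul_notMem hs' hs

/-- The localisation of a stalk of an invertible module at a prime is free of rank one. -/
theorem exists_loc_equiv {Z : Scheme.{u}} {F : Z.Modules} [Coh.IsQCoh F] (U : Z.Opens) (w : Z)
    (hU : ∀ v : Z, v ∈ U → RelCanon.InvertibleAt F v) (P : PrimeSpectrum (Z.presheaf.stalk w))
    (hP : ¬ idealOff U w ≤ P.asIdeal) :
    Nonempty (Localization.AtPrime P.asIdeal ≃ₗ[Localization.AtPrime P.asIdeal]
      LocalizedModule P.asIdeal.primeCompl (F.presheaf.stalk w)) := by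
  obtain ⟨ψ, e, he⟩ := exists_generization_equiv F w P
  let v := Z.fromSpecStalk w P
  obtain ⟨l⟩ := exists_stalk_equiv_of_invertibleAt (hU v (not_not.1 fun h => hP ((idealOff_le_iff U w P).2 h)))
  let E : Localization.AtPrime P.asIdeal ≃+ LocalizedModule P.asIdeal.primeCompl (F.presheaf.stalk w) :=
    (ψ.toAddEquiv.trans l.toAddEquiv).trans e.symm
  refine ⟨({ E with map_smul' := fun r x => ?_ } : Localization.AtPrime P.asIdeal ≃ₗ[Localization.AtPrime P.asIdeal]
      LocalizedModule P.asIdeal.primeCompl (F.presheaf.stalk w))⟩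
  show e.symm (l (ψ (r * x))) = r • e.symm (l (ψ x))
  apply e.injective
  rw [he, AddEquiv.apply_symm_apply, AddEquiv.apply_symm_apply, map_mul, ← smul_eq_mul, map_smul]

/-- Powers of stalk elements in stalks of tensor powers. -/
def powEl {Y : Scheme.{u}} (G : Y.Modules) (y : Y) (x : G.presheaf.stalk y) :
    ∀ n : ℕ, (CohB1.tensorPow G n).presheaf.stalk y
  | 0 => RefOne.oEquiv y 1
  | n + 1 => DCohLib.stalkTensor y (CohB1.tensorPow G n) G (powEl G y x n ⊗ₜ[Y.presheaf.stalk y] x)

theorem powEl_smul {Y : Scheme.{u}} (G : Y.Modules) (y : Y) (b : Y.presheaf.stalk y) (x : G.presheaf.stalk y) :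
    ∀ n : ℕ, powEl G y (b • x) n = b ^ n • powEl G y x n
  | 0 => by simp [powEl]
  | n + 1 => by
    rw [powEl, powEl, powEl_smul G y b x n, ← TensorProduct.smul_tmul', TensorProduct.tmul_smul, map_smul, map_smul,
      smul_smul, pow_succ]

theorem powEl_gen {Y : Scheme.{u}} (G : Y.Modules) (y : Y) (g : G.presheaf.stalk y) (s : Y.presheaf.stalk y)
    (hg : ∀ x : G.presheaf.stalk y, ∃ a : Y.presheaf.stalk y, s • x = a • g) :
    ∀ (n : ℕ) (z : (CohB1.tensorPow G n).presheaf.stalk y), ∃ a : Y.presheaf.stalk y, s ^ n • z = a • powEl G y g n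
  | 0, z => ⟨(RefOne.oEquiv y).symm z, by
      rw [pow_zero]
      refine (one_smul _ z).trans (((RefOne.oEquiv y).apply_symm_apply z).symm.trans ?_)
      exact (congrArg (RefOne.oEquiv y) (mul_one ((RefOne.oEquiv y).symm z)).symm).trans
        (map_smul (RefOne.oEquiv y) ((RefOne.oEquiv y).symm z) (1 : Y.presheaf.stalk y))⟩
  | n + 1, z => by
    obtain ⟨w, rfl⟩ := (DCohLib.stalkTensor y (CohB1.tensorPow G n) G).surjective z
    induction w using TensorProduct.induction_on with
    | zero => exact ⟨0, by rw [map_zero, smul_zero, zero_smul]⟩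
    | add p q hp hq =>
      obtain ⟨a, ha⟩ := hp
      obtain ⟨b, hb⟩ := hq
      exact ⟨a + b, by rw [map_add, smul_add, ha, hb, add_smul]⟩
    | tmul p x =>
      obtain ⟨a, ha⟩ := powEl_gen G y g s hg n p
      obtain ⟨b, hb⟩ := hg x
      refine ⟨a * b, ?_⟩
      let ε := DCohLib.stalkTensor y (CohB1.tensorPow G n) G
      refine (map_smul ε _ _).symm.trans (Eq.trans (congrArg ε ?_) (map_smul ε (a * b) (powEl G y g n ⊗ₜ[Y.presheaf.stalk y] g)))
      rw [pow_succ, mul_smul, ← TensorProduct.tmul_smul, hb,
        TensorProduct.smul_tmul', ha, TensorProduct.tmul_smul, ← TensorProduct.smul_tmul', smul_smul, mul_comm]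

variable {A : Type u} [CommRing A] [IsNoetherianRing A] {Y : Scheme.{u}} [Y.Over (Spec (CommRingCat.of A))]
  [IsProper (Y ↘ Spec (CommRingCat.of A))]

local notation3 "S₀" => Spec (CommRingCat.of A)

/-- A module with an invertible power of order prime to the residue characteristic and invertible fibre is
invertible. -/
theorem invertibleAt_of_pow_fibre (hS : RelCanon.IsSkMor (Y ↘ S₀) 2) (U : Y.Opens) {G : Y.Modules} (hG : Coh.IsCoh G)
    (hGinv : ∀ v : Y, v ∈ U → RelCanon.InvertibleAt G v) (t : (Spec (CommRingCat.of A)))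
    (w : (Y ↘ S₀).fiber t)
    (hdim : ∀ v : Y, (Y ↘ S₀) v = (Y ↘ S₀) ((Y ↘ S₀).fiberι t w) → v ⤳ (Y ↘ S₀).fiberι t w → v ∉ U →
      (2 : WithBot ℕ∞) ≤ ringKrullDim (((Y ↘ S₀).fiber ((Y ↘ S₀) v)).presheaf.stalk ((Y ↘ S₀).asFiber v)))
    (hG2 : 2 ≤ LocCoh.idealDepth (idealOff U ((Y ↘ S₀).fiberι t w)) (G.presheaf.stalk ((Y ↘ S₀).fiberι t w)))
    (n : ℕ) (hn : 0 < n) (hnk : (n : (Spec (CommRingCat.of A)).residueField ((Y ↘ S₀) ((Y ↘ S₀).fiberι t w))) ≠ 0)
    (hT : RelCanon.InvertibleAt (RefHull.ddual (CohB1.tensorPow G n)) ((Y ↘ S₀).fiberι t w))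
    (h0 : RelCanon.InvertibleAt (RefHull.ddual ((Scheme.Modules.pullback ((Y ↘ S₀).fiberι t)).obj G)) w) :
    RelCanon.InvertibleAt G ((Y ↘ S₀).fiberι t w) := by
  let f₀ := Y ↘ S₀
  haveI : IsNoetherianRing (CommRingCat.of A) := inferInstanceAs (IsNoetherianRing A)
  haveI : IsLocallyNoetherian Y := LocallyOfFiniteType.isLocallyNoetherian f₀
  haveI := hS.1
  haveI := hS.2.1
  haveI : LocallyOfFiniteType (f₀.fiberToSpecResidueField t) := MorphismProperty.pullback_snd _ _ hS.2.1
  haveI : IsLocallyNoetherian (f₀.fiber t) := LocallyOfFiniteType.isLocallyNoetherian (f₀.fiberToSpecResidueField t)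
  haveI := hG.1
  let ι₀ := f₀.fiberι t
  let y := ι₀ w
  let R := (Spec (CommRingCat.of A)).presheaf.stalk (f₀ y)
  let B := Y.presheaf.stalk y
  let S := (f₀.fiber t).presheaf.stalk w
  let F := G.presheaf.stalk y
  let J := idealOff U y
  let Q := (Scheme.Modules.pullback ι₀).obj G
  have hQ : Coh.IsCoh Q := PullbackMod.isCoh_pullback ι₀ _ hG
  let N := Q.presheaf.stalk w
  letI : Algebra R B := (f₀.stalkMap y).hom.toAlgebra
  haveI : Module.Flat R B := Flat.stalkMap f₀ y
  haveI : IsLocalHom (algebraMap R B) := inferInstanceAs (IsLocalHom (f₀.stalkMap y).hom)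
  letI : Module R F := FlatMod.moduleStalkOver f₀ G y
  haveI : IsScalarTower R B F := .of_algebraMap_smul fun _ _ => rfl
  haveI : Module.Finite B F := PullbackMod.finite_stalk_of_isFT hG.2 y
  letI : Algebra B S := (ι₀.stalkMap w).hom.toAlgebra
  haveI : Module.Finite S N := PullbackMod.finite_stalk_of_isFT hQ.2 w
  letI : Module B N := Module.compHom N (ι₀.stalkMap w).hom
  haveI : IsScalarTower B S N := .of_algebraMap_smul fun _ _ => rfl
  have hbc : IsBaseChange S (PullbackMod.pullStalkL ι₀ G w) := PullbackMod.isBaseChange_pullStalkL ι₀ G w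
  have hSsurj : Function.Surjective (algebraMap B S) := FlatLocus.fiberι_stalkMap_surjective f₀ t w
  have hSker : RingHom.ker (algebraMap B S) = EGA4.mB R B := FlatLocus.ker_fiberι_stalkMap f₀ t w
  have hnR : IsUnit (n : R) := by
    by_contra h
    refine hnk ?_
    rw [← map_natCast (IsLocalRing.residue R)]
    exact (IsLocalRing.residue_eq_zero_iff _).2 ((IsLocalRing.mem_maximalIdeal _).2 h)
  have hB0 : 2 ≤ LocCoh.idealDepth J (EGA4.FibMod R B B) := two_le_idealDepth_fibMod_self_near hS U y hdim
  have hB2 : 2 ≤ LocCoh.idealDepth J B := two_le_idealDepth_of_fibre_ideal (R := R) J hB0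
  have hS2 : 2 ≤ LocCoh.idealDepth (J.map (algebraMap B S)) S := by
    rw [idealDepth_map_of_surjective hSsurj]
    exact hB0.trans_eq (CAlgBasics.idealDepth_congr
      ((Submodule.quotEquivOfEq _ _ (show (EGA4.mB R B • ⊤ : Submodule B B) = LinearMap.ker (Algebra.linearMap B S) by
        rw [smul_eq_mul, Ideal.mul_top]; exact hSker.symm)).trans
          ((Algebra.linearMap B S).quotKerEquivOfSurjective hSsurj)))
  have hFU : ∀ q : PrimeSpectrum B, ¬ J ≤ q.asIdeal →
      Module.Free (Localization.AtPrime q.asIdeal) (LocalizedModule q.asIdeal.primeCompl F) :=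
    free_localization_stalk U y hGinv
  haveI := Module.finitePresentation_of_finite B F
  haveI : Module.Finite B (Module.Dual B F) := inferInstance
  haveI := Module.finitePresentation_of_finite B (Module.Dual B F)
  haveI : Module.Finite B (Module.Dual B (Module.Dual B F)) := inferInstance
  haveI : Module.IsReflexive B F := ⟨FibDepthLib.bijective_of_isoOff (FibDepthLib.isoOff_eval F hFU) hG2
    (le_trans one_le_two (FibDepthLib.two_le_idealDepth_dual hB2 _))⟩
  -- the power form
  let T := CohB1.tensorPow G n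
  have hTcoh : Coh.IsCoh T := isCoh_tensorPow hG n
  haveI := hTcoh.1
  let Tn := T.presheaf.stalk y
  haveI : Module.Finite B Tn := PullbackMod.finite_stalk_of_isFT hTcoh.2 y
  haveI := Module.finitePresentation_of_finite B Tn
  haveI : Module.Finite B (Module.Dual B Tn) := inferInstance
  have hGi : PicF.IsInvertible (G.restrict U.ι) := fun v =>
    invertibleAt_of_iso ((Scheme.Modules.restrictFunctorIsoPullback U.ι).app G).symm
      (invertibleAt_pullback U.ι (hGinv _ v.2))
  have hTinv : ∀ v : Y, v ∈ U → RelCanon.InvertibleAt T v := fun v hv => by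
    obtain ⟨V, hvV, ⟨i⟩⟩ := ParaFLib.isInvertible_of_iso (tensorPowRestrict U G n).symm
      (AmpleLib.isInvertible_tensorPow hGi n) ⟨v, hv⟩
    exact ⟨U.ι ''ᵁ V, ⟨_, hvV, rfl⟩, ⟨restrictImageIso U V _ i⟩⟩
  obtain ⟨eT⟩ := exists_stalk_ddual_equiv hTcoh y
  obtain ⟨lT⟩ := exists_stalk_equiv_of_invertibleAt hT
  let lB : Module.Dual B (Module.Dual B Tn) ≃ₗ[B] B := eT.symm.trans lT.symm
  let P0 : F → B := fun x => lB (Module.Dual.eval B Tn (powEl G y x n))
  have hP0 : ∀ (b : B) (x : F), P0 (b • x) = b ^ n * P0 x := fun b x => by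
    simp only [P0]
    rw [powEl_smul, map_smul, map_smul, smul_eq_mul]
  -- the reduction
  obtain ⟨eN⟩ := exists_stalk_ddual_equiv hQ w
  obtain ⟨lN⟩ := exists_stalk_equiv_of_invertibleAt h0
  let lS : Module.Dual S (Module.Dual S N) ≃ₗ[S] S := eN.symm.trans lN.symm
  let θ : F → S := fun x => lS (Module.Dual.eval S N (PullbackMod.pullStalkL ι₀ G w x))
  have hθ : ∀ (b : B) (x : F), θ (b • x) = algebraMap B S b * θ x := fun b x => by
    simp only [θ]
    rw [map_smul, ← algebraMap_smul S b (PullbackMod.pullStalkL ι₀ G w x), map_smul, map_smul, smul_eq_mul]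
  have hNU : ∀ P : PrimeSpectrum S, ¬ J.map (algebraMap B S) ≤ P.asIdeal →
      Module.Free (Localization.AtPrime P.asIdeal) (LocalizedModule P.asIdeal.primeCompl N) := by
    intro P hP
    have hP' : ¬ J ≤ (PrimeSpectrum.comap (algebraMap B S) P).asIdeal := fun h => hP (Ideal.map_le_iff_le_comap.mpr h)
    have h : P ∈ Module.freeLocus S (S ⊗[B] F) := Module.comap_freeLocus_le (R := B) (M := F) (A := S)
      (show P ∈ PrimeSpectrum.comap (algebraMap B S) ⁻¹' Module.freeLocus B F from hFU _ hP')
    rwa [Module.freeLocus_congr hbc.equiv] at h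
  haveI := Module.finitePresentation_of_finite S N
  haveI : Module.Finite S (Module.Dual S N) := inferInstance
  haveI := Module.finitePresentation_of_finite S (Module.Dual S N)
  haveI : Module.Finite S (Module.Dual S (Module.Dual S N)) := inferInstance
  -- all thickenings
  have hk : ∀ (k : ℕ) (C : Type u) [CommRing C] [Algebra B C], Function.Surjective (algebraMap B C) →
      RingHom.ker (algebraMap B C) = (maximalIdeal R ^ (k + 1)).map (algebraMap R B) →
      2 ≤ LocCoh.idealDepth (J.map (algebraMap B C))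
        (Module.Dual C (Module.Dual C (C ⊗[B] F)) ⧸
          ((EGA4.mB R B).map (algebraMap B C) • ⊤ : Submodule C (Module.Dual C (Module.Dual C (C ⊗[B] F))))) := by
    intro k C _ _ hsurj hker
    haveI : IsNoetherianRing C := isNoetherianRing_of_surjective B C (algebraMap B C) hsurj
    let JC := J.map (algebraMap B C)
    have hC2 : 2 ≤ LocCoh.idealDepth JC C := by
      rw [idealDepth_map_of_surjective hsurj]
      exact (S18706.result R B J B (fun q _ => FibDepthLib.flatAt_of_flatAt_self q
        (FibDepthLib.flatAt_self_of_free q (Module.Free.of_equiv (CAlgBasics.selfLocEquiv q.asIdeal.primeCompl).symm)))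
        hB0 k).trans_eq (CAlgBasics.idealDepth_congr ((Submodule.quotEquivOfEq _ _ (show
          ((EGA4.mB R B) ^ (k + 1) • ⊤ : Submodule B B) = LinearMap.ker (Algebra.linearMap B C) by
            rw [smul_eq_mul, Ideal.mul_top,
              show LinearMap.ker (Algebra.linearMap B C) = RingHom.ker (algebraMap B C) from rfl, hker]
            exact (Ideal.map_pow (algebraMap R B) (maximalIdeal R) (k + 1)).symm)).trans
          ((Algebra.linearMap B C).quotKerEquivOfSurjective hsurj)))
    have hle : RingHom.ker (algebraMap B C) ≤ RingHom.ker (algebraMap B S) := by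
      rw [hker, hSker]
      exact Ideal.map_mono (Ideal.pow_le_self (Nat.succ_ne_zero k))
    let ρ : C →+* S := RingHom.liftOfSurjective (algebraMap B C) hsurj ⟨algebraMap B S, hle⟩
    have hρ : ∀ b, ρ (algebraMap B C b) = algebraMap B S b :=
      RingHom.liftOfRightInverse_comp_apply (algebraMap B C) (Function.surjInv hsurj)
        (Function.rightInverse_surjInv hsurj) ⟨algebraMap B S, hle⟩
    letI : Algebra C S := ρ.toAlgebra
    haveI : IsScalarTower B C S := .of_algebraMap_eq fun b => (hρ b).symm
    have hρs : Function.Surjective (algebraMap C S) := fun z => by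
      obtain ⟨b, rfl⟩ := hSsurj z
      exact ⟨algebraMap B C b, hρ b⟩
    have hnil : ∀ c : C, algebraMap C S c = 0 → IsNilpotent c := fun c hc => by
      obtain ⟨b, rfl⟩ := hsurj c
      refine ⟨k + 1, ?_⟩
      rw [← map_pow]
      have h1 : b ∈ EGA4.mB R B := hSker.le (RingHom.mem_ker.2 ((hρ b).symm.trans hc))
      refine hker.ge ?_
      have h2 : b ^ (k + 1) ∈ EGA4.mB R B ^ (k + 1) := Ideal.pow_mem_pow h1 _
      rw [show EGA4.mB R B ^ (k + 1) = (maximalIdeal R ^ (k + 1)).map (algebraMap R B) from
        (Ideal.map_pow (algebraMap R B) (maximalIdeal R) (k + 1)).symm] at h2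
      exact h2
    have hS2C : 2 ≤ LocCoh.idealDepth JC S := by
      rw [idealDepth_map_of_surjective hsurj]
      exact hS2.trans_eq (idealDepth_map_of_surjective hSsurj J)
    let X := C ⊗[B] F
    haveI := Module.finitePresentation_of_finite C X
    haveI : Module.Finite C (Module.Dual C X) := inferInstance
    haveI := Module.finitePresentation_of_finite C (Module.Dual C X)
    haveI : Module.Finite C (Module.Dual C (Module.Dual C X)) := inferInstance
    have hXU : ∀ q : PrimeSpectrum C, ¬ JC ≤ q.asIdeal →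
        Module.Free (Localization.AtPrime q.asIdeal) (LocalizedModule q.asIdeal.primeCompl X) := fun q hq =>
      Module.comap_freeLocus_le (R := B) (M := F) (A := C)
        (show q ∈ PrimeSpectrum.comap (algebraMap B C) ⁻¹' Module.freeLocus B F from
          hFU (PrimeSpectrum.comap (algebraMap B C) q) fun h => hq (Ideal.map_le_iff_le_comap.mpr h))
    have hev := FibDepthLib.isoOff_eval X hXU
    let ιE : F →ₗ[B] Module.Dual C (Module.Dual C X) :=
      ((Module.Dual.eval C X).restrictScalars B).comp (TensorProduct.mk B C F 1)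
    have hnC : IsUnit (n : C) := by
      simpa using hnR.map ((algebraMap B C).comp (algebraMap R B))
    obtain ⟨eE⟩ := nonempty_equiv_of_root (C0 := S) hsurj hρs hnil JC hC2 (FibDepthLib.two_le_idealDepth_dual hC2 _)
      hS2C n hn hnC ιE (fun x => algebraMap B C (P0 x)) (fun b x => by rw [hP0, map_mul, map_pow]) θ
      (fun b x => by rw [hθ, ← IsScalarTower.algebraMap_apply]) (fun q hq => by
        let P := PrimeSpectrum.comap (algebraMap B C) q
        have hP : ¬ J ≤ P.asIdeal := fun h => hq (Ideal.map_le_iff_le_comap.mpr h)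
        obtain ⟨E⟩ := exists_loc_equiv U y hGinv P hP
        obtain ⟨g, s, φ, hs, hsg, hφ⟩ := exists_gen_coord P.asIdeal E
        have hPg : algebraMap B C (P0 g) ∉ q.asIdeal := by
          intro hmem
          obtain ⟨t, ht, χ, hχ1, -⟩ := FibDepthLib.isoOff_eval (J := J) Tn (free_localization_stalk U y hTinv) P hP
          let z := χ (lB.symm 1)
          obtain ⟨a, ha⟩ := powEl_gen G y g s hsg n z
          have h1 : s ^ n * t = a * P0 g := by
            have e1 := congrArg (fun z => lB (Module.Dual.eval B Tn z)) ha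
            simp only [map_smul, smul_eq_mul] at e1
            rw [show Module.Dual.eval B Tn z = t • lB.symm 1 from LinearMap.congr_fun hχ1 _, map_smul,
              LinearEquiv.apply_symm_apply, smul_eq_mul, mul_one] at e1
            exact e1
          exact P.2.mul_notMem (fun h => hs (P.2.mem_of_pow_mem _ h)) ht (h1 ▸ Ideal.mul_mem_left _ a hmem)
        refine ⟨g, ⟨s, hs, hsg⟩, hPg, ?_, fun z => ?_, fun a ha => ?_⟩
        · by_cases hqS : RingHom.ker (algebraMap C S) ≤ q.asIdeal
          swap
          · refine absurd ?_ hqS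
            exact fun c hc => by
              obtain ⟨j, hj⟩ := hnil c hc
              exact q.2.mem_of_pow_mem j (hj ▸ q.asIdeal.zero_mem)
          obtain ⟨c, hc⟩ := hρs (θ g)
          refine ⟨c, fun hcq => ?_, hc.symm⟩
          let q' : PrimeSpectrum S := ⟨q.asIdeal.map (algebraMap C S), Ideal.map_isPrime_of_surjective hρs hqS⟩
          have hq' : ¬ J.map (algebraMap B S) ≤ q'.asIdeal := fun h => hq (by
            rw [IsScalarTower.algebraMap_eq B C S, ← Ideal.map_map] at h
            intro x hx
            have h2 : x ∈ (q.asIdeal.map (algebraMap C S)).comap (algebraMap C S) := h (Ideal.mem_map_of_mem _ hx)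
            rwa [Ideal.comap_map_of_surjective _ hρs, sup_eq_left.2 (show Ideal.comap (algebraMap C S) ⊥ ≤ q.asIdeal from hqS)] at h2)
          obtain ⟨t, ht, χ, hχ1, -⟩ := FibDepthLib.isoOff_eval (J := J.map (algebraMap B S)) N hNU q' hq'
          have hgenN : ∀ v : N, ∃ a : S, algebraMap B S s • v = a • PullbackMod.pullStalkL ι₀ G w g := fun v => by
            obtain ⟨z, rfl⟩ := hbc.equiv.surjective v
            induction z using TensorProduct.induction_on with
            | zero => exact ⟨0, by rw [map_zero, smul_zero, zero_smul]⟩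
            | add p r hp hr =>
              obtain ⟨a, ha⟩ := hp
              obtain ⟨b, hb⟩ := hr
              exact ⟨a + b, by rw [map_add, smul_add, ha, hb, add_smul]⟩
            | tmul a x =>
              obtain ⟨b, hb⟩ := hsg x
              refine ⟨a * algebraMap B S b, ?_⟩
              rw [hbc.equiv_tmul, smul_comm, mul_smul, algebraMap_smul, algebraMap_smul, ← map_smul, hb, map_smul]
          obtain ⟨a, ha⟩ := hgenN (χ (lS.symm 1))
          have h1 : algebraMap B S s * t = a * θ g := by
            have e1 := congrArg (fun v => lS (Module.Dual.eval S N v)) ha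
            simp only [map_smul, smul_eq_mul] at e1
            rw [show Module.Dual.eval S N (χ (lS.symm 1)) = t • lS.symm 1 from LinearMap.congr_fun hχ1 _, map_smul,
              LinearEquiv.apply_symm_apply, smul_eq_mul, mul_one] at e1
            exact e1
          refine q'.2.mul_notMem (fun h => hs ?_) ht (h1 ▸ Ideal.mul_mem_left _ a
            (hc ▸ Ideal.mem_map_of_mem _ hcq))
          rw [← hρ] at h
          have h2 : algebraMap B C s ∈ (q.asIdeal.map (algebraMap C S)).comap (algebraMap C S) := h
          rwa [Ideal.comap_map_of_surjective _ hρs, sup_eq_left.2 (show Ideal.comap (algebraMap C S) ⊥ ≤ q.asIdeal from hqS)] at h2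
        · obtain ⟨t, ht, χ, hχ1, -⟩ := hev q hq
          have hgenX : ∀ v : X, ∃ a : C, algebraMap B C s • v = a • ((1 : C) ⊗ₜ[B] g) := fun v => by
            induction v using TensorProduct.induction_on with
            | zero => exact ⟨0, by rw [smul_zero, zero_smul]⟩
            | add p r hp hr =>
              obtain ⟨a, ha⟩ := hp
              obtain ⟨b, hb⟩ := hr
              exact ⟨a + b, by rw [smul_add, ha, hb, add_smul]⟩
            | tmul a x =>
              obtain ⟨b, hb⟩ := hsg x
              refine ⟨a * algebraMap B C b, ?_⟩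
              rw [algebraMap_smul, ← TensorProduct.tmul_smul, hb, TensorProduct.tmul_smul,
                TensorProduct.smul_tmul' (a * algebraMap B C b), smul_eq_mul, mul_one, mul_comm, ← Algebra.smul_def,
                TensorProduct.smul_tmul']
          obtain ⟨a, ha⟩ := hgenX (χ z)
          refine ⟨algebraMap B C s * t, a, q.2.mul_notMem hs ht, ?_⟩
          rw [mul_smul, show t • z = Module.Dual.eval C X (χ z) from (LinearMap.congr_fun hχ1 z).symm, ← map_smul, ha,
            map_smul]
          rfl
        · obtain ⟨t, ht, χ, -, hχ2⟩ := hev q hq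
          have h1 : t • (a • ((1 : C) ⊗ₜ[B] g)) = 0 := by
            have h := LinearMap.congr_fun hχ2 (a • ((1 : C) ⊗ₜ[B] g))
            simp only [LinearMap.coe_comp, Function.comp_apply, LinearMap.smul_apply, LinearMap.id_apply] at h
            rw [← h, map_smul (Module.Dual.eval C X)]
            show χ (a • ιE g) = 0
            rw [ha, map_zero]
          refine ⟨t * algebraMap B C (φ g), q.2.mul_notMem ht hφ, ?_⟩
          have h2 := congrArg (φ.baseChange C) h1
          rw [map_smul, map_smul, LinearMap.baseChange_tmul, map_zero] at h2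
          have h3 := congrArg (TensorProduct.AlgebraTensorModule.rid B C C) h2
          simp only [map_smul, TensorProduct.AlgebraTensorModule.rid_tmul, map_zero, smul_eq_mul] at h3
          rw [Algebra.smul_def, mul_one] at h3
          rw [← h3]; ring)
    let K : Ideal C := (EGA4.mB R B).map (algebraMap B C)
    have hK : K = RingHom.ker (algebraMap C S) := by
      simp only [K]
      rw [← hSker, IsScalarTower.algebraMap_eq B C S, ← RingHom.comap_ker, Ideal.map_comap_of_surjective _ hsurj]
    refine hS2C.trans_eq (CAlgBasics.idealDepth_congr ?_)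
    exact (((Submodule.quotEquivOfEq _ (LinearMap.ker (Algebra.linearMap C S)) (show (K • ⊤ : Submodule C C) = _ by
      rw [smul_eq_mul, Ideal.mul_top, hK]; rfl)).trans
      ((Algebra.linearMap C S).quotKerEquivOfSurjective hρs)).symm.trans
      (Submodule.Quotient.equiv _ _ eE (by rw [Submodule.map_smul'', Submodule.map_top, LinearEquiv.range])))
  obtain ⟨hfl, hdep⟩ := flat_and_depth_of_artinian (R := R) J hB0 F hFU hk
  -- the fibre
  obtain ⟨E0⟩ := FibreDepth.exists_quot_equiv hSsurj _ hbc
  have hN2 : 2 ≤ LocCoh.idealDepth (J.map (algebraMap B S)) N := by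
    rw [idealDepth_map_of_surjective hSsurj]
    exact hdep.trans_eq (CAlgBasics.idealDepth_congr
      (E0.trans (Submodule.quotEquivOfEq _ _ (by rw [hSker]))).symm)
  have hDN : 1 ≤ LocCoh.idealDepth (J.map (algebraMap B S)) (Module.Dual S (Module.Dual S N)) :=
    le_trans one_le_two (FibDepthLib.two_le_idealDepth_dual hS2 _)
  let eNS : N ≃ₗ[S] S := (LinearEquiv.ofBijective _
    (FibDepthLib.bijective_of_isoOff (FibDepthLib.isoOff_eval N hNU) hN2 hDN)).trans lS
  exact invertibleAt_of_fibre f₀ hG t w hfl (invertibleAt_of_stalk_equiv hQ eNS.symm)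

/-- A module with an invertible power of order prime to the residue characteristic and invertible fibre is
invertible, at a point. -/
theorem invertibleAt_of_pow (hS : RelCanon.IsSkMor (Y ↘ S₀) 2) (U : Y.Opens) {G : Y.Modules} (hG : Coh.IsCoh G)
    (hGinv : ∀ v : Y, v ∈ U → RelCanon.InvertibleAt G v) (y : Y)
    (hdim : ∀ v : Y, (Y ↘ S₀) v = (Y ↘ S₀) y → v ⤳ y → v ∉ U →
      (2 : WithBot ℕ∞) ≤ ringKrullDim (((Y ↘ S₀).fiber ((Y ↘ S₀) v)).presheaf.stalk ((Y ↘ S₀).asFiber v)))
    (hG2 : 2 ≤ LocCoh.idealDepth (idealOff U y) (G.presheaf.stalk y))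
    (n : ℕ) (hn : 0 < n) (hnk : (n : (Spec (CommRingCat.of A)).residueField ((Y ↘ S₀) y)) ≠ 0)
    (hT : RelCanon.InvertibleAt (RefHull.ddual (CohB1.tensorPow G n)) y)
    (h0 : RelCanon.InvertibleAt (RefHull.ddual ((Scheme.Modules.pullback ((Y ↘ S₀).fiberι ((Y ↘ S₀) y))).obj G))
      ((Y ↘ S₀).asFiber y)) :
    RelCanon.InvertibleAt G y := by
  have gen : ∀ (t : (Spec (CommRingCat.of A))) (w : (Y ↘ S₀).fiber t) (y' : Y), (Y ↘ S₀).fiberι t w = y' →
      (∀ v : Y, (Y ↘ S₀) v = (Y ↘ S₀) y' → v ⤳ y' → v ∉ U →
        (2 : WithBot ℕ∞) ≤ ringKrullDim (((Y ↘ S₀).fiber ((Y ↘ S₀) v)).presheaf.stalk ((Y ↘ S₀).asFiber v))) →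
      2 ≤ LocCoh.idealDepth (idealOff U y') (G.presheaf.stalk y') →
      (n : (Spec (CommRingCat.of A)).residueField ((Y ↘ S₀) y')) ≠ 0 →
      RelCanon.InvertibleAt (RefHull.ddual (CohB1.tensorPow G n)) y' →
      RelCanon.InvertibleAt (RefHull.ddual ((Scheme.Modules.pullback ((Y ↘ S₀).fiberι t)).obj G)) w →
      RelCanon.InvertibleAt G y' := by
    rintro t w _ rfl h1 h2 h3 h4 h5
    exact invertibleAt_of_pow_fibre hS U hG hGinv t w h1 h2 n hn h3 h4 h5
  exact gen _ ((Y ↘ S₀).asFiber y) y ((Y ↘ S₀).fiberι_asFiber y) hdim hG2 hnk hT h0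

end Groth.Agent.FibreDualLib
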