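import Groth.Agent.FibreDualLib.ArtinScheme
import Groth.Agent.FibreDualLib.DVRStep
import Groth.Agent.FlatValLib.Scheme

/-!
# Local rings at points of affine charts
-/

set_option autoImplicit false
set_option linter.style.haveILetI false
set_option linter.unusedSectionVars false
set_option backward.isDefEq.respectTransparency false
set_option maxHeartbeats 1000000

universe u

open CategoryTheory CategoryTheory.Limits AlgebraicGeometry IsLocalRing TopologicalSpace TensorProduct

noncomputable section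

namespace Groth.Agent.FibreDualLib

local instance stalkAlgVP {A : Type u} [CommRing A] (q : Spec (CommRingCat.of A)) :
    Algebra A ((Spec (CommRingCat.of A)).presheaf.stalk q) :=
  StructureSheaf.stalkAlgebra A q

/-- The coordinate map of a chart into a local ring. -/
theorem exists_stalkHom {Z : Scheme.{u}} {R : Type u} [CommRing R] (k : Spec (CommRingCat.of R) ⟶ Z) [IsOpenImmersion k]
    (Q : PrimeSpectrum R) :
    ∃ κ : R →+* Z.presheaf.stalk (k Q), Spec.map (CommRingCat.ofHom κ) ≫ k = Z.fromSpecStalk (k Q) ∧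
      (letI := κ.toAlgebra; IsLocalization.AtPrime (Z.presheaf.stalk (k Q)) Q.asIdeal) := by
  let L := (Spec (CommRingCat.of R)).presheaf.stalk Q
  letI : Algebra R L := StructureSheaf.stalkAlgebra R Q
  haveI : IsLocalization.AtPrime L Q.asIdeal := StructureSheaf.IsLocalization.to_stalk R Q
  let e : Z.presheaf.stalk (k Q) ≅ L := asIso (k.stalkMap Q)
  let κ : R →+* Z.presheaf.stalk (k Q) := e.inv.hom.comp (algebraMap R L)
  refine ⟨κ, ?_, ?_⟩
  · rw [← cancel_epi (Spec.map e.hom)]
    show _ = Spec.map (k.stalkMap Q) ≫ _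
    rw [Scheme.SpecMap_stalkMap_fromSpecStalk, Spec.fromSpecStalk_eq', ← Category.assoc, ← Spec.map_comp]
    congr 2
    show CommRingCat.ofHom κ ≫ e.hom = _
    ext r
    show e.hom (e.inv (algebraMap R L r)) = _
    rw [Iso.inv_hom_id_apply]
    rfl
  · letI := κ.toAlgebra
    exact IsLocalization.isLocalization_of_algEquiv Q.asIdeal.primeCompl
      (AlgEquiv.ofRingEquiv (f := e.symm.commRingCatIsoToRingEquiv) fun r => rfl)

/-- Compatibility of coordinate maps with stalk maps. -/
theorem stalkHom_natural {Y Z : Scheme.{u}} {C D : Type u} [CommRing C] [CommRing D] {j : Spec (CommRingCat.of C) ⟶ Y}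
    [Mono j] {k : Spec (CommRingCat.of D) ⟶ Z} (p : Z ⟶ Y) (α : C →+* D)
    (hw : k ≫ p = Spec.map (CommRingCat.ofHom α) ≫ j) {z : Z} (γ : C →+* Y.presheaf.stalk (p z))
    (hγ : Spec.map (CommRingCat.ofHom γ) ≫ j = Y.fromSpecStalk (p z)) (κ : D →+* Z.presheaf.stalk z)
    (hκ : Spec.map (CommRingCat.ofHom κ) ≫ k = Z.fromSpecStalk z) :
    (p.stalkMap z).hom.comp γ = κ.comp α := by
  have h : Spec.map (CommRingCat.ofHom ((p.stalkMap z).hom.comp γ)) =
      Spec.map (CommRingCat.ofHom (κ.comp α)) := by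
    rw [← cancel_mono j, CommRingCat.ofHom_comp, CommRingCat.ofHom_comp, Spec.map_comp, Spec.map_comp, Category.assoc,
      Category.assoc, hγ, ← hw, ← Category.assoc, hκ, CommRingCat.ofHom_hom,
      Scheme.SpecMap_stalkMap_fromSpecStalk]
  exact congrArg CommRingCat.Hom.hom (Spec.map_injective h)

/-- The coordinate map of an affine open. -/
theorem fromSpec_germ {Y : Scheme.{u}} {W : Y.Opens} (hW : IsAffineOpen W) {y : Y} (hy : y ∈ W) :
    Spec.map (CommRingCat.ofHom (Y.presheaf.germ W y hy).hom) ≫ hW.fromSpec = Y.fromSpecStalk y :=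
  hW.fromSpecStalk_eq_fromSpecStalk hy

/-- The coordinate map of `Spec A`. -/
theorem fromSpec_toStalk (A : Type u) [CommRing A] (t : Spec (CommRingCat.of A)) :
    Spec.map (CommRingCat.ofHom (algebraMap A ((Spec (CommRingCat.of A)).presheaf.stalk t))) ≫ 𝟙 _ =
      (Spec (CommRingCat.of A)).fromSpecStalk t := by
  rw [Category.comp_id, Spec.fromSpecStalk_eq']
  rfl

/-- The sections of a module at a prime are its stalk at the corresponding point. -/
theorem exists_sections_equiv {Z : Scheme.{u}} (F : Z.Modules) [Coh.IsQCoh F] {W : Z.Opens} (hW : IsAffineOpen W)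
    (q : PrimeSpectrum Γ(Z, W)) :
    ∃ ψ : Localization.AtPrime q.asIdeal ≃+* Z.presheaf.stalk (AssLib.pt hW q),
      ∃ e : LocalizedModule q.asIdeal.primeCompl Γ(F, W) ≃+ F.presheaf.stalk (AssLib.pt hW q),
        ∀ (r : Localization.AtPrime q.asIdeal) (x : LocalizedModule q.asIdeal.primeCompl Γ(F, W)),
          e (r • x) = ψ r • e x := by
  let v := AssLib.pt hW q
  have hv : v ∈ W := AssLib.pt_mem hW q
  let B := Γ(Z, W)
  letI : Algebra B (Z.presheaf.stalk v) := TopCat.Presheaf.algebra_section_stalk Z.presheaf ⟨v, hv⟩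
  haveI : IsLocalization.AtPrime (Z.presheaf.stalk v) (AssLib.pr hW hv) := hW.isLocalization_stalk ⟨v, hv⟩
  letI : Module B (F.presheaf.stalk v) := Module.compHom _ (Z.presheaf.germ W v hv).hom
  haveI : IsScalarTower B (Z.presheaf.stalk v) (F.presheaf.stalk v) := .of_algebraMap_smul fun _ _ => rfl
  have aux : ∀ q' : PrimeSpectrum B, q' = hW.primeIdealOf ⟨v, hv⟩ →
      IsLocalizedModule q'.asIdeal.primeCompl (FlatLocus.germL F W v hv) ∧
      IsLocalization.AtPrime (Z.presheaf.stalk v) q'.asIdeal := by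
    rintro q' rfl
    exact ⟨FlatLocus.isLocalizedModule_germL F hW v hv, hW.isLocalization_stalk ⟨v, hv⟩⟩
  obtain ⟨hl1, hl2⟩ := aux q (AssLib.primeIdealOf_pt hW q).symm
  haveI := hl1
  haveI := hl2
  exact exists_semilinear_equiv q.asIdeal.primeCompl (LocalizedModule.mkLinearMap q.asIdeal.primeCompl Γ(F, W))
    (FlatLocus.germL F W v hv)

/-- An invertible module has free sections off the bad ideal. -/
theorem free_sections_localization {Z : Scheme.{u}} {F : Z.Modules} [Coh.IsQCoh F] {W : Z.Opens} (hW : IsAffineOpen W)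
    (q : PrimeSpectrum Γ(Z, W)) (h : RelCanon.InvertibleAt F (AssLib.pt hW q)) :
    Module.Free (Localization.AtPrime q.asIdeal) (LocalizedModule q.asIdeal.primeCompl Γ(F, W)) := by
  obtain ⟨ψ, e, he⟩ := exists_sections_equiv F hW q
  obtain ⟨l⟩ := exists_stalk_equiv_of_invertibleAt h
  let E : Localization.AtPrime q.asIdeal ≃+ LocalizedModule q.asIdeal.primeCompl Γ(F, W) :=
    (ψ.toAddEquiv.trans l.toAddEquiv).trans e.symm
  refine Module.Free.of_equiv
    ({ E with map_smul' := fun r x => ?_ } : Localization.AtPrime q.asIdeal ≃ₗ[Localization.AtPrime q.asIdeal]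
      LocalizedModule q.asIdeal.primeCompl Γ(F, W))
  show e.symm (l (ψ (r * x))) = r • e.symm (l (ψ x))
  apply e.injective
  rw [he, AddEquiv.apply_symm_apply, AddEquiv.apply_symm_apply, map_mul, ← smul_eq_mul, map_smul]

/-- The bad ideal of the sections over an affine open. -/
def sectionsIdealOff {Z : Scheme.{u}} {W : Z.Opens} (hW : IsAffineOpen W) (U : Z.Opens) : Ideal Γ(Z, W) :=
  PrimeSpectrum.vanishingIdeal (hW.fromSpec ⁻¹' (U : Set Z)ᶜ)

theorem sectionsIdealOff_le_iff {Z : Scheme.{u}} {W : Z.Opens} (hW : IsAffineOpen W) (U : Z.Opens)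
    (q : PrimeSpectrum Γ(Z, W)) : sectionsIdealOff hW U ≤ q.asIdeal ↔ AssLib.pt hW q ∉ U := by
  have h : PrimeSpectrum.zeroLocus ((sectionsIdealOff hW U : Ideal Γ(Z, W)) : Set Γ(Z, W)) =
      hW.fromSpec ⁻¹' (U : Set Z)ᶜ := by
    rw [sectionsIdealOff, PrimeSpectrum.zeroLocus_vanishingIdeal_eq_closure]
    exact IsClosed.closure_eq (U.2.isClosed_compl.preimage hW.fromSpec.continuous)
  exact (Set.ext_iff.1 h q).trans Iff.rfl

/-- The bad ideal in a local ring over an affine open has the zero locus of the bad ideal of the point. -/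
theorem map_sectionsIdealOff_le_iff {Y Z : Scheme.{u}} {W : Y.Opens} (hW : IsAffineOpen W) (U : Y.Opens)
    (p : Z ⟶ Y) (z : Z) (α : Γ(Y, W) →+* Z.presheaf.stalk z)
    (hα : Spec.map (CommRingCat.ofHom α) ≫ hW.fromSpec = Z.fromSpecStalk z ≫ p)
    (P : PrimeSpectrum (Z.presheaf.stalk z)) :
    (sectionsIdealOff hW U).map α ≤ P.asIdeal ↔ idealOff (p ⁻¹ᵁ U) z ≤ P.asIdeal := by
  rw [Ideal.map_le_iff_le_comap, idealOff_le_iff]
  refine (sectionsIdealOff_le_iff hW U (PrimeSpectrum.comap α P)).trans ?_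
  have h : AssLib.pt hW (PrimeSpectrum.comap α P) = p (Z.fromSpecStalk z P) := by
    show hW.fromSpec (Spec.map (CommRingCat.ofHom α) P) = _
    exact (Scheme.Hom.comp_apply _ _ _).symm.trans
      ((congrArg (fun g : Spec (CommRingCat.of (Z.presheaf.stalk z)) ⟶ Y => g P) hα).trans (Scheme.Hom.comp_apply _ _ _))
  rw [h]
  exact Iff.rfl

end Groth.Agent.FibreDualLib
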